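import Mathlib

set_option autoImplicit false
universe u
open TensorProduct

namespace Groth.Agent.Lib.helper5

/-- Localizations of a product of fields at maximal ideals are fields. -/
theorem h5_isField_localization_pi {ι : Type u} (F : ι → Type u) [∀ i, Field (F i)]
    (m : Ideal (∀ i, F i)) [hm : m.IsMaximal] : IsField (Localization.AtPrime m) := by
  classical
  rw [IsLocalRing.isField_iff_maximalIdeal_eq, eq_bot_iff]
  intro x hx
  obtain ⟨a, s, rfl⟩ := IsLocalization.exists_mk'_eq m.primeCompl x
  have ha : a ∈ m :=
    (IsLocalization.AtPrime.mk'_mem_maximal_iff (Localization.AtPrime m) m a s).1 hx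
  let u : ∀ i, F i := fun i => if a i = 0 then 1 else 0
  let b : ∀ i, F i := fun i => (a i)⁻¹
  have hu1 : u * a = 0 := by
    ext i
    simp only [Pi.mul_apply, Pi.zero_apply, u]
    split_ifs with h
    · rw [h, mul_zero]
    · rw [zero_mul]
  have hu2 : u + a * b = 1 := by
    ext i
    simp only [Pi.add_apply, Pi.mul_apply, Pi.one_apply, u, b]
    split_ifs with h
    · rw [h, zero_mul, add_zero]
    · rw [zero_add, mul_inv_cancel₀ h]
  have hu : u ∉ m := by
    intro hum
    have : (1 : ∀ i, F i) ∈ m := by
      rw [← hu2]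
      exact m.add_mem hum (m.mul_mem_right _ ha)
    exact hm.ne_top ((Ideal.eq_top_iff_one _).2 this)
  rw [Ideal.mem_bot, IsLocalization.mk'_eq_zero_iff]
  exact ⟨⟨u, hu⟩, hu1⟩

/-- An etale algebra over a domain is reduced. -/
theorem h5_isReduced_of_etale_domain (P A : Type u) [CommRing P] [IsDomain P] [CommRing A]
    [Algebra P A] [Algebra.Etale P A] : IsReduced A := by
  let F := FractionRing P
  have hinj : Function.Injective
      (Algebra.TensorProduct.includeRight : A →ₐ[P] F ⊗[P] A) :=
    Algebra.TensorProduct.includeRight_injective (IsFractionRing.injective P F)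
  haveI : IsReduced (F ⊗[P] A) := Algebra.FormallyUnramified.isReduced_of_field F (F ⊗[P] A)
  exact isReduced_of_injective
    (Algebra.TensorProduct.includeRight : A →ₐ[P] F ⊗[P] A).toRingHom hinj

/-- A smooth algebra over a field is reduced. -/
theorem h5_isReduced_of_smooth_field (L : Type u) [Field L] (S : Type u) [CommRing S]
    [Algebra L S] [Algebra.Smooth L S] : IsReduced S := by
  constructor
  intro s hs
  by_contra hne
  let I : Ideal S := LinearMap.ker (LinearMap.toSpanSingleton S S s)
  have hI : I ≠ ⊤ := by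
    intro h
    apply hne
    have h1 : (1 : S) ∈ I := h ▸ Submodule.mem_top
    simpa [I] using h1
  obtain ⟨p, hp, hIp⟩ := Ideal.exists_le_maximal I hI
  haveI : p.IsPrime := hp.isPrime
  obtain ⟨f, hfp, n, _, _, _⟩ :=
    Algebra.IsSmoothAt.exists_isStandardEtale_mvPolynomial (R := L) (p := p)
  haveI : IsReduced (Localization.Away f) :=
    h5_isReduced_of_etale_domain (MvPolynomial (Fin n) L) (Localization.Away f)
  have h0 : algebraMap S (Localization.Away f) s = 0 :=
    (hs.map (algebraMap S (Localization.Away f))).eq_zero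
  obtain ⟨⟨_, k, rfl⟩, hk⟩ :=
    (IsLocalization.map_eq_zero_iff (Submonoid.powers f) (Localization.Away f) s).1 h0
  have hmem : f ^ k ∈ I := by
    show LinearMap.toSpanSingleton S S s (f ^ k) = 0
    simpa using hk
  exact hfp (hp.isPrime.mem_of_pow_mem k (hIp hmem))

/-- A flat algebra over a reduced ring all of whose fibres over fields are reduced is reduced. -/
theorem h5_isReduced_of_flat_of_fibres (R S : Type u) [CommRing R] [CommRing S] [Algebra R S]
    [Module.Flat R S] [IsReduced R]
    (H : ∀ (L : Type u) [Field L] [Algebra R L], IsReduced (L ⊗[R] S)) : IsReduced S := by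
  let K := ∀ p : PrimeSpectrum R, p.asIdeal.ResidueField
  have hRK : Function.Injective (algebraMap R K) := by
    rw [injective_iff_map_eq_zero]
    intro r hr
    have hmem : r ∈ nilradical R := by
      rw [nilradical_eq_sInf, Ideal.mem_sInf]
      intro J hJ
      haveI : J.IsPrime := hJ
      have := congrFun hr ⟨J, hJ⟩
      exact (Ideal.algebraMap_residueField_eq_zero).1 this
    rw [nilradical_eq_zero] at hmem
    simpa using hmem
  have hinj : Function.Injective
      (Algebra.TensorProduct.includeRight : S →ₐ[R] K ⊗[R] S) :=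
    Algebra.TensorProduct.includeRight_injective hRK
  constructor
  intro s hs
  apply hinj
  rw [map_zero]
  set t : K ⊗[R] S := (Algebra.TensorProduct.includeRight : S →ₐ[R] K ⊗[R] S) s with ht
  by_contra hne
  let I : Ideal K := LinearMap.ker (LinearMap.toSpanSingleton K (K ⊗[R] S) t)
  have hI : I ≠ ⊤ := by
    intro h
    apply hne
    have h1 : (1 : K) ∈ I := h ▸ Submodule.mem_top
    simpa [I] using h1
  obtain ⟨m, hm, hIm⟩ := Ideal.exists_le_maximal I hI
  let Lm := Localization.AtPrime m
  letI : Field Lm := (h5_isField_localization_pi _ m).toField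
  haveI : IsScalarTower R K Lm := inferInstance
  haveI hred : IsReduced (Lm ⊗[R] S) := H Lm
  haveI : IsLocalizedModule m.primeCompl (TensorProduct.mk K Lm (K ⊗[R] S) 1) :=
    (isLocalizedModule_iff_isBaseChange m.primeCompl Lm _).2
      (TensorProduct.isBaseChange K (K ⊗[R] S) Lm)
  have h0 : TensorProduct.mk K Lm (K ⊗[R] S) 1 t = 0 := by
    let e := Algebra.TensorProduct.cancelBaseChange R K Lm Lm S
    apply e.injective
    rw [map_zero]
    have he : e (TensorProduct.mk K Lm (K ⊗[R] S) 1 t) =
        (Algebra.TensorProduct.includeRight : S →ₐ[R] Lm ⊗[R] S) s := by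
      simp [e, t]
    rw [he]
    exact (hs.map (Algebra.TensorProduct.includeRight : S →ₐ[R] Lm ⊗[R] S)).eq_zero
  obtain ⟨u, hu⟩ := (IsLocalizedModule.eq_zero_iff m.primeCompl
    (TensorProduct.mk K Lm (K ⊗[R] S) 1)).1 h0
  have hmem : (u : K) ∈ I := by
    show LinearMap.toSpanSingleton K (K ⊗[R] S) t (u : K) = 0
    rw [LinearMap.toSpanSingleton_apply]
    exact hu
  exact u.2 (hIm hmem)

/-- Smooth algebras over reduced rings are reduced. -/
theorem h5_isReduced_of_smooth (R S : Type u) [CommRing R] [CommRing S] [Algebra R S]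
    [Algebra.Smooth R S] [IsReduced R] : IsReduced S := by
  apply h5_isReduced_of_flat_of_fibres R S
  intro L _ _
  exact h5_isReduced_of_smooth_field L (L ⊗[R] S)

end Groth.Agent.Lib.helper5
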