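import Mathlib
import Groth.Prelude.Def_CAlgX
universe u
namespace H5AF

section
variable {R S : Type u} [CommRing R] [CommRing S] [Algebra R S] (𝔫 : Ideal S)

/-- `S → Ŝ` as an `R`-algebra hom -/
noncomputable def ιR : S →ₐ[R] AdicCompletion 𝔫 S :=
  { (algebraMap S (AdicCompletion 𝔫 S)) with commutes' := fun _ => rfl }

@[simp] lemma ιR_apply (s : S) : ιR (R := R) 𝔫 s = algebraMap S (AdicCompletion 𝔫 S) s := rfl

/-- evaluation `Ŝ → S/𝔫^n` as an `R`-algebra hom -/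
noncomputable def evalR (n : ℕ) : AdicCompletion 𝔫 S →ₐ[R] S ⧸ 𝔫 ^ n :=
  { (AdicCompletion.evalₐ 𝔫 n).toRingHom with
    commutes' := fun r => by
      show AdicCompletion.evalₐ 𝔫 n (AdicCompletion.of 𝔫 S (algebraMap R S r)) = _
      rw [AdicCompletion.evalₐ_of]
      rfl }

@[simp] lemma evalR_apply (n : ℕ) (y : AdicCompletion 𝔫 S) :
    evalR (R := R) 𝔫 n y = AdicCompletion.evalₐ 𝔫 n y := rfl

lemma evalR_ι (n : ℕ) (s : S) :
    evalR (R := R) 𝔫 n (algebraMap S (AdicCompletion 𝔫 S) s) = Ideal.Quotient.mk (𝔫 ^ n) s := by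
  rw [evalR_apply]
  exact AdicCompletion.evalₐ_of 𝔫 n s

lemma ker_evalₐ (h𝔫 : 𝔫.FG) (n : ℕ) (y : AdicCompletion 𝔫 S) :
    AdicCompletion.evalₐ 𝔫 n y = 0 ↔ y ∈ (𝔫.map (algebraMap S (AdicCompletion 𝔫 S))) ^ n := by
  have h1 : AdicCompletion.evalₐ 𝔫 n y = 0 ↔ AdicCompletion.eval 𝔫 S n y = 0 := by
    have h : (𝔫 ^ n • ⊤ : Ideal S) = 𝔫 ^ n := by ext x; simp
    constructor
    · intro h0
      have := AdicCompletion.factor_evalₐ_eq_eval (I := 𝔫) (n := n) y (le_of_eq h.symm)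
      rw [← this, h0, map_zero]
    · intro h0
      have := AdicCompletion.factor_eval_eq_evalₐ (I := 𝔫) (n := n) y (le_of_eq h)
      rw [← this, h0, map_zero]
  rw [h1, ← LinearMap.mem_ker, ← AdicCompletion.pow_smul_top_eq_ker_eval h𝔫, ← Ideal.map_pow,
    Ideal.smul_top_eq_map]
  rfl

end

end H5AF

namespace H5AF

section
variable {R S : Type u} [CommRing R] [CommRing S] [Algebra R S] (𝔫 : Ideal S)

theorem backward
    (h : CAlgX.IsAdicFormallySmooth R (AdicCompletion 𝔫 S)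
      (𝔫.map (algebraMap S (AdicCompletion 𝔫 S)))) :
    CAlgX.IsAdicFormallySmooth R S 𝔫 := by
  intro A _ _ J hJ ψ ⟨k, hk⟩
  let ψbar : S ⧸ 𝔫 ^ k →ₐ[R] A ⧸ J := Ideal.Quotient.liftₐ (𝔫 ^ k) ψ hk
  let ψhat : AdicCompletion 𝔫 S →ₐ[R] A ⧸ J := ψbar.comp (evalR 𝔫 k)
  have hkill : ∃ k : ℕ, ∀ x ∈ (𝔫.map (algebraMap S (AdicCompletion 𝔫 S))) ^ k, ψhat x = 0 := by
    refine ⟨k, fun x hx => ?_⟩
    have h1 : AdicCompletion.evalₐ 𝔫 k x = 0 := by
      have h2 : (𝔫.map (algebraMap S (AdicCompletion 𝔫 S))) ^ k ≤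
          RingHom.ker (AdicCompletion.evalₐ 𝔫 k).toRingHom := by
        rw [← Ideal.map_pow, Ideal.map_le_iff_le_comap]
        intro s hs
        rw [Ideal.mem_comap, RingHom.mem_ker]
        show AdicCompletion.evalₐ 𝔫 k (AdicCompletion.of 𝔫 S s) = 0
        rw [AdicCompletion.evalₐ_of]
        exact Ideal.Quotient.eq_zero_iff_mem.mpr hs
      exact h2 hx
    show ψbar (evalR (R := R) 𝔫 k x) = 0
    rw [evalR_apply, h1, map_zero]
  obtain ⟨χhat, hχ⟩ := h A J hJ ψhat hkill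
  refine ⟨χhat.comp (ιR 𝔫), ?_⟩
  ext s
  have h3 := congrArg (fun F => F (algebraMap S (AdicCompletion 𝔫 S) s)) hχ
  simp only [AlgHom.comp_apply] at h3
  simp only [AlgHom.comp_apply, ιR_apply]
  rw [h3]
  show ψbar (evalR (R := R) 𝔫 k (algebraMap S (AdicCompletion 𝔫 S) s)) = ψ s
  rw [evalR_ι]
  rfl

theorem forward (h𝔫 : 𝔫.FG) (h : CAlgX.IsAdicFormallySmooth R S 𝔫) :
    CAlgX.IsAdicFormallySmooth R (AdicCompletion 𝔫 S)
      (𝔫.map (algebraMap S (AdicCompletion 𝔫 S))) := by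
  intro A _ _ J hJ ψhat ⟨k, hk⟩
  let ψ : S →ₐ[R] A ⧸ J := ψhat.comp (ιR 𝔫)
  have hψ : ∀ x ∈ 𝔫 ^ k, ψ x = 0 := by
    intro x hx
    apply hk
    rw [← Ideal.map_pow]
    exact Ideal.mem_map_of_mem _ hx
  obtain ⟨χ, hχ⟩ := h A J hJ ψ ⟨k, hψ⟩
  have hχJ : ∀ x ∈ 𝔫 ^ k, χ x ∈ J := by
    intro x hx
    have h1 := congrArg (fun F => F x) hχ
    simp only [AlgHom.comp_apply] at h1
    rw [hψ x hx] at h1
    exact Ideal.Quotient.eq_zero_iff_mem.mp h1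
  have hχ0 : ∀ x ∈ 𝔫 ^ (k + k), χ x = 0 := by
    intro x hx
    rw [pow_add] at hx
    have h2 : χ x ∈ J * J := by
      refine Submodule.mul_induction_on hx ?_ ?_
      · intro a ha b hb
        rw [map_mul]
        exact Ideal.mul_mem_mul (hχJ a ha) (hχJ b hb)
      · intro a b ha hb
        rw [map_add]
        exact Ideal.add_mem _ ha hb
    rw [← pow_two, hJ] at h2
    exact h2
  let χbar : S ⧸ 𝔫 ^ (k + k) →ₐ[R] A := Ideal.Quotient.liftₐ (𝔫 ^ (k + k)) χ hχ0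
  refine ⟨χbar.comp (evalR 𝔫 (k + k)), ?_⟩
  ext y
  obtain ⟨s, hs⟩ := Ideal.Quotient.mk_surjective (AdicCompletion.evalₐ 𝔫 (k + k) y)
  have h3 : y - algebraMap S (AdicCompletion 𝔫 S) s ∈
      (𝔫.map (algebraMap S (AdicCompletion 𝔫 S))) ^ (k + k) := by
    rw [← ker_evalₐ 𝔫 h𝔫, map_sub]
    show _ - AdicCompletion.evalₐ 𝔫 (k + k) (AdicCompletion.of 𝔫 S s) = 0
    rw [AdicCompletion.evalₐ_of, hs, sub_self]
  have h4 : ψhat (y - algebraMap S (AdicCompletion 𝔫 S) s) = 0 :=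
    hk _ (Ideal.pow_le_pow_right (Nat.le_add_right k k) h3)
  rw [map_sub, sub_eq_zero] at h4
  simp only [AlgHom.comp_apply, evalR_apply]
  rw [h4, ← hs]
  have h5 := congrArg (fun F => F s) hχ
  simp only [AlgHom.comp_apply] at h5
  show Ideal.Quotient.mkₐ R J (χ s) = ψ s
  exact h5

theorem main (h𝔫 : 𝔫.FG) :
    CAlgX.IsAdicFormallySmooth R S 𝔫 ↔
      CAlgX.IsAdicFormallySmooth R (AdicCompletion 𝔫 S)
        (𝔫.map (algebraMap S (AdicCompletion 𝔫 S))) :=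
  ⟨forward 𝔫 h𝔫, backward 𝔫⟩

end

end H5AF
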