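import Groth.Agent.Lib.helper5.AdicFS
import Mathlib
universe u
namespace H5AF2

lemma sq_zero_kill {T A : Type*} [CommRing T] [CommRing A] (χ : T →+* A) (J : Ideal A)
    (hJ : J ^ 2 = ⊥) (I : Ideal T) (h : ∀ x ∈ I, χ x ∈ J) : ∀ x ∈ I * I, χ x = 0 := by
  intro x hx
  have h2 : χ x ∈ J * J := by
    refine Submodule.mul_induction_on hx ?_ ?_
    · intro a ha b hb
      rw [map_mul]
      exact Ideal.mul_mem_mul (h a ha) (h b hb)
    · intro a b ha hb
      rw [map_add]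
      exact Ideal.add_mem _ ha hb
  rw [← pow_two, hJ] at h2
  exact h2

section
variable {R : Type u} [CommRing R] (𝔪 : Ideal R)

lemma ringHom_ext_of_kill (h𝔪 : 𝔪.FG) {A : Type*} [CommRing A]
    (g₁ g₂ : AdicCompletion 𝔪 R →+* A) (N : ℕ)
    (h1 : ∀ y ∈ (𝔪.map (algebraMap R (AdicCompletion 𝔪 R))) ^ N, g₁ y = 0)
    (h2 : ∀ y ∈ (𝔪.map (algebraMap R (AdicCompletion 𝔪 R))) ^ N, g₂ y = 0)
    (h : ∀ r : R, g₁ (algebraMap R (AdicCompletion 𝔪 R) r) = g₂ (algebraMap R (AdicCompletion 𝔪 R) r)) :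
    g₁ = g₂ := by
  ext y
  obtain ⟨r, hr⟩ := Ideal.Quotient.mk_surjective (AdicCompletion.evalₐ 𝔪 N y)
  have h3 : y - algebraMap R (AdicCompletion 𝔪 R) r ∈
      (𝔪.map (algebraMap R (AdicCompletion 𝔪 R))) ^ N := by
    rw [← H5AF.ker_evalₐ 𝔪 h𝔪, map_sub]
    show _ - AdicCompletion.evalₐ 𝔪 N (AdicCompletion.of 𝔪 R r) = 0
    rw [AdicCompletion.evalₐ_of, hr, sub_self]
  have e1 := h1 _ h3
  have e2 := h2 _ h3
  rw [map_sub, sub_eq_zero] at e1 e2
  rw [e1, e2, h]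

variable {T : Type u} [CommRing T] [Algebra R T] [Algebra (AdicCompletion 𝔪 R) T]
  (hcompat : ∀ r : R, algebraMap (AdicCompletion 𝔪 R) T (algebraMap R (AdicCompletion 𝔪 R) r) =
    algebraMap R T r)
  (𝔑 : Ideal T) (c : ℕ) (hc : (𝔪 ^ c).map (algebraMap R T) ≤ 𝔑)

include hcompat hc in
lemma map_pow_le (k : ℕ) : ∀ y ∈ (𝔪.map (algebraMap R (AdicCompletion 𝔪 R))) ^ (c * k),
    algebraMap (AdicCompletion 𝔪 R) T y ∈ 𝔑 ^ k := by
  intro y hy
  have h1 : ((𝔪.map (algebraMap R (AdicCompletion 𝔪 R))) ^ c).map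
      (algebraMap (AdicCompletion 𝔪 R) T) ≤ 𝔑 := by
    rw [← Ideal.map_pow, Ideal.map_map]
    have : (algebraMap (AdicCompletion 𝔪 R) T).comp (algebraMap R (AdicCompletion 𝔪 R)) =
        algebraMap R T := RingHom.ext hcompat
    rw [this]
    exact hc
  have h2 : algebraMap (AdicCompletion 𝔪 R) T y ∈
      ((𝔪.map (algebraMap R (AdicCompletion 𝔪 R))) ^ (c * k)).map
        (algebraMap (AdicCompletion 𝔪 R) T) := Ideal.mem_map_of_mem _ hy
  rw [pow_mul, Ideal.map_pow] at h2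
  exact Ideal.pow_right_mono h1 k h2

end

end H5AF2

namespace H5AF2

section
variable {R : Type u} [CommRing R] (𝔪 : Ideal R)
variable {T : Type u} [CommRing T] [Algebra R T] [Algebra (AdicCompletion 𝔪 R) T]
  (hcompat : ∀ r : R, algebraMap (AdicCompletion 𝔪 R) T (algebraMap R (AdicCompletion 𝔪 R) r) =
    algebraMap R T r)
  (𝔑 : Ideal T) (c : ℕ) (hc : (𝔪 ^ c).map (algebraMap R T) ≤ 𝔑)

include hcompat hc in
theorem toCompletion (h𝔪 : 𝔪.FG) (h : CAlgX.IsAdicFormallySmooth R T 𝔑) :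
    CAlgX.IsAdicFormallySmooth (AdicCompletion 𝔪 R) T 𝔑 := by
  intro A _ _ J hJ φ ⟨k, hk⟩
  letI : Algebra R A :=
    ((algebraMap (AdicCompletion 𝔪 R) A).comp (algebraMap R (AdicCompletion 𝔪 R))).toAlgebra
  have hRA : ∀ r : R, algebraMap R A r =
      algebraMap (AdicCompletion 𝔪 R) A (algebraMap R (AdicCompletion 𝔪 R) r) := fun _ => rfl
  let φR : T →ₐ[R] A ⧸ J :=
    { φ.toRingHom with
      commutes' := fun r => by
        show φ (algebraMap R T r) = Ideal.Quotient.mk J (algebraMap R A r)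
        rw [← hcompat, AlgHom.commutes, hRA]
        rfl }
  obtain ⟨χ, hχ⟩ := h A J hJ φR ⟨k, fun x hx => hk x hx⟩
  have hχJ : ∀ x ∈ 𝔑 ^ k, χ x ∈ J := by
    intro x hx
    have h1 := congrArg (fun F => F x) hχ
    simp only [AlgHom.comp_apply] at h1
    have h2 : φR x = 0 := hk x hx
    rw [h2] at h1
    exact Ideal.Quotient.eq_zero_iff_mem.mp h1
  have hχ0 : ∀ x ∈ 𝔑 ^ (k + k), χ x = 0 := by
    intro x hx
    rw [pow_add] at hx
    exact sq_zero_kill χ.toRingHom J hJ (𝔑 ^ k) hχJ x hx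
  have hφχ : ∀ t : T, Ideal.Quotient.mk J (χ t) = φ t := by
    intro t
    have h1 := congrArg (fun F => F t) hχ
    exact h1
  have key : (χ.toRingHom).comp (algebraMap (AdicCompletion 𝔪 R) T) =
      algebraMap (AdicCompletion 𝔪 R) A := by
    apply ringHom_ext_of_kill 𝔪 h𝔪 _ _ (c * (k + k))
    · intro y hy
      exact hχ0 _ (map_pow_le 𝔪 hcompat 𝔑 c hc (k + k) y hy)
    · intro y hy
      have hJy : ∀ z ∈ (𝔪.map (algebraMap R (AdicCompletion 𝔪 R))) ^ (c * k),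
          algebraMap (AdicCompletion 𝔪 R) A z ∈ J := by
        intro z hz
        have h1 : Ideal.Quotient.mk J (algebraMap (AdicCompletion 𝔪 R) A z) =
            φ (algebraMap (AdicCompletion 𝔪 R) T z) := by
          rw [AlgHom.commutes]; rfl
        rw [hk _ (map_pow_le 𝔪 hcompat 𝔑 c hc k z hz)] at h1
        exact Ideal.Quotient.eq_zero_iff_mem.mp h1
      rw [mul_add, pow_add] at hy
      exact sq_zero_kill (algebraMap (AdicCompletion 𝔪 R) A) J hJ _ hJy y hy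
    · intro r
      show χ (algebraMap (AdicCompletion 𝔪 R) T (algebraMap R (AdicCompletion 𝔪 R) r)) = _
      rw [hcompat, AlgHom.commutes, hRA]
  let χhat : T →ₐ[AdicCompletion 𝔪 R] A :=
    { χ.toRingHom with
      commutes' := fun y => congrArg (fun F => F y) key }
  refine ⟨χhat, ?_⟩
  ext t
  exact hφχ t

end

end H5AF2

namespace H5AF2

section
variable {R : Type u} [CommRing R] (𝔪 : Ideal R)
variable {T : Type u} [CommRing T] [Algebra R T] [Algebra (AdicCompletion 𝔪 R) T]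
  (hcompat : ∀ r : R, algebraMap (AdicCompletion 𝔪 R) T (algebraMap R (AdicCompletion 𝔪 R) r) =
    algebraMap R T r)
  (𝔑 : Ideal T) (c : ℕ) (hc : (𝔪 ^ c).map (algebraMap R T) ≤ 𝔑)

include hcompat hc in
theorem ofCompletion (h𝔪 : 𝔪.FG) (h : CAlgX.IsAdicFormallySmooth (AdicCompletion 𝔪 R) T 𝔑) :
    CAlgX.IsAdicFormallySmooth R T 𝔑 := by
  intro A _ _ J hJ φ ⟨k, hk⟩
  -- `R → A` kills `𝔪^(c*k + c*k)`
  have hmapT : ∀ r ∈ 𝔪 ^ (c * k), algebraMap R T r ∈ 𝔑 ^ k := by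
    intro r hr
    have h1 : algebraMap R T r ∈ (𝔪 ^ (c * k)).map (algebraMap R T) := Ideal.mem_map_of_mem _ hr
    rw [pow_mul, Ideal.map_pow] at h1
    exact Ideal.pow_right_mono hc k h1
  have hRJ : ∀ r ∈ 𝔪 ^ (c * k), algebraMap R A r ∈ J := by
    intro r hr
    have h1 : Ideal.Quotient.mk J (algebraMap R A r) = φ (algebraMap R T r) := by
      rw [AlgHom.commutes]; rfl
    rw [hk _ (hmapT r hr)] at h1
    exact Ideal.Quotient.eq_zero_iff_mem.mp h1
  have hR0 : ∀ r ∈ 𝔪 ^ (c * k + c * k), algebraMap R A r = 0 := by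
    intro r hr
    rw [pow_add] at hr
    exact sq_zero_kill (algebraMap R A) J hJ _ hRJ r hr
  let gbar : R ⧸ 𝔪 ^ (c * k + c * k) →+* A := Ideal.Quotient.lift _ (algebraMap R A) hR0
  let g : AdicCompletion 𝔪 R →+* A := gbar.comp (AdicCompletion.evalₐ 𝔪 (c * k + c * k)).toRingHom
  have hgι : ∀ r : R, g (algebraMap R (AdicCompletion 𝔪 R) r) = algebraMap R A r := by
    intro r
    show gbar (AdicCompletion.evalₐ 𝔪 (c * k + c * k) (AdicCompletion.of 𝔪 R r)) = _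
    rw [AdicCompletion.evalₐ_of]
    rfl
  have hgkill : ∀ y ∈ (𝔪.map (algebraMap R (AdicCompletion 𝔪 R))) ^ (c * k + c * k), g y = 0 := by
    intro y hy
    have h1 : AdicCompletion.evalₐ 𝔪 (c * k + c * k) y = 0 := (H5AF.ker_evalₐ 𝔪 h𝔪 _ y).mpr hy
    show gbar (AdicCompletion.evalₐ 𝔪 (c * k + c * k) y) = 0
    rw [h1, map_zero]
  letI : Algebra (AdicCompletion 𝔪 R) A := g.toAlgebra
  have hgA : ∀ y, algebraMap (AdicCompletion 𝔪 R) A y = g y := fun _ => rfl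
  have key : (φ.toRingHom).comp (algebraMap (AdicCompletion 𝔪 R) T) =
      (Ideal.Quotient.mk J).comp g := by
    apply ringHom_ext_of_kill 𝔪 h𝔪 _ _ (c * k + c * k)
    · intro y hy
      have hy' : y ∈ (𝔪.map (algebraMap R (AdicCompletion 𝔪 R))) ^ (c * k) :=
        Ideal.pow_le_pow_right (Nat.le_add_right _ _) hy
      exact hk _ (map_pow_le 𝔪 hcompat 𝔑 c hc k y hy')
    · intro y hy
      show Ideal.Quotient.mk J (g y) = 0
      rw [hgkill y hy, map_zero]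
    · intro r
      show φ (algebraMap (AdicCompletion 𝔪 R) T (algebraMap R (AdicCompletion 𝔪 R) r)) =
        Ideal.Quotient.mk J (g (algebraMap R (AdicCompletion 𝔪 R) r))
      rw [hcompat, AlgHom.commutes, hgι]
      rfl
  let φhat : T →ₐ[AdicCompletion 𝔪 R] A ⧸ J :=
    { φ.toRingHom with
      commutes' := fun y => congrArg (fun F => F y) key }
  obtain ⟨χhat, hχ⟩ := h A J hJ φhat ⟨k, fun x hx => hk x hx⟩
  let χ : T →ₐ[R] A :=
    { χhat.toRingHom with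
      commutes' := fun r => by
        show χhat (algebraMap R T r) = algebraMap R A r
        rw [← hcompat, AlgHom.commutes, hgA, hgι] }
  refine ⟨χ, ?_⟩
  ext t
  exact congrArg (fun F => F t) hχ

include hcompat hc in
theorem iff_completion_base (h𝔪 : 𝔪.FG) :
    CAlgX.IsAdicFormallySmooth R T 𝔑 ↔ CAlgX.IsAdicFormallySmooth (AdicCompletion 𝔪 R) T 𝔑 :=
  ⟨toCompletion 𝔪 hcompat 𝔑 c hc h𝔪, ofCompletion 𝔪 hcompat 𝔑 c hc h𝔪⟩

end

end H5AF2
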