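import Mathlib
import Groth.Prelude.Def_CAlgX
universe u
open IsLocalRing
namespace H5LN

section
variable {R S : Type u} [CommRing R] [CommRing S] [IsLocalRing R] [IsLocalRing S] [Algebra R S]
  [IsLocalHom (algebraMap R S)]

omit [IsLocalRing R] [IsLocalHom (algebraMap R S)] in
theorem forward (h : CAlgX.IsAdicFormallySmooth R S (maximalIdeal S))
    (A : Type u) [CommRing A] [IsLocalRing A] [Algebra R A]
    (J : Ideal A) (hJ : J ^ 2 = ⊥) (hn : ∃ n : ℕ, maximalIdeal A ^ n = ⊥)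
    [IsLocalRing (A ⧸ J)] (ψ : S →ₐ[R] A ⧸ J) [IsLocalHom ψ.toRingHom] :
    ∃ χ : S →ₐ[R] A, (Ideal.Quotient.mkₐ R J).comp χ = ψ := by
  obtain ⟨n, hn⟩ := hn
  apply h A J hJ ψ
  refine ⟨n, fun x hx => ?_⟩
  have h1 : (maximalIdeal S).map ψ.toRingHom ≤ maximalIdeal (A ⧸ J) := map_maximalIdeal_le _
  have h2 : maximalIdeal (A ⧸ J) = (maximalIdeal A).map (Ideal.Quotient.mk J) :=
    (map_maximalIdeal_of_surjective _ Ideal.Quotient.mk_surjective).symm
  have h3 : ψ.toRingHom x ∈ ((maximalIdeal S) ^ n).map ψ.toRingHom := Ideal.mem_map_of_mem _ hx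
  rw [Ideal.map_pow] at h3
  have h4 := Ideal.pow_right_mono h1 n h3
  rw [h2, ← Ideal.map_pow, hn, Ideal.map_bot] at h4
  exact h4

set_option backward.isDefEq.respectTransparency false in
theorem backward
    (h : ∀ (A : Type u) [CommRing A] [IsLocalRing A] [Algebra R A] [IsLocalHom (algebraMap R A)]
        (J : Ideal A), J ^ 2 = ⊥ → (∃ n : ℕ, maximalIdeal A ^ n = ⊥) →
        ∀ [IsLocalRing (A ⧸ J)] (ψ : S →ₐ[R] A ⧸ J) [IsLocalHom ψ.toRingHom],
          Function.Bijective (ResidueField.map ψ.toRingHom) →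
          ∃ χ : S →ₐ[R] A, (Ideal.Quotient.mkₐ R J).comp χ = ψ) :
    CAlgX.IsAdicFormallySmooth R S (maximalIdeal S) := by
  intro A _ _ J hJ ψ ⟨k, hk⟩
  set I : Ideal S := maximalIdeal S ^ (k + 1) with hI
  have hIle : I ≤ maximalIdeal S := Ideal.pow_le_self (Nat.succ_ne_zero k)
  have hkI : ∀ x ∈ I, ψ x = 0 := fun x hx => hk x (Ideal.pow_le_pow_right (Nat.le_succ k) hx)
  let ψbar : S ⧸ I →ₐ[R] A ⧸ J := Ideal.Quotient.liftₐ I ψ hkI
  have hIne : I ≠ ⊤ := fun h => (maximalIdeal.isMaximal S).ne_top (top_le_iff.mp (h ▸ hIle))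
  haveI : Nontrivial (S ⧸ I) := Ideal.Quotient.nontrivial_iff.mpr hIne
  haveI : IsLocalRing (S ⧸ I) :=
    IsLocalRing.of_surjective' (Ideal.Quotient.mk I) Ideal.Quotient.mk_surjective
  haveI hloc_mkJ : IsLocalHom (Ideal.Quotient.mkₐ R J) :=
    ⟨fun a ha => (IsNilpotent.isUnit_quotient_mk_iff ⟨2, hJ⟩).mp ha⟩
  let A' := AlgHom.pullback ψbar (Ideal.Quotient.mkₐ R J)
  haveI : IsLocalRing A' := AlgHom.isLocalRing_pullback ψbar (Ideal.Quotient.mkₐ R J)
  let π : A' →ₐ[R] S ⧸ I := AlgHom.pullbackFst ψbar (Ideal.Quotient.mkₐ R J)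
  have hπ : Function.Surjective π :=
    AlgHom.surjective_pullbackFst_of_surjective _ _ Ideal.Quotient.mk_surjective
  have hJ' : (RingHom.ker π) ^ 2 = ⊥ := by
    rw [eq_bot_iff, sq, Ideal.mul_le]
    intro x hx y hy
    have hxJ : ∀ z : A', z ∈ RingHom.ker π → z.1.2 ∈ J := by
      intro z hz
      have h1 : ψbar z.1.1 = Ideal.Quotient.mk J z.1.2 := z.2
      have h2 : z.1.1 = 0 := hz
      rw [h2, map_zero] at h1
      exact Ideal.Quotient.eq_zero_iff_mem.mp h1.symm
    have hx1 : x.1.1 = 0 := hx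
    have h3 : x.1.2 * y.1.2 = 0 := by
      have : x.1.2 * y.1.2 ∈ J ^ 2 := by
        rw [sq]; exact Ideal.mul_mem_mul (hxJ x hx) (hxJ y hy)
      rw [hJ] at this
      exact this
    rw [Ideal.mem_bot]
    apply Subtype.ext
    apply Prod.ext
    · show x.1.1 * y.1.1 = 0
      rw [hx1, zero_mul]
    · exact h3
  haveI hlocπ : IsLocalHom π.toRingHom := IsLocalHom.of_surjective _ hπ
  have hmax : ∃ n : ℕ, maximalIdeal A' ^ n = ⊥ := by
    refine ⟨(k + 1) + (k + 1), ?_⟩
    have h1 : maximalIdeal A' ^ (k + 1) ≤ RingHom.ker π := by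
      intro x hx
      have h2 : π.toRingHom x ∈ (maximalIdeal A' ^ (k + 1)).map π.toRingHom :=
        Ideal.mem_map_of_mem _ hx
      rw [Ideal.map_pow, map_maximalIdeal_of_surjective _ hπ,
        ← map_maximalIdeal_of_surjective (Ideal.Quotient.mk I) Ideal.Quotient.mk_surjective,
        ← Ideal.map_pow, ← hI, Ideal.map_quotient_self] at h2
      exact h2
    rw [pow_add, eq_bot_iff, ← hJ', sq]
    exact Ideal.mul_mono h1 h1
  haveI : IsLocalHom (algebraMap R A') := by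
    constructor
    intro r hr
    have h1 : IsUnit (π (algebraMap R A' r)) := hr.map π
    rw [AlgHom.commutes] at h1
    have h2 : IsUnit (Ideal.Quotient.mk I (algebraMap R S r)) := h1
    haveI : IsLocalHom (Ideal.Quotient.mk I) :=
      IsLocalHom.of_surjective _ Ideal.Quotient.mk_surjective
    exact isUnit_of_map_unit (algebraMap R S) r (isUnit_of_map_unit (Ideal.Quotient.mk I) _ h2)
  have hne : RingHom.ker π ≠ ⊤ := by
    intro htop
    have : (1 : A') ∈ RingHom.ker π := htop ▸ Submodule.mem_top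
    rw [RingHom.mem_ker, map_one] at this
    exact one_ne_zero this
  haveI : Nontrivial (A' ⧸ RingHom.ker π) := Ideal.Quotient.nontrivial_iff.mpr hne
  haveI : IsLocalRing (A' ⧸ RingHom.ker π) :=
    IsLocalRing.of_surjective' (Ideal.Quotient.mk _) Ideal.Quotient.mk_surjective
  let eq := Ideal.quotientKerAlgEquivOfSurjective hπ
  let ψ' : S →ₐ[R] A' ⧸ RingHom.ker π := eq.symm.toAlgHom.comp (Ideal.Quotient.mkₐ R I)
  have hψ'surj : Function.Surjective ψ' :=
    eq.symm.surjective.comp Ideal.Quotient.mk_surjective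
  haveI : IsLocalHom ψ'.toRingHom := by
    constructor
    intro s hs
    have h1 : IsUnit (eq (ψ' s)) := IsUnit.map eq hs
    rw [show ψ' s = eq.symm (Ideal.Quotient.mk I s) from rfl, AlgEquiv.apply_symm_apply] at h1
    haveI : IsLocalHom (Ideal.Quotient.mk I) :=
      IsLocalHom.of_surjective _ Ideal.Quotient.mk_surjective
    exact isUnit_of_map_unit (Ideal.Quotient.mk I) _ h1
  have key := h A' (RingHom.ker π) hJ' hmax ψ'
  obtain ⟨χ', hχ'⟩ := key (by
    refine ⟨RingHom.injective _, ?_⟩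
    intro y
    obtain ⟨z, rfl⟩ := IsLocalRing.residue_surjective y
    obtain ⟨s, rfl⟩ := hψ'surj z
    exact ⟨IsLocalRing.residue S s, ResidueField.map_residue _ s⟩)
  refine ⟨(AlgHom.pullbackSnd ψbar (Ideal.Quotient.mkₐ R J)).comp χ', ?_⟩
  ext s
  have h1 : (Ideal.Quotient.mkₐ R J) ((AlgHom.pullbackSnd ψbar (Ideal.Quotient.mkₐ R J)) (χ' s)) =
      ψbar (π (χ' s)) := ((χ' s).2).symm
  have h2 : Ideal.Quotient.mkₐ R (RingHom.ker π) (χ' s) = ψ' s := by
    rw [← hχ']; rfl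
  have h3 : π (χ' s) = Ideal.Quotient.mk I s := by
    have := congrArg eq h2
    rw [show ψ' s = eq.symm (Ideal.Quotient.mk I s) from rfl, AlgEquiv.apply_symm_apply] at this
    exact this
  refine (h1.trans ?_)
  rw [h3]
  rfl

end

end H5LN
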