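import Mathlib
import Groth.Prelude.Def_AlgSp4

set_option autoImplicit false
universe u
open CategoryTheory CategoryTheory.Limits AlgebraicGeometry Opposite

namespace AlgSp

variable {S : Scheme.{u}}

/-- Yoneda bijection for `yon S`. -/
noncomputable abbrev h5_yEquiv {U : Over S} {F : Sp S} : ((yon S).obj U ⟶ F) ≃ F.obj.obj (op U) :=
  GrothendieckTopology.uliftYonedaEquiv.{u + 1} (J S)

/-- Sections of a pullback of sheaves: existence. -/
theorem h5_exists_section_of_isPullback {F G H P : Sp S} {f : F ⟶ H} {g : G ⟶ H}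
    {fst : P ⟶ F} {snd : P ⟶ G} (h : IsPullback fst snd f g) (T : Over S)
    (x : F.obj.obj (op T)) (y : G.obj.obj (op T)) (e : f.hom.app _ x = g.hom.app _ y) :
    ∃ p : P.obj.obj (op T), fst.hom.app _ p = x ∧ snd.hom.app _ p = y := by
  let xx : (yon S).obj T ⟶ F := h5_yEquiv.symm x
  let yy : (yon S).obj T ⟶ G := h5_yEquiv.symm y
  have hw : xx ≫ f = yy ≫ g := by
    apply h5_yEquiv.injective
    rw [GrothendieckTopology.uliftYonedaEquiv_comp, GrothendieckTopology.uliftYonedaEquiv_comp]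
    simpa [xx, yy] using e
  refine ⟨h5_yEquiv (h.lift xx yy hw), ?_, ?_⟩
  · rw [← GrothendieckTopology.uliftYonedaEquiv_comp, h.lift_fst]
    simp [xx]
  · rw [← GrothendieckTopology.uliftYonedaEquiv_comp, h.lift_snd]
    simp [yy]

/-- Sections of a pullback of sheaves: uniqueness. -/
theorem h5_section_ext_of_isPullback {F G H P : Sp S} {f : F ⟶ H} {g : G ⟶ H}
    {fst : P ⟶ F} {snd : P ⟶ G} (h : IsPullback fst snd f g) (T : Over S)
    (p q : P.obj.obj (op T)) (e₁ : fst.hom.app _ p = fst.hom.app _ q)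
    (e₂ : snd.hom.app _ p = snd.hom.app _ q) : p = q := by
  apply h5_yEquiv.symm.injective
  apply h.hom_ext
  · apply h5_yEquiv.injective
    rw [GrothendieckTopology.uliftYonedaEquiv_comp, GrothendieckTopology.uliftYonedaEquiv_comp]
    simpa using e₁
  · apply h5_yEquiv.injective
    rw [GrothendieckTopology.uliftYonedaEquiv_comp, GrothendieckTopology.uliftYonedaEquiv_comp]
    simpa using e₂

/-- Points of a fibre product of sheaves surject onto the fibre product of points. -/
theorem h5_points_exists_of_isPullback {F G H P : Sp S} {f : F ⟶ H} {g : G ⟶ H}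
    {fst : P ⟶ F} {snd : P ⟶ G} (h : IsPullback fst snd f g)
    (x : Points F) (y : Points G) (e : Points.map f x = Points.map g y) :
    ∃ p : Points P, Points.map fst p = x ∧ Points.map snd p = y := by
  induction x using Points.ind with
  | h px =>
  induction y using Points.ind with
  | h py =>
  rw [Points.map_mk, Points.map_mk, Points.mk_eq_mk_iff] at e
  obtain ⟨Ω, hΩ, w, a, b, hab⟩ := e
  change H.obj.map a.op (f.hom.app _ px.val) = H.obj.map b.op (g.hom.app _ py.val) at hab
  have hab' : f.hom.app _ (F.obj.map a.op px.val) = g.hom.app _ (G.obj.map b.op py.val) := by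
    rw [NatTrans.naturality_apply, NatTrans.naturality_apply]
    exact hab
  obtain ⟨p, hp1, hp2⟩ := h5_exists_section_of_isPullback h (Over.mk w) _ _ hab'
  refine ⟨Points.mk ⟨Ω, w, p⟩, ?_, ?_⟩
  · rw [Points.map_mk]
    apply Points.sound
    refine ⟨Ω, hΩ, w, 𝟙 _, a, ?_⟩
    change F.obj.map (𝟙 _).op (fst.hom.app _ p) = F.obj.map a.op px.val
    rw [hp1]
    simp
  · rw [Points.map_mk]
    apply Points.sound
    refine ⟨Ω, hΩ, w, 𝟙 _, b, ?_⟩
    change G.obj.map (𝟙 _).op (snd.hom.app _ p) = G.obj.map b.op py.val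
    rw [hp2]
    simp



/-- The point of `F` attached to a morphism from the spectrum of a field. -/
noncomputable def h5_mkHom {F : Sp S} (K : Type u) [Field K] (str : Spec (CommRingCat.of K) ⟶ S)
    (a : (yon S).obj (Over.mk str) ⟶ F) : Points F :=
  Points.mk ⟨K, str, h5_yEquiv a⟩

theorem h5_mkHom_eq {F : Sp S} {K L : Type u} [Field K] [Field L]
    {str : Spec (CommRingCat.of K) ⟶ S} {str' : Spec (CommRingCat.of L) ⟶ S}
    (a : (yon S).obj (Over.mk str) ⟶ F) (a' : (yon S).obj (Over.mk str') ⟶ F)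
    (Ω : Type u) [Field Ω] (w : Spec (CommRingCat.of Ω) ⟶ S)
    (α : Over.mk w ⟶ Over.mk str) (β : Over.mk w ⟶ Over.mk str')
    (h : (yon S).map α ≫ a = (yon S).map β ≫ a') : h5_mkHom K str a = h5_mkHom L str' a' := by
  apply Points.sound
  refine ⟨Ω, inferInstance, w, α, β, ?_⟩
  change F.obj.map α.op (h5_yEquiv a) = F.obj.map β.op (h5_yEquiv a')
  rw [GrothendieckTopology.uliftYonedaEquiv_naturality,
    GrothendieckTopology.uliftYonedaEquiv_naturality, h]

theorem h5_map_mkHom {F G : Sp S} (f : F ⟶ G) (K : Type u) [Field K]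
    (str : Spec (CommRingCat.of K) ⟶ S) (a : (yon S).obj (Over.mk str) ⟶ F) :
    Points.map f (h5_mkHom K str a) = h5_mkHom K str (a ≫ f) := by
  change Points.mk _ = Points.mk _
  congr 1

theorem h5_mk_eq_mkHom {F : Sp S} (p : FieldPt F) :
    Points.mk p = h5_mkHom p.K p.str (h5_yEquiv.symm p.val) := by
  change Points.mk p = Points.mk ⟨p.K, p.str, _⟩
  rw [Equiv.apply_symm_apply]
  rfl

/-- The structure morphism of the residue field point of `t`. -/
noncomputable abbrev h5_resPt (T : Over S) (t : ↥T.left) :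
    Over.mk (T.left.fromSpecResidueField t ≫ T.hom) ⟶ T :=
  Over.homMk (T.left.fromSpecResidueField t) rfl

theorem h5_ofPt_eq_mkHom {F : Sp S} {T : Over S} (g : (yon S).obj T ⟶ F) (t : ↥T.left) :
    Points.ofPt g t = h5_mkHom (T.left.residueField t) (T.left.fromSpecResidueField t ≫ T.hom)
      ((yon S).map (h5_resPt T t) ≫ g) := by
  change Points.mk _ = Points.mk _
  congr 1

theorem h5_ofPt_map_comp {F : Sp S} {T T' : Over S} (φ : T' ⟶ T) (g : (yon S).obj T ⟶ F)
    (t' : ↥T'.left) :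
    Points.ofPt ((yon S).map φ ≫ g) t' = Points.ofPt g (φ.left t') := by
  rw [h5_ofPt_eq_mkHom, h5_ofPt_eq_mkHom]
  have hb : Spec.map (φ.left.residueFieldMap t') ≫
      (T.left.fromSpecResidueField (φ.left t') ≫ T.hom) =
      T'.left.fromSpecResidueField t' ≫ T'.hom := by
    rw [← Category.assoc, Scheme.Hom.SpecMap_residueFieldMap_fromSpecResidueField, Category.assoc,
      Over.w φ]
  refine h5_mkHom_eq _ _ (T'.left.residueField t') (T'.left.fromSpecResidueField t' ≫ T'.hom)
    (𝟙 _) (Over.homMk (Spec.map (φ.left.residueFieldMap t')) hb) ?_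
  rw [← Category.assoc, ← Category.assoc, ← Category.assoc, ← Functor.map_comp,
    ← Functor.map_comp, ← Functor.map_comp]
  congr 2
  apply Over.OverMorphism.ext
  change (𝟙 _ ≫ T'.left.fromSpecResidueField t') ≫ φ.left =
    Spec.map (φ.left.residueFieldMap t') ≫ T.left.fromSpecResidueField (φ.left t')
  rw [Scheme.Hom.SpecMap_residueFieldMap_fromSpecResidueField, Category.id_comp]


theorem h5_mkHom_eq_ofPt {F : Sp S} (K : Type u) [Field K] (str : Spec (CommRingCat.of K) ⟶ S)
    (a : (yon S).obj (Over.mk str) ⟶ F) :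
    h5_mkHom K str a = Points.ofPt a (IsLocalRing.closedPoint K) := by
  rw [h5_ofPt_eq_mkHom]
  symm
  refine h5_mkHom_eq _ _ _ _ (𝟙 _) (h5_resPt (Over.mk str) (IsLocalRing.closedPoint K)) ?_
  rw [(yon S).map_id, Category.id_comp]

/-- Every point is the image of the closed point of the spectrum of a field. -/
theorem h5_exists_eq_ofPt {F : Sp S} (x : Points F) :
    ∃ (K : Type u) (_ : Field K) (str : Spec (CommRingCat.of K) ⟶ S)
      (a : (yon S).obj (Over.mk str) ⟶ F), x = Points.ofPt a (IsLocalRing.closedPoint K) := by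
  induction x using Points.ind with
  | h p =>
  exact ⟨p.K, p.field, p.str, h5_yEquiv.symm p.val, by rw [h5_mk_eq_mkHom, h5_mkHom_eq_ofPt]⟩

theorem h5_map_ofScheme {T T' : Over S} (φ : T ⟶ T') (t : ↥T.left) :
    Points.map ((yon S).map φ) (Points.ofScheme T t) = Points.ofScheme T' (φ.left t) :=
  Points.map_yon_map_apply φ t

/-- Points of a represented pullback. -/
theorem h5_exists_of_map_eq_ofPt {F G : Sp S} {f : G ⟶ F} {T V : Over S}
    {a : (yon S).obj T ⟶ F} {fst : (yon S).obj V ⟶ G} {snd : V ⟶ T}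
    (sq : IsPullback fst ((yon S).map snd) f a) (y : Points G) (t : ↥T.left)
    (e : Points.map f y = Points.ofPt a t) :
    ∃ v : ↥V.left, Points.ofPt fst v = y ∧ snd.left v = t := by
  rw [Points.ofPt_eq_map_ofScheme] at e
  obtain ⟨z, hz1, hz2⟩ := h5_points_exists_of_isPullback sq y (Points.ofScheme T t) e
  obtain ⟨v, rfl⟩ := (Points.schemeEquiv V).surjective z
  refine ⟨v, ?_, ?_⟩
  · rw [Points.ofPt_eq_map_ofScheme]; exact hz1
  · apply (Points.schemeEquiv T).injective
    change Points.ofScheme T _ = Points.ofScheme T _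
    rw [← h5_map_ofScheme]
    exact hz2

theorem h5_exists_of_ofPt_eq {F : Sp S} {U T V : Over S} {p : (yon S).obj U ⟶ F}
    {a : (yon S).obj T ⟶ F} {fst : V ⟶ U} {snd : V ⟶ T}
    (sq : IsPullback ((yon S).map fst) ((yon S).map snd) p a) (u : ↥U.left) (t : ↥T.left)
    (e : Points.ofPt p u = Points.ofPt a t) :
    ∃ v : ↥V.left, fst.left v = u ∧ snd.left v = t := by
  rw [Points.ofPt_eq_map_ofScheme p] at e
  obtain ⟨v, hv1, hv2⟩ := h5_exists_of_map_eq_ofPt sq _ t e
  refine ⟨v, ?_, hv2⟩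
  apply (Points.schemeEquiv U).injective
  change Points.ofScheme U _ = Points.ofScheme U _
  rw [← hv1, Points.ofPt_eq_map_ofScheme, h5_map_ofScheme]

/-- In a commutative square, the images of points agree. -/
theorem h5_ofPt_of_comm {F G : Sp S} {f : G ⟶ F} {T V : Over S}
    {a : (yon S).obj T ⟶ F} {fst : (yon S).obj V ⟶ G} {snd : V ⟶ T}
    (w : fst ≫ f = (yon S).map snd ≫ a) (v : ↥V.left) :
    Points.map f (Points.ofPt fst v) = Points.ofPt a (snd.left v) := by
  rw [Points.map_ofPt, w, h5_ofPt_map_comp]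


theorem h5_preimage_image_ofPt {F : Sp S} {U T V : Over S} {p : (yon S).obj U ⟶ F}
    {a : (yon S).obj T ⟶ F} {fst : V ⟶ U} {snd : V ⟶ T}
    (sq : IsPullback ((yon S).map fst) ((yon S).map snd) p a) (W : Set ↥U.left) :
    Points.ofPt a ⁻¹' (Points.ofPt p '' W) = snd.left '' (fst.left ⁻¹' W) := by
  ext t
  constructor
  · rintro ⟨u, hu, e⟩
    obtain ⟨v, rfl, rfl⟩ := h5_exists_of_ofPt_eq sq u t e
    exact ⟨v, hu, rfl⟩
  · rintro ⟨v, hv, rfl⟩
    refine ⟨fst.left v, hv, ?_⟩
    rw [← h5_ofPt_map_comp, ← h5_ofPt_map_comp, sq.w]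

theorem h5_repWith_mono {P Q : MorphismProperty Scheme.{u}} (h : P ≤ Q) {F G : Sp S} {f : F ⟶ G}
    (hf : RepWith P f) : RepWith Q f :=
  MorphismProperty.relative_monotone (fun _ _ _ hg => h _ hg) _ hf

theorem h5_isOpenMap_ofPt {F : Sp S} {U : Over S} (p : (yon S).obj U ⟶ F)
    (hp : RepWith @UniversallyOpen p) : IsOpenMap (Points.ofPt p) := by
  intro W hW
  rw [Points.isOpen_iff]
  intro T a
  rw [h5_preimage_image_ofPt (hp.rep.isPullback' a)]
  have : UniversallyOpen (hp.rep.snd a).left := hp.property_snd a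
  exact (hp.rep.snd a).left.isOpenMap _ (hW.preimage (hp.rep.fst' a).left.continuous)

theorem h5_etale_le_universallyOpen : (@Etale : MorphismProperty Scheme.{u}) ≤ @UniversallyOpen :=
  fun _ _ f (_ : Etale f) => inferInstance

theorem h5_isOpenMap_ofPt_of_etale {F : Sp S} {U : Over S} (p : (yon S).obj U ⟶ F)
    (hp : RepWith @Etale p) : IsOpenMap (Points.ofPt p) :=
  h5_isOpenMap_ofPt p (h5_repWith_mono h5_etale_le_universallyOpen hp)

theorem h5_repWith_surjective_iff {F G : Sp S} (f : G ⟶ F) (hf : Representable f) :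
    RepWith @Surjective f ↔ Function.Surjective (Points.map f) := by
  constructor
  · intro h y
    obtain ⟨K, _, str, a, rfl⟩ := h5_exists_eq_ofPt y
    have hs : Surjective (h.rep.snd a).left := h.property_snd a
    obtain ⟨v, hv⟩ := hs.surj (IsLocalRing.closedPoint K)
    refine ⟨Points.ofPt (h.rep.fst a) v, ?_⟩
    rw [h5_ofPt_of_comm (h.rep.isPullback a).w, hv]
  · intro h
    refine ⟨hf, fun T V a fst snd sq => ⟨fun t => ?_⟩⟩
    obtain ⟨y, hy⟩ := h (Points.ofPt a t)
    obtain ⟨v, -, hv⟩ := h5_exists_of_map_eq_ofPt sq y t hy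
    exact ⟨v, hv⟩

theorem h5_surjective_ofPt {F : Sp S} {U : Over S} (p : (yon S).obj U ⟶ F)
    (hp : RepWith @Surjective p) : Function.Surjective (Points.ofPt p) := by
  intro y
  obtain ⟨x, rfl⟩ := (h5_repWith_surjective_iff p hp.rep).1 hp y
  obtain ⟨u, rfl⟩ := (Points.schemeEquiv U).surjective x
  exact ⟨u, Points.ofPt_eq_map_ofScheme p u⟩

theorem h5_isQuotientMap_ofPt {F : Sp S} {U : Over S} (p : (yon S).obj U ⟶ F)
    (hp : RepWith @Etale p) (hs : RepWith @Surjective p) :
    Topology.IsQuotientMap (Points.ofPt p) :=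
  (h5_isOpenMap_ofPt_of_etale p hp).isQuotientMap (Points.continuous_ofPt p)
    (h5_surjective_ofPt p hs)

end AlgSp
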