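import Mathlib
import Groth.Prelude.Def_AlgSp4
import Groth.Agent.Lib.helper5.AlgSpPts

set_option autoImplicit false
universe u
open CategoryTheory CategoryTheory.Limits AlgebraicGeometry Opposite

namespace AlgSp

variable {S : Scheme.{u}}


theorem h5_isIso_of_probe {P Q : Sp S} (φ : P ⟶ Q)
    (hsurj : ∀ (T : Over S) (z : (yon S).obj T ⟶ Q), ∃ p : (yon S).obj T ⟶ P, p ≫ φ = z)
    (hinj : ∀ (T : Over S) (p q : (yon S).obj T ⟶ P), p ≫ φ = q ≫ φ → p = q) : IsIso φ := by
  have : IsIso ((sheafToPresheaf (J S) (Type (u+1))).map φ) := by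
    rw [NatTrans.isIso_iff_isIso_app]
    intro T
    rw [isIso_iff_bijective]
    constructor
    · intro p q hpq
      apply h5_yEquiv.symm.injective
      apply hinj
      apply h5_yEquiv.injective
      rw [GrothendieckTopology.uliftYonedaEquiv_comp, GrothendieckTopology.uliftYonedaEquiv_comp]
      simpa using hpq
    · intro z
      obtain ⟨p, hp⟩ := hsurj T.unop (h5_yEquiv.symm z)
      refine ⟨h5_yEquiv p, ?_⟩
      have := congrArg h5_yEquiv hp
      rw [GrothendieckTopology.uliftYonedaEquiv_comp] at this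
      simpa using this
  exact isIso_of_reflects_iso φ (sheafToPresheaf (J S) (Type (u+1)))


theorem h5_isPullback_of_probe {F G H P : Sp S} {f : F ⟶ H} {g : G ⟶ H} {fst : P ⟶ F}
    {snd : P ⟶ G} (w : fst ≫ f = snd ≫ g)
    (hex : ∀ (T : Over S) (x : (yon S).obj T ⟶ F) (y : (yon S).obj T ⟶ G), x ≫ f = y ≫ g →
      ∃ p : (yon S).obj T ⟶ P, p ≫ fst = x ∧ p ≫ snd = y)
    (huniq : ∀ (T : Over S) (p q : (yon S).obj T ⟶ P), p ≫ fst = q ≫ fst → p ≫ snd = q ≫ snd →
      p = q) : IsPullback fst snd f g := by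
  have : IsIso (pullback.lift fst snd w) := by
    apply h5_isIso_of_probe
    · intro T z
      obtain ⟨p, hp1, hp2⟩ := hex T (z ≫ pullback.fst f g) (z ≫ pullback.snd f g)
        (by rw [Category.assoc, Category.assoc, pullback.condition])
      refine ⟨p, ?_⟩
      apply pullback.hom_ext
      · rw [Category.assoc, pullback.lift_fst, hp1]
      · rw [Category.assoc, pullback.lift_snd, hp2]
    · intro T p q hpq
      apply huniq
      · have := congrArg (· ≫ pullback.fst f g) hpq
        simp only [Category.assoc] at this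
        rwa [pullback.lift_fst] at this
      · have := congrArg (· ≫ pullback.snd f g) hpq
        simp only [Category.assoc] at this
        rwa [pullback.lift_snd] at this
  exact IsPullback.of_iso_pullback ⟨w⟩ (asIso (pullback.lift fst snd w))
    (pullback.lift_fst _ _ _) (pullback.lift_snd _ _ _)

/-- Joint monicity of the projections of a pullback, on probes. -/
theorem h5_probe_ext {F G H P : Sp S} {f : F ⟶ H} {g : G ⟶ H} {fst : P ⟶ F}
    {snd : P ⟶ G} (h : IsPullback fst snd f g) {Q : Sp S} (p q : Q ⟶ P)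
    (h1 : p ≫ fst = q ≫ fst) (h2 : p ≫ snd = q ≫ snd) : p = q := h.hom_ext h1 h2


theorem h5_representable_of_jointly_mono {P X Y : Sp S} (fst : P ⟶ X) (snd : P ⟶ Y)
    (hmono : ∀ (T : Over S) (p q : (yon S).obj T ⟶ P), p ≫ fst = q ≫ fst → p ≫ snd = q ≫ snd →
      p = q)
    (hX : ∀ ⦃T : Over S⦄ (g : (yon S).obj T ⟶ X), Representable g)
    (hY : ∀ ⦃T : Over S⦄ (g : (yon S).obj T ⟶ Y), Representable g)
    ⦃T : Over S⦄ (a : (yon S).obj T ⟶ P) : Representable a := by
  intro T' b
  have hA := hX (a ≫ fst)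
  let A0 := hA.pullback (b ≫ fst)
  let α : A0 ⟶ T := hA.fst' (b ≫ fst)
  let α' : A0 ⟶ T' := hA.snd (b ≫ fst)
  have sqA : IsPullback ((yon S).map α) ((yon S).map α') (a ≫ fst) (b ≫ fst) :=
    hA.isPullback' (b ≫ fst)
  let uu : (yon S).obj A0 ⟶ Y := (yon S).map α ≫ a ≫ snd
  let vv : (yon S).obj A0 ⟶ Y := (yon S).map α' ≫ b ≫ snd
  have hB := hY uu
  let B0 := hB.pullback vv
  let β : B0 ⟶ A0 := hB.fst' vv
  let β' : B0 ⟶ A0 := hB.snd vv
  have sqB : IsPullback ((yon S).map β) ((yon S).map β') uu vv := hB.isPullback' vv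
  let E0 := equalizer β β'
  let ι : E0 ⟶ B0 := equalizer.ι β β'
  have hι : ι ≫ β = ι ≫ β' := equalizer.condition β β'
  refine ⟨E0, ι ≫ β' ≫ α', (yon S).map (ι ≫ β ≫ α), ?_⟩
  have w : (yon S).map (ι ≫ β ≫ α) ≫ a = (yon S).map (ι ≫ β' ≫ α') ≫ b := by
    apply hmono
    · have h1 := sqA.w
      calc ((yon S).map (ι ≫ β ≫ α) ≫ a) ≫ fst
          = (yon S).map (ι ≫ β) ≫ ((yon S).map α ≫ a ≫ fst) := by
            simp only [Functor.map_comp, Category.assoc]
        _ = (yon S).map (ι ≫ β) ≫ ((yon S).map α' ≫ b ≫ fst) := by rw [h1]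
        _ = (yon S).map (ι ≫ β') ≫ ((yon S).map α' ≫ b ≫ fst) := by rw [hι]
        _ = ((yon S).map (ι ≫ β' ≫ α') ≫ b) ≫ fst := by
            simp only [Functor.map_comp, Category.assoc]
    · have h2 := sqB.w
      calc ((yon S).map (ι ≫ β ≫ α) ≫ a) ≫ snd
          = (yon S).map ι ≫ ((yon S).map β ≫ uu) := by
            simp only [uu, Functor.map_comp, Category.assoc]
        _ = (yon S).map ι ≫ ((yon S).map β' ≫ vv) := by rw [h2]
        _ = ((yon S).map (ι ≫ β' ≫ α') ≫ b) ≫ snd := by
            simp only [vv, Functor.map_comp, Category.assoc]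
  apply h5_isPullback_of_probe w
  · intro T'' x y hxy
    obtain ⟨x0, rfl⟩ := (yon S).map_surjective x
    obtain ⟨y0, rfl⟩ := (yon S).map_surjective y
    have hc : (yon S).map x0 ≫ (a ≫ fst) = (yon S).map y0 ≫ (b ≫ fst) := by
      rw [← Category.assoc, hxy, Category.assoc]
    let c : T'' ⟶ A0 := (yon S).preimage (sqA.lift _ _ hc)
    have hc1 : c ≫ α = x0 := by
      apply (yon S).map_injective
      rw [Functor.map_comp, Functor.map_preimage, sqA.lift_fst]
    have hc2 : c ≫ α' = y0 := by
      apply (yon S).map_injective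
      rw [Functor.map_comp, Functor.map_preimage, sqA.lift_snd]
    have hd : (yon S).map c ≫ uu = (yon S).map c ≫ vv := by
      simp only [uu, vv]
      rw [← Category.assoc, ← Functor.map_comp, hc1, ← Category.assoc ((yon S).map c),
        ← Functor.map_comp, hc2, ← Category.assoc, hxy, Category.assoc]
    let d : T'' ⟶ B0 := (yon S).preimage (sqB.lift _ _ hd)
    have hd1 : d ≫ β = c := by
      apply (yon S).map_injective
      rw [Functor.map_comp, Functor.map_preimage, sqB.lift_fst]
    have hd2 : d ≫ β' = c := by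
      apply (yon S).map_injective
      rw [Functor.map_comp, Functor.map_preimage, sqB.lift_snd]
    let k : T'' ⟶ E0 := equalizer.lift d (hd1.trans hd2.symm)
    have hk : k ≫ ι = d := equalizer.lift_ι _ _
    refine ⟨(yon S).map k, ?_, ?_⟩
    · rw [← Functor.map_comp, ← Category.assoc, hk, ← Category.assoc, hd1, hc1]
    · rw [← Functor.map_comp, ← Category.assoc, hk, ← Category.assoc, hd2, hc2]
  · intro T'' p q h1 h2
    obtain ⟨p0, rfl⟩ := (yon S).map_surjective p
    obtain ⟨q0, rfl⟩ := (yon S).map_surjective q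
    rw [← Functor.map_comp, ← Functor.map_comp] at h1 h2
    have h1' := (yon S).map_injective h1
    have h2' := (yon S).map_injective h2
    congr 1
    apply equalizer.hom_ext
    change p0 ≫ ι = q0 ≫ ι
    -- both sides agree after β and β'
    have key : (p0 ≫ ι) ≫ β = (q0 ≫ ι) ≫ β := by
      apply (yon S).map_injective
      apply sqA.hom_ext
      · rw [← Functor.map_comp, ← Functor.map_comp]
        refine congrArg _ ?_
        simp only [Category.assoc]
        exact h1'
      · rw [← Functor.map_comp, ← Functor.map_comp]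
        refine congrArg _ ?_
        simp only [Category.assoc]
        rw [reassoc_of% hι]
        exact h2'
    have key' : (p0 ≫ ι) ≫ β' = (q0 ≫ ι) ≫ β' := by
      rw [Category.assoc, Category.assoc, ← hι, ← Category.assoc, ← Category.assoc, key]
    apply (yon S).map_injective
    apply sqB.hom_ext
    · rw [← Functor.map_comp, ← Functor.map_comp, key]
    · rw [← Functor.map_comp, ← Functor.map_comp, key']


theorem h5_isAlgSpace_of_isPullback {H X Y P : Sp S} (hH : Representable (Limits.diag H))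
    (hX : IsAlgSpace X) (hY : IsAlgSpace Y) {f : X ⟶ H} {g : Y ⟶ H} {fst : P ⟶ X}
    {snd : P ⟶ Y} (h : IsPullback fst snd f g) : IsAlgSpace P where
  diag := Functor.relativelyRepresentable.diag_of_map_from_obj (fun _ a =>
    h5_representable_of_jointly_mono fst snd (fun _ _ _ h1 h2 => h.hom_ext h1 h2)
      (fun _ g => hX.representable_from_yon g) (fun _ g => hY.representable_from_yon g) a)
  atlas := by
    obtain ⟨U, pU, heU, hsU⟩ := hX.atlas
    obtain ⟨V, pV, heV, hsV⟩ := hY.atlas
    let Q1 := pullback snd pV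
    let π1 : Q1 ⟶ P := pullback.fst snd pV
    let ρ1 : Q1 ⟶ (yon S).obj V := pullback.snd snd pV
    have sq1 : IsPullback π1 ρ1 snd pV := IsPullback.of_hasPullback snd pV
    let Q2 := pullback (π1 ≫ fst) pU
    let π2 : Q2 ⟶ Q1 := pullback.fst (π1 ≫ fst) pU
    let ρ2 : Q2 ⟶ (yon S).obj U := pullback.snd (π1 ≫ fst) pU
    have sq2 : IsPullback π2 ρ2 (π1 ≫ fst) pU := IsPullback.of_hasPullback (π1 ≫ fst) pU
    have sq3 : IsPullback (π1 ≫ fst) ρ1 f (pV ≫ g) := sq1.paste_horiz h
    have sq4 : IsPullback ρ2 (π2 ≫ ρ1) (pU ≫ f) (pV ≫ g) := sq2.flip.paste_vert sq3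
    have hR : Representable (pU ≫ f) := Functor.relativelyRepresentable.of_diag hH (pU ≫ f)
    let W := hR.pullback (pV ≫ g)
    have sq5 : IsPullback (hR.fst (pV ≫ g)) ((yon S).map (hR.snd (pV ≫ g))) (pU ≫ f) (pV ≫ g) :=
      hR.isPullback (pV ≫ g)
    let e : (yon S).obj W ≅ Q2 := sq5.isoIsPullback _ _ sq4
    refine ⟨W, e.hom ≫ π2 ≫ π1, ?_, ?_⟩
    · apply MorphismProperty.RespectsIso.precomp
      exact (RepWith @Etale).comp_mem _ _
        (MorphismProperty.of_isPullback (P := RepWith @Etale) sq2.flip heU)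
        (MorphismProperty.of_isPullback (P := RepWith @Etale) sq1.flip heV)
    · apply MorphismProperty.RespectsIso.precomp
      exact (RepWith @Surjective).comp_mem _ _
        (MorphismProperty.of_isPullback (P := RepWith @Surjective) sq2.flip hsU)
        (MorphismProperty.of_isPullback (P := RepWith @Surjective) sq1.flip hsV)

end AlgSp
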