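import Mathlib
import Groth.Prelude.Def_AlgSp4
import Groth.Agent.Lib.helper5.AlgSpPb

set_option autoImplicit false
universe u
open CategoryTheory CategoryTheory.Limits AlgebraicGeometry Opposite

namespace AlgSp

variable {S : Scheme.{u}}

/-- A single fppf covering morphism generates a covering sieve of the big fppf site over `S`. -/
theorem h5_ofArrows_singleton_mem_J {T V : Over S} (snd : V ⟶ T) [Flat snd.left]
    [LocallyOfFinitePresentation snd.left] [Surjective snd.left] :
    Sieve.ofArrows (fun _ : PUnit.{1} => V) (fun _ => snd) ∈ J S T := by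
  rw [GrothendieckTopology.mem_over_iff, Sieve.overEquiv_ofArrows]
  have := Scheme.Hom.singleton_mem_fppfPrecoverage snd.left
  rw [← Presieve.ofArrows_pUnit.{0}] at this
  exact Precoverage.generate_mem_toGrothendieck this

theorem h5_isLocallySurjective_of_repWith {F G : Sp S} (a : F ⟶ G) (h₁ : RepWith @Flat a)
    (h₂ : RepWith @LocallyOfFinitePresentation a) (h₃ : RepWith @Surjective a) :
    Sheaf.IsLocallySurjective a := by
  constructor
  intro T s
  let g : (yon S).obj T ⟶ G := h5_yEquiv.symm s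
  have sq := h₁.rep.isPullback g
  have hflat : Flat (h₁.rep.snd g).left := h₁.property_snd g
  have hlfp : LocallyOfFinitePresentation (h₁.rep.snd g).left := h₂.property g _ _ sq
  have hsurj : Surjective (h₁.rep.snd g).left := h₃.property g _ _ sq
  refine (J S).superset_covering ?_ (h5_ofArrows_singleton_mem_J (h₁.rep.snd g))
  rw [Sieve.ofArrows, Sieve.generate_le_iff]
  rintro _ _ ⟨⟩
  refine ⟨h5_yEquiv (h₁.rep.fst g), ?_⟩
  have e1 := GrothendieckTopology.uliftYonedaEquiv_comp (J S) (h₁.rep.fst g) a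
  have e2 := GrothendieckTopology.uliftYonedaEquiv_naturality (J S) g (h₁.rep.snd g)
  rw [sq.w] at e1
  have e3 : h5_yEquiv g = s := Equiv.apply_symm_apply _ _
  rw [e3] at e2
  exact e1.symm.trans e2.symm


theorem h5_etale_le_flat : (@Etale : MorphismProperty Scheme.{u}) ≤ @Flat :=
  fun _ _ f (_ : Etale f) => inferInstance

theorem h5_etale_le_lfp : (@Etale : MorphismProperty Scheme.{u}) ≤ @LocallyOfFinitePresentation :=
  fun _ _ f (_ : Etale f) => inferInstance

theorem h5_epi_of_repWith_etale_surjective {F G : Sp S} (a : F ⟶ G) (h₁ : RepWith @Etale a)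
    (h₃ : RepWith @Surjective a) : Epi a := by
  have := h5_isLocallySurjective_of_repWith a (h5_repWith_mono h5_etale_le_flat h₁)
    (h5_repWith_mono h5_etale_le_lfp h₁) h₃
  exact (Sheaf.isLocallySurjective_iff_epi a).1 this

theorem h5_isPullback_of_comp_mono {C : Type*} [Category C] {W A B T Z : C} {fst : W ⟶ A}
    {snd : W ⟶ T} {g : A ⟶ B} {b : T ⟶ B} (m : B ⟶ Z) [Mono m]
    (sq : IsPullback fst snd (g ≫ m) (b ≫ m)) : IsPullback fst snd g b := by
  have w : fst ≫ g = snd ≫ b := by
    rw [← cancel_mono m, Category.assoc, Category.assoc, sq.w]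
  refine IsPullback.of_isLimit' ⟨w⟩ (PullbackCone.IsLimit.mk _
    (fun s => sq.lift s.fst s.snd (by rw [← Category.assoc, s.condition, Category.assoc]))
    (fun s => sq.lift_fst _ _ _) (fun s => sq.lift_snd _ _ _)
    (fun s l h1 h2 => sq.hom_ext (by rw [h1, sq.lift_fst]) (by rw [h2, sq.lift_snd])))

theorem h5_isPullback_comp_mono {C : Type*} [Category C] {W A B T Z : C} {fst : W ⟶ A}
    {snd : W ⟶ T} {g : A ⟶ B} {b : T ⟶ B} (m : B ⟶ Z) [Mono m]
    (sq : IsPullback fst snd g b) : IsPullback fst snd (g ≫ m) (b ≫ m) := by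
  have bot : IsPullback b (𝟙 T) m (b ≫ m) := IsPullback.of_vert_isIso_mono ⟨by simp⟩
  simpa using sq.paste_vert bot

theorem h5_mono_of_repWith {P : MorphismProperty Scheme.{u}}
    (hP : P ≤ MorphismProperty.monomorphisms Scheme.{u}) {F G : Sp S} (f : F ⟶ G)
    (hf : RepWith P f) : Mono f := by
  constructor
  intro Q a b hab
  apply GrothendieckTopology.hom_ext_uliftYoneda.{u + 1} (J := J S)
  intro T p
  have hab' : (p ≫ a) ≫ f = (p ≫ b) ≫ f := by rw [Category.assoc, Category.assoc, hab]
  generalize p ≫ a = a' at hab'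
  generalize p ≫ b = b' at hab'
  have hm : Mono (hf.rep.snd (a' ≫ f)).left := hP _ (hf.property_snd (a' ≫ f))
  have hm' : Mono (hf.rep.snd (a' ≫ f)) := (Over.forget S).mono_of_mono_map hm
  have e : hf.rep.lift (g := a' ≫ f) a' (𝟙 T) (by simp) =
      hf.rep.lift b' (𝟙 T) (by simp [← hab']) := by
    rw [← cancel_mono (hf.rep.snd (a' ≫ f)), Functor.relativelyRepresentable.lift_snd,
      Functor.relativelyRepresentable.lift_snd]
  have := congrArg (fun k => (yon S).map k ≫ hf.rep.fst (a' ≫ f)) e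
  simpa using this

theorem h5_repWith_of_comp_mono (P : MorphismProperty Scheme.{u}) {F₁ F₂ F : Sp S} (g : F₁ ⟶ F₂)
    (m : F₂ ⟶ F) [Mono m] (h : RepWith P (g ≫ m)) : RepWith P g := by
  refine ⟨fun T b => ?_, fun T V b fst snd sq => ?_⟩
  · exact ⟨_, h.rep.snd (b ≫ m), h.rep.fst (b ≫ m),
      h5_isPullback_of_comp_mono m (h.rep.isPullback (b ≫ m))⟩
  · exact h.property (b ≫ m) fst snd (h5_isPullback_comp_mono m sq)

theorem h5_representable_of_comp_mono {F₁ F₂ F : Sp S} (g : F₁ ⟶ F₂)
    (m : F₂ ⟶ F) [Mono m] (h : Representable (g ≫ m)) : Representable g :=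
  fun _ b => ⟨_, h.snd (b ≫ m), h.fst (b ≫ m), h5_isPullback_of_comp_mono m (h.isPullback (b ≫ m))⟩

theorem h5_repWith_of_isIso (P : MorphismProperty Scheme.{u}) [P.IsStableUnderBaseChange]
    [P.ContainsIdentities] {F G : Sp S} (f : F ⟶ G) [IsIso f] : RepWith P f := by
  have : P.RespectsIso := MorphismProperty.IsStableUnderBaseChange.respectsIso
  apply MorphismProperty.relative.of_exists
  intro T g
  exact ⟨T, g ≫ inv f, 𝟙 T, by simpa using IsPullback.of_vert_isIso (snd := 𝟙 _) ⟨by simp⟩,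
    P.id_mem T.left⟩

end AlgSp
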