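import Mathlib
import Groth.Prelude.Def_AlgSp4
import Groth.Agent.Lib.helper5.AlgSpPts

set_option autoImplicit false
universe u
open CategoryTheory CategoryTheory.Limits AlgebraicGeometry Opposite

namespace AlgSp

variable {S : Scheme.{u}}

theorem h5_repWith_comp_yon_map (P : MorphismProperty Scheme.{u}) [P.IsStableUnderBaseChange]
    [P.IsStableUnderComposition] {F : Sp S} {U U' : Over S} (φ : U' ⟶ U) (hφ : P φ.left)
    (p : (yon S).obj U ⟶ F) (hp : RepWith P p) : RepWith P ((yon S).map φ ≫ p) :=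
  (RepWith P).comp_mem _ _ ((repWith_yon_map_iff P φ).2 hφ) hp

theorem h5_representable_comp_yon_map {F : Sp S} {U U' : Over S} (φ : U' ⟶ U)
    (p : (yon S).obj U ⟶ F) (hp : Representable p) : Representable ((yon S).map φ ≫ p) :=
  (Representable (S := S)).comp_mem _ _ (representable_yon_map φ) hp

theorem h5_repWith_surjective_of_surjective_ofPt {F : Sp S} {U : Over S} (p : (yon S).obj U ⟶ F)
    (hp : Representable p) (h : Function.Surjective (Points.ofPt p)) : RepWith @Surjective p := by
  rw [h5_repWith_surjective_iff p hp]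
  intro y
  obtain ⟨u, rfl⟩ := h y
  exact ⟨Points.ofScheme U u, (Points.ofPt_eq_map_ofScheme p u).symm⟩

/-- The open subscheme of `U` attached to an open `W`, as a scheme over `S`. -/
noncomputable abbrev h5_openOver (U : Over S) (W : U.left.Opens) : Over S :=
  Over.mk (W.ι ≫ U.hom)

noncomputable abbrev h5_openOverι (U : Over S) (W : U.left.Opens) : h5_openOver U W ⟶ U :=
  Over.homMk W.ι rfl

theorem h5_ofPt_openOver {F : Sp S} {U : Over S} (W : U.left.Opens) (p : (yon S).obj U ⟶ F)
    (v : ↥(h5_openOver U W).left) :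
    Points.ofPt ((yon S).map (h5_openOverι U W) ≫ p) v = Points.ofPt p (W.ι v) :=
  h5_ofPt_map_comp _ _ _

theorem h5_isQuasiCompactSp_iff {F : Sp S} (hF : IsAlgSpace F) :
    IsQuasiCompactSp F ↔ CompactSpace (Points F) := by
  constructor
  · rintro ⟨U, p, he, hs, hU⟩
    have hU' : CompactSpace ↥U.left := hU
    rw [← isCompact_univ_iff, ← (h5_surjective_ofPt p hs).range_eq]
    exact isCompact_range (Points.continuous_ofPt p)
  · intro hc
    obtain ⟨U, p, he, hs⟩ := hF.atlas
    have hsurj := h5_surjective_ofPt p hs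
    have hopen := h5_isOpenMap_ofPt_of_etale p he
    choose u hu using hsurj
    have hV : ∀ x : Points F, ∃ V : U.left.Opens, IsAffineOpen V ∧ u x ∈ V := by
      intro x
      obtain ⟨V, hV, hx, -⟩ := (U.left.isBasis_affineOpens).exists_subset_of_mem_open
        (Set.mem_univ (u x)) isOpen_univ
      obtain ⟨V', hV', rfl⟩ := hV
      exact ⟨V', hV', hx⟩
    choose V hVa hVu using hV
    obtain ⟨t, ht⟩ := isCompact_univ.elim_finite_subcover (fun x => Points.ofPt p '' (V x : Set ↥U.left))
      (fun x => hopen _ (V x).isOpen) (fun x _ => Set.mem_iUnion.2 ⟨x, u x, hVu x, hu x⟩)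
    let W : U.left.Opens := ⨆ x ∈ t, V x
    have hWc : IsCompact (W : Set ↥U.left) := by
      have : (W : Set ↥U.left) = ⋃ x ∈ t, (V x : Set ↥U.left) := by
        simp [W]
      rw [this]
      exact t.isCompact_biUnion (fun x _ => (hVa x).isCompact)
    refine ⟨h5_openOver U W, (yon S).map (h5_openOverι U W) ≫ p,
      h5_repWith_comp_yon_map _ _ (show Etale W.ι from inferInstance) p he, ?_, ?_⟩
    · apply h5_repWith_surjective_of_surjective_ofPt _
        (h5_representable_comp_yon_map _ p he.rep)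
      intro x
      obtain ⟨y, hy, hxy⟩ := Set.mem_iUnion₂.1 (ht (Set.mem_univ x))
      obtain ⟨u', hu', rfl⟩ := hxy
      have hu'W : u' ∈ W := by
        simp only [W, TopologicalSpace.Opens.mem_iSup]
        exact ⟨y, hy, hu'⟩
      refine ⟨⟨u', hu'W⟩, ?_⟩
      rw [h5_ofPt_openOver]
      rfl
    · exact isCompact_iff_compactSpace.1 hWc


theorem h5_isQuasiCompactSp_iff_affine {F : Sp S} :
    IsQuasiCompactSp F ↔ ∃ (U : Over S) (p : (yon S).obj U ⟶ F),
        IsAffine U.left ∧ RepWith @Etale p ∧ RepWith @Surjective p := by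
  constructor
  · rintro ⟨U, p, he, hs, hU⟩
    have hU' : CompactSpace ↥U.left := hU
    obtain ⟨Y, d, hd1, hd2, hY⟩ :=
      Scheme.exists_hom_isAffine_of_isZariskiLocalAtSource @Etale U.left
    let φ : Over.mk (d ≫ U.hom) ⟶ U := Over.homMk d rfl
    exact ⟨Over.mk (d ≫ U.hom), (yon S).map φ ≫ p, hY,
      h5_repWith_comp_yon_map _ φ hd2 p he, h5_repWith_comp_yon_map _ φ hd1 p hs⟩
  · rintro ⟨U, p, hU, he, hs⟩
    exact ⟨U, p, he, hs, inferInstance⟩

end AlgSp
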