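import Mathlib
import Groth.Prelude.Def_AlgSp4
import Groth.Agent.Lib.helper5.AlgSpPb
import Groth.Agent.Lib.helper5.AlgSpQc
import Groth.Agent.Lib.helper5.AlgSpMono

set_option autoImplicit false
universe u
open CategoryTheory CategoryTheory.Limits AlgebraicGeometry Opposite

namespace AlgSp

variable {S : Scheme.{u}}

theorem h5_surjective_of_isPullback {F G H P : Sp S} {f : F ⟶ H} {g : G ⟶ H} {fst : P ⟶ F}
    {snd : P ⟶ G} (sq : IsPullback fst snd f g) (hf : Function.Surjective (Points.map f)) :
    Function.Surjective (Points.map snd) := by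
  intro y
  obtain ⟨x, hx⟩ := hf (Points.map g y)
  obtain ⟨p, -, hp⟩ := h5_points_exists_of_isPullback sq x y hx
  exact ⟨p, hp⟩

theorem h5_compactSpace_of_isQuasiCompactSp {F : Sp S} (h : IsQuasiCompactSp F) :
    CompactSpace (Points F) := by
  obtain ⟨U, p, he, hs, hU⟩ := h
  have hU' : CompactSpace ↥U.left := hU
  rw [← isCompact_univ_iff, ← (h5_surjective_ofPt p hs).range_eq]
  exact isCompact_range (Points.continuous_ofPt p)

theorem h5_isQuasiCompactSp_of_surjective {F G : Sp S} (hG : IsAlgSpace G) (f : F ⟶ G)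
    (hf : Function.Surjective (Points.map f)) (hF : IsQuasiCompactSp F) : IsQuasiCompactSp G := by
  rw [h5_isQuasiCompactSp_iff hG]
  have := h5_compactSpace_of_isQuasiCompactSp hF
  rw [← isCompact_univ_iff, ← hf.range_eq]
  exact isCompact_range (Points.continuous_map f)

/-- If `snd : Z' ⟶ Z` is representable and quasi-compact and `Z` is quasi-compact, so is `Z'`. -/
theorem h5_isQuasiCompactSp_of_repWith_quasiCompact {Z Z' : Sp S} (snd : Z' ⟶ Z)
    (h : RepWith @QuasiCompact snd) (hZ : IsQuasiCompactSp Z) : IsQuasiCompactSp Z' := by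
  obtain ⟨W, w, he, hs, hW⟩ := hZ
  have hW' : CompactSpace ↥W.left := hW
  have sq := h.rep.isPullback w
  have hqc : QuasiCompact (h.rep.snd w).left := h.property_snd w
  refine ⟨h.rep.pullback w, h.rep.fst w,
    MorphismProperty.of_isPullback (P := RepWith @Etale) sq.flip he,
    MorphismProperty.of_isPullback (P := RepWith @Surjective) sq.flip hs, ?_⟩
  exact QuasiCompact.compactSpace_of_compactSpace (h.rep.snd w).left

end AlgSp
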