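import Mathlib
import Groth.Prelude.Def_AlgSp4
import Groth.Agent.Lib.helper5.AlgSpQc2

set_option autoImplicit false
universe u
open CategoryTheory CategoryTheory.Limits AlgebraicGeometry Opposite

namespace AlgSp

variable {S : Scheme.{u}}

/-- The subfunctor of sections whose points land in `W`. -/
def h5_subW (F : Sp S) (W : Set (Points F)) : Subfunctor F.obj where
  obj T := {s | ∀ t : ↥T.unop.left, Points.ofPt (h5_yEquiv.symm s) t ∈ W}
  map {T T'} i s hs := by
    intro t'
    rw [GrothendieckTopology.uliftYonedaEquiv_symm_map, h5_ofPt_map_comp]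
    exact hs _

/-- Covering sieves of the big fppf site are jointly surjective. -/
theorem h5_exists_of_mem_J {T : Over S} {R : Sieve T} (hR : R ∈ J S T) (t : ↥T.left) :
    ∃ (T' : Over S) (φ : T' ⟶ T) (_ : R φ) (t' : ↥T'.left), φ.left t' = t := by
  rw [GrothendieckTopology.mem_over_iff] at hR
  have hR' : Sieve.overEquiv T R ∈
      Scheme.grothendieckTopology (@Flat ⊓ @LocallyOfFinitePresentation) T.left := hR
  have : (@Flat ⊓ @LocallyOfFinitePresentation : MorphismProperty Scheme.{u}).IsMultiplicative :=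
    { id_mem := fun X => ⟨inferInstance, inferInstance⟩
      comp_mem := fun f g hf hg =>
        ⟨MorphismProperty.comp_mem _ f g hf.1 hg.1, MorphismProperty.comp_mem _ f g hf.2 hg.2⟩ }
  obtain ⟨𝒰, h𝒰⟩ := Scheme.mem_grothendieckTopology_iff.1 hR'
  obtain ⟨i, y, hy⟩ := 𝒰.exists_eq t
  have := h𝒰 _ _ (Presieve.ofArrows.mk i)
  rw [Sieve.overEquiv_iff] at this
  exact ⟨_, _, this, y, hy⟩

theorem h5_subW_isSheaf (F : Sp S) (W : Set (Points F)) :
    Presheaf.IsSheaf (J S) (h5_subW F W).toFunctor := by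
  rw [isSheaf_iff_isSheaf_of_type]
  rw [Subfunctor.isSheaf_iff _ ((isSheaf_iff_isSheaf_of_type _ _).1 F.2)]
  intro T s hs t
  obtain ⟨T', φ, hφ, t', rfl⟩ := h5_exists_of_mem_J hs t
  have h1 : F.obj.map φ.op s ∈ (h5_subW F W).obj (op T') := hφ
  have h2 := h1 t'
  rw [GrothendieckTopology.uliftYonedaEquiv_symm_map, h5_ofPt_map_comp] at h2
  exact h2

/-- The open subsheaf attached to a set of points. -/
noncomputable def h5_openSp (F : Sp S) (W : Set (Points F)) : Sp S :=
  ⟨(h5_subW F W).toFunctor, h5_subW_isSheaf F W⟩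

noncomputable def h5_openSpι (F : Sp S) (W : Set (Points F)) : h5_openSp F W ⟶ F :=
  ⟨(h5_subW F W).ι⟩

instance (F : Sp S) (W : Set (Points F)) : Mono (h5_openSpι F W) :=
  (sheafToPresheaf (J S) (Type (u + 1))).mono_of_mono_map
    (show Mono (h5_subW F W).ι from inferInstance)


theorem h5_openSp_map_mem {F : Sp S} {W : Set (Points F)} (x : Points (h5_openSp F W)) :
    Points.map (h5_openSpι F W) x ∈ W := by
  induction x using Points.ind with
  | h p =>
  obtain ⟨K, str, ⟨s, hs⟩⟩ := p
  have h1 : Points.map (h5_openSpι F W) (Points.mk ⟨K, str, ⟨s, hs⟩⟩) = Points.mk ⟨K, str, s⟩ := rfl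
  rw [h1, h5_mk_eq_mkHom, h5_mkHom_eq_ofPt]
  exact hs _

theorem h5_openSp_factors_iff {F : Sp S} {W : Set (Points F)} {T : Over S}
    (a : (yon S).obj T ⟶ F) :
    (∃ a' : (yon S).obj T ⟶ h5_openSp F W, a' ≫ h5_openSpι F W = a) ↔
      ∀ t : ↥T.left, Points.ofPt a t ∈ W := by
  constructor
  · rintro ⟨a', rfl⟩ t
    rw [← Points.map_ofPt]
    exact h5_openSp_map_mem _
  · intro h
    have hs : h5_yEquiv a ∈ (h5_subW F W).obj (op T) := by
      intro t
      rw [Equiv.symm_apply_apply]
      exact h t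
    refine ⟨h5_yEquiv.symm (⟨h5_yEquiv a, hs⟩ : (h5_openSp F W).obj.obj (op T)), ?_⟩
    apply h5_yEquiv.injective
    rw [GrothendieckTopology.uliftYonedaEquiv_comp, Equiv.apply_symm_apply]
    rfl

theorem h5_openSp_range {F : Sp S} (W : Set (Points F)) :
    Set.range (Points.map (h5_openSpι F W)) = W := by
  apply Set.Subset.antisymm
  · rintro _ ⟨x, rfl⟩
    exact h5_openSp_map_mem x
  · intro w hw
    obtain ⟨K, _, str, a, rfl⟩ := h5_exists_eq_ofPt w
    have : ∀ t : ↥(Over.mk str).left, Points.ofPt a t ∈ W := by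
      intro t
      have : t = IsLocalRing.closedPoint K :=
        @Subsingleton.elim (PrimeSpectrum K) _ _ _
      rw [this]
      exact hw
    obtain ⟨a', rfl⟩ := (h5_openSp_factors_iff a).2 this
    exact ⟨Points.ofPt a' _, Points.map_ofPt _ _ _⟩


/-- The preimage of `W` in a scheme `T` mapping to `F`, as an open of `T`. -/
noncomputable def h5_preimageOpens {F : Sp S} {W : Set (Points F)} (hW : IsOpen W) {T : Over S}
    (a : (yon S).obj T ⟶ F) : T.left.Opens :=
  ⟨Points.ofPt a ⁻¹' W, hW.preimage (Points.continuous_ofPt a)⟩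

theorem h5_openSp_lift_aux {F : Sp S} {W : Set (Points F)} (hW : IsOpen W) {T : Over S}
    (a : (yon S).obj T ⟶ F) :
    ∃ a' : (yon S).obj (h5_openOver T (h5_preimageOpens hW a)) ⟶ h5_openSp F W,
      a' ≫ h5_openSpι F W = (yon S).map (h5_openOverι T (h5_preimageOpens hW a)) ≫ a := by
  apply (h5_openSp_factors_iff _).2
  intro t
  rw [h5_ofPt_openOver]
  exact (show ((h5_preimageOpens hW a).ι t) ∈ (h5_preimageOpens hW a) from t.2)

theorem h5_openSp_isPullback {F : Sp S} {W : Set (Points F)} (hW : IsOpen W) {T : Over S}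
    (a : (yon S).obj T ⟶ F)
    (a' : (yon S).obj (h5_openOver T (h5_preimageOpens hW a)) ⟶ h5_openSp F W)
    (ha' : a' ≫ h5_openSpι F W = (yon S).map (h5_openOverι T (h5_preimageOpens hW a)) ≫ a) :
    IsPullback a' ((yon S).map (h5_openOverι T (h5_preimageOpens hW a))) (h5_openSpι F W) a := by
  apply h5_isPullback_of_probe ha'
  · intro T'' x y hxy
    obtain ⟨y0, rfl⟩ := (yon S).map_surjective y
    have hrange : Set.range y0.left ⊆ Set.range (h5_preimageOpens hW a).ι := by
      rintro _ ⟨t'', rfl⟩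
      rw [Scheme.Opens.range_ι]
      change Points.ofPt a (y0.left t'') ∈ W
      rw [← h5_ofPt_map_comp, ← hxy, ← Points.map_ofPt]
      exact h5_openSp_map_mem _
    let l : T''.left ⟶ (h5_openOver T (h5_preimageOpens hW a)).left :=
      IsOpenImmersion.lift (h5_preimageOpens hW a).ι y0.left hrange
    have hl : l ≫ (h5_preimageOpens hW a).ι = y0.left := IsOpenImmersion.lift_fac _ _ _
    let l' : T'' ⟶ h5_openOver T (h5_preimageOpens hW a) := Over.homMk l (by
      change l ≫ ((h5_preimageOpens hW a).ι ≫ T.hom) = T''.hom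
      rw [← Category.assoc, hl, Over.w y0])
    have hl' : l' ≫ h5_openOverι T (h5_preimageOpens hW a) = y0 := by
      apply Over.OverMorphism.ext
      exact hl
    refine ⟨(yon S).map l', ?_, ?_⟩
    · rw [← cancel_mono (h5_openSpι F W), Category.assoc, ha', ← Category.assoc,
        ← Functor.map_comp, hl', hxy]
    · rw [← Functor.map_comp, hl']
  · intro T'' p q _ h2
    obtain ⟨p0, rfl⟩ := (yon S).map_surjective p
    obtain ⟨q0, rfl⟩ := (yon S).map_surjective q
    rw [← Functor.map_comp, ← Functor.map_comp] at h2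
    have h2' := (yon S).map_injective h2
    congr 1
    apply Over.OverMorphism.ext
    rw [← cancel_mono (h5_preimageOpens hW a).ι]
    exact congrArg (fun k => k.left) h2'

theorem h5_openSp_repWith {F : Sp S} {W : Set (Points F)} (hW : IsOpen W) :
    RepWith @IsOpenImmersion (h5_openSpι F W) := by
  apply MorphismProperty.relative.of_exists
  intro T a
  obtain ⟨a', ha'⟩ := h5_openSp_lift_aux hW a
  exact ⟨_, a', h5_openOverι T (h5_preimageOpens hW a), h5_openSp_isPullback hW a a' ha',
    (show IsOpenImmersion (h5_preimageOpens hW a).ι from inferInstance)⟩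

theorem h5_openSp_isAlgSpace {F : Sp S} (hF : IsAlgSpace F) {W : Set (Points F)} (hW : IsOpen W) :
    IsAlgSpace (h5_openSp F W) where
  diag := Functor.relativelyRepresentable.diag_of_map_from_obj (fun _ a =>
    h5_representable_of_comp_mono a (h5_openSpι F W) (hF.representable_from_yon _))
  atlas := by
    obtain ⟨U, p, he, hs⟩ := hF.atlas
    obtain ⟨p', hp'⟩ := h5_openSp_lift_aux hW p
    have sq := h5_openSp_isPullback hW p p' hp'
    exact ⟨_, p', MorphismProperty.of_isPullback (P := RepWith @Etale) sq.flip he,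
      MorphismProperty.of_isPullback (P := RepWith @Surjective) sq.flip hs⟩

end AlgSp
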