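import Mathlib
import Groth.Prelude.Def_AlgSp4
import Groth.Agent.Lib.helper5.AlgSpOpen

set_option autoImplicit false
universe u
open CategoryTheory CategoryTheory.Limits AlgebraicGeometry Opposite

namespace AlgSp

variable {S : Scheme.{u}}

theorem h5_openImm_le_mono :
    (@IsOpenImmersion : MorphismProperty Scheme.{u}) ≤ MorphismProperty.monomorphisms Scheme.{u} :=
  fun _ _ f (_ : IsOpenImmersion f) => (inferInstance : Mono f)

/-- Lifting probes along an open immersion of sheaves. -/
theorem h5_exists_lift_of_openImmersion {F F' : Sp S} (j : F' ⟶ F)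
    (hj : RepWith @IsOpenImmersion j) {T : Over S} (b : (yon S).obj T ⟶ F)
    (h : ∀ t : ↥T.left, Points.ofPt b t ∈ Set.range (Points.map j)) :
    ∃ a : (yon S).obj T ⟶ F', a ≫ j = b := by
  have sq := hj.rep.isPullback b
  have hoi : IsOpenImmersion (hj.rep.snd b).left := hj.property_snd b
  have hsurj : Function.Surjective (hj.rep.snd b).left := by
    intro t
    obtain ⟨y, hy⟩ := h t
    obtain ⟨v, -, hv⟩ := h5_exists_of_map_eq_ofPt sq y t hy
    exact ⟨v, hv⟩
  have : Epi (hj.rep.snd b).left.base := (TopCat.epi_iff_surjective _).2 hsurj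
  have hiso : IsIso (hj.rep.snd b).left := IsOpenImmersion.isIso _
  have hiso' : IsIso (hj.rep.snd b) :=
    have : IsIso ((Over.forget S).map (hj.rep.snd b)) := hiso
    isIso_of_reflects_iso _ (Over.forget S)
  refine ⟨inv ((yon S).map (hj.rep.snd b)) ≫ hj.rep.fst b, ?_⟩
  rw [Category.assoc, sq.w, IsIso.inv_hom_id_assoc]

theorem h5_exists_factor_of_openImmersion {F F' G : Sp S} (j : F' ⟶ F)
    (hj : RepWith @IsOpenImmersion j) (f : G ⟶ F)
    (h : Set.range (Points.map f) ⊆ Set.range (Points.map j)) : ∃ g : G ⟶ F', g ≫ j = f := by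
  have hm : Mono j := h5_mono_of_repWith h5_openImm_le_mono j hj
  have hiso : IsIso (pullback.snd j f) := by
    apply h5_isIso_of_probe
    · intro T z
      obtain ⟨a, ha⟩ := h5_exists_lift_of_openImmersion j hj (z ≫ f) (by
        intro t
        rw [← Points.map_ofPt]
        exact h ⟨_, rfl⟩)
      exact ⟨pullback.lift a z ha, pullback.lift_snd _ _ _⟩
    · intro T p q hpq
      exact (cancel_mono (pullback.snd j f)).1 hpq
  refine ⟨inv (pullback.snd j f) ≫ pullback.fst j f, ?_⟩
  rw [Category.assoc, pullback.condition, IsIso.inv_hom_id_assoc]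

end AlgSp
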