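import Mathlib
import Groth.Prelude.Def_AlgSp4
import Groth.Agent.Lib.helper5.AlgSpOpen2

set_option autoImplicit false
universe u
open CategoryTheory CategoryTheory.Limits AlgebraicGeometry Opposite

namespace AlgSp

variable {S : Scheme.{u}}

theorem h5_isEqvRel_of_isPullback {F : Sp S} {R U : Over S} (p : (yon S).obj U ⟶ F)
    (s t : R ⟶ U) (sq : IsPullback ((yon S).map t) ((yon S).map s) p p) : IsEqvRel s t where
  injective T r r' h1 h2 := by
    apply (yon S).map_injective
    apply sq.hom_ext
    · rw [← Functor.map_comp, ← Functor.map_comp, h1]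
    · rw [← Functor.map_comp, ← Functor.map_comp, h2]
  equivalence T := by
    have key : ∀ (a b : T ⟶ U), (yon S).map a ≫ p = (yon S).map b ≫ p →
        ∃ r : T ⟶ R, r ≫ t = a ∧ r ≫ s = b := by
      intro a b h
      refine ⟨(yon S).preimage (sq.lift _ _ h), ?_, ?_⟩
      · apply (yon S).map_injective
        rw [Functor.map_comp, Functor.map_preimage, sq.lift_fst]
      · apply (yon S).map_injective
        rw [Functor.map_comp, Functor.map_preimage, sq.lift_snd]
    have key' : ∀ (a b : T ⟶ U), (∃ r : T ⟶ R, r ≫ t = a ∧ r ≫ s = b) →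
        (yon S).map a ≫ p = (yon S).map b ≫ p := by
      rintro _ _ ⟨r, rfl, rfl⟩
      rw [Functor.map_comp, Functor.map_comp, Category.assoc, Category.assoc, sq.w]
    refine ⟨fun a => key a a rfl, fun {a b} h => key b a (key' a b h).symm,
      fun {a b c} h1 h2 => key a c ((key' a b h1).trans (key' b c h2))⟩

theorem h5_isEtaleEqvRel_of_isPullback {F : Sp S} {R U : Over S} (p : (yon S).obj U ⟶ F)
    (he : RepWith @Etale p) (s t : R ⟶ U)
    (sq : IsPullback ((yon S).map t) ((yon S).map s) p p) : IsEtaleEqvRel s t where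
  toIsEqvRel := h5_isEqvRel_of_isPullback p s t sq
  etale_left := he.property p _ s sq
  etale_right := he.property p _ t sq.flip

theorem h5_isColimit_cofork_of_atlas {F : Sp S} {R U : Over S} (p : (yon S).obj U ⟶ F)
    (he : RepWith @Etale p) (hs : RepWith @Surjective p) (s t : R ⟶ U)
    (sq : IsPullback ((yon S).map t) ((yon S).map s) p p) :
    Nonempty (IsColimit (Cofork.ofπ p sq.w)) := by
  have : Epi p := h5_epi_of_repWith_etale_surjective p he hs
  have : IsRegularEpi p := IsRegularEpiCategory.regularEpiOfEpi p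
  exact ⟨IsKernelPair.toCoequalizer' sq⟩


/-- A representable morphism whose represented base changes are injective on points is injective
on points. -/
theorem h5_injective_map_of_repWith {P : MorphismProperty Scheme.{u}}
    (hP : ∀ ⦃A B : Scheme.{u}⦄ (f : A ⟶ B), P f → Function.Injective f) {F F' : Sp S}
    (j : F' ⟶ F) (hj : RepWith P j) : Function.Injective (Points.map j) := by
  intro x1 x2 h
  obtain ⟨K, _, str, b, hb⟩ := h5_exists_eq_ofPt (Points.map j x1)
  have sq := hj.rep.isPullback b
  have hinj : Function.Injective (hj.rep.snd b).left := hP _ (hj.property_snd b)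
  obtain ⟨v1, hv1, hv1'⟩ := h5_exists_of_map_eq_ofPt sq x1 _ hb
  obtain ⟨v2, hv2, hv2'⟩ := h5_exists_of_map_eq_ofPt sq x2 _ (h ▸ hb)
  have : v1 = v2 := hinj (hv1'.trans hv2'.symm)
  rw [← hv1, ← hv2, this]

theorem h5_injective_map_of_openImmersion {F F' : Sp S} (j : F' ⟶ F)
    (hj : RepWith @IsOpenImmersion j) : Function.Injective (Points.map j) :=
  h5_injective_map_of_repWith (fun _ _ f (_ : IsOpenImmersion f) => f.isOpenEmbedding.injective) j hj

end AlgSp
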