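import Mathlib
import Groth.Prelude.Def_AlgSp4
import Groth.Agent.Lib.helper5.AlgSpPres

set_option autoImplicit false
universe u
open CategoryTheory CategoryTheory.Limits AlgebraicGeometry Opposite

namespace AlgSp

variable {S : Scheme.{u}}

theorem h5_openImm_le_etale : (@IsOpenImmersion : MorphismProperty Scheme.{u}) ≤ @Etale :=
  fun _ _ f (_ : IsOpenImmersion f) => inferInstance

theorem h5_isOpenMap_map_of_repWith_etale {F' F : Sp S} (hF' : IsAlgSpace F') (j : F' ⟶ F)
    (hj : RepWith @Etale j) : IsOpenMap (Points.map j) := by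
  obtain ⟨U, p, he, hs⟩ := hF'.atlas
  have hpf : RepWith @Etale (p ≫ j) := (RepWith @Etale).comp_mem _ _ he hj
  have hopen := h5_isOpenMap_ofPt_of_etale (p ≫ j) hpf
  have hsurj := h5_surjective_ofPt p hs
  intro W hW
  have : Points.map j '' W = Points.ofPt (p ≫ j) '' (Points.ofPt p ⁻¹' W) := by
    ext y
    constructor
    · rintro ⟨x, hx, rfl⟩
      obtain ⟨u, rfl⟩ := hsurj x
      exact ⟨u, hx, (Points.map_ofPt p j u).symm⟩
    · rintro ⟨u, hu, rfl⟩
      exact ⟨Points.ofPt p u, hu, Points.map_ofPt p j u⟩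
  rw [this]
  exact hopen _ (hW.preimage (Points.continuous_ofPt p))

theorem h5_isOpenEmbedding_map_of_openImmersion {F' F : Sp S} (hF' : IsAlgSpace F') (j : F' ⟶ F)
    (hj : RepWith @IsOpenImmersion j) : Topology.IsOpenEmbedding (Points.map j) :=
  Topology.IsOpenEmbedding.of_continuous_injective_isOpenMap (Points.continuous_map j)
    (h5_injective_map_of_openImmersion j hj)
    (h5_isOpenMap_map_of_repWith_etale hF' j (h5_repWith_mono h5_openImm_le_etale hj))

theorem h5_range_snd_of_isPullback {F G H P : Sp S} {f : F ⟶ H} {g : G ⟶ H} {fst : P ⟶ F}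
    {snd : P ⟶ G} (sq : IsPullback fst snd f g) :
    Set.range (Points.map snd) = Points.map g ⁻¹' Set.range (Points.map f) := by
  ext y
  constructor
  · rintro ⟨p, rfl⟩
    refine ⟨Points.map fst p, ?_⟩
    rw [← Points.map_comp, ← Points.map_comp, sq.w]
  · rintro ⟨x, hx⟩
    obtain ⟨p, -, hp⟩ := h5_points_exists_of_isPullback sq x y hx
    exact ⟨p, hp⟩

theorem h5_isCompact_preimage_of_isQuasiCompactMor {X Y : Sp S} (_hX : IsAlgSpace X)
    (hY : IsAlgSpace Y) (f : X ⟶ Y) (hf : IsQuasiCompactMor f) (V : Set (Points Y))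
    (hV : IsOpen V) (hVc : IsCompact V) : IsCompact (Points.map f ⁻¹' V) := by
  have hY' := h5_openSp_isAlgSpace hY hV
  have hemb := h5_isOpenEmbedding_map_of_openImmersion hY' _ (h5_openSp_repWith (F := Y) hV)
  have hc : CompactSpace (Points (h5_openSp Y V)) := by
    rw [← isCompact_univ_iff, hemb.isCompact_iff, Set.image_univ, h5_openSp_range]
    exact hVc
  have hqc : IsQuasiCompactSp (h5_openSp Y V) := (h5_isQuasiCompactSp_iff hY').2 hc
  have sq : IsPullback (pullback.fst f (h5_openSpι Y V)) (pullback.snd f (h5_openSpι Y V)) f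
      (h5_openSpι Y V) := IsPullback.of_hasPullback _ _
  have hqc' := hf hY' hqc _ _ _ sq
  have hc' := h5_compactSpace_of_isQuasiCompactSp hqc'
  have hr := h5_range_snd_of_isPullback sq.flip
  rw [h5_openSp_range] at hr
  rw [← hr]
  exact isCompact_range (Points.continuous_map _)

end AlgSp
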