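import Mathlib
import Groth.Prelude.Def_AlgSp4
import Groth.Agent.Lib.helper5.AlgSpOpen3

set_option autoImplicit false
universe u
open CategoryTheory CategoryTheory.Limits AlgebraicGeometry Opposite

namespace AlgSp

variable {S : Scheme.{u}}

theorem h5_exists_isOpen_isCompact_nhd {F : Sp S} (hF : IsAlgSpace F) (x : Points F)
    (W : Set (Points F)) (hW : IsOpen W) (hx : x ∈ W) :
    ∃ V : Set (Points F), IsOpen V ∧ IsCompact V ∧ x ∈ V ∧ V ⊆ W := by
  obtain ⟨U, p, he, hs⟩ := hF.atlas
  obtain ⟨u, rfl⟩ := h5_surjective_ofPt p hs x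
  have hW' : IsOpen (Points.ofPt p ⁻¹' W) := hW.preimage (Points.continuous_ofPt p)
  obtain ⟨V, hV, hu, hVW⟩ := (U.left.isBasis_affineOpens).exists_subset_of_mem_open
    (show u ∈ Points.ofPt p ⁻¹' W from hx) hW'
  obtain ⟨V', hV', rfl⟩ := hV
  refine ⟨Points.ofPt p '' (V' : Set ↥U.left), h5_isOpenMap_ofPt_of_etale p he _ V'.isOpen,
    hV'.isCompact.image (Points.continuous_ofPt p), ⟨u, hu, rfl⟩, ?_⟩
  rintro _ ⟨v, hv, rfl⟩
  exact hVW hv

/-- A quasi-compact open subspace surjecting onto a quasi-compact target of an open surjection. -/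
theorem h5_exists_qc_open_surjecting {W W' : Sp S} (hW' : IsAlgSpace W') (π : W' ⟶ W)
    (hopen : IsOpenMap (Points.map π)) (hsurj : Function.Surjective (Points.map π))
    (hc : CompactSpace (Points W)) :
    ∃ V : Set (Points W'), IsOpen V ∧ IsCompact V ∧ Points.map π '' V = Set.univ := by
  have hV : ∀ x' : Points W', ∃ V : Set (Points W'), IsOpen V ∧ IsCompact V ∧ x' ∈ V := by
    intro x'
    obtain ⟨V, h1, h2, h3, -⟩ := h5_exists_isOpen_isCompact_nhd hW' x' Set.univ isOpen_univ trivial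
    exact ⟨V, h1, h2, h3⟩
  choose V hVo hVc hVx using hV
  obtain ⟨t, ht⟩ := isCompact_univ.elim_finite_subcover (fun x' => Points.map π '' V x')
    (fun x' => hopen _ (hVo x')) (by
      intro w _
      obtain ⟨x', rfl⟩ := hsurj w
      exact Set.mem_iUnion.2 ⟨x', x', hVx x', rfl⟩)
  refine ⟨⋃ x' ∈ t, V x', isOpen_biUnion (fun x' _ => hVo x'),
    t.isCompact_biUnion (fun x' _ => hVc x'), ?_⟩
  rw [Set.image_iUnion₂]
  exact Set.eq_univ_of_univ_subset ht

theorem h5_isQuasiCompactMor_descend {X Y Y' X' : Sp S} (hX : IsAlgSpace X) (hY : IsAlgSpace Y)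
    (hY' : IsAlgSpace Y') {f : X ⟶ Y} {g : Y' ⟶ Y} {fst' : X' ⟶ X} {f' : X' ⟶ Y'}
    (sq : IsPullback fst' f' f g) (hg : IsUnivOpenMor g)
    (hgs : Function.Surjective (Points.map g)) (hf' : IsQuasiCompactMor f') :
    IsQuasiCompactMor f := by
  intro W P hW hWqc h fst snd sqP
  have hP : IsAlgSpace P := h5_isAlgSpace_of_isPullback hY.diag hX hW sqP
  -- W' = W ×_Y Y'
  have sqW : IsPullback (pullback.fst h g) (pullback.snd h g) h g := IsPullback.of_hasPullback _ _
  have hW' : IsAlgSpace (pullback h g) := h5_isAlgSpace_of_isPullback hY.diag hW hY' sqW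
  have hπopen : IsOpenMap (Points.map (pullback.fst h g)) := hg hW h _ _ sqW.flip
  have hπsurj : Function.Surjective (Points.map (pullback.fst h g)) :=
    h5_surjective_of_isPullback sqW.flip hgs
  obtain ⟨V, hVo, hVc, hVim⟩ := h5_exists_qc_open_surjecting hW' (pullback.fst h g) hπopen hπsurj
    (h5_compactSpace_of_isQuasiCompactSp hWqc)
  -- W'' the open subspace
  have hW'' := h5_openSp_isAlgSpace hW' hVo
  have hemb := h5_isOpenEmbedding_map_of_openImmersion hW'' _ (h5_openSp_repWith (F := pullback h g) hVo)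
  have hc'' : CompactSpace (Points (h5_openSp (pullback h g) V)) := by
    rw [← isCompact_univ_iff, hemb.isCompact_iff, Set.image_univ, h5_openSp_range]
    exact hVc
  have hqc'' : IsQuasiCompactSp (h5_openSp (pullback h g) V) := (h5_isQuasiCompactSp_iff hW'').2 hc''
  set ι := h5_openSpι (pullback h g) V with hι
  have hsurj'' : Function.Surjective (Points.map (ι ≫ pullback.fst h g)) := by
    intro w
    have : w ∈ Points.map (pullback.fst h g) '' V := by rw [hVim]; trivial
    obtain ⟨w', hw', rfl⟩ := this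
    rw [← h5_openSp_range V] at hw'
    obtain ⟨w'', rfl⟩ := hw'
    exact ⟨w'', Points.map_comp _ _ _⟩
  -- Q = W'' ×_{Y'} X'
  have sqQ : IsPullback (pullback.fst (ι ≫ pullback.snd h g) f') (pullback.snd (ι ≫ pullback.snd h g) f')
      (ι ≫ pullback.snd h g) f' := IsPullback.of_hasPullback _ _
  have hQ : IsQuasiCompactSp (pullback (ι ≫ pullback.snd h g) f') :=
    hf' hW'' hqc'' _ _ _ sqQ.flip
  have sqbig := sqQ.flip.paste_horiz sq
  have hcomm : (ι ≫ pullback.snd h g) ≫ g = (ι ≫ pullback.fst h g) ≫ h := by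
    rw [Category.assoc, Category.assoc, pullback.condition]
  rw [hcomm] at sqbig
  let k : pullback (ι ≫ pullback.snd h g) f' ⟶ P :=
    sqP.lift (pullback.snd (ι ≫ pullback.snd h g) f' ≫ fst')
      (pullback.fst (ι ≫ pullback.snd h g) f' ≫ ι ≫ pullback.fst h g) (by
        rw [sqbig.w]; simp only [Category.assoc])
  have hk1 : k ≫ fst = pullback.snd (ι ≫ pullback.snd h g) f' ≫ fst' := sqP.lift_fst _ _ _
  have hk2 : k ≫ snd = pullback.fst (ι ≫ pullback.snd h g) f' ≫ ι ≫ pullback.fst h g :=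
    sqP.lift_snd _ _ _
  have sqk : IsPullback k (pullback.fst (ι ≫ pullback.snd h g) f') snd (ι ≫ pullback.fst h g) := by
    refine IsPullback.of_right ?_ hk2 sqP
    rw [hk1]
    exact sqbig
  exact h5_isQuasiCompactSp_of_surjective hP k (h5_surjective_of_isPullback sqk.flip hsurj'') hQ

end AlgSp
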