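import Mathlib
import Groth.Prelude.Def_AlgSp4
import Groth.Agent.Lib.helper5.AlgSpQc3

set_option autoImplicit false
universe u
open CategoryTheory CategoryTheory.Limits AlgebraicGeometry Opposite

namespace AlgSp

variable {S : Scheme.{u}}

theorem h5_preimage_image_of_isPullback {F G H P : Sp S} {f : F ⟶ H} {g : G ⟶ H} {fst : P ⟶ F}
    {snd : P ⟶ G} (sq : IsPullback fst snd f g) (A : Set (Points F)) :
    Points.map g ⁻¹' (Points.map f '' A) = Points.map snd '' (Points.map fst ⁻¹' A) := by
  ext y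
  constructor
  · rintro ⟨x, hx, hxy⟩
    obtain ⟨p, hp1, hp2⟩ := h5_points_exists_of_isPullback sq x y hxy
    exact ⟨p, by rw [Set.mem_preimage, hp1]; exact hx, hp2⟩
  · rintro ⟨p, hp, rfl⟩
    refine ⟨Points.map fst p, hp, ?_⟩
    rw [← Points.map_comp, ← Points.map_comp, sq.w]

/-- Openness of a map on points can be tested after a surjective etale base change. -/
theorem h5_isOpenMap_of_quotient_base_change {F G G' P : Sp S} {f : F ⟶ G} {q : G' ⟶ G}
    {fst : P ⟶ F} {snd : P ⟶ G'} (sq : IsPullback fst snd f q)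
    (hq : Topology.IsQuotientMap (Points.map q)) (h : IsOpenMap (Points.map snd)) :
    IsOpenMap (Points.map f) := by
  intro A hA
  rw [← hq.isOpen_preimage, h5_preimage_image_of_isPullback sq]
  exact h _ (hA.preimage (Points.continuous_map fst))

theorem h5_isClosedMap_of_quotient_base_change {F G G' P : Sp S} {f : F ⟶ G} {q : G' ⟶ G}
    {fst : P ⟶ F} {snd : P ⟶ G'} (sq : IsPullback fst snd f q)
    (hq : Topology.IsQuotientMap (Points.map q)) (h : IsClosedMap (Points.map snd)) :
    IsClosedMap (Points.map f) := by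
  intro A hA
  rw [← hq.isClosed_preimage, h5_preimage_image_of_isPullback sq]
  exact h _ (hA.preimage (Points.continuous_map fst))

theorem h5_isQuotientMap_map_of_etale_surjective {F' F : Sp S} (hF' : IsAlgSpace F') (j : F' ⟶ F)
    (hj : RepWith @Etale j) (hs : RepWith @Surjective j) :
    Topology.IsQuotientMap (Points.map j) :=
  (h5_isOpenMap_map_of_repWith_etale hF' j hj).isQuotientMap (Points.continuous_map j)
    ((h5_repWith_surjective_iff j hs.rep).1 hs)

/-- Descent of `UnivSp Q` along a surjective etale chart of the target, for `Q` testable after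
quotient base change. -/
theorem h5_univSp_descend (Q : MorphismProperty (Sp S))
    (hQ : ∀ {F G G' P : Sp S} {f : F ⟶ G} {q : G' ⟶ G} {fst : P ⟶ F} {snd : P ⟶ G'},
      IsPullback fst snd f q → Topology.IsQuotientMap (Points.map q) → Q snd → Q f)
    {X Y : Sp S} (hY : IsAlgSpace Y) (f : X ⟶ Y) {V : Over S}
    (p : (yon S).obj V ⟶ Y) (hp : RepWith @Etale p) (hps : RepWith @Surjective p)
    {P : Sp S} (fst : P ⟶ X) (snd : P ⟶ (yon S).obj V) (sq : IsPullback fst snd f p)
    (h : UnivSp Q snd) : UnivSp Q f := by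
  intro Z Z' hZ g fst' snd' sqZ
  -- Z_V = Z ×_Y h_V
  have sqV : IsPullback (pullback.fst g p) (pullback.snd g p) g p := IsPullback.of_hasPullback _ _
  have hZV : IsAlgSpace (pullback g p) :=
    h5_isAlgSpace_of_isPullback hY.diag hZ (IsAlgSpace.yon_obj V) sqV
  have he : RepWith @Etale (pullback.fst g p) :=
    MorphismProperty.of_isPullback (P := RepWith @Etale) sqV.flip hp
  have hs : RepWith @Surjective (pullback.fst g p) :=
    MorphismProperty.of_isPullback (P := RepWith @Surjective) sqV.flip hps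
  have hquot := h5_isQuotientMap_map_of_etale_surjective hZV _ he hs
  -- Z'_V = Z' ×_Z Z_V
  have sqZ' : IsPullback (pullback.fst snd' (pullback.fst g p)) (pullback.snd snd' (pullback.fst g p))
      snd' (pullback.fst g p) := IsPullback.of_hasPullback _ _
  refine hQ sqZ' hquot ?_
  -- the projection Z'_V ⟶ Z_V is a base change of snd
  have big := sqZ'.paste_horiz sqZ
  rw [pullback.condition] at big
  -- big : IsPullback (_ ≫ fst') (pullback.snd ..) f (pullback.snd g p ≫ p)
  let k : pullback snd' (pullback.fst g p) ⟶ P :=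
    sq.lift (pullback.fst snd' (pullback.fst g p) ≫ fst')
      (pullback.snd snd' (pullback.fst g p) ≫ pullback.snd g p) (by
        rw [big.w, Category.assoc])
  have hk1 : k ≫ fst = pullback.fst snd' (pullback.fst g p) ≫ fst' := sq.lift_fst _ _ _
  have hk2 : k ≫ snd = pullback.snd snd' (pullback.fst g p) ≫ pullback.snd g p := sq.lift_snd _ _ _
  have sqk : IsPullback k (pullback.snd snd' (pullback.fst g p)) snd (pullback.snd g p) := by
    refine IsPullback.of_right ?_ hk2 sq
    rw [hk1]
    exact big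
  exact h hZV (pullback.snd g p) k _ sqk


theorem h5_isOpen_iff_of_open_cover {B : Type*} [TopologicalSpace B] {ι : Type*}
    {Bi : ι → Type*} [∀ i, TopologicalSpace (Bi i)] (j : ∀ i, Bi i → B)
    (hc : ∀ i, Continuous (j i)) (ho : ∀ i, IsOpenMap (j i))
    (hs : ∀ b : B, ∃ i, b ∈ Set.range (j i)) (C : Set B) :
    IsOpen C ↔ ∀ i, IsOpen (j i ⁻¹' C) := by
  constructor
  · intro h i
    exact h.preimage (hc i)
  · intro h
    have : C = ⋃ i, j i '' (j i ⁻¹' C) := by
      ext b
      constructor
      · intro hb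
        obtain ⟨i, bi, rfl⟩ := hs b
        exact Set.mem_iUnion.2 ⟨i, bi, hb, rfl⟩
      · intro hb
        obtain ⟨i, bi, hbi, rfl⟩ := Set.mem_iUnion.1 hb
        exact hbi
    rw [this]
    exact isOpen_iUnion fun i => ho i _ (h i)

theorem h5_isClosed_iff_of_open_cover {B : Type*} [TopologicalSpace B] {ι : Type*}
    {Bi : ι → Type*} [∀ i, TopologicalSpace (Bi i)] (j : ∀ i, Bi i → B)
    (hc : ∀ i, Continuous (j i)) (ho : ∀ i, IsOpenMap (j i))
    (hs : ∀ b : B, ∃ i, b ∈ Set.range (j i)) (C : Set B) :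
    IsClosed C ↔ ∀ i, IsClosed (j i ⁻¹' C) := by
  simp only [← isOpen_compl_iff, ← Set.preimage_compl]
  exact h5_isOpen_iff_of_open_cover j hc ho hs Cᶜ

/-- The affine open subschemes of `T`, as schemes over `S`, are jointly surjective on points. -/
theorem h5_affine_cover_points (T : Over S) (x : Points ((yon S).obj T)) :
    ∃ (W : T.left.affineOpens),
      x ∈ Set.range (Points.map ((yon S).map (h5_openOverι T W.1))) := by
  obtain ⟨t, rfl⟩ := (Points.schemeHomeo T).surjective x
  obtain ⟨V, hV, ht, -⟩ := (T.left.isBasis_affineOpens).exists_subset_of_mem_open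
    (Set.mem_univ t) isOpen_univ
  obtain ⟨V', hV', rfl⟩ := hV
  refine ⟨⟨V', hV'⟩, Points.schemeHomeo (h5_openOver T V') ⟨t, ht⟩, ?_⟩
  rw [Points.map_yon_map_apply]
  rfl

theorem h5_isOpenMap_map_openOverι (T : Over S) (W : T.left.Opens) :
    IsOpenMap (Points.map ((yon S).map (h5_openOverι T W))) :=
  h5_isOpenMap_map_of_repWith_etale (IsAlgSpace.yon_obj _) _
    ((repWith_yon_map_iff _ _).2 (show Etale W.ι from inferInstance))

/-- Testing a topological property of the base change to a scheme on affine opens. -/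
theorem h5_scheme_base_change_of_affine (Q : ∀ {A B : Type (u + 1)} [TopologicalSpace A]
      [TopologicalSpace B], (A → B) → Prop)
    (hQ : ∀ {F G : Sp S} {f : F ⟶ G} {ι : Type u} {Gi : ι → Sp S} (q : ∀ i, Gi i ⟶ G),
      (∀ i, IsOpenMap (Points.map (q i))) → (∀ b, ∃ i, b ∈ Set.range (Points.map (q i))) →
      (∀ i, Q (Points.map (pullback.snd f (q i)))) → Q (Points.map f))
    {X Y : Sp S} (f : X ⟶ Y)
    (h : ∀ (Z : Over S), IsAffine Z.left → ∀ (g : (yon S).obj Z ⟶ Y) (P : Sp S)
        (fst : P ⟶ X) (snd : P ⟶ (yon S).obj Z), IsPullback fst snd f g → Q (Points.map snd))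
    (T : Over S) (g : (yon S).obj T ⟶ Y) (P : Sp S) (fst : P ⟶ X) (snd : P ⟶ (yon S).obj T)
    (sq : IsPullback fst snd f g) : Q (Points.map snd) := by
  refine hQ (F := P) (ι := T.left.affineOpens)
    (fun W => (yon S).map (h5_openOverι T W.1))
    (fun W => h5_isOpenMap_map_openOverι T W.1) (h5_affine_cover_points T) ?_
  intro W
  have sq' := (IsPullback.of_hasPullback snd ((yon S).map (h5_openOverι T W.1))).paste_horiz sq
  exact h (h5_openOver T W.1) (show IsAffine (W.1 : Scheme) from W.2) _ _ _ _ sq'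


theorem h5_isOpenMap_of_cover {F G : Sp S} {f : F ⟶ G} {ι : Type u} {Gi : ι → Sp S}
    (q : ∀ i, Gi i ⟶ G) (ho : ∀ i, IsOpenMap (Points.map (q i)))
    (hs : ∀ b, ∃ i, b ∈ Set.range (Points.map (q i)))
    (h : ∀ i, IsOpenMap (Points.map (pullback.snd f (q i)))) : IsOpenMap (Points.map f) := by
  intro A hA
  rw [h5_isOpen_iff_of_open_cover (fun i => Points.map (q i))
    (fun i => Points.continuous_map (q i)) ho hs]
  intro i
  rw [h5_preimage_image_of_isPullback (IsPullback.of_hasPullback f (q i))]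
  exact h i _ (hA.preimage (Points.continuous_map _))

theorem h5_isClosedMap_of_cover {F G : Sp S} {f : F ⟶ G} {ι : Type u} {Gi : ι → Sp S}
    (q : ∀ i, Gi i ⟶ G) (ho : ∀ i, IsOpenMap (Points.map (q i)))
    (hs : ∀ b, ∃ i, b ∈ Set.range (Points.map (q i)))
    (h : ∀ i, IsClosedMap (Points.map (pullback.snd f (q i)))) : IsClosedMap (Points.map f) := by
  intro A hA
  rw [h5_isClosed_iff_of_open_cover (fun i => Points.map (q i))
    (fun i => Points.continuous_map (q i)) ho hs]
  intro i
  rw [h5_preimage_image_of_isPullback (IsPullback.of_hasPullback f (q i))]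
  exact h i _ (hA.preimage (Points.continuous_map _))

/-- Affine criterion for `UnivSp Q`, for a topological property `Q` of maps that can be tested on
open covers and after quotient base change. -/
theorem h5_univSp_of_affine (Q : ∀ {A B : Type (u + 1)} [TopologicalSpace A]
      [TopologicalSpace B], (A → B) → Prop)
    (hQ1 : ∀ {F G : Sp S} {f : F ⟶ G} {ι : Type u} {Gi : ι → Sp S} (q : ∀ i, Gi i ⟶ G),
      (∀ i, IsOpenMap (Points.map (q i))) → (∀ b, ∃ i, b ∈ Set.range (Points.map (q i))) →
      (∀ i, Q (Points.map (pullback.snd f (q i)))) → Q (Points.map f))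
    (hQ2 : ∀ {F G G' P : Sp S} {f : F ⟶ G} {q : G' ⟶ G} {fst : P ⟶ F} {snd : P ⟶ G'},
      IsPullback fst snd f q → Topology.IsQuotientMap (Points.map q) → Q (Points.map snd) →
      Q (Points.map f))
    {X Y : Sp S} (f : X ⟶ Y)
    (h : ∀ (Z : Over S), IsAffine Z.left → ∀ (g : (yon S).obj Z ⟶ Y) (P : Sp S)
        (fst : P ⟶ X) (snd : P ⟶ (yon S).obj Z), IsPullback fst snd f g → Q (Points.map snd)) :
    UnivSp (fun _ _ f => Q (Points.map f)) f := by
  intro Z Z' hZ g fst' snd' sqZ
  obtain ⟨U, p, he, hs⟩ := hZ.atlas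
  have hquot := h5_isQuotientMap_map_of_etale_surjective (IsAlgSpace.yon_obj U) p he hs
  have sq1 : IsPullback (pullback.fst snd' p) (pullback.snd snd' p) snd' p :=
    IsPullback.of_hasPullback _ _
  refine hQ2 sq1 hquot ?_
  exact h5_scheme_base_change_of_affine Q hQ1 f h U (p ≫ g) _ _ _ (sq1.paste_horiz sqZ)

end AlgSp
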