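import Mathlib
import Groth.Prelude.Def_AlgSp4
import Groth.Agent.Lib.helper5.AlgSpUniv

set_option autoImplicit false
universe u
open CategoryTheory CategoryTheory.Limits AlgebraicGeometry Opposite

namespace AlgSp

variable {S : Scheme.{u}}

/-- General descent of `UnivSp Q` along a base change `p : G' ⟶ Y`. -/
theorem h5_univSp_descend_gen (Q R : MorphismProperty (Sp S))
    (hQ : ∀ {F G G' P : Sp S} {f : F ⟶ G} {q : G' ⟶ G} {fst : P ⟶ F} {snd : P ⟶ G'},
      IsPullback fst snd f q → R q → Q snd → Q f)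
    {X Y G' : Sp S} (hY : IsAlgSpace Y) (hG' : IsAlgSpace G') (f : X ⟶ Y) (p : G' ⟶ Y)
    (hbc : ∀ (Z : Sp S), IsAlgSpace Z → ∀ g : Z ⟶ Y, R (pullback.fst g p))
    {P : Sp S} (fst : P ⟶ X) (snd : P ⟶ G') (sq : IsPullback fst snd f p)
    (h : UnivSp Q snd) : UnivSp Q f := by
  intro Z Z' hZ g fst' snd' sqZ
  have sqV : IsPullback (pullback.fst g p) (pullback.snd g p) g p := IsPullback.of_hasPullback _ _
  have hZV : IsAlgSpace (pullback g p) := h5_isAlgSpace_of_isPullback hY.diag hZ hG' sqV
  have sqZ' : IsPullback (pullback.fst snd' (pullback.fst g p)) (pullback.snd snd' (pullback.fst g p))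
      snd' (pullback.fst g p) := IsPullback.of_hasPullback _ _
  refine hQ sqZ' (hbc Z hZ g) ?_
  have big := sqZ'.paste_horiz sqZ
  rw [pullback.condition] at big
  let k : pullback snd' (pullback.fst g p) ⟶ P :=
    sq.lift (pullback.fst snd' (pullback.fst g p) ≫ fst')
      (pullback.snd snd' (pullback.fst g p) ≫ pullback.snd g p) (by
        rw [big.w, Category.assoc])
  have hk1 : k ≫ fst = pullback.fst snd' (pullback.fst g p) ≫ fst' := sq.lift_fst _ _ _
  have hk2 : k ≫ snd = pullback.snd snd' (pullback.fst g p) ≫ pullback.snd g p := sq.lift_snd _ _ _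
  have sqk : IsPullback k (pullback.snd snd' (pullback.fst g p)) snd (pullback.snd g p) := by
    refine IsPullback.of_right ?_ hk2 sq
    rw [hk1]
    exact big
  exact h hZV (pullback.snd g p) k _ sqk

theorem h5_injective_of_surjective_base_change {F G G' P : Sp S} {f : F ⟶ G} {q : G' ⟶ G}
    {fst : P ⟶ F} {snd : P ⟶ G'} (sq : IsPullback fst snd f q)
    (hq : Function.Surjective (Points.map q)) (h : Function.Injective (Points.map snd)) :
    Function.Injective (Points.map f) := by
  intro x1 x2 hx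
  obtain ⟨y', hy'⟩ := hq (Points.map f x1)
  obtain ⟨p1, hp1, hp1'⟩ := h5_points_exists_of_isPullback sq x1 y' hy'.symm
  obtain ⟨p2, hp2, hp2'⟩ := h5_points_exists_of_isPullback sq x2 y' (hx ▸ hy'.symm)
  have : p1 = p2 := h (hp1'.trans hp2'.symm)
  rw [← hp1, ← hp2, this]

end AlgSp
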