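import Mathlib
import Groth.Prelude.Def_AlgSp4
import Groth.Agent.Lib.helper5.AlgSpUniv2

set_option autoImplicit false
universe u
open CategoryTheory CategoryTheory.Limits AlgebraicGeometry Opposite

namespace AlgSp

variable {S : Scheme.{u}}

/-- Representable "universally `Q`" versus "`Q` on points after every base change". -/
theorem h5_repWith_universally_iff
    (Q0 : ∀ {α β : Type u} [TopologicalSpace α] [TopologicalSpace β], (α → β) → Prop)
    (Q1 : ∀ {α β : Type (u + 1)} [TopologicalSpace α] [TopologicalSpace β], (α → β) → Prop)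
    (htrans : ∀ {A B : Type u} {A' B' : Type (u + 1)} [TopologicalSpace A] [TopologicalSpace B]
      [TopologicalSpace A'] [TopologicalSpace B'] (eA : A ≃ₜ A') (eB : B ≃ₜ B') (φ : A → B)
      (φ' : A' → B'), (∀ a, eB (φ a) = φ' (eA a)) → (Q0 φ ↔ Q1 φ'))
    (hQ2 : ∀ {F G G' P : Sp S} {f : F ⟶ G} {q : G' ⟶ G} {fst : P ⟶ F} {snd : P ⟶ G'},
      IsPullback fst snd f q → Topology.IsQuotientMap (Points.map q) → Q1 (Points.map snd) →
      Q1 (Points.map f))
    {X Y : Sp S} (f : X ⟶ Y) (hf : Representable f) :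
    RepWith (MorphismProperty.universally (topologically Q0)) f ↔
      UnivSp (fun _ _ f => Q1 (Points.map f)) f := by
  have key : ∀ {T V : Over S} (v : V ⟶ T), Q0 v.left ↔ Q1 (Points.map ((yon S).map v)) := by
    intro T V v
    exact htrans (Points.schemeHomeo V) (Points.schemeHomeo T) _ _
      (fun a => (Points.map_yon_map_apply v a).symm)
  constructor
  · intro h Z Z' hZ g fst' snd' sqZ
    obtain ⟨U, p, he, hs⟩ := hZ.atlas
    have hquot := h5_isQuotientMap_map_of_etale_surjective (IsAlgSpace.yon_obj U) p he hs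
    have sqV := h.rep.isPullback (p ≫ g)
    have hv : (MorphismProperty.universally (topologically Q0)) (h.rep.snd (p ≫ g)).left :=
      h.property_snd (p ≫ g)
    have hv0 : Q0 (h.rep.snd (p ≫ g)).left := MorphismProperty.universally_le _ _ hv
    have hv1 := (key _).1 hv0
    let k : (yon S).obj (h.rep.pullback (p ≫ g)) ⟶ Z' :=
      sqZ.lift (h.rep.fst (p ≫ g)) ((yon S).map (h.rep.snd (p ≫ g)) ≫ p) (by
        rw [sqV.w, Category.assoc])
    have hk1 : k ≫ fst' = h.rep.fst (p ≫ g) := sqZ.lift_fst _ _ _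
    have hk2 : k ≫ snd' = (yon S).map (h.rep.snd (p ≫ g)) ≫ p := sqZ.lift_snd _ _ _
    have sqk : IsPullback k ((yon S).map (h.rep.snd (p ≫ g))) snd' p := by
      refine IsPullback.of_right ?_ hk2 sqZ
      rw [hk1]
      exact sqV
    exact hQ2 sqk hquot hv1
  · intro h
    refine ⟨hf, fun T V g fst snd sq => ?_⟩
    intro X' Y' (i₁ : X' ⟶ V.left) (i₂ : Y' ⟶ T.left) f' (sq' : IsPullback f' i₁ i₂ snd.left)
    -- lift the pullback square of schemes to `Over S`
    let T' : Over S := Over.mk (i₂ ≫ T.hom)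
    let V' : Over S := Over.mk (i₁ ≫ V.hom)
    let i₂' : T' ⟶ T := Over.homMk i₂ rfl
    let i₁' : V' ⟶ V := Over.homMk i₁ rfl
    have hw : f' ≫ i₂ ≫ T.hom = i₁ ≫ V.hom := by
      rw [← Category.assoc, sq'.w, Category.assoc, Over.w snd]
    let f'' : V' ⟶ T' := Over.homMk f' hw
    have sqO : IsPullback f'' i₁' i₂' snd := by
      apply IsPullback.of_map (Over.forget S)
      · apply Over.OverMorphism.ext
        exact sq'.w
      · exact sq'
    have sqY := sqO.map (yon S)
    have big := sqY.flip.paste_horiz sq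
    -- big : IsPullback (h_{i₁'} ≫ fst) h_{f''} f (h_{i₂'} ≫ g)
    have hq1 : Q1 (Points.map ((yon S).map f'')) :=
      h (IsAlgSpace.yon_obj T') _ _ _ big
    exact (key f'').2 hq1


section transfer

variable {A B : Type u} {A' B' : Type (u + 1)} [TopologicalSpace A] [TopologicalSpace B]
  [TopologicalSpace A'] [TopologicalSpace B'] (eA : A ≃ₜ A') (eB : B ≃ₜ B') (φ : A → B)
  (φ' : A' → B') (h : ∀ a, eB (φ a) = φ' (eA a))

include h

theorem h5_transfer_eq : φ' = eB ∘ φ ∘ eA.symm := by
  funext a'
  simp [h]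

theorem h5_transfer_eq' : φ = eB.symm ∘ φ' ∘ eA := by
  funext a
  simp [← h]

theorem h5_transfer_isOpenMap : IsOpenMap φ ↔ IsOpenMap φ' := by
  constructor
  · intro hφ
    rw [h5_transfer_eq eA eB φ φ' h]
    exact eB.isOpenMap.comp (hφ.comp eA.symm.isOpenMap)
  · intro hφ
    rw [h5_transfer_eq' eA eB φ φ' h]
    exact eB.symm.isOpenMap.comp (hφ.comp eA.isOpenMap)

theorem h5_transfer_isClosedMap : IsClosedMap φ ↔ IsClosedMap φ' := by
  constructor
  · intro hφ
    rw [h5_transfer_eq eA eB φ φ' h]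
    exact eB.isClosedMap.comp (hφ.comp eA.symm.isClosedMap)
  · intro hφ
    rw [h5_transfer_eq' eA eB φ φ' h]
    exact eB.symm.isClosedMap.comp (hφ.comp eA.isClosedMap)

theorem h5_transfer_isQuotientMap : Topology.IsQuotientMap φ ↔ Topology.IsQuotientMap φ' := by
  constructor
  · intro hφ
    rw [h5_transfer_eq eA eB φ φ' h]
    exact eB.isQuotientMap.comp (hφ.comp eA.symm.isQuotientMap)
  · intro hφ
    rw [h5_transfer_eq' eA eB φ φ' h]
    exact eB.symm.isQuotientMap.comp (hφ.comp eA.isQuotientMap)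

theorem h5_transfer_isHomeomorph : IsHomeomorph φ ↔ IsHomeomorph φ' := by
  constructor
  · intro hφ
    rw [h5_transfer_eq eA eB φ φ' h]
    exact eB.isHomeomorph.comp (hφ.comp eA.symm.isHomeomorph)
  · intro hφ
    rw [h5_transfer_eq' eA eB φ φ' h]
    exact eB.symm.isHomeomorph.comp (hφ.comp eA.isHomeomorph)

end transfer

theorem h5_isQuotientMap_of_quotient_base_change {F G G' P : Sp S} {f : F ⟶ G} {q : G' ⟶ G}
    {fst : P ⟶ F} {snd : P ⟶ G'} (sq : IsPullback fst snd f q)
    (hq : Topology.IsQuotientMap (Points.map q)) (h : Topology.IsQuotientMap (Points.map snd)) :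
    Topology.IsQuotientMap (Points.map f) := by
  have h1 : Topology.IsQuotientMap (Points.map f ∘ Points.map fst) := by
    have : Points.map f ∘ Points.map fst = Points.map q ∘ Points.map snd := by
      funext x
      simp only [Function.comp_apply]
      rw [← Points.map_comp, ← Points.map_comp, sq.w]
    rw [this]
    exact hq.comp h
  exact Topology.IsQuotientMap.of_comp (Points.continuous_map fst) (Points.continuous_map f) h1

theorem h5_isHomeomorph_of_quotient_base_change {F G G' P : Sp S} {f : F ⟶ G} {q : G' ⟶ G}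
    {fst : P ⟶ F} {snd : P ⟶ G'} (sq : IsPullback fst snd f q)
    (hq : Topology.IsQuotientMap (Points.map q)) (h : IsHomeomorph (Points.map snd)) :
    IsHomeomorph (Points.map f) := by
  refine ⟨Points.continuous_map f, h5_isOpenMap_of_quotient_base_change sq hq h.isOpenMap, ?_, ?_⟩
  · exact h5_injective_of_surjective_base_change sq hq.surjective h.injective
  · exact (h5_isQuotientMap_of_quotient_base_change sq hq h.isQuotientMap).surjective

end AlgSp
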