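import Mathlib
import Groth.Agent.Lib.helper5.AlgSpUniv3

set_option autoImplicit false
universe u
open CategoryTheory CategoryTheory.Limits AlgebraicGeometry Opposite Topology

namespace AlgSp

variable {S : Scheme.{u}}

/-- Local closedness descends along an open continuous surjection. -/
theorem h5_isLocallyClosed_of_preimage {A B : Type*} [TopologicalSpace A] [TopologicalSpace B]
    (q : A → B) (hq : Topology.IsQuotientMap q) (ho : IsOpenMap q) (C : Set B)
    (h : IsLocallyClosed (q ⁻¹' C)) : IsLocallyClosed C := by
  rw [isLocallyClosed_iff_isOpen_coborder] at h ⊢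
  rw [← hq.isOpen_preimage, ← coborder_preimage ho hq.continuous]
  exact h

/-- Embeddings on points descend along an open surjective base change. -/
theorem h5_isEmbedding_of_base_change {F G G' P : Sp S} {f : F ⟶ G} {q : G' ⟶ G}
    {fst : P ⟶ F} {snd : P ⟶ G'} (sq : IsPullback fst snd f q)
    (hqs : Function.Surjective (Points.map q)) (hqo : IsOpenMap (Points.map q))
    (h : Topology.IsEmbedding (Points.map snd)) : Topology.IsEmbedding (Points.map f) := by
  have hfs : Function.Surjective (Points.map fst) := h5_surjective_of_isPullback sq.flip hqs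
  refine ⟨⟨?_⟩, h5_injective_of_surjective_base_change sq hqs h.injective⟩
  apply le_antisymm
  · exact (Points.continuous_map f).le_induced
  · intro A hA
    have h1 : IsOpen (Points.map fst ⁻¹' A) := hA.preimage (Points.continuous_map fst)
    obtain ⟨B', hB', hB'A⟩ := h.isInducing.isOpen_iff.1 h1
    rw [isOpen_induced_iff]
    refine ⟨Points.map q '' B', hqo _ hB', ?_⟩
    rw [h5_preimage_image_of_isPullback sq.flip, hB'A, Set.image_preimage_eq _ hfs]

theorem h5_isEmbedding_map_yon_map {T V : Over S} (v : V ⟶ T)
    (h : Topology.IsEmbedding v.left) : Topology.IsEmbedding (Points.map ((yon S).map v)) := by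
  rw [Points.map_yon_map_eq]
  exact (Points.schemeHomeo T).isEmbedding.comp (h.comp (Points.schemeHomeo V).symm.isEmbedding)

theorem h5_range_map_yon_map {T V : Over S} (v : V ⟶ T) :
    Set.range (Points.map ((yon S).map v)) = Points.schemeHomeo T '' Set.range v.left := by
  rw [Points.map_yon_map_eq, Set.range_comp, Set.range_comp,
    Set.range_eq_univ.2 (Points.schemeHomeo V).symm.surjective, Set.image_univ]

theorem h5_isLocallyClosed_range_map_yon_map {T V : Over S} (v : V ⟶ T)
    (h : IsLocallyClosed (Set.range v.left)) :
    IsLocallyClosed (Set.range (Points.map ((yon S).map v))) := by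
  rw [h5_range_map_yon_map, Homeomorph.image_eq_preimage_symm]
  exact h.preimage (Points.schemeHomeo T).symm.continuous

theorem h5_isClosed_range_map_yon_map_iff {T V : Over S} (v : V ⟶ T) :
    IsClosed (Set.range (Points.map ((yon S).map v))) ↔ IsClosed (Set.range v.left) := by
  rw [h5_range_map_yon_map]
  exact (Points.schemeHomeo T).isClosed_image

/-- An immersion of algebraic spaces is an embedding on points with locally closed range. -/
theorem h5_isEmbedding_of_repWith_immersion {Z X : Sp S} (hX : IsAlgSpace X) (i : Z ⟶ X)
    (hi : RepWith @IsImmersion i) :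
    Topology.IsEmbedding (Points.map i) ∧ IsLocallyClosed (Set.range (Points.map i)) := by
  obtain ⟨U, q, he, hs⟩ := hX.atlas
  have hquot := h5_isQuotientMap_map_of_etale_surjective (IsAlgSpace.yon_obj U) q he hs
  have hopen := h5_isOpenMap_map_of_repWith_etale (IsAlgSpace.yon_obj U) q he
  have sq := hi.rep.isPullback q
  have himm : IsImmersion (hi.rep.snd q).left := hi.property_snd q
  constructor
  · exact h5_isEmbedding_of_base_change sq hquot.surjective hopen
      (h5_isEmbedding_map_yon_map _ (hi.rep.snd q).left.isEmbedding)
  · apply h5_isLocallyClosed_of_preimage _ hquot hopen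
    rw [← h5_range_snd_of_isPullback sq]
    exact h5_isLocallyClosed_range_map_yon_map _ (hi.rep.snd q).left.isLocallyClosed_range

end AlgSp
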