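import Mathlib
import Groth.Agent.Lib.helper5.AlgSpImm

set_option autoImplicit false
universe u
open CategoryTheory CategoryTheory.Limits AlgebraicGeometry Opposite Topology

namespace AlgSp

variable {S : Scheme.{u}}

/-- Descent of `RepWith P` along a locally surjective map of sheaves, for `P` stable under base
change and fppf local on the base. -/
theorem h5_repWith_descend {F G H Q : Sp S} (a : F ⟶ G) (ha : Representable a) (b : H ⟶ G)
    [Sheaf.IsLocallySurjective b] (b' : Q ⟶ F) (a' : Q ⟶ H) (sq : IsPullback b' a' a b)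
    (P : MorphismProperty Scheme.{u}) [P.IsStableUnderBaseChange]
    [P.IsLocalAtTarget Scheme.fppfPrecoverage] (h : RepWith P a') : RepWith P a := by
  have hPiso : P.RespectsIso := MorphismProperty.IsStableUnderBaseChange.respectsIso
  refine ⟨ha, fun T E t fst e sq0 => ?_⟩
  show P e.left
  have hcov : Presheaf.imageSieve b.hom (h5_yEquiv t) ∈ J S T :=
    Presheaf.imageSieve_mem (J S) b.hom (h5_yEquiv t)
  rw [GrothendieckTopology.mem_over_iff] at hcov
  have hcov' : Sieve.overEquiv T (Presheaf.imageSieve b.hom (h5_yEquiv t)) ∈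
      Scheme.grothendieckTopology (@Flat ⊓ @LocallyOfFinitePresentation) T.left := hcov
  have : (@Flat ⊓ @LocallyOfFinitePresentation : MorphismProperty Scheme.{u}).IsMultiplicative :=
    { id_mem := fun X => ⟨inferInstance, inferInstance⟩
      comp_mem := fun f g hf hg =>
        ⟨MorphismProperty.comp_mem _ f g hf.1 hg.1, MorphismProperty.comp_mem _ f g hf.2 hg.2⟩ }
  obtain ⟨𝒰, h𝒰⟩ := Scheme.mem_grothendieckTopology_iff.1 hcov'
  let 𝒱 : Precoverage.ZeroHypercover Scheme.fppfPrecoverage T.left := 𝒰
  rw [MorphismProperty.IsLocalAtTarget.iff_of_zeroHypercover (P := P) 𝒱]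
  intro i
  let Ti : Over S := Over.mk (𝒰.f i ≫ T.hom)
  let c : Ti ⟶ T := Over.homMk (𝒰.f i)
  have hc : Presheaf.imageSieve b.hom (h5_yEquiv t) c := by
    have := h𝒰 _ _ (Presieve.ofArrows.mk i)
    rw [Sieve.overEquiv_iff] at this
    exact this
  obtain ⟨x, hx⟩ := hc
  let l : (yon S).obj Ti ⟶ H := h5_yEquiv.symm x
  have hl : l ≫ b = (yon S).map c ≫ t := by
    apply h5_yEquiv.injective
    have e1 := GrothendieckTopology.uliftYonedaEquiv_comp (J S) l b
    have e2 := GrothendieckTopology.uliftYonedaEquiv_naturality (J S) t c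
    have e3 : h5_yEquiv l = x := Equiv.apply_symm_apply _ _
    refine e1.trans ?_
    rw [e3]
    exact hx.trans e2
  have sq1 := IsPullback.map (yon S) (IsPullback.of_hasPullback e c)
  have sq2 := sq1.paste_horiz sq0
  rw [← hl] at sq2
  have sq3 := IsPullback.of_right' sq2 sq
  have key : P (pullback.snd e c).left := h.property l _ _ sq3
  have e1 : (pullback.snd e c).left = (PreservesPullback.iso (Over.forget S) e c).hom ≫
      pullback.snd e.left c.left := (PreservesPullback.iso_hom_snd (Over.forget S) e c).symm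
  rw [e1] at key
  exact (P.cancel_left_of_respectsIso (PreservesPullback.iso (Over.forget S) e c).hom
    (pullback.snd e.left c.left)).1 key

end AlgSp
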