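import Mathlib

set_option autoImplicit false
universe u
open CategoryTheory CategoryTheory.Limits AlgebraicGeometry Opposite MorphismProperty

namespace Groth.Agent.Lib.helper5

/-- Quasi-compactness descends along surjective open base changes. -/
theorem h5_quasiCompact_of_baseChange {X Y X' Y' : Scheme.{u}} (f : X ⟶ Y) (g : Y' ⟶ Y)
    [Surjective g] (hg : IsOpenMap g.base) (g' : X' ⟶ X) (f' : X' ⟶ Y')
    (hsq : IsPullback g' f' f g) [QuasiCompact f'] : QuasiCompact f := by
  rw [quasiCompact_iff_forall_isAffineOpen]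
  intro V hV
  have hcov : (V : Set Y) ⊆ ⋃ W : {W : Y'.Opens // IsAffineOpen W ∧ (W : Set Y') ⊆ g ⁻¹' V},
      g '' (W.1 : Set Y') := by
    intro y hy
    obtain ⟨y', rfl⟩ := g.surjective y
    obtain ⟨_, ⟨W, hW, rfl⟩, hy'W, hWV⟩ := Y'.isBasis_affineOpens.exists_subset_of_mem_open
      (show y' ∈ g ⁻¹' V from hy) (V.2.preimage g.continuous)
    exact Set.mem_iUnion.2 ⟨⟨W, hW, hWV⟩, y', hy'W, rfl⟩
  obtain ⟨t, ht⟩ := hV.isCompact.elim_finite_subcover
    (fun W : {W : Y'.Opens // IsAffineOpen W ∧ (W : Set Y') ⊆ g ⁻¹' V} => g '' (W.1 : Set Y'))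
    (fun W => hg _ W.1.2) hcov
  let K : Set Y' := ⋃ W ∈ t, (W.1 : Set Y')
  have hK : IsCompact K := t.isCompact_biUnion (fun W _ => W.2.1.isCompact)
  have hKo : IsOpen K := isOpen_biUnion (fun W _ => W.1.2)
  have hKc : IsCompact (f' ⁻¹' K) := QuasiCompact.isCompact_preimage (f := f') K hKo hK
  have heq : (f ⁻¹ᵁ V : Set X) = g' '' (f' ⁻¹' K) := by
    ext x
    constructor
    · intro hx
      have hx' : f x ∈ (V : Set Y) := hx
      obtain ⟨W, hWt, w, hwW, hw⟩ : ∃ W ∈ t, ∃ w ∈ (W.1 : Set Y'), g w = f x := by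
        have := ht hx'
        simp only [Set.mem_iUnion, Set.mem_image] at this
        obtain ⟨W, hWt, w, hwW, hw⟩ := this
        exact ⟨W, hWt, w, hwW, hw⟩
      obtain ⟨z, hz1, hz2⟩ := Scheme.Pullback.exists_preimage_pullback x w hw.symm
      refine ⟨hsq.isoPullback.inv z, ?_, ?_⟩
      · show f' (hsq.isoPullback.inv z) ∈ K
        rw [← Scheme.Hom.comp_apply, hsq.isoPullback_inv_snd, hz2]
        exact Set.mem_biUnion hWt hwW
      · rw [← Scheme.Hom.comp_apply, hsq.isoPullback_inv_fst, hz1]
    · rintro ⟨z, hz, rfl⟩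
      show f (g' z) ∈ V
      rw [← Scheme.Hom.comp_apply, hsq.w, Scheme.Hom.comp_apply]
      have hz' : f' z ∈ K := hz
      simp only [K, Set.mem_iUnion] at hz'
      obtain ⟨W, -, hW⟩ := hz'
      exact W.2.2 hW
  rw [heq]
  exact hKc.image g'.continuous

/-- The class of fppf covering maps. -/
abbrev h5Fppf : MorphismProperty Scheme.{u} :=
  @Surjective ⊓ @Flat ⊓ @LocallyOfFinitePresentation

instance h5_descendsAlong_mono : DescendsAlong (monomorphisms Scheme.{u}) h5Fppf.{u} := by
  rw [← diagonal_isomorphisms]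
  infer_instance

instance h5_descendsAlong_quasiCompact :
    DescendsAlong (@QuasiCompact : MorphismProperty Scheme.{u}) h5Fppf.{u} where
  of_isPullback {A X Y Z fst snd f g} h hf hfst := by
    obtain ⟨⟨hs, hfl⟩, hlfp⟩ := hf
    haveI : Surjective f := hs
    haveI : Flat f := hfl
    haveI : LocallyOfFinitePresentation f := hlfp
    haveI : QuasiCompact fst := hfst
    exact h5_quasiCompact_of_baseChange g f f.isOpenMap snd fst h.flip

instance h5_descendsAlong_isClosedImmersion :
    DescendsAlong (@IsClosedImmersion : MorphismProperty Scheme.{u}) h5Fppf.{u} where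
  of_isPullback {A X Y Z fst snd f g} h hf hfst := by
    haveI : IsClosedImmersion fst := hfst
    have hmono : Mono g := of_isPullback_of_descendsAlong (P := monomorphisms Scheme.{u})
      (Q := h5Fppf.{u}) h hf (inferInstanceAs (Mono fst))
    have hUC : UniversallyClosed g := of_isPullback_of_descendsAlong (P := @UniversallyClosed)
      (Q := h5Fppf.{u}) h hf inferInstance
    have hLFT : LocallyOfFiniteType g := of_isPullback_of_descendsAlong
      (P := @LocallyOfFiniteType) (Q := h5Fppf.{u}) h hf inferInstance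
    haveI : IsProper g := { }
    exact (IsClosedImmersion.iff_isProper_and_mono g).2 ⟨inferInstance, hmono⟩

instance h5_descendsAlong_isSeparated :
    DescendsAlong (@IsSeparated : MorphismProperty Scheme.{u}) h5Fppf.{u} := by
  rw [IsSeparated.isSeparated_eq_diagonal_isClosedImmersion]
  infer_instance

instance h5_descendsAlong_quasiSeparated :
    DescendsAlong (@QuasiSeparated : MorphismProperty Scheme.{u}) h5Fppf.{u} := by
  rw [quasiSeparated_eq_diagonal_is_quasiCompact]
  infer_instance

instance h5_descendsAlong_isProper :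
    DescendsAlong (@IsProper : MorphismProperty Scheme.{u}) h5Fppf.{u} := by
  rw [isProper_eq]
  infer_instance

end Groth.Agent.Lib.helper5

namespace Groth.Agent.Lib.helper5

theorem h5_restrict_isPullback {X Y Y' X' : Scheme.{u}} (f : X ⟶ Y) (g : Y' ⟶ Y) (fst : X' ⟶ X)
    (snd : X' ⟶ Y') (h : IsPullback fst snd f g) (W₀ : Y.Opens) (g' : Y' ⟶ W₀.toScheme)
    (hg' : g' ≫ W₀.ι = g) :
    ∃ l : X' ⟶ (f ⁻¹ᵁ W₀).toScheme, IsPullback l snd (f ∣_ W₀) g' := by
  subst hg'
  exact ⟨_, IsPullback.of_right' h (isPullback_morphismRestrict f W₀).flip⟩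

/-- A property which is Zariski local on the target, stable under base change and descends along
fppf covering maps is local on the target for the fppf precoverage. -/
theorem h5_isLocalAtTarget_fppf (P : MorphismProperty Scheme.{u}) [IsZariskiLocalAtTarget P]
    [P.IsStableUnderBaseChange] [P.DescendsAlong h5Fppf.{u}] :
    P.IsLocalAtTarget Scheme.fppfPrecoverage := by
  apply MorphismProperty.IsLocalAtTarget.mk_of_isStableUnderBaseChange
  intro X Y f 𝒰 h
  have hmem : Presieve.ofArrows 𝒰.X 𝒰.f ∈
      Scheme.precoverage (@Flat ⊓ @LocallyOfFinitePresentation) Y := 𝒰.mem₀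
  rw [Scheme.ofArrows_mem_precoverage_iff] at hmem
  obtain ⟨hsurj, hP⟩ := hmem
  have hopen : ∀ i, IsOpen (Set.range (𝒰.f i)) := by
    intro i
    haveI : Flat (𝒰.f i) := (hP i).1
    haveI : LocallyOfFinitePresentation (𝒰.f i) := (hP i).2
    exact (𝒰.f i).isOpenMap.isOpen_range
  let W : 𝒰.I₀ → Y.Opens := fun i => ⟨Set.range (𝒰.f i), hopen i⟩
  apply IsZariskiLocalAtTarget.of_iSup_eq_top W
  · rw [eq_top_iff]
    intro y _
    obtain ⟨i, hy⟩ := hsurj y
    exact TopologicalSpace.Opens.mem_iSup.2 ⟨i, hy⟩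
  · intro i
    haveI hg1 : Flat (𝒰.f i) := (hP i).1
    haveI hg2 : LocallyOfFinitePresentation (𝒰.f i) := (hP i).2
    have hrange : Set.range (𝒰.f i) ⊆ Set.range (W i).ι := by
      rw [Scheme.Opens.range_ι]; exact subset_rfl
    let g' : 𝒰.X i ⟶ (W i).toScheme := IsOpenImmersion.lift (W i).ι (𝒰.f i) hrange
    have hg' : g' ≫ (W i).ι = 𝒰.f i := IsOpenImmersion.lift_fac _ _ _
    have hg'1 : Flat g' := by
      have : Flat (g' ≫ (W i).ι) := by rw [hg']; exact hg1
      exact MorphismProperty.of_postcomp (W := @Flat) (W' := @IsOpenImmersion) g' (W i).ι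
        inferInstance this
    have hg'2 : LocallyOfFinitePresentation g' := by
      have : LocallyOfFinitePresentation (g' ≫ (W i).ι) := by rw [hg']; exact hg2
      exact MorphismProperty.of_postcomp (W := @LocallyOfFinitePresentation)
        (W' := @IsOpenImmersion) g' (W i).ι inferInstance this
    have hg'3 : Surjective g' := by
      constructor
      intro z
      obtain ⟨y', hy'⟩ : z.1 ∈ Set.range (𝒰.f i) := z.2
      refine ⟨y', ?_⟩
      apply (W i).ι.injective
      rw [← Scheme.Hom.comp_apply, hg']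
      exact hy'
    obtain ⟨l, sq⟩ := h5_restrict_isPullback f (𝒰.f i) (pullback.fst f (𝒰.f i))
      (pullback.snd f (𝒰.f i)) (IsPullback.of_hasPullback _ _) (W i) g' hg'
    exact MorphismProperty.of_isPullback_of_descendsAlong (P := P) (Q := h5Fppf.{u}) sq.flip
      ⟨⟨hg'3, hg'1⟩, hg'2⟩ (h i)

instance : MorphismProperty.IsLocalAtTarget (@LocallyOfFiniteType : MorphismProperty Scheme.{u})
    Scheme.fppfPrecoverage := h5_isLocalAtTarget_fppf _
instance : MorphismProperty.IsLocalAtTarget (@LocallyOfFinitePresentation : MorphismProperty Scheme.{u})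
    Scheme.fppfPrecoverage := h5_isLocalAtTarget_fppf _
instance : MorphismProperty.IsLocalAtTarget (@UniversallyClosed : MorphismProperty Scheme.{u})
    Scheme.fppfPrecoverage := h5_isLocalAtTarget_fppf _
instance : MorphismProperty.IsLocalAtTarget (@UniversallyOpen : MorphismProperty Scheme.{u})
    Scheme.fppfPrecoverage := h5_isLocalAtTarget_fppf _
instance : MorphismProperty.IsLocalAtTarget (@UniversallyInjective : MorphismProperty Scheme.{u})
    Scheme.fppfPrecoverage := h5_isLocalAtTarget_fppf _
instance : MorphismProperty.IsLocalAtTarget (@Surjective : MorphismProperty Scheme.{u})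
    Scheme.fppfPrecoverage := h5_isLocalAtTarget_fppf _
instance : MorphismProperty.IsLocalAtTarget (@IsOpenImmersion : MorphismProperty Scheme.{u})
    Scheme.fppfPrecoverage := h5_isLocalAtTarget_fppf _
instance : MorphismProperty.IsLocalAtTarget (@Etale : MorphismProperty Scheme.{u})
    Scheme.fppfPrecoverage := h5_isLocalAtTarget_fppf _
instance : MorphismProperty.IsLocalAtTarget (@Smooth : MorphismProperty Scheme.{u})
    Scheme.fppfPrecoverage := h5_isLocalAtTarget_fppf _
instance : MorphismProperty.IsLocalAtTarget (@QuasiCompact : MorphismProperty Scheme.{u})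
    Scheme.fppfPrecoverage := h5_isLocalAtTarget_fppf _
instance : MorphismProperty.IsLocalAtTarget (@IsClosedImmersion : MorphismProperty Scheme.{u})
    Scheme.fppfPrecoverage := h5_isLocalAtTarget_fppf _
instance : MorphismProperty.IsLocalAtTarget (@IsSeparated : MorphismProperty Scheme.{u})
    Scheme.fppfPrecoverage := h5_isLocalAtTarget_fppf _
instance : MorphismProperty.IsLocalAtTarget (@QuasiSeparated : MorphismProperty Scheme.{u})
    Scheme.fppfPrecoverage := h5_isLocalAtTarget_fppf _
instance : MorphismProperty.IsLocalAtTarget (@IsProper : MorphismProperty Scheme.{u})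
    Scheme.fppfPrecoverage := h5_isLocalAtTarget_fppf _
instance : MorphismProperty.IsLocalAtTarget (isomorphisms Scheme.{u})
    Scheme.fppfPrecoverage := h5_isLocalAtTarget_fppf _

end Groth.Agent.Lib.helper5
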