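import Mathlib
import Groth.Prelude.Def_AlgSp4
import Groth.Agent.Lib.helper5.AlgSpDesc
import Groth.Agent.Lib.helper5.SchDescent

set_option autoImplicit false
universe u
open CategoryTheory CategoryTheory.Limits AlgebraicGeometry Opposite Topology

namespace AlgSp

section Cat

set_option backward.isDefEq.respectTransparency false

variable {C : Type*} [Category C]

/-- Pullback squares from existence and uniqueness of lifts. -/
theorem h5_isPullback_of_exists_unique {P X Y Z : C} {fst : P ⟶ X} {snd : P ⟶ Y} {f : X ⟶ Z}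
    {g : Y ⟶ Z} (w : fst ≫ f = snd ≫ g)
    (hex : ∀ {W : C} (x : W ⟶ X) (y : W ⟶ Y), x ≫ f = y ≫ g →
      ∃ l : W ⟶ P, l ≫ fst = x ∧ l ≫ snd = y)
    (huniq : ∀ {W : C} (p q : W ⟶ P), p ≫ fst = q ≫ fst → p ≫ snd = q ≫ snd → p = q) :
    IsPullback fst snd f g := by
  refine IsPullback.of_isLimit' ⟨w⟩ (PullbackCone.IsLimit.mk _
    (fun s => (hex s.fst s.snd s.condition).choose)
    (fun s => (hex s.fst s.snd s.condition).choose_spec.1)
    (fun s => (hex s.fst s.snd s.condition).choose_spec.2)
    (fun s m h1 h2 => huniq _ _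
      (h1.trans (hex s.fst s.snd s.condition).choose_spec.1.symm)
      (h2.trans (hex s.fst s.snd s.condition).choose_spec.2.symm)))

theorem h5_isPullback_diag [HasBinaryProducts C] {P A B F : C} {p1 : P ⟶ A} {p2 : P ⟶ B}
    {a : A ⟶ F} {b : B ⟶ F} (sq : IsPullback p1 p2 a b) :
    IsPullback (p1 ≫ a) (prod.lift p1 p2) (Limits.diag F) (prod.map a b) := by
  refine h5_isPullback_of_exists_unique ?_ ?_ ?_
  · apply prod.hom_ext
    · simp
    · simp [sq.w]
  · intro W x y h
    have h1 : x = y ≫ prod.fst ≫ a := by
      have := congrArg (· ≫ prod.fst) h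
      simpa using this
    have h2 : x = y ≫ prod.snd ≫ b := by
      have := congrArg (· ≫ prod.snd) h
      simpa using this
    refine ⟨sq.lift (y ≫ prod.fst) (y ≫ prod.snd) ?_, ?_, ?_⟩
    · rw [Category.assoc, Category.assoc, ← h1, ← h2]
    · rw [← Category.assoc, sq.lift_fst, Category.assoc, ← h1]
    · apply prod.hom_ext
      · simp
      · simp
  · intro W p q _ h2
    refine sq.hom_ext ?_ ?_
    · have := congrArg (· ≫ prod.fst) h2
      simpa using this
    · have := congrArg (· ≫ prod.snd) h2
      simpa using this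

theorem h5_isPullback_prod_map_fst [HasBinaryProducts C] {A A' : C} (p : A ⟶ A') (B : C) :
    IsPullback (prod.fst : A ⨯ B ⟶ A) (prod.map p (𝟙 B)) p prod.fst := by
  refine h5_isPullback_of_exists_unique (by simp) ?_ ?_
  · intro W x y h
    refine ⟨prod.lift x (y ≫ prod.snd), by simp, ?_⟩
    apply prod.hom_ext
    · simp [h]
    · simp
  · intro W p' q' h1 h2
    apply prod.hom_ext
    · exact h1
    · have := congrArg (· ≫ prod.snd) h2
      simpa using this

theorem h5_isPullback_prod_map_snd [HasBinaryProducts C] {B B' : C} (A : C) (p : B ⟶ B') :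
    IsPullback (prod.snd : A ⨯ B ⟶ B) (prod.map (𝟙 A) p) p prod.snd := by
  refine h5_isPullback_of_exists_unique (by simp) ?_ ?_
  · intro W x y h
    refine ⟨prod.lift (y ≫ prod.fst) x, by simp, ?_⟩
    apply prod.hom_ext
    · simp
    · simp [h]
  · intro W p' q' h1 h2
    apply prod.hom_ext
    · have := congrArg (· ≫ prod.fst) h2
      simpa using this
    · exact h1

/-- The diagonal of a base change is a base change of the diagonal. -/
theorem h5_isPullback_diagonal_baseChange [HasPullbacks C] {P X Y Z : C} {fst : P ⟶ X}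
    {snd : P ⟶ Z} {f : X ⟶ Y} {g : Z ⟶ Y} (sq : IsPullback fst snd f g) :
    IsPullback fst (pullback.diagonal snd) (pullback.diagonal f)
      (pullback.map snd snd f f fst fst g sq.w.symm sq.w.symm) := by
  refine h5_isPullback_of_exists_unique ?_ ?_ ?_
  · apply pullback.hom_ext <;> simp
  · intro W x y h
    have h1 : x = y ≫ pullback.fst snd snd ≫ fst := by
      have := congrArg (· ≫ pullback.fst f f) h
      simpa using this
    have h2 : x = y ≫ pullback.snd snd snd ≫ fst := by
      have := congrArg (· ≫ pullback.snd f f) h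
      simpa using this
    have h3 : y ≫ pullback.fst snd snd = y ≫ pullback.snd snd snd := by
      refine sq.hom_ext ?_ ?_
      · rw [Category.assoc, Category.assoc, ← h1, ← h2]
      · rw [Category.assoc, Category.assoc, pullback.condition]
    refine ⟨y ≫ pullback.fst snd snd, ?_, ?_⟩
    · rw [Category.assoc, ← h1]
    · apply pullback.hom_ext
      · simp
      · simp [h3]
  · intro W p q _ h2
    have := congrArg (· ≫ pullback.fst snd snd) h2
    simpa using this

/-- The induced map on self fibre products is a base change of the base. -/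
theorem h5_isPullback_map_baseChange [HasPullbacks C] {P X Y Z : C} {fst : P ⟶ X}
    {snd : P ⟶ Z} {f : X ⟶ Y} {g : Z ⟶ Y} (sq : IsPullback fst snd f g) :
    IsPullback (pullback.map snd snd f f fst fst g sq.w.symm sq.w.symm)
      (pullback.fst snd snd ≫ snd) (pullback.fst f f ≫ f) g := by
  refine h5_isPullback_of_exists_unique ?_ ?_ ?_
  · simp [sq.w]
  · intro W x y h
    have hx1 : (x ≫ pullback.fst f f) ≫ f = y ≫ g := by simpa using h
    have hx2 : (x ≫ pullback.snd f f) ≫ f = y ≫ g := by
      rw [Category.assoc, ← pullback.condition]; simpa using h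
    refine ⟨pullback.lift (sq.lift _ _ hx1) (sq.lift _ _ hx2) (by simp), ?_, ?_⟩
    · apply pullback.hom_ext <;> simp
    · simp
  · intro W p q h1 h2
    have a1 : (p ≫ pullback.fst snd snd) ≫ fst = (q ≫ pullback.fst snd snd) ≫ fst := by
      have := congrArg (· ≫ pullback.fst f f) h1
      simpa using this
    have a2 : (p ≫ pullback.snd snd snd) ≫ fst = (q ≫ pullback.snd snd snd) ≫ fst := by
      have := congrArg (· ≫ pullback.snd f f) h1
      simpa using this
    have a3 : (p ≫ pullback.fst snd snd) ≫ snd = (q ≫ pullback.fst snd snd) ≫ snd := by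
      simpa using h2
    have a4 : (p ≫ pullback.snd snd snd) ≫ snd = (q ≫ pullback.snd snd snd) ≫ snd := by
      rw [Category.assoc, Category.assoc, ← pullback.condition, ← Category.assoc, ← Category.assoc]
      exact a3
    apply pullback.hom_ext
    · exact sq.hom_ext a1 a3
    · exact sq.hom_ext a2 a4

/-- The base change of the diagonal of `f` along a probe is a base change of the diagonal of the
base change of `f`. -/
theorem h5_diag_probe [HasPullbacks C] {X Y T P E : C} {f : X ⟶ Y} (t : T ⟶ pullback f f)
    {fst : P ⟶ X} {snd : P ⟶ T} (sq : IsPullback fst snd f (t ≫ pullback.fst f f ≫ f))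
    {e1 : E ⟶ X} {e2 : E ⟶ T} (sqE : IsPullback e1 e2 (pullback.diagonal f) t) :
    ∃ (c : T ⟶ pullback snd snd) (e1' : E ⟶ P), IsPullback e1' e2 (pullback.diagonal snd) c := by
  let a' : T ⟶ P := sq.lift (t ≫ pullback.fst f f) (𝟙 T) (by simp)
  let b' : T ⟶ P := sq.lift (t ≫ pullback.snd f f) (𝟙 T) (by simp [pullback.condition])
  let c : T ⟶ pullback snd snd := pullback.lift a' b' (by simp [a', b'])
  have hc : c ≫ pullback.map snd snd f f fst fst _ sq.w.symm sq.w.symm = t := by
    apply pullback.hom_ext <;> simp [c, a', b']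
  have sqE' : IsPullback e1 e2 (pullback.diagonal f)
      (c ≫ pullback.map snd snd f f fst fst _ sq.w.symm sq.w.symm) := by rw [hc]; exact sqE
  exact ⟨c, _, IsPullback.of_right' sqE' (h5_isPullback_diagonal_baseChange sq)⟩

/-- General form of `h5_diag_probe`: the probe may factor through any base change. -/
theorem h5_diag_probe' [HasPullbacks C] {X Y Z T P E : C} {f : X ⟶ Y} {g : Z ⟶ Y}
    {fst : P ⟶ X} {snd : P ⟶ Z} (sq : IsPullback fst snd f g) (t : T ⟶ pullback f f)
    (l : T ⟶ Z) (hl : l ≫ g = t ≫ pullback.fst f f ≫ f)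
    {e1 : E ⟶ X} {e2 : E ⟶ T} (sqE : IsPullback e1 e2 (pullback.diagonal f) t) :
    ∃ (c : T ⟶ pullback snd snd) (e1' : E ⟶ P), IsPullback e1' e2 (pullback.diagonal snd) c := by
  let a' : T ⟶ P := sq.lift (t ≫ pullback.fst f f) l (by rw [hl, Category.assoc])
  let b' : T ⟶ P := sq.lift (t ≫ pullback.snd f f) l
    (by rw [hl, Category.assoc, pullback.condition])
  let c : T ⟶ pullback snd snd := pullback.lift a' b' (by simp [a', b'])
  have hc : c ≫ pullback.map snd snd f f fst fst _ sq.w.symm sq.w.symm = t := by
    apply pullback.hom_ext <;> simp [c, a', b']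
  have sqE' : IsPullback e1 e2 (pullback.diagonal f)
      (c ≫ pullback.map snd snd f f fst fst _ sq.w.symm sq.w.symm) := by rw [hc]; exact sqE
  exact ⟨c, _, IsPullback.of_right' sqE' (h5_isPullback_diagonal_baseChange sq)⟩

/-- A section is a base change of the diagonal. -/
theorem h5_isPullback_section [HasPullbacks C] {X T : C} (f : X ⟶ T) (s : T ⟶ X)
    (hs : s ≫ f = 𝟙 T) :
    IsPullback s s (pullback.diagonal f) (pullback.lift (𝟙 X) (f ≫ s) (by simp [hs])) := by
  refine h5_isPullback_of_exists_unique ?_ ?_ ?_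
  · apply pullback.hom_ext
    · simp
    · simp [reassoc_of% hs]
  · intro W x y h
    have h1 : x = y := by
      have := congrArg (· ≫ pullback.fst f f) h
      simpa using this
    have h2 : x = y ≫ f ≫ s := by
      have := congrArg (· ≫ pullback.snd f f) h
      simpa using this
    refine ⟨y ≫ f, ?_, ?_⟩
    · rw [Category.assoc, ← h2]
    · rw [Category.assoc, ← h2, h1]
  · intro W p q h1 _
    have := congrArg (· ≫ f) h1
    simpa [hs] using this

theorem h5_diag_eq_diagonal_comp [HasPullbacks C] [HasBinaryProducts C] {X Y : C} (f : X ⟶ Y) :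
    Limits.diag X = pullback.diagonal f ≫ prod.lift (pullback.fst f f) (pullback.snd f f) := by
  apply prod.hom_ext <;> simp

instance h5_mono_prod_lift_pullback [HasPullbacks C] [HasBinaryProducts C] {X Y : C} (f : X ⟶ Y) :
    Mono (prod.lift (pullback.fst f f) (pullback.snd f f)) := by
  constructor
  intro W a b h
  apply pullback.hom_ext
  · have := congrArg (· ≫ prod.fst) h
    simpa using this
  · have := congrArg (· ≫ prod.snd) h
    simpa using this

end Cat

variable {S : Scheme.{u}}

theorem h5_repWith_inf {P Q : MorphismProperty Scheme.{u}} {F G : Sp S} {f : F ⟶ G}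
    (h1 : RepWith P f) (h2 : RepWith Q f) : RepWith (P ⊓ Q) f :=
  ⟨h1.rep, fun _ _ g fst snd sq => ⟨h1.property g fst snd sq, h2.property g fst snd sq⟩⟩

/-- It suffices to test `RepWith P0` on affine test schemes, for `P0` Zariski local at target. -/
theorem h5_repWith_of_affine (P0 : MorphismProperty Scheme.{u}) [IsZariskiLocalAtTarget P0]
    {F G : Sp S} (f : F ⟶ G) (hf : Representable f)
    (h : ∀ ⦃T V : Over S⦄, IsAffine T.left → ∀ (g : (yon S).obj T ⟶ G)
      (fst : (yon S).obj V ⟶ F) (snd : V ⟶ T), IsPullback fst ((yon S).map snd) f g →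
      P0 snd.left) : RepWith P0 f := by
  have hPiso : P0.RespectsIso := inferInstance
  refine ⟨hf, fun T E t fst e sq0 => ?_⟩
  show P0 e.left
  rw [IsZariskiLocalAtTarget.iff_of_openCover (P := P0) T.left.affineCover]
  intro i
  let Ti : Over S := Over.mk (T.left.affineCover.f i ≫ T.hom)
  let c : Ti ⟶ T := Over.homMk (T.left.affineCover.f i)
  have sq1 := IsPullback.map (yon S) (IsPullback.of_hasPullback e c)
  have sq2 := sq1.paste_horiz sq0
  have key : P0 (pullback.snd e c).left :=
    h (T := Ti) (by dsimp [Ti]; infer_instance) _ _ _ sq2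
  have e1 : (pullback.snd e c).left = (PreservesPullback.iso (Over.forget S) e c).hom ≫
      pullback.snd e.left c.left := (PreservesPullback.iso_hom_snd (Over.forget S) e c).symm
  rw [e1] at key
  exact (P0.cancel_left_of_respectsIso (PreservesPullback.iso (Over.forget S) e c).hom
    (pullback.snd e.left c.left)).1 key

theorem h5_repWith_prod_map (P0 : MorphismProperty Scheme.{u}) [P0.IsStableUnderBaseChange]
    [P0.IsMultiplicative] {A A' B B' : Sp S} (p : A ⟶ A') (q : B ⟶ B') (hp : RepWith P0 p)
    (hq : RepWith P0 q) : RepWith P0 (prod.map p q) := by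
  have e : prod.map p q = prod.map p (𝟙 B) ≫ prod.map (𝟙 A') q := by simp
  rw [e]
  exact (RepWith P0).comp_mem _ _
    ((RepWith P0).of_isPullback (h5_isPullback_prod_map_fst p B) hp)
    ((RepWith P0).of_isPullback (h5_isPullback_prod_map_snd A' q) hq)

theorem h5_isLocallySurjective_of_etale_surjective {A X : Sp S} (p : A ⟶ X)
    (h1 : RepWith @Etale p) (h2 : RepWith @Surjective p) : Sheaf.IsLocallySurjective p :=
  h5_isLocallySurjective_of_repWith p (h5_repWith_mono h5_etale_le_flat h1)
    (h5_repWith_mono h5_etale_le_lfp h1) h2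

theorem h5_isLocallySurjective_prod_map {A X : Sp S} (p : A ⟶ X)
    (h1 : RepWith @Etale p) (h2 : RepWith @Surjective p) :
    Sheaf.IsLocallySurjective (prod.map p p) :=
  h5_isLocallySurjective_of_etale_surjective _ (h5_repWith_prod_map _ p p h1 h1)
    (h5_repWith_prod_map _ p p h2 h2)

theorem h5_repWith_mono_of_mono {F G : Sp S} (f : F ⟶ G) [Mono f] (hf : Representable f) :
    RepWith (MorphismProperty.monomorphisms Scheme.{u}) f := by
  refine ⟨hf, fun T E g fst e sq => ?_⟩
  show Mono e.left
  have h1 : Mono ((yon S).map e) :=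
    (MorphismProperty.monomorphisms (Sp S)).of_isPullback sq
      (MorphismProperty.monomorphisms.infer_property f)
  have h2 : Mono e := (yon S).mono_of_mono_map h1
  infer_instance

theorem h5_diag_pack {F G : Sp S} {f : F ⟶ G} (h1 : RepWith @LocallyOfFiniteType f)
    (h2 : RepWith (MorphismProperty.monomorphisms Scheme.{u}) f) :
    RepWith @IsSeparated f ∧ RepWith @LocallyQuasiFinite f ∧
      RepWith (@LocallyQuasiFinite ⊓ @LocallyOfFiniteType) f := by
  have h3 : RepWith @IsSeparated f := h5_repWith_mono (fun _ _ g (hg : Mono g) => by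
    show IsSeparated g
    infer_instance) h2
  have h4 : RepWith @LocallyQuasiFinite f :=
    h5_repWith_mono (P := @LocallyOfFiniteType ⊓ MorphismProperty.monomorphisms Scheme.{u})
      (fun _ _ g hg => by
        haveI : LocallyOfFiniteType g := hg.1
        haveI : Mono g := hg.2
        show LocallyQuasiFinite g
        infer_instance) (h5_repWith_inf h1 h2)
  exact ⟨h3, h4, h5_repWith_inf h4 h1⟩

/-- The diagonal of an algebraic space is locally of finite type. -/
theorem h5_repWith_lft_diag {X : Sp S} (hX : IsAlgSpace X) :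
    RepWith @LocallyOfFiniteType (Limits.diag X) := by
  obtain ⟨U, p, hpe, hps⟩ := hX.atlas
  haveI := h5_isLocallySurjective_prod_map p hpe hps
  have sq0 := hpe.rep.isPullback p
  have sq1 := h5_isPullback_diag sq0
  refine h5_repWith_descend (Limits.diag X) hX.diag (prod.map p p) _ _ sq1
    @LocallyOfFiniteType ?_
  obtain ⟨w1, hw1⟩ := (yon S).map_surjective (hpe.rep.fst p)
  have e : prod.lift (hpe.rep.fst p) ((yon S).map (hpe.rep.snd p)) =
      (yon S).map (prod.lift w1 (hpe.rep.snd p)) ≫ prodComparison (yon S) U U := by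
    rw [← hw1]
    apply prod.hom_ext
    · rw [prod.lift_fst, Category.assoc, prodComparison_fst, ← (yon S).map_comp, prod.lift_fst]
    · rw [prod.lift_snd, Category.assoc, prodComparison_snd, ← (yon S).map_comp, prod.lift_snd]
  rw [e]
  refine MorphismProperty.RespectsIso.postcomp _ _ _ ?_
  rw [repWith_yon_map_iff]
  have h1 : LocallyOfFiniteType ((prod.lift w1 (hpe.rep.snd p)).left ≫
      (prod.snd : U ⨯ U ⟶ U).left) := by
    rw [← Over.comp_left, prod.lift_snd]
    have : Etale (hpe.rep.snd p).left := hpe.property_snd p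
    infer_instance
  exact locallyOfFiniteType_of_comp _ (prod.snd : U ⨯ U ⟶ U).left

theorem h5_diag_props {X : Sp S} (hX : IsAlgSpace X) :
    RepWith @LocallyOfFiniteType (Limits.diag X) ∧
      RepWith (MorphismProperty.monomorphisms Scheme.{u}) (Limits.diag X) :=
  ⟨h5_repWith_lft_diag hX, h5_repWith_mono_of_mono _ hX.diag⟩

/-- The relative diagonal of a morphism from an algebraic space. -/
theorem h5_diagonal_props {X Y : Sp S} (hX : IsAlgSpace X) (f : X ⟶ Y) :
    Representable (pullback.diagonal f) ∧ RepWith @LocallyOfFiniteType (pullback.diagonal f) ∧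
      RepWith (MorphismProperty.monomorphisms Scheme.{u}) (pullback.diagonal f) := by
  have e := h5_diag_eq_diagonal_comp f
  refine ⟨h5_representable_of_comp_mono _ (prod.lift (pullback.fst f f) (pullback.snd f f)) ?_,
    h5_repWith_of_comp_mono _ _ (prod.lift (pullback.fst f f) (pullback.snd f f)) ?_,
    h5_repWith_of_comp_mono _ _ (prod.lift (pullback.fst f f) (pullback.snd f f)) ?_⟩
  · rw [← e]; exact hX.diag
  · rw [← e]; exact (h5_diag_props hX).1
  · rw [← e]; exact (h5_diag_props hX).2

end AlgSp
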