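import Mathlib
import Groth.Prelude.Def_AlgSp4
import Groth.Agent.Lib.helper5.AlgSpDiag

set_option autoImplicit false
universe u
open CategoryTheory CategoryTheory.Limits AlgebraicGeometry Opposite Topology

namespace AlgSp

variable {S : Scheme.{u}}

theorem h5_lqf_of_unramified {X Y : Scheme.{u}} (f : X ⟶ Y) [LocallyOfFiniteType f]
    [FormallyUnramified f] : LocallyQuasiFinite f := by
  rw [HasRingHomProperty.iff_appLE (P := @LocallyQuasiFinite)]
  intro U V e
  have h1 := HasRingHomProperty.appLE (P := @LocallyOfFiniteType) f ‹_› U V e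
  have h2 := HasRingHomProperty.appLE (P := @FormallyUnramified) f ‹_› U V e
  letI := (f.appLE U V e).hom.toAlgebra
  haveI : Algebra.FiniteType Γ(Y, U.1) Γ(X, V.1) := h1
  haveI : Algebra.FormallyUnramified Γ(Y, U.1) Γ(X, V.1) := h2
  show Algebra.QuasiFinite Γ(Y, U.1) Γ(X, V.1)
  infer_instance

/-- Cancellation: if `b` and `h_h ≫ b` are representable etale then `h` is etale. -/
theorem h5_etale_of_comm {G : Sp S} {U V : Over S} (h : U ⟶ V) (b : (yon S).obj V ⟶ G)
    (hb : RepWith @Etale b) (hc : RepWith @Etale ((yon S).map h ≫ b)) : Etale h.left := by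
  have sq := hb.rep.isPullback ((yon S).map h ≫ b)
  have hw1 : Etale (hb.rep.snd ((yon S).map h ≫ b)).left := hb.property_snd _
  obtain ⟨w2, hw2⟩ := (yon S).map_surjective (hb.rep.fst ((yon S).map h ≫ b))
  rw [← hw2] at sq
  have hw2e : Etale w2.left := hc.property b _ w2 sq.flip
  obtain ⟨σ, hσ⟩ := (yon S).map_surjective (sq.lift ((yon S).map h) (𝟙 _) (by simp))
  have h1 : σ ≫ w2 = h := by
    apply (yon S).map_injective
    rw [(yon S).map_comp, hσ, sq.lift_fst]
  have h2 : σ ≫ hb.rep.snd ((yon S).map h ≫ b) = 𝟙 U := by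
    apply (yon S).map_injective
    rw [(yon S).map_comp, hσ, sq.lift_snd, (yon S).map_id]
  have h3 : Etale σ.left := by
    have e : σ.left ≫ (hb.rep.snd ((yon S).map h ≫ b)).left = 𝟙 U.left := by
      rw [← Over.comp_left, h2]; rfl
    have : Etale (σ.left ≫ (hb.rep.snd ((yon S).map h ≫ b)).left) := by rw [e]; infer_instance
    exact Etale.of_comp σ.left (hb.rep.snd ((yon S).map h ≫ b)).left
  rw [← h1, Over.comp_left]
  infer_instance

theorem h5_locP_etale_of_isEtaleMor {F G : Sp S} (f : F ⟶ G) (hf : IsEtaleMor f) :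
    LocP @Etale f := by
  intro U V a b h ha hb comm
  exact h5_etale_of_comm h b hb (by rw [← comm]; exact hf a ha)

/-- For a representable morphism, `P` in the representable sense implies `P` etale locally on
source and target, for `P` stable under composition and containing etale morphisms. -/
theorem h5_locP_of_repWith (P : MorphismProperty Scheme.{u}) [P.IsStableUnderComposition]
    (hEP : (@Etale : MorphismProperty Scheme.{u}) ≤ P) {F G : Sp S} (f : F ⟶ G)
    (hf : RepWith P f) : LocP P f := by
  intro U V a b h ha hb comm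
  have sq := hf.rep.isPullback b
  have hw : P (hf.rep.snd b).left := hf.property_snd b
  have hfst : RepWith @Etale (hf.rep.fst b) :=
    MorphismProperty.of_isPullback (P := RepWith @Etale) sq.flip hb
  obtain ⟨u, hu⟩ := (yon S).map_surjective (sq.lift a ((yon S).map h) comm)
  have h1 : (yon S).map u ≫ hf.rep.fst b = a := by rw [hu, sq.lift_fst]
  have h2 : u ≫ hf.rep.snd b = h := by
    apply (yon S).map_injective
    rw [(yon S).map_comp, hu, sq.lift_snd]
  have hue : Etale u.left := h5_etale_of_comm u (hf.rep.fst b) hfst (by rw [h1]; exact ha)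
  rw [← h2, Over.comp_left]
  exact P.comp_mem _ _ (hEP _ _ _ hue) hw

end AlgSp
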