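import Mathlib
import Groth.Prelude.Def_AlgSp4
import Groth.Agent.Lib.helper5.AlgSpEt
import Groth.Agent.Lib.helper5.SchDescent

set_option autoImplicit false
universe u
open CategoryTheory CategoryTheory.Limits AlgebraicGeometry Opposite Topology
open Groth.Agent.Lib.helper5

namespace AlgSp

variable {S : Scheme.{u}}

theorem h5_lfp_of_comp {X Y Z : Scheme.{u}} (f : X ⟶ Y) (g : Y ⟶ Z)
    [LocallyOfFinitePresentation (f ≫ g)] [LocallyOfFiniteType g] :
    LocallyOfFinitePresentation f := by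
  have hQ : RingHom.StableUnderCompositionWithLocalizationAwaySource
      @RingHom.FinitePresentation := by
    intro R S T _ _ _ _ r _ φ hφ
    exact RingHom.finitePresentation_stableUnderComposition _ _
      (RingHom.finitePresentation_holdsForLocalizationAway S r) hφ
  rw [HasRingHomProperty.iff_exists_appLE (P := @LocallyOfFinitePresentation) hQ]
  intro x
  obtain ⟨W, hW, hxW, -⟩ := TopologicalSpace.Opens.isBasis_iff_nbhd.mp Z.isBasis_affineOpens
    (TopologicalSpace.Opens.mem_top (g (f x)))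
  obtain ⟨U, hU, hxU, eU⟩ := TopologicalSpace.Opens.isBasis_iff_nbhd.mp Y.isBasis_affineOpens
    (show f x ∈ g ⁻¹ᵁ W from hxW)
  obtain ⟨V, hV, hxV, eV⟩ := TopologicalSpace.Opens.isBasis_iff_nbhd.mp X.isBasis_affineOpens
    (show x ∈ f ⁻¹ᵁ U from hxU)
  refine ⟨⟨U, hU⟩, ⟨V, hV⟩, hxV, eV, ?_⟩
  have h2 := HasRingHomProperty.appLE (P := @LocallyOfFiniteType) g ‹_› ⟨W, hW⟩ ⟨U, hU⟩ eU
  have h1 := HasRingHomProperty.appLE (P := @LocallyOfFinitePresentation) (f ≫ g) ‹_›
    ⟨W, hW⟩ ⟨V, hV⟩ (eV.trans ((TopologicalSpace.Opens.map f.base).map (homOfLE eU)).le)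
  rw [← Scheme.Hom.appLE_comp_appLE f g W U V eU eV] at h1
  exact RingHom.FinitePresentation.of_comp_finiteType _ h1 h2

/-- Cancellation for properties etale local on source and target. -/
theorem h5_locP_cancel (P Q : MorphismProperty Scheme.{u}) [P.DescendsAlong h5Fppf.{u}]
    (hcancel : ∀ {A B C : Scheme.{u}} (p : A ⟶ B) (q : B ⟶ C), P (p ≫ q) → Q q → P p)
    {X Y Z : Sp S} (hZ : IsAlgSpace Z) (f : X ⟶ Y) (g : Y ⟶ Z) (h : LocP P (f ≫ g))
    (hg : LocP Q g) : LocP P f := by
  intro U V a b h0 ha hb comm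
  obtain ⟨W, c, hc, hcs⟩ := hZ.atlas
  obtain ⟨V', fst1, s1, sq1, he1, hs1⟩ : ∃ (V' : Over S)
      (fst1 : (yon S).obj V' ⟶ (yon S).obj W) (s1 : V' ⟶ V),
      IsPullback fst1 ((yon S).map s1) c (b ≫ g) ∧ Etale s1.left ∧ Surjective s1.left :=
    ⟨_, _, _, hc.rep.isPullback (b ≫ g), hc.property_snd _, hcs.property_snd _⟩
  obtain ⟨k, rfl⟩ := (yon S).map_surjective fst1
  have sqO := IsPullback.of_hasPullback h0 s1
  have sqS := IsPullback.map (Over.forget S) sqO
  have sqS' : IsPullback (pullback.fst h0 s1).left (pullback.snd h0 s1).left h0.left s1.left := sqS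
  have he2 : Etale (pullback.fst h0 s1).left :=
    MorphismProperty.of_isPullback (P := @Etale) sqS'.flip he1
  have ha' : RepWith @Etale ((yon S).map (pullback.fst h0 s1) ≫ a) :=
    (RepWith @Etale).comp_mem _ _ ((repWith_yon_map_iff _ _).2 he2) ha
  have hb' : RepWith @Etale ((yon S).map s1 ≫ b) :=
    (RepWith @Etale).comp_mem _ _ ((repWith_yon_map_iff _ _).2 he1) hb
  have hQk : Q k.left := hg ((yon S).map s1 ≫ b) c k hb' hc (by
    rw [Category.assoc]; exact sq1.w.symm)
  have hPc : P ((pullback.snd h0 s1) ≫ k).left := by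
    refine h ((yon S).map (pullback.fst h0 s1) ≫ a) c _ ha' hc ?_
    rw [Category.assoc, ← Category.assoc a, comm, Category.assoc, ← (yon S).map_comp_assoc,
      sqO.w, (yon S).map_comp_assoc, ← sq1.w, (yon S).map_comp, Category.assoc]
  rw [Over.comp_left] at hPc
  have hP1 : P (pullback.snd h0 s1).left := hcancel _ _ hPc hQk
  exact MorphismProperty.of_isPullback_of_descendsAlong (P := P) (Q := h5Fppf.{u}) sqS'.flip
    ⟨⟨hs1, inferInstance⟩, inferInstance⟩ hP1

end AlgSp
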