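import Mathlib
import Groth.Prelude.Def_AlgSp4
import Groth.Agent.Lib.helper5.AlgSpPts

set_option autoImplicit false
universe u
open CategoryTheory CategoryTheory.Limits AlgebraicGeometry Opposite

namespace AlgSp

variable {S : Scheme.{u}}

/-- The fibre product of a scheme and an etale chart over a sheaf, as a square of schemes. -/
theorem h5_chart_square {Y : Sp S} {U V : Over S} (g : (yon S).obj U ⟶ Y)
    (q : (yon S).obj V ⟶ Y) (hq : RepWith @Etale q) :
    ∃ (W : Over S) (a : W ⟶ U) (b : W ⟶ V), Etale a.left ∧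
      IsPullback ((yon S).map b) ((yon S).map a) q g ∧
      (RepWith @Surjective q → Surjective a.left) := by
  have sq := hq.rep.isPullback g
  obtain ⟨b, hb⟩ := (yon S).map_surjective (hq.rep.fst g)
  rw [← hb] at sq
  exact ⟨_, hq.rep.snd g, b, hq.property_snd g, sq, fun hqs => hqs.property_snd g⟩

/-- In the chart square of `f` with a surjective source chart, the projection to the target
chart is surjective when `f` is surjective on points. -/
theorem h5_chart_square_surjective {X Y : Sp S} (f : X ⟶ Y) (hf : IsSurjectiveMor f)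
    {U V W : Over S} (p : (yon S).obj U ⟶ X) (hps : RepWith @Surjective p)
    (q : (yon S).obj V ⟶ Y) {a : W ⟶ U} {b : W ⟶ V}
    (sq : IsPullback ((yon S).map b) ((yon S).map a) q (p ≫ f)) : Surjective b.left := by
  refine ⟨fun v => ?_⟩
  obtain ⟨x, hx⟩ := hf (Points.ofPt q v)
  obtain ⟨u, rfl⟩ := h5_surjective_ofPt p hps x
  have e : Points.ofPt q v = Points.ofPt (p ≫ f) u := by
    rw [← hx, Points.map_ofPt]
  obtain ⟨w, hw1, -⟩ := h5_exists_of_ofPt_eq sq v u e
  exact ⟨w, hw1⟩

end AlgSp
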