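import Mathlib

set_option autoImplicit false
universe u
open CategoryTheory CategoryTheory.Limits AlgebraicGeometry Opposite MorphismProperty TopologicalSpace

namespace Groth.Agent.Lib.helper5

/-- Local affine charts of an open surjective morphism: around every point of the target there is
an arbitrarily small affine open which is the image of an affine open of the source. -/
theorem h5_exists_affine_surjOn {X' X : Scheme.{u}} (f : X' ⟶ X) (hf : IsOpenMap f)
    [Surjective f] (x : X) (Ω : X.Opens) (hx : x ∈ Ω) :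
    ∃ (U : X.Opens) (U' : X'.Opens), IsAffineOpen U ∧ IsAffineOpen U' ∧ x ∈ U ∧ U ≤ Ω ∧
      U' ≤ f ⁻¹ᵁ U ∧ Set.SurjOn f (U' : Set X') (U : Set X) := by
  obtain ⟨x', rfl⟩ := f.surjective x
  obtain ⟨_, ⟨W, hW, rfl⟩, hxW, hWΩ⟩ :=
    X.isBasis_affineOpens.exists_subset_of_mem_open hx Ω.2
  obtain ⟨_, ⟨W', hW', rfl⟩, hxW', hW'W⟩ := X'.isBasis_affineOpens.exists_subset_of_mem_open
    (show x' ∈ (f ⁻¹ᵁ W : Set X') from hxW) (f ⁻¹ᵁ W).2
  let I : X.Opens := ⟨f '' (W' : Set X'), hf _ W'.2⟩
  have hxI : f x' ∈ I := ⟨x', hxW', rfl⟩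
  obtain ⟨s, hs1, hs2⟩ := hW.exists_basicOpen_le (V := I) ⟨f x', hxI⟩ hxW
  refine ⟨X.basicOpen s, X'.basicOpen (f.appLE W W' hW'W s), hW.basicOpen s, hW'.basicOpen _,
    hs2, (X.basicOpen_le s).trans hWΩ, ?_, ?_⟩
  · rw [Scheme.basicOpen_appLE]; exact inf_le_right
  · intro y hy
    obtain ⟨y', hy'W, rfl⟩ := hs1 hy
    refine ⟨y', ?_, rfl⟩
    rw [Scheme.basicOpen_appLE]
    exact ⟨hy'W, hy⟩

theorem h5_surjective_resLE {X' X : Scheme.{u}} (f : X' ⟶ X) (U : X.Opens) (U' : X'.Opens)
    (e : U' ≤ f ⁻¹ᵁ U) (h : Set.SurjOn f (U' : Set X') (U : Set X)) :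
    Surjective (f.resLE U U' e) := by
  constructor
  intro y
  obtain ⟨y', hy', hy⟩ := h y.2
  refine ⟨⟨y', hy'⟩, ?_⟩
  apply U.ι.injective
  rw [← Scheme.Hom.comp_apply, Scheme.Hom.resLE_comp_ι, Scheme.Hom.comp_apply]
  exact hy

/-- Noetherianity of rings descends along faithfully flat ring maps. -/
theorem h5_isNoetherianRing_of_faithfullyFlat {A B : Type u} [CommRing A] [CommRing B]
    (φ : A →+* B) (hφ : φ.FaithfullyFlat) [IsNoetherianRing B] : IsNoetherianRing A := by
  algebraize [φ]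
  have : IsNoetherian B (TensorProduct A B A) :=
    isNoetherian_of_linearEquiv (TensorProduct.AlgebraTensorModule.rid A B B).symm
  exact Submodule.IsNoetherian.of_isNoetherian_tensorProduct_of_faithfullyFlat (A := B) this

/-- Being locally Noetherian descends along flat, surjective, open morphisms. -/
theorem h5_isLocallyNoetherian_of_flat_surjective {X' X : Scheme.{u}} (f : X' ⟶ X) [Flat f]
    [Surjective f] (hf : IsOpenMap f) [IsLocallyNoetherian X'] : IsLocallyNoetherian X := by
  choose U U' hU hU' hxU _ hle hsurj using fun x : X => h5_exists_affine_surjOn f hf x ⊤ trivial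
  apply isLocallyNoetherian_of_affine_cover (S := fun x => (⟨U x, hU x⟩ : X.affineOpens))
  · rw [eq_top_iff]
    intro x _
    exact Opens.mem_iSup.2 ⟨x, hxU x⟩
  · intro x
    haveI : IsAffine (U x).toScheme := hU x
    haveI : IsAffine (U' x).toScheme := hU' x
    haveI : Surjective (f.resLE (U x) (U' x) (hle x)) := h5_surjective_resLE f _ _ _ (hsurj x)
    have hff : (f.resLE (U x) (U' x) (hle x)).appTop.hom.FaithfullyFlat :=
      (Flat.flat_and_surjective_iff_faithfullyFlat_of_isAffine _).1 ⟨inferInstance, inferInstance⟩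
    haveI hN' : IsNoetherianRing Γ((U' x).toScheme, ⊤) :=
      IsLocallyNoetherian.component_noetherian ⟨⊤, isAffineOpen_top _⟩
    have hN : IsNoetherianRing Γ((U x).toScheme, ⊤) :=
      h5_isNoetherianRing_of_faithfullyFlat _ hff
    exact isNoetherianRing_of_ringEquiv _ (U x).topIso.commRingCatIsoToRingEquiv

end Groth.Agent.Lib.helper5
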