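import Mathlib

set_option autoImplicit false
universe u
open CategoryTheory CategoryTheory.Limits AlgebraicGeometry Opposite MorphismProperty TopologicalSpace
open scoped TensorProduct

namespace Groth.Agent.Lib.helper5

theorem h5_isPullback_of_comp_mono' {C : Type*} [Category C] {W A B T Z : C} {fst : W ⟶ A}
    {snd : W ⟶ T} {g : A ⟶ B} {b : T ⟶ B} (m : B ⟶ Z) [Mono m]
    (sq : IsPullback fst snd (g ≫ m) (b ≫ m)) : IsPullback fst snd g b := by
  have w : fst ≫ g = snd ≫ b := by
    rw [← cancel_mono m, Category.assoc, Category.assoc, sq.w]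
  refine IsPullback.of_isLimit' ⟨w⟩ (PullbackCone.IsLimit.mk _
    (fun s => sq.lift s.fst s.snd (by rw [← Category.assoc, s.condition, Category.assoc]))
    (fun s => sq.lift_fst _ _ _) (fun s => sq.lift_snd _ _ _)
    (fun s l h1 h2 => sq.hom_ext (by rw [h1, sq.lift_fst]) (by rw [h2, sq.lift_snd])))

/-- Geometric core: a pullback square with smooth right leg, whose top arrow is locally of finite type
and whose left leg is surjective, has bottom arrow locally of finite type. -/
theorem h5_lft_of_isPullback_smooth {X' X X₀' X₀ : Scheme.{u}} (p : X' ⟶ X) (k : X' ⟶ X₀')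
    (i : X ⟶ X₀) (q : X₀' ⟶ X₀) (sq : IsPullback p k i q) [Surjective p] [Smooth q]
    [LocallyOfFiniteType k] : LocallyOfFiniteType i := by
  let U₀ : X₀.Opens := ⟨Set.range q, q.isOpenMap.isOpen_range⟩
  have hrq : Set.range q ⊆ Set.range U₀.ι := by
    rw [Scheme.Opens.range_ι]; exact subset_rfl
  have hri : Set.range i ⊆ Set.range U₀.ι := by
    rw [Scheme.Opens.range_ι]
    rintro _ ⟨x, rfl⟩
    obtain ⟨x', rfl⟩ := p.surjective x
    refine ⟨k x', ?_⟩
    rw [← Scheme.Hom.comp_apply, ← sq.w, Scheme.Hom.comp_apply]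
  let s : X₀' ⟶ U₀.toScheme := IsOpenImmersion.lift U₀.ι q hrq
  have hs : s ≫ U₀.ι = q := IsOpenImmersion.lift_fac _ _ _
  let j : X ⟶ U₀.toScheme := IsOpenImmersion.lift U₀.ι i hri
  have hj : j ≫ U₀.ι = i := IsOpenImmersion.lift_fac _ _ _
  have hs1 : Flat s := by
    have : Flat (s ≫ U₀.ι) := by rw [hs]; infer_instance
    exact MorphismProperty.of_postcomp (W := @Flat) (W' := @IsOpenImmersion) s U₀.ι
      inferInstance this
  have hs2 : LocallyOfFinitePresentation s := by
    have : LocallyOfFinitePresentation (s ≫ U₀.ι) := by rw [hs]; infer_instance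
    exact MorphismProperty.of_postcomp (W := @LocallyOfFinitePresentation)
      (W' := @IsOpenImmersion) s U₀.ι inferInstance this
  have hs3 : Surjective s := by
    constructor
    intro z
    obtain ⟨y', hy'⟩ : z.1 ∈ Set.range q := z.2
    refine ⟨y', ?_⟩
    apply U₀.ι.injective
    rw [← Scheme.Hom.comp_apply, hs]
    exact hy'
  have sq' : IsPullback p k j s :=
    h5_isPullback_of_comp_mono' U₀.ι (by rw [hj, hs]; exact sq)
  have hjl : LocallyOfFiniteType j :=
    MorphismProperty.of_isPullback_of_descendsAlong (P := @LocallyOfFiniteType)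
      (Q := (@Surjective ⊓ @Flat ⊓ @LocallyOfFinitePresentation : MorphismProperty Scheme.{u}))
      sq'.flip ⟨⟨hs3, hs1⟩, hs2⟩ inferInstance
  rw [← hj]
  infer_instance

/-- The same for locally of finite presentation. -/
theorem h5_lfp_of_isPullback_smooth {X' X X₀' X₀ : Scheme.{u}} (p : X' ⟶ X) (k : X' ⟶ X₀')
    (i : X ⟶ X₀) (q : X₀' ⟶ X₀) (sq : IsPullback p k i q) [Surjective p] [Smooth q]
    [LocallyOfFinitePresentation k] : LocallyOfFinitePresentation i := by
  let U₀ : X₀.Opens := ⟨Set.range q, q.isOpenMap.isOpen_range⟩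
  have hrq : Set.range q ⊆ Set.range U₀.ι := by
    rw [Scheme.Opens.range_ι]; exact subset_rfl
  have hri : Set.range i ⊆ Set.range U₀.ι := by
    rw [Scheme.Opens.range_ι]
    rintro _ ⟨x, rfl⟩
    obtain ⟨x', rfl⟩ := p.surjective x
    refine ⟨k x', ?_⟩
    rw [← Scheme.Hom.comp_apply, ← sq.w, Scheme.Hom.comp_apply]
  let s : X₀' ⟶ U₀.toScheme := IsOpenImmersion.lift U₀.ι q hrq
  have hs : s ≫ U₀.ι = q := IsOpenImmersion.lift_fac _ _ _
  let j : X ⟶ U₀.toScheme := IsOpenImmersion.lift U₀.ι i hri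
  have hj : j ≫ U₀.ι = i := IsOpenImmersion.lift_fac _ _ _
  have hs1 : Flat s := by
    have : Flat (s ≫ U₀.ι) := by rw [hs]; infer_instance
    exact MorphismProperty.of_postcomp (W := @Flat) (W' := @IsOpenImmersion) s U₀.ι
      inferInstance this
  have hs2 : LocallyOfFinitePresentation s := by
    have : LocallyOfFinitePresentation (s ≫ U₀.ι) := by rw [hs]; infer_instance
    exact MorphismProperty.of_postcomp (W := @LocallyOfFinitePresentation)
      (W' := @IsOpenImmersion) s U₀.ι inferInstance this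
  have hs3 : Surjective s := by
    constructor
    intro z
    obtain ⟨y', hy'⟩ : z.1 ∈ Set.range q := z.2
    refine ⟨y', ?_⟩
    apply U₀.ι.injective
    rw [← Scheme.Hom.comp_apply, hs]
    exact hy'
  have sq' : IsPullback p k j s :=
    h5_isPullback_of_comp_mono' U₀.ι (by rw [hj, hs]; exact sq)
  have hjl : LocallyOfFinitePresentation j :=
    MorphismProperty.of_isPullback_of_descendsAlong (P := @LocallyOfFinitePresentation)
      (Q := (@Surjective ⊓ @Flat ⊓ @LocallyOfFinitePresentation : MorphismProperty Scheme.{u}))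
      sq'.flip ⟨⟨hs3, hs1⟩, hs2⟩ inferInstance
  rw [← hj]
  infer_instance

/-- Ring-level descent of finite type along a smooth faithfully flat ring map (on the source). -/
theorem h5_finiteType_of_smooth_faithfullyFlat {R A B : Type u} [CommRing R] [CommRing A]
    [CommRing B] [Algebra R A] [Algebra A B] [Algebra R B] [IsScalarTower R A B]
    [Algebra.Smooth A B] [Module.FaithfullyFlat A B] [Algebra.FiniteType R B] :
    Algebra.FiniteType R A := by
  obtain ⟨A₀, B₀, _, _, hfg, hsm, ⟨e⟩⟩ := Algebra.Smooth.exists_subalgebra_fg R A B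
  let φ₀ : CommRingCat.of R ⟶ CommRingCat.of A₀ := CommRingCat.ofHom (algebraMap R A₀)
  let i : CommRingCat.of A₀ ⟶ CommRingCat.of A := CommRingCat.ofHom (algebraMap A₀ A)
  let ψ : CommRingCat.of A ⟶ CommRingCat.of B := CommRingCat.ofHom (algebraMap A B)
  let ψ₀ : CommRingCat.of A₀ ⟶ CommRingCat.of B₀ := CommRingCat.ofHom (algebraMap A₀ B₀)
  let k : CommRingCat.of B₀ ⟶ CommRingCat.of B := CommRingCat.ofHom
    (e.symm.toRingEquiv.toRingHom.comp
      (Algebra.TensorProduct.includeRight (R := A₀) (A := A) (B := B₀)).toRingHom)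
  have hpo : IsPushout i ψ₀ ψ k :=
    (CommRingCat.isPushout_tensorProduct A₀ A B₀).of_iso (Iso.refl _) (Iso.refl _) (Iso.refl _)
      e.symm.toRingEquiv.toCommRingCatIso (by simp [i]) (by simp [ψ₀])
      (by
        ext a
        have h0 : a ⊗ₜ[A₀] (1 : B₀) = algebraMap A (A ⊗[A₀] B₀) a := by
          rw [Algebra.TensorProduct.algebraMap_apply]; rfl
        simp only [ψ, Iso.refl_hom, Category.id_comp]
        change e.symm (a ⊗ₜ[A₀] (1 : B₀)) = algebraMap A B a
        rw [h0, e.symm.commutes]) (by ext b; simp [k])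
  have sq := isPullback_SpecMap_of_isPushout i ψ₀ ψ k hpo
  have hRB : (φ₀ ≫ i) ≫ ψ = CommRingCat.ofHom (algebraMap R B) := by
    ext r
    simp [φ₀, i, ψ, ← IsScalarTower.algebraMap_apply]
  haveI : Surjective (Spec.map ψ) := by
    have : ψ.hom.FaithfullyFlat := RingHom.faithfullyFlat_algebraMap_iff.2 inferInstance
    exact ((flat_and_surjective_SpecMap_iff ψ).2 this).2
  haveI : Smooth (Spec.map ψ₀) := by
    rw [HasRingHomProperty.Spec_iff (P := @Smooth)]
    exact RingHom.smooth_algebraMap.2 hsm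
  haveI : LocallyOfFiniteType (Spec.map φ₀) := by
    rw [HasRingHomProperty.Spec_iff (P := @LocallyOfFiniteType)]
    exact (RingHom.finiteType_algebraMap).2 ((Subalgebra.fg_iff_finiteType A₀).1 hfg)
  haveI : LocallyOfFiniteType (Spec.map k) := by
    have h1 : LocallyOfFiniteType (Spec.map k ≫ Spec.map ψ₀ ≫ Spec.map φ₀) := by
      rw [← Spec.map_comp, ← Spec.map_comp, Category.assoc, ← hpo.w, ← Category.assoc, hRB,
        HasRingHomProperty.Spec_iff (P := @LocallyOfFiniteType)]
      exact (RingHom.finiteType_algebraMap).2 inferInstance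
    exact locallyOfFiniteType_of_comp _ (Spec.map ψ₀ ≫ Spec.map φ₀)
  haveI : LocallyOfFiniteType (Spec.map i) := h5_lft_of_isPullback_smooth _ _ _ _ sq
  have h2 : LocallyOfFiniteType (Spec.map i ≫ Spec.map φ₀) := inferInstance
  rw [← Spec.map_comp, HasRingHomProperty.Spec_iff (P := @LocallyOfFiniteType)] at h2
  have h3 : (φ₀ ≫ i).hom = algebraMap R A := by
    ext r
    simp [φ₀, i, ← IsScalarTower.algebraMap_apply]
  rw [h3] at h2
  exact (RingHom.finiteType_algebraMap).1 h2

end Groth.Agent.Lib.helper5
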