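import Mathlib
import Groth.Agent.Lib.helper5.SchSrcDesc
import Groth.Agent.Lib.helper5.SchSrcDesc2

set_option autoImplicit false
universe u
open CategoryTheory CategoryTheory.Limits AlgebraicGeometry Opposite MorphismProperty TopologicalSpace

namespace Groth.Agent.Lib.helper5

theorem h5_ringHom_finiteType_of_comp {R A B : Type u} [CommRing R] [CommRing A] [CommRing B]
    (φ : R →+* A) (ψ : A →+* B) (h1 : (ψ.comp φ).FiniteType) (h2 : ψ.Smooth)
    (h3 : ψ.FaithfullyFlat) : φ.FiniteType := by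
  algebraize [φ, ψ, ψ.comp φ]
  exact h5_finiteType_of_smooth_faithfullyFlat (R := R) (A := A) (B := B)

/-- Being locally of finite type descends along smooth surjective maps on the source. -/
theorem h5_lft_of_smooth_surjective_comp {X' X Y : Scheme.{u}} (f : X' ⟶ X) (g : X ⟶ Y)
    [Smooth f] [Surjective f] [LocallyOfFiniteType (f ≫ g)] : LocallyOfFiniteType g := by
  haveI : MorphismProperty.RespectsRight (@LocallyOfFiniteType : MorphismProperty Scheme.{u})
      @IsOpenImmersion :=
    ⟨fun i hi f hf => by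
      haveI : IsOpenImmersion i := hi
      haveI : LocallyOfFiniteType f := hf
      infer_instance⟩
  rw [IsZariskiLocalAtSource.iff_exists_resLE (P := @LocallyOfFiniteType)]
  intro x
  obtain ⟨V, hV, hxV⟩ : ∃ V : Y.Opens, IsAffineOpen V ∧ g x ∈ V := by
    obtain ⟨_, ⟨V, hV, rfl⟩, hxV, -⟩ :=
      Y.isBasis_affineOpens.exists_subset_of_mem_open (Set.mem_univ (g x)) isOpen_univ
    exact ⟨V, hV, hxV⟩
  obtain ⟨U, U', hU, hU', hxU, hUV, hle, hsurj⟩ :=
    h5_exists_affine_surjOn f f.isOpenMap x (g ⁻¹ᵁ V) hxV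
  refine ⟨V, U, hxU, hUV, ?_⟩
  haveI : IsAffine V.toScheme := hV
  haveI : IsAffine U.toScheme := hU
  haveI : IsAffine U'.toScheme := hU'
  have e' : U' ≤ (f ≫ g) ⁻¹ᵁ V := hle.trans (f.preimage_mono hUV)
  have hpq : f.resLE U U' hle ≫ g.resLE V U hUV = (f ≫ g).resLE V U' e' :=
    Scheme.Hom.resLE_comp_resLE ..
  haveI : LocallyOfFiniteType (f.resLE U U' hle ≫ g.resLE V U hUV) := by
    rw [hpq]; infer_instance
  haveI : Surjective (f.resLE U U' hle) := h5_surjective_resLE f _ _ _ hsurj
  rw [HasRingHomProperty.iff_of_isAffine (P := @LocallyOfFiniteType)]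
  have h1 : (f.resLE U U' hle ≫ g.resLE V U hUV).appTop.hom.FiniteType :=
    (HasRingHomProperty.iff_of_isAffine (P := @LocallyOfFiniteType)).1 inferInstance
  have h2 : (f.resLE U U' hle).appTop.hom.Smooth :=
    (HasRingHomProperty.iff_of_isAffine (P := @Smooth)).1 inferInstance
  have h3 : (f.resLE U U' hle).appTop.hom.FaithfullyFlat :=
    (Flat.flat_and_surjective_iff_faithfullyFlat_of_isAffine _).1 ⟨inferInstance, inferInstance⟩
  rw [Scheme.Hom.comp_appTop, CommRingCat.hom_comp] at h1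
  exact h5_ringHom_finiteType_of_comp _ _ h1 h2 h3

end Groth.Agent.Lib.helper5
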