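import Mathlib
import Groth.Agent.Lib.helper5.SchSrcDesc3

set_option autoImplicit false
universe u
open CategoryTheory CategoryTheory.Limits AlgebraicGeometry Opposite MorphismProperty TopologicalSpace

namespace Groth.Agent.Lib.helper5

/-- A Zariski-local-at-source property which is stable under precomposition with etale maps and
descends along single etale surjective maps on the source is local at the source for the etale
precoverage. -/
theorem h5_isLocalAtSource_etale_of (P : MorphismProperty Scheme.{u}) [IsZariskiLocalAtSource P]
    (hcomp : ∀ {X' X Y : Scheme.{u}} (e : X' ⟶ X) (f : X ⟶ Y), Etale e → P f → P (e ≫ f))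
    (hdesc : ∀ {X' X Y : Scheme.{u}} (e : X' ⟶ X) (f : X ⟶ Y), Etale e → Surjective e →
      P (e ≫ f) → P f) :
    P.IsLocalAtSource Scheme.etalePrecoverage where
  comp {X Y f R} hR U g hg hf := hcomp g f (hR.2 hg) hf
  of_forall_comp {X Y f R} hR H := by
    have hex : ∀ x : X, ∃ (U : Scheme.{u}) (g : U ⟶ X), R g ∧ x ∈ Set.range g :=
      fun x => Scheme.JointlySurjective.exists_eq (K := Scheme.precoverage @Etale) R hR x
    choose U g hg hx using hex
    have het : ∀ x, Etale (g x) := fun x => hR.2 (hg x)
    let O : X → X.Opens := fun x => ⟨Set.range (g x), (g x).isOpenMap.isOpen_range⟩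
    apply IsZariskiLocalAtSource.of_iSup_eq_top O
    · rw [eq_top_iff]
      intro x _
      exact Opens.mem_iSup.2 ⟨x, hx x⟩
    · intro x
      have hr : Set.range (g x) ⊆ Set.range (O x).ι := by
        rw [Scheme.Opens.range_ι]; exact subset_rfl
      let g' : U x ⟶ (O x).toScheme := IsOpenImmersion.lift (O x).ι (g x) hr
      have hg' : g' ≫ (O x).ι = g x := IsOpenImmersion.lift_fac _ _ _
      have h1 : Etale g' := by
        have : Etale (g' ≫ (O x).ι) := by rw [hg']; exact het x
        exact MorphismProperty.of_postcomp (W := @Etale) (W' := @Etale) g' (O x).ι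
          inferInstance this
      have h2 : Surjective g' := by
        constructor
        intro z
        obtain ⟨y', hy'⟩ : z.1 ∈ Set.range (g x) := z.2
        refine ⟨y', ?_⟩
        apply (O x).ι.injective
        rw [← Scheme.Hom.comp_apply, hg']
        exact hy'
      refine hdesc g' ((O x).ι ≫ f) h1 h2 ?_
      rw [← Category.assoc, hg']
      exact H (hg x)

instance h5_lft_isLocalAtSource_etale :
    MorphismProperty.IsLocalAtSource (@LocallyOfFiniteType : MorphismProperty Scheme.{u})
      Scheme.etalePrecoverage :=
  h5_isLocalAtSource_etale_of _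
    (fun e f he hf => by
      haveI := he; haveI : LocallyOfFiniteType f := hf; infer_instance)
    (fun e f he hs hef => by
      haveI := he; haveI := hs; haveI : LocallyOfFiniteType (e ≫ f) := hef
      exact h5_lft_of_smooth_surjective_comp e f)

end Groth.Agent.Lib.helper5
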