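import Mathlib
import Groth.Agent.Lib.helper5.SchSrcDesc4

set_option autoImplicit false
universe u
open CategoryTheory CategoryTheory.Limits AlgebraicGeometry Opposite MorphismProperty TopologicalSpace
open scoped TensorProduct

namespace Groth.Agent.Lib.helper5

/-- Discreteness of a subset descends along open surjections. -/
theorem h5_isDiscrete_of_preimage {A B : Type*} [TopologicalSpace A] [TopologicalSpace B]
    (e : A → B) (he : IsOpenMap e) (hs : Function.Surjective e) (s : Set B)
    (h : IsDiscrete (e ⁻¹' s)) : IsDiscrete s := by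
  rw [isDiscrete_iff_forall_mem_exists_isOpen] at h ⊢
  intro y hy
  obtain ⟨a, rfl⟩ := hs y
  obtain ⟨u, hu, hus⟩ := h a hy
  refine ⟨e '' u, he u hu, ?_⟩
  ext z
  constructor
  · rintro ⟨⟨a', ha'u, rfl⟩, hz⟩
    have : a' ∈ u ∩ e ⁻¹' s := ⟨ha'u, hz⟩
    rw [hus] at this
    rw [Set.mem_singleton_iff.1 this]
    rfl
  · rintro rfl
    have : a ∈ u ∩ e ⁻¹' s := by rw [hus]; rfl
    exact ⟨⟨a, this.1, rfl⟩, hy⟩

theorem h5_lqf_of_etale {X Y : Scheme.{u}} (f : X ⟶ Y) [Etale f] : LocallyQuasiFinite f := by
  rw [HasRingHomProperty.iff_appLE (P := @LocallyQuasiFinite)]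
  intro U V e
  have h1 := HasRingHomProperty.appLE (P := @LocallyOfFiniteType) f inferInstance U V e
  have h2 := HasRingHomProperty.appLE (P := @FormallyUnramified) f inferInstance U V e
  letI := (f.appLE U V e).hom.toAlgebra
  haveI : Algebra.FiniteType Γ(Y, U.1) Γ(X, V.1) := h1
  haveI : Algebra.FormallyUnramified Γ(Y, U.1) Γ(X, V.1) := h2
  show Algebra.QuasiFinite Γ(Y, U.1) Γ(X, V.1)
  infer_instance

instance h5_lqf_lft_isLocalAtSource_etale :
    MorphismProperty.IsLocalAtSource
      ((@LocallyQuasiFinite ⊓ @LocallyOfFiniteType : MorphismProperty Scheme.{u}))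
      Scheme.etalePrecoverage :=
  h5_isLocalAtSource_etale_of _
    (fun e f he hf => by
      haveI := he
      haveI : LocallyQuasiFinite f := hf.1
      haveI : LocallyOfFiniteType f := hf.2
      haveI : LocallyQuasiFinite e := h5_lqf_of_etale e
      exact ⟨inferInstance, inferInstance⟩)
    (fun e f he hs hef => by
      haveI := he; haveI := hs
      haveI : LocallyQuasiFinite (e ≫ f) := hef.1
      haveI : LocallyOfFiniteType (e ≫ f) := hef.2
      haveI hlft : LocallyOfFiniteType f := h5_lft_of_smooth_surjective_comp e f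
      refine ⟨?_, hlft⟩
      rw [locallyQuasiFinite_iff_isDiscrete_preimage_singleton]
      intro y
      apply h5_isDiscrete_of_preimage e e.isOpenMap e.surjective
      have := (e ≫ f).isDiscrete_preimage_singleton y
      rwa [Scheme.Hom.comp_base, TopCat.coe_comp, Set.preimage_comp] at this)

/-- Formal unramifiedness descends along formally etale faithfully flat maps on the source. -/
theorem h5_formallyUnramified_of_faithfullyFlat {R A B : Type u} [CommRing R] [CommRing A]
    [CommRing B] [Algebra R A] [Algebra A B] [Algebra R B] [IsScalarTower R A B]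
    [Algebra.FormallyEtale A B] [Module.FaithfullyFlat A B] [Algebra.FormallyUnramified R B] :
    Algebra.FormallyUnramified R A := by
  constructor
  have : Subsingleton (B ⊗[A] Ω[A⁄R]) :=
    (KaehlerDifferential.tensorKaehlerEquivOfFormallyEtale R A B).subsingleton
  exact Module.FaithfullyFlat.lTensor_reflects_triviality A B _

theorem h5_ringHom_formallyUnramified_of_comp {R A B : Type u} [CommRing R] [CommRing A]
    [CommRing B] (φ : R →+* A) (ψ : A →+* B) (h1 : (ψ.comp φ).FormallyUnramified)
    (h2 : ψ.Etale) (h3 : ψ.FaithfullyFlat) : φ.FormallyUnramified := by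
  algebraize [φ, ψ, ψ.comp φ]
  exact h5_formallyUnramified_of_faithfullyFlat (R := R) (A := A) (B := B)

/-- Formal unramifiedness descends along etale surjective maps on the source. -/
theorem h5_formallyUnramified_of_etale_surjective_comp {X' X Y : Scheme.{u}} (f : X' ⟶ X)
    (g : X ⟶ Y) [Etale f] [Surjective f] [FormallyUnramified (f ≫ g)] :
    FormallyUnramified g := by
  haveI : MorphismProperty.RespectsRight (@FormallyUnramified : MorphismProperty Scheme.{u})
      @IsOpenImmersion :=
    ⟨fun i hi f hf => by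
      haveI : IsOpenImmersion i := hi
      exact MorphismProperty.comp_mem _ _ _ hf (inferInstance : FormallyUnramified i)⟩
  rw [IsZariskiLocalAtSource.iff_exists_resLE (P := @FormallyUnramified)]
  intro x
  obtain ⟨V, hV, hxV⟩ : ∃ V : Y.Opens, IsAffineOpen V ∧ g x ∈ V := by
    obtain ⟨_, ⟨V, hV, rfl⟩, hxV, -⟩ :=
      Y.isBasis_affineOpens.exists_subset_of_mem_open (Set.mem_univ (g x)) isOpen_univ
    exact ⟨V, hV, hxV⟩
  obtain ⟨U, U', hU, hU', hxU, hUV, hle, hsurj⟩ :=
    h5_exists_affine_surjOn f f.isOpenMap x (g ⁻¹ᵁ V) hxV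
  refine ⟨V, U, hxU, hUV, ?_⟩
  haveI : IsAffine V.toScheme := hV
  haveI : IsAffine U.toScheme := hU
  haveI : IsAffine U'.toScheme := hU'
  have e' : U' ≤ (f ≫ g) ⁻¹ᵁ V := hle.trans (f.preimage_mono hUV)
  have hpq : f.resLE U U' hle ≫ g.resLE V U hUV = (f ≫ g).resLE V U' e' :=
    Scheme.Hom.resLE_comp_resLE ..
  haveI : FormallyUnramified (f.resLE U U' hle ≫ g.resLE V U hUV) := by
    rw [hpq]
    exact IsZariskiLocalAtSource.resLE (P := @FormallyUnramified) e' inferInstance
  haveI : Surjective (f.resLE U U' hle) := h5_surjective_resLE f _ _ _ hsurj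
  rw [HasRingHomProperty.iff_of_isAffine (P := @FormallyUnramified)]
  have h1 : (f.resLE U U' hle ≫ g.resLE V U hUV).appTop.hom.FormallyUnramified :=
    (HasRingHomProperty.iff_of_isAffine (P := @FormallyUnramified)).1 inferInstance
  have h2 : (f.resLE U U' hle).appTop.hom.Etale :=
    (HasRingHomProperty.iff_of_isAffine (P := @Etale)).1 inferInstance
  have h3 : (f.resLE U U' hle).appTop.hom.FaithfullyFlat :=
    (Flat.flat_and_surjective_iff_faithfullyFlat_of_isAffine _).1 ⟨inferInstance, inferInstance⟩
  rw [Scheme.Hom.comp_appTop, CommRingCat.hom_comp] at h1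
  exact h5_ringHom_formallyUnramified_of_comp _ _ h1 h2 h3

instance h5_formallyUnramified_isLocalAtSource_etale :
    MorphismProperty.IsLocalAtSource (@FormallyUnramified : MorphismProperty Scheme.{u})
      Scheme.etalePrecoverage :=
  h5_isLocalAtSource_etale_of _
    (fun e f he hf => by
      haveI := he
      exact MorphismProperty.comp_mem _ _ _ (inferInstance : FormallyUnramified e) hf)
    (fun e f he hs hef => by
      haveI := he; haveI := hs; haveI : FormallyUnramified (e ≫ f) := hef
      exact h5_formallyUnramified_of_etale_surjective_comp e f)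

end Groth.Agent.Lib.helper5
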