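import Mathlib
import Groth.Prelude.Def_AlgSpDec
import Groth.Agent.Lib.helper5.AlgSpPts
import Groth.Agent.Lib.helper5.AlgSpQc
import Groth.Agent.Lib.helper5.SchSrcDesc5

set_option autoImplicit false
universe u
open CategoryTheory CategoryTheory.Limits AlgebraicGeometry Opposite

namespace AlgSp

variable {S : Scheme.{u}}

/-- For a decent sheaf, the fibre of `|V| → |F|` over any point is finite, for `V` affine and
`h_V ⟶ F` representable etale. -/
theorem h5_finite_fibre_of_isDecent {F : Sp S} (hX : IsDecent F) (x : Points F) {V : Over S}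
    (b : (yon S).obj V ⟶ F) (hV : IsAffine V.left) (hb : RepWith @Etale b) :
    (Points.ofPt b ⁻¹' {x}).Finite := by
  obtain ⟨p, hp, hm, hq⟩ := hX x
  haveI : Subsingleton ↥p.pt.left := inferInstanceAs (Subsingleton (PrimeSpectrum p.K))
  haveI : Nonempty ↥p.pt.left := inferInstanceAs (Nonempty (PrimeSpectrum p.K))
  have sq := hq.rep.isPullback b
  obtain ⟨fst0, hfst0⟩ := (yon S).map_surjective (hq.rep.fst b)
  rw [← hfst0] at sq
  haveI hqc : QuasiCompact (hq.rep.snd b).left := hq.property_snd b
  haveI het : Etale fst0.left := by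
    have := MorphismProperty.of_isPullback (P := RepWith @Etale) sq.flip hb
    exact (repWith_yon_map_iff _ _).1 this
  haveI : IsAffine V.left := hV
  haveI : CompactSpace ↥(hq.rep.pullback b).left :=
    QuasiCompact.compactSpace_of_compactSpace (hq.rep.snd b).left
  haveI : Finite ↥(hq.rep.pullback b).left := by
    haveI := Groth.Agent.Lib.helper5.h5_lqf_of_etale fst0.left
    have y : ↥p.pt.left := Classical.arbitrary _
    have hd := fst0.left.isDiscrete_preimage_singleton y
    have hu : (fst0.left ⁻¹' {y} : Set ↥(hq.rep.pullback b).left) = Set.univ := by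
      ext z
      simp only [Set.mem_preimage, Set.mem_singleton_iff, Set.mem_univ, iff_true]
      exact Subsingleton.elim _ _
    rw [hu] at hd
    haveI : DiscreteTopology ↥(hq.rep.pullback b).left := isDiscrete_univ_iff.mp hd
    exact finite_of_compact_of_discrete
  have hpre : Points.ofPt b ⁻¹' {x} = Set.range (hq.rep.snd b).left := by
    have h1 := h5_preimage_image_ofPt sq Set.univ
    rw [Set.preimage_univ, Set.image_univ, Set.image_univ] at h1
    rw [← h1]
    congr 1
    ext x'
    simp only [Set.mem_singleton_iff, Set.mem_range]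
    constructor
    · rintro rfl
      exact ⟨(Classical.arbitrary ↥p.pt.left), (Points.ofPt_toHom p _).trans hp⟩
    · rintro ⟨s, rfl⟩
      exact (Points.ofPt_toHom p s).trans hp
  rw [hpre]
  exact Set.finite_range _

/-- Lifting of generalizations with control, for decent algebraic spaces. -/
theorem h5_exists_specializes_of_mem_closure {F : Sp S} (hX : IsDecent F) {U : Over S}
    (a : (yon S).obj U ⟶ F) (hae : RepWith @Etale a) (y' : Points F) (v : ↥U.left)
    (hv : Points.ofPt a v ∈ closure {y'}) : ∃ v', Points.ofPt a v' = y' ∧ v' ⤳ v := by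
  obtain ⟨W, hW, hvW, -⟩ := (U.left.isBasis_affineOpens).exists_subset_of_mem_open
    (Set.mem_univ v) isOpen_univ
  obtain ⟨W0, hW0, rfl⟩ := hW
  let W' : U.left.Opens := W0
  have hW' : IsAffineOpen W' := hW0
  let U' := h5_openOver U W'
  let a' := (yon S).map (h5_openOverι U W') ≫ a
  have ha' : RepWith @Etale a' :=
    h5_repWith_comp_yon_map _ _ (show Etale W'.ι from inferInstance) a hae
  have haff : IsAffine U'.left := hW'
  have hfinb := h5_finite_fibre_of_isDecent hX y' a' haff ha'
  have hofPt : ∀ w : ↥U'.left, Points.ofPt a' w = Points.ofPt a (W'.ι w) :=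
    fun w => h5_ofPt_openOver W' a w
  have hfin : (Points.ofPt a ⁻¹' {y'} ∩ (W' : Set ↥U.left)).Finite := by
    refine (hfinb.image W'.ι).subset ?_
    rintro z ⟨hz1, hz2⟩
    refine ⟨⟨z, hz2⟩, ?_, rfl⟩
    show Points.ofPt a' ⟨z, hz2⟩ = y'
    rw [hofPt]
    exact hz1
  have hcl : v ∈ closure (Points.ofPt a ⁻¹' {y'}) := by
    rw [← (h5_isOpenMap_ofPt_of_etale a hae).preimage_closure_eq_closure_preimage
      (Points.continuous_ofPt a)]
    exact hv
  have hcl2 : v ∈ closure (Points.ofPt a ⁻¹' {y'} ∩ (W' : Set ↥U.left)) := by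
    rw [mem_closure_iff] at hcl ⊢
    intro O hO hvO
    obtain ⟨z, hz1, hz2⟩ := hcl (O ∩ (W' : Set ↥U.left)) (hO.inter W'.isOpen) ⟨hvO, hvW⟩
    exact ⟨z, hz1.1, hz2, hz1.2⟩
  rw [← Set.biUnion_of_singleton (Points.ofPt a ⁻¹' {y'} ∩ (W' : Set ↥U.left)),
    hfin.closure_biUnion] at hcl2
  obtain ⟨z, hz, hvz⟩ := Set.mem_iUnion₂.mp hcl2
  exact ⟨z, hz.1, specializes_iff_mem_closure.mpr hvz⟩

end AlgSp
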