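import Mathlib
import Groth.Agent.Lib.helper5.AlgSpImm
import Groth.Prelude.Def_AlgSpDec

set_option autoImplicit false
universe u
open CategoryTheory CategoryTheory.Limits AlgebraicGeometry Opposite Topology

namespace AlgSp

variable {S : Scheme.{u}}

theorem h5_quasiCompact_of_finite {A B : Scheme.{u}} (f : A ⟶ B) [Finite ↥A] : QuasiCompact f :=
  ⟨fun _ _ _ => (Set.toFinite _).isCompact⟩

theorem h5_mono_yon_map {U V : Over S} (r : U ⟶ V) (h : Mono r.left) : Mono ((yon S).map r) := by
  have : Mono r := (Over.forget S).mono_of_mono_map h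
  infer_instance

/-- A point of a scheme mapping by a quasi-compact monomorphism to `F` gives a quasi-compact
monomorphism from the spectrum of its residue field. -/
theorem h5_fieldPt_of_scheme_point {F : Sp S} {E : Over S} (φ : (yon S).obj E ⟶ F)
    (hm : Mono φ) (hq : RepWith @QuasiCompact φ) (e : ↥E.left) :
    ∃ p : FieldPt F, Points.mk p = Points.ofPt φ e ∧ Mono p.toHom ∧
      RepWith @QuasiCompact p.toHom := by
  refine ⟨FieldPt.ofPt φ e, rfl, ?_, ?_⟩
  · rw [FieldPt.toHom_ofPt]
    have : Mono ((yon S).map (Over.homMk (E.left.fromSpecResidueField e) rfl :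
        Over.mk (E.left.fromSpecResidueField e ≫ E.hom) ⟶ E)) :=
      h5_mono_yon_map _ (by dsimp; infer_instance)
    exact @mono_comp _ _ _ _ _ _ this _ hm
  · rw [FieldPt.toHom_ofPt]
    refine (RepWith (S := S) @QuasiCompact).comp_mem _ _ ?_ hq
    rw [repWith_yon_map_iff]
    have : Finite ↥(Spec (E.left.residueField e)) :=
      inferInstanceAs (Finite (PrimeSpectrum (E.left.residueField e)))
    exact @h5_quasiCompact_of_finite _ _ _ this

/-- Decency passes to the source of a representable morphism. -/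
theorem h5_isDecent_of_representable {X Y : Sp S} (f : X ⟶ Y) (hf : Representable f)
    (hY : IsDecent Y) : IsDecent X := by
  intro x
  obtain ⟨q, hq1, hq2, hq3⟩ := hY (Points.map f x)
  have sq := hf.isPullback q.toHom
  have hm : Mono (hf.fst q.toHom) := sq.mono_fst_of_mono
  have hqc : RepWith @QuasiCompact (hf.fst q.toHom) :=
    MorphismProperty.of_isPullback (P := RepWith @QuasiCompact) sq.flip hq3
  have hx : Points.map f x = Points.ofPt q.toHom (IsLocalRing.closedPoint q.K) := by
    rw [Points.ofPt_toHom, hq1]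
  obtain ⟨e, he, -⟩ := h5_exists_of_map_eq_ofPt sq x _ hx
  obtain ⟨p, hp1, hp2, hp3⟩ := h5_fieldPt_of_scheme_point (hf.fst q.toHom) hm hqc e
  exact ⟨p, hp1.trans he, hp2, hp3⟩

/-- Decency passes to the source of a decent morphism. -/
theorem h5_isDecent_of_isDecentMor {X Y : Sp S} (f : X ⟶ Y) (hf : IsDecentMor f)
    (hY : IsDecent Y) : IsDecent X := by
  intro x
  obtain ⟨q, hq1, hq2, hq3⟩ := hY (Points.map f x)
  have sq : IsPullback (pullback.fst f q.toHom) (pullback.snd f q.toHom) f q.toHom :=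
    IsPullback.of_hasPullback _ _
  have hE : IsDecent (pullback f q.toHom) := hf q.toHom _ _ sq
  have hm : Mono (pullback.fst f q.toHom) := sq.mono_fst_of_mono
  have hqc : RepWith @QuasiCompact (pullback.fst f q.toHom) :=
    MorphismProperty.of_isPullback (P := RepWith @QuasiCompact) sq.flip hq3
  have hx : Points.map f x = Points.map q.toHom
      (Points.ofScheme q.pt (IsLocalRing.closedPoint q.K)) := by
    rw [← Points.ofPt_eq_map_ofScheme, Points.ofPt_toHom, hq1]
  obtain ⟨e, he, -⟩ := h5_points_exists_of_isPullback sq x _ hx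
  obtain ⟨p, hp1, hp2, hp3⟩ := hE e
  refine ⟨p.map (pullback.fst f q.toHom), ?_, ?_, ?_⟩
  · rw [← Points.map_mk, hp1, he]
  · rw [FieldPt.toHom_map]
    exact @mono_comp _ _ _ _ _ _ hp2 _ hm
  · rw [FieldPt.toHom_map]
    exact (RepWith (S := S) @QuasiCompact).comp_mem _ _ hp3 hqc

end AlgSp

namespace AlgSp

variable {S : Scheme.{u}}

theorem h5_isDecentMor_baseChange {X Y X' Y' : Sp S} {f : X ⟶ Y} {g : Y' ⟶ Y} {q : X' ⟶ X}
    {p : X' ⟶ Y'} (sq : IsPullback q p f g) (hf : IsDecentMor f) : IsDecentMor p := by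
  intro T F' t fst snd sqT
  exact hf (t ≫ g) (fst ≫ q) snd (sqT.paste_horiz sq)

theorem h5_isDecentMor_of_isDecent_source {X Y : Sp S} (hY : IsAlgSpace Y) (f : X ⟶ Y)
    (hX : IsDecent X) : IsDecentMor f := by
  intro T F' g fst snd sq
  have hrep : Representable g := hY.representable_from_yon g
  have hfst : Representable fst := MorphismProperty.of_isPullback (P := Representable) sq.flip hrep
  exact h5_isDecent_of_representable fst hfst hX

theorem h5_isDecentMor_comp {X Y Z : Sp S} (f : X ⟶ Y) (g : Y ⟶ Z) (hf : IsDecentMor f)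
    (hg : IsDecentMor g) : IsDecentMor (f ≫ g) := by
  intro T F' t fst snd sq
  have sqY : IsPullback (pullback.fst g t) (pullback.snd g t) g t := IsPullback.of_hasPullback _ _
  have hYT : IsDecent (pullback g t) := hg t _ _ sqY
  let k : F' ⟶ pullback g t := sqY.lift (fst ≫ f) snd (by rw [Category.assoc]; exact sq.w)
  have hk1 : k ≫ pullback.fst g t = fst ≫ f := sqY.lift_fst _ _ _
  have hk2 : k ≫ pullback.snd g t = snd := sqY.lift_snd _ _ _
  have sqk : IsPullback fst k f (pullback.fst g t) := by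
    refine IsPullback.of_bot ?_ hk1.symm sqY
    rw [hk2]
    exact sq
  exact h5_isDecent_of_isDecentMor k (h5_isDecentMor_baseChange sqk hf) hYT

end AlgSp

theorem h5_no_descent {α : Type*} (r : α → α → Prop) (htrans : ∀ a b c, r a b → r b c → r a c)
    (hanti : ∀ a b, r a b → r b a → a = b) (F : Set α) (hF : F.Finite) (B : Set α) (hBF : B ⊆ F)
    (hstep : ∀ w' ∈ B, ∃ w'' ∈ B, r w'' w' ∧ w'' ≠ w') : B = ∅ := by
  by_contra hne
  obtain ⟨b0, hb0⟩ := Set.nonempty_iff_ne_empty.2 hne
  have hfin : Finite ↥F := hF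
  let lt : ↥F → ↥F → Prop := fun a b => r a.1 b.1 ∧ a ≠ b
  have htr : IsTrans ↥F lt := ⟨fun a b c hab hbc => ⟨htrans _ _ _ hab.1 hbc.1, fun hac => by
    subst hac
    exact hab.2 (Subtype.ext (hanti _ _ hab.1 hbc.1))⟩⟩
  have hirr : Std.Irrefl lt := ⟨fun a h => h.2 rfl⟩
  have hwf : WellFounded lt := Finite.wellFounded_of_trans_of_irrefl lt
  let B' : Set ↥F := {a | a.1 ∈ B}
  obtain ⟨m, hm, hmin⟩ := hwf.has_min B' ⟨⟨b0, hBF hb0⟩, hb0⟩
  obtain ⟨w'', hw''B, hr, hne'⟩ := hstep m.1 hm
  exact hmin ⟨w'', hBF hw''B⟩ hw''B ⟨hr, fun h => hne' (congrArg Subtype.val h)⟩
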