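import Mathlib
import Groth.Prelude.Def_AlgSp4
import Groth.Agent.Lib.helper5.AlgSpPb

set_option autoImplicit false
universe u
open CategoryTheory CategoryTheory.Limits AlgebraicGeometry Opposite

namespace AlgSp

variable {S : Scheme.{u}}

/-- The extra input needed to treat `LocP P` for a property `P` of morphisms of schemes:
etale morphisms have `P`, and `P` descends along etale surjective maps on the source. -/
structure H5Good (P : MorphismProperty Scheme.{u}) : Prop where
  etale_le : ∀ {X Y : Scheme.{u}} (f : X ⟶ Y), Etale f → P f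
  desc : ∀ {X Y Z : Scheme.{u}} (p : X ⟶ Y) (g : Y ⟶ Z), Etale p → Surjective p →
    P (p ≫ g) → P g

variable {P : MorphismProperty Scheme.{u}} [P.IsStableUnderBaseChange]
  [P.IsStableUnderComposition]

/-- Cancellation past an etale morphism. -/
theorem H5Good.cancel (hP : H5Good P) {X Y Z : Scheme.{u}} (f : X ⟶ Y) (g : Y ⟶ Z) (hg : Etale g)
    (h : P (f ≫ g)) : P f := by
  have sq := IsPullback.of_hasPullback (f ≫ g) g
  haveI : Etale (pullback.fst (f ≫ g) g) :=
    MorphismProperty.of_isPullback (P := @Etale) sq.flip hg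
  have hsnd : P (pullback.snd (f ≫ g) g) := MorphismProperty.of_isPullback (P := P) sq h
  let σ : X ⟶ pullback (f ≫ g) g := pullback.lift (𝟙 X) f (by simp)
  have h1 : σ ≫ pullback.fst (f ≫ g) g = 𝟙 X := pullback.lift_fst _ _ _
  have h2 : σ ≫ pullback.snd (f ≫ g) g = f := pullback.lift_snd _ _ _
  haveI : Etale (σ ≫ pullback.fst (f ≫ g) g) := by rw [h1]; infer_instance
  have hσ : Etale σ := Etale.of_comp σ (pullback.fst (f ≫ g) g)
  rw [← h2]
  exact P.comp_mem _ _ (hP.etale_le _ hσ) hsnd

/-- `LocP P` can be checked after precomposing with one etale surjective chart of the source. -/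
theorem h5_locP_of_source_cover (hP : H5Good P) {X Y : Sp S} (f : X ⟶ Y) {U : Over S}
    (φ : (yon S).obj U ⟶ X) (hφ : RepWith @Etale φ) (hφs : RepWith @Surjective φ)
    (h : LocP P (φ ≫ f)) : LocP P f := by
  intro U₁ V a b h' ha hb comm
  have sq := hφ.rep.isPullback a
  have e1 : Etale (hφ.rep.snd a).left := hφ.property_snd a
  have s1 : Surjective (hφ.rep.snd a).left := hφs.property_snd a
  obtain ⟨w, hw⟩ := (yon S).map_surjective (hφ.rep.fst a)
  have hfe : RepWith @Etale (hφ.rep.fst a) :=
    MorphismProperty.of_isPullback (P := RepWith @Etale) sq.flip ha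
  rw [← hw] at hfe
  have hcomm : (yon S).map w ≫ (φ ≫ f) = (yon S).map (hφ.rep.snd a ≫ h') ≫ b := by
    rw [← Category.assoc, hw, sq.w, Category.assoc, comm, Functor.map_comp, Category.assoc]
  have h1 : P (hφ.rep.snd a ≫ h').left := h _ b _ hfe hb hcomm
  rw [Over.comp_left] at h1
  exact hP.desc _ _ e1 s1 h1

/-- `LocP P` can be checked on one chart diagram with surjective source chart. -/
theorem h5_locP_of_one_chart (hP : H5Good P) {X Y : Sp S} (f : X ⟶ Y) {U₀ V₀ : Over S}
    (a₀ : (yon S).obj U₀ ⟶ X) (b₀ : (yon S).obj V₀ ⟶ Y) (h₀ : U₀ ⟶ V₀)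
    (ha₀ : RepWith @Etale a₀) (has₀ : RepWith @Surjective a₀) (hb₀ : RepWith @Etale b₀)
    (comm₀ : a₀ ≫ f = (yon S).map h₀ ≫ b₀) (hh₀ : P h₀.left) :
    LocP P f := by
  apply h5_locP_of_source_cover hP f a₀ ha₀ has₀
  rw [comm₀]
  intro U V a b h ha hb comm
  obtain ⟨α, rfl⟩ := (yon S).map_surjective a
  have hα : Etale α.left := (repWith_yon_map_iff _ _).1 ha
  have sq2 := hb₀.rep.isPullback b
  have hw : (yon S).map (α ≫ h₀) ≫ b₀ = (yon S).map h ≫ b := by
    rw [Functor.map_comp, Category.assoc]; exact comm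
  obtain ⟨l, hl⟩ := (yon S).map_surjective (sq2.lift _ _ hw)
  have e1 : l ≫ hb₀.rep.snd b = h :=
    (yon S).map_injective (by rw [Functor.map_comp, hl, sq2.lift_snd])
  obtain ⟨v₂, hv₂⟩ := (yon S).map_surjective (hb₀.rep.fst b)
  have e2 : l ≫ v₂ = α ≫ h₀ :=
    (yon S).map_injective (by rw [Functor.map_comp, hl, hv₂, sq2.lift_fst])
  have hv₂e : Etale v₂.left := by
    have : RepWith @Etale (hb₀.rep.fst b) :=
      MorphismProperty.of_isPullback (P := RepWith @Etale) sq2.flip hb
    rw [← hv₂] at this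
    exact (repWith_yon_map_iff _ _).1 this
  have h3 : P (l.left ≫ v₂.left) := by
    rw [← Over.comp_left, e2, Over.comp_left]
    exact P.comp_mem _ _ (hP.etale_le _ hα) hh₀
  have h4 : P l.left := hP.cancel _ _ hv₂e h3
  have h5 : Etale (hb₀.rep.snd b).left := hb₀.property_snd b
  rw [← e1, Over.comp_left]
  exact P.comp_mem _ _ h4 (hP.etale_le _ h5)

/-- `LocP P` is stable under composition. -/
theorem h5_locP_comp (hP : H5Good P) {X Y Z : Sp S} (hX : IsAlgSpace X) (hY : IsAlgSpace Y)
    (hZ : IsAlgSpace Z) (f : X ⟶ Y) (g : Y ⟶ Z) (hf : LocP P f)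
    (hg : LocP P g) : LocP P (f ≫ g) := by
  obtain ⟨W, c, hce, hcs⟩ := hZ.atlas
  have sqY := IsPullback.of_hasPullback g c
  have hYW : IsAlgSpace (pullback g c) :=
    h5_isAlgSpace_of_isPullback hZ.diag hY (IsAlgSpace.yon_obj W) sqY
  obtain ⟨V, b, hbe, hbs⟩ := hYW.atlas
  have hfe : RepWith @Etale (pullback.fst g c) :=
    MorphismProperty.of_isPullback (P := RepWith @Etale) sqY.flip hce
  have hfs : RepWith @Surjective (pullback.fst g c) :=
    MorphismProperty.of_isPullback (P := RepWith @Surjective) sqY.flip hcs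
  have hb'e : RepWith @Etale (b ≫ pullback.fst g c) := (RepWith @Etale).comp_mem _ _ hbe hfe
  have hb's : RepWith @Surjective (b ≫ pullback.fst g c) :=
    (RepWith @Surjective).comp_mem _ _ hbs hfs
  obtain ⟨v, hv⟩ := (yon S).map_surjective (b ≫ pullback.snd g c)
  have hvl : P v.left :=
    hg (b ≫ pullback.fst g c) c v hb'e hce (by rw [hv, Category.assoc, Category.assoc, sqY.w])
  have sqX := IsPullback.of_hasPullback f (b ≫ pullback.fst g c)
  have hXV : IsAlgSpace (pullback f (b ≫ pullback.fst g c)) :=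
    h5_isAlgSpace_of_isPullback hY.diag hX (IsAlgSpace.yon_obj V) sqX
  obtain ⟨U, a, hae, has⟩ := hXV.atlas
  have hge : RepWith @Etale (pullback.fst f (b ≫ pullback.fst g c)) :=
    MorphismProperty.of_isPullback (P := RepWith @Etale) sqX.flip hb'e
  have hgs : RepWith @Surjective (pullback.fst f (b ≫ pullback.fst g c)) :=
    MorphismProperty.of_isPullback (P := RepWith @Surjective) sqX.flip hb's
  have ha'e : RepWith @Etale (a ≫ pullback.fst f (b ≫ pullback.fst g c)) :=
    (RepWith @Etale).comp_mem _ _ hae hge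
  have ha's : RepWith @Surjective (a ≫ pullback.fst f (b ≫ pullback.fst g c)) :=
    (RepWith @Surjective).comp_mem _ _ has hgs
  obtain ⟨w, hw⟩ := (yon S).map_surjective (a ≫ pullback.snd f (b ≫ pullback.fst g c))
  have hwl : P w.left :=
    hf (a ≫ pullback.fst f (b ≫ pullback.fst g c)) (b ≫ pullback.fst g c) w ha'e hb'e
      (by rw [hw, Category.assoc, Category.assoc, sqX.w])
  refine h5_locP_of_one_chart hP (f ≫ g) (a ≫ pullback.fst f (b ≫ pullback.fst g c)) c (w ≫ v)
    ha'e ha's hce ?_ (by rw [Over.comp_left]; exact P.comp_mem _ _ hwl hvl)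
  rw [Functor.map_comp, hw, hv]
  simp only [Category.assoc]
  rw [← sqY.w, reassoc_of% sqX.w]

/-- `LocP P` is stable under base change. -/
theorem h5_locP_baseChange (hP : H5Good P) {X Y Y' X' : Sp S} (hX : IsAlgSpace X)
    (hY : IsAlgSpace Y)
    (hY' : IsAlgSpace Y') {f : X ⟶ Y} {g : Y' ⟶ Y} {fst : X' ⟶ X} {f' : X' ⟶ Y'}
    (sq : IsPullback fst f' f g) (hf : LocP P f) :
    LocP P f' := by
  obtain ⟨V', b', hb'e, hb's⟩ := hY'.atlas
  obtain ⟨V, p, hpe, hps⟩ := hY.atlas
  have sq1 := hpe.rep.isPullback (b' ≫ g)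
  have e1 : Etale (hpe.rep.snd (b' ≫ g)).left := hpe.property_snd _
  have s1 : Surjective (hpe.rep.snd (b' ≫ g)).left := hps.property_snd _
  obtain ⟨v, hv⟩ := (yon S).map_surjective (hpe.rep.fst (b' ≫ g))
  have sqXV := IsPullback.of_hasPullback f p
  have hXV : IsAlgSpace (pullback f p) :=
    h5_isAlgSpace_of_isPullback hY.diag hX (IsAlgSpace.yon_obj V) sqXV
  obtain ⟨U, c, hce, hcs⟩ := hXV.atlas
  have hπe : RepWith @Etale (pullback.fst f p) :=
    MorphismProperty.of_isPullback (P := RepWith @Etale) sqXV.flip hpe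
  obtain ⟨w, hw⟩ := (yon S).map_surjective (c ≫ pullback.snd f p)
  have hwl : P w.left :=
    hf (c ≫ pullback.fst f p) p w ((RepWith @Etale).comp_mem _ _ hce hπe) hpe
      (by rw [hw, Category.assoc, Category.assoc, sqXV.w])
  have sqX1 := IsPullback.of_hasPullback (pullback.snd f p) ((yon S).map v)
  have sqQ : IsPullback (pullback.fst w v) (pullback.snd w v) w v := IsPullback.of_hasPullback _ _
  have sqQy := sqQ.map (yon S)
  rw [hw] at sqQy
  have hwl' : (yon S).map (pullback.fst w v) ≫ c ≫ pullback.snd f p =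
      (yon S).map (pullback.snd w v) ≫ (yon S).map v := by
    simpa using sqQy.w
  have sqL : IsPullback (sqX1.lift ((yon S).map (pullback.fst w v) ≫ c)
      ((yon S).map (pullback.snd w v)) (by rw [Category.assoc]; exact hwl'))
      ((yon S).map (pullback.fst w v)) (pullback.fst (pullback.snd f p) ((yon S).map v)) c := by
    refine IsPullback.of_right ?_ (by rw [sqX1.lift_fst]) sqX1.flip
    rw [sqX1.lift_snd]
    exact sqQy.flip
  have hle : RepWith @Etale (sqX1.lift ((yon S).map (pullback.fst w v) ≫ c)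
      ((yon S).map (pullback.snd w v)) (by rw [Category.assoc]; exact hwl')) :=
    MorphismProperty.of_isPullback (P := RepWith @Etale) sqL.flip hce
  have hls : RepWith @Surjective (sqX1.lift ((yon S).map (pullback.fst w v) ≫ c)
      ((yon S).map (pullback.snd w v)) (by rw [Category.assoc]; exact hwl')) :=
    MorphismProperty.of_isPullback (P := RepWith @Surjective) sqL.flip hcs
  have hbig : IsPullback (pullback.fst (pullback.snd f p) ((yon S).map v) ≫ pullback.fst f p)
      (pullback.snd (pullback.snd f p) ((yon S).map v)) f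
      ((yon S).map (hpe.rep.snd (b' ≫ g)) ≫ b' ≫ g) := by
    have := sqX1.paste_horiz sqXV
    have e : (yon S).map v ≫ p = (yon S).map (hpe.rep.snd (b' ≫ g)) ≫ b' ≫ g := by
      rw [hv, sq1.w]
    rw [e] at this
    exact this
  have hwm : (pullback.fst (pullback.snd f p) ((yon S).map v) ≫ pullback.fst f p) ≫ f =
      (pullback.snd (pullback.snd f p) ((yon S).map v) ≫
        (yon S).map (hpe.rep.snd (b' ≫ g)) ≫ b') ≫ g := by
    rw [hbig.w]; simp only [Category.assoc]
  have sqM : IsPullback (sq.lift _ _ hwm) (pullback.snd (pullback.snd f p) ((yon S).map v)) f'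
      ((yon S).map (hpe.rep.snd (b' ≫ g)) ≫ b') := by
    refine IsPullback.of_right ?_ (by rw [sq.lift_snd]) sq
    rw [sq.lift_fst]
    simpa only [Category.assoc] using hbig
  have hb1e : RepWith @Etale ((yon S).map (hpe.rep.snd (b' ≫ g)) ≫ b') :=
    (RepWith @Etale).comp_mem _ _ ((repWith_yon_map_iff _ _).2 e1) hb'e
  have hb1s : RepWith @Surjective ((yon S).map (hpe.rep.snd (b' ≫ g)) ≫ b') :=
    (RepWith @Surjective).comp_mem _ _ ((repWith_yon_map_iff _ _).2 s1) hb's
  have hme : RepWith @Etale (sq.lift _ _ hwm) :=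
    MorphismProperty.of_isPullback (P := RepWith @Etale) sqM.flip hb1e
  have hms : RepWith @Surjective (sq.lift _ _ hwm) :=
    MorphismProperty.of_isPullback (P := RepWith @Surjective) sqM.flip hb1s
  have hq2 : P (pullback.snd w v).left :=
    MorphismProperty.of_isPullback (P := P) (sqQ.map (Over.forget S)) hwl
  refine h5_locP_of_one_chart hP f' (_ ≫ sq.lift _ _ hwm) b'
    (pullback.snd w v ≫ hpe.rep.snd (b' ≫ g))
    ((RepWith @Etale).comp_mem _ _ hle hme) ((RepWith @Surjective).comp_mem _ _ hls hms) hb'e ?_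
    (by rw [Over.comp_left]; exact P.comp_mem _ _ hq2 (hP.etale_le _ e1))
  rw [Category.assoc, sq.lift_snd, ← Category.assoc, sqX1.lift_snd, Functor.map_comp,
    Category.assoc]

/-- `LocP P` can be checked after base change to affine schemes etale over the target. -/
theorem h5_locP_of_affine_baseChange (hP : H5Good P) [IsZariskiLocalAtTarget P]
    {X Y : Sp S} (f : X ⟶ Y)
    (H : ∀ (Z : Over S), IsAffine Z.left → ∀ (g : (yon S).obj Z ⟶ Y), RepWith @Etale g →
      LocP P (pullback.snd f g)) : LocP P f := by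
  intro U V a b h ha hb comm
  apply IsZariskiLocalAtTarget.of_openCover (P := P) V.left.affineCover
  intro i
  let Z : Over S := Over.mk (V.left.affineCover.f i ≫ V.hom)
  let j : Z ⟶ V := Over.homMk (V.left.affineCover.f i) rfl
  haveI : IsOpenImmersion j.left := by
    change IsOpenImmersion (V.left.affineCover.f i); infer_instance
  have hZ : IsAffine Z.left := by
    change IsAffine (V.left.affineCover.X i); infer_instance
  have hg : RepWith @Etale ((yon S).map j ≫ b) :=
    (RepWith @Etale).comp_mem _ _ ((repWith_yon_map_iff _ _).2 (inferInstance : Etale j.left)) hb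
  have hL := H Z hZ _ hg
  have sqP := IsPullback.of_hasPullback f ((yon S).map j ≫ b)
  have hπ : RepWith @Etale (pullback.fst f ((yon S).map j ≫ b)) :=
    MorphismProperty.of_isPullback (P := RepWith @Etale) sqP.flip hg
  have sqW := hπ.rep.isPullback a
  have hfW : RepWith @Etale (hπ.rep.fst a) :=
    MorphismProperty.of_isPullback (P := RepWith @Etale) sqW.flip ha
  obtain ⟨w, hw⟩ := (yon S).map_surjective (hπ.rep.fst a ≫ pullback.snd f ((yon S).map j ≫ b))
  have hwl : P w.left :=
    hL (hπ.rep.fst a) (𝟙 _) w hfW (repWith_id _ Z) (by rw [hw, Category.comp_id])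
  have sqi : IsPullback (pullback.fst h j) (pullback.snd h j) h j := IsPullback.of_hasPullback _ _
  have hwa : ((yon S).map (pullback.fst h j) ≫ a) ≫ f =
      (yon S).map (pullback.snd h j) ≫ (yon S).map j ≫ b := by
    rw [Category.assoc, comm, ← Category.assoc, ← Functor.map_comp, sqi.w, Functor.map_comp,
      Category.assoc]
  obtain ⟨s, hs⟩ := (yon S).map_surjective (sqW.lift (sqP.lift _ _ hwa)
    ((yon S).map (pullback.fst h j)) (sqP.lift_fst _ _ _))
  have e1 : s ≫ hπ.rep.snd a = pullback.fst h j :=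
    (yon S).map_injective (by rw [Functor.map_comp, hs, sqW.lift_snd])
  have e2 : s ≫ w = pullback.snd h j :=
    (yon S).map_injective (by
      rw [Functor.map_comp, hs, hw, ← Category.assoc, sqW.lift_fst, sqP.lift_snd])
  have sqL := sqi.map (Over.forget S)
  haveI : IsOpenImmersion (pullback.fst h j).left :=
    MorphismProperty.of_isPullback (P := @IsOpenImmersion) sqL.flip
      (inferInstanceAs (IsOpenImmersion j.left))
  have hsnde : Etale (hπ.rep.snd a).left := hπ.property_snd a
  have hsl : P s.left := by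
    have : P (s.left ≫ (hπ.rep.snd a).left) := by
      rw [← Over.comp_left, e1]
      exact hP.etale_le _ inferInstance
    exact hP.cancel _ _ hsnde this
  have hq2 : P (pullback.snd h j).left := by
    rw [← e2, Over.comp_left]; exact P.comp_mem _ _ hsl hwl
  have hq2' : P ((Over.forget S).map (pullback.snd h j)) := hq2
  have : pullback.snd ((Over.forget S).map h) ((Over.forget S).map j) =
      sqL.isoPullback.inv ≫ (Over.forget S).map (pullback.snd h j) :=
    (sqL.isoPullback_inv_snd).symm
  change P (pullback.snd ((Over.forget S).map h) ((Over.forget S).map j))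
  rw [this]
  exact (P.cancel_left_of_respectsIso _ _).2 hq2'

end AlgSp
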