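import Mathlib

set_option autoImplicit false
universe u
open CategoryTheory CategoryTheory.Limits AlgebraicGeometry Opposite TensorProduct

namespace Groth.Agent.Lib.helper5

/-- Flatness descends on the source along faithfully flat maps (module form). -/
theorem h5_module_flat_of_faithfullyFlat (A B C : Type u) [CommRing A] [CommRing B] [CommRing C]
    [Algebra A B] [Algebra B C] [Algebra A C] [IsScalarTower A B C]
    [Module.FaithfullyFlat B C] [Module.Flat A C] : Module.Flat A B := by
  rw [Module.Flat.iff_lTensor_preserves_injective_linearMap]
  intro N P _ _ _ _ f hf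
  have h1 : Function.Injective (f.lTensor C) :=
    Module.Flat.lTensor_preserves_injective_linearMap f hf
  have h2 : Function.Injective ((f.baseChange B).lTensor C) := by
    have e : ∀ z : C ⊗[B] (B ⊗[A] N),
        AlgebraTensorModule.cancelBaseChange A B C C P (((f.baseChange B).lTensor C) z) =
        f.lTensor C (AlgebraTensorModule.cancelBaseChange A B C C N z) := by
      intro z
      induction z using TensorProduct.induction_on with
      | zero => simp
      | tmul c x =>
        induction x using TensorProduct.induction_on with
        | zero => simp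
        | tmul b n => simp
        | add x y hx hy => simp only [TensorProduct.tmul_add, map_add, hx, hy]
      | add x y hx hy => simp only [map_add, hx, hy]
    intro x y hxy
    have := congrArg (AlgebraTensorModule.cancelBaseChange A B C C P) hxy
    rw [e, e] at this
    exact (AlgebraTensorModule.cancelBaseChange A B C C N).injective (h1 this)
  rw [Module.FaithfullyFlat.lTensor_injective_iff_injective] at h2
  exact h2

theorem h5_ringHom_flat_of_comp {A B C : Type u} [CommRing A] [CommRing B] [CommRing C]
    (φ : A →+* B) (ψ : B →+* C) (hψ : ψ.FaithfullyFlat) (h : (ψ.comp φ).Flat) : φ.Flat := by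
  algebraize [φ, ψ, ψ.comp φ]
  exact h5_module_flat_of_faithfullyFlat A B C

/-- Flatness descends on the source along flat surjective morphisms. -/
theorem h5_flat_of_flat_surjective_comp {X Y Z : Scheme.{u}} (p : X ⟶ Y) (g : Y ⟶ Z)
    [Flat p] [Surjective p] [Flat (p ≫ g)] : Flat g := by
  rw [Flat.iff_flat_stalkMap]
  intro y
  obtain ⟨x, rfl⟩ := p.surjective y
  have h1 : ((p ≫ g).stalkMap x).hom.Flat := Flat.stalkMap (p ≫ g) x
  rw [Scheme.Hom.stalkMap_comp] at h1
  have h2 : (p.stalkMap x).hom.Flat := Flat.stalkMap p x
  have h3 : (p.stalkMap x).hom.FaithfullyFlat := by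
    algebraize [(p.stalkMap x).hom]
    exact @Module.FaithfullyFlat.of_flat_of_isLocalHom _ _ _ _ _ _ _ h2 (p.toLRSHom.prop x)
  exact h5_ringHom_flat_of_comp _ _ h3 h1

end Groth.Agent.Lib.helper5
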