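import Mathlib
import Groth.Prelude.Def_AlgSp4
import Groth.Agent.Lib.helper5.AlgSpLocP
import Groth.Agent.Lib.helper5.SchFlatSrc
import Groth.Agent.Lib.helper5.SchSrcDesc5

set_option autoImplicit false
universe u
open CategoryTheory CategoryTheory.Limits AlgebraicGeometry Opposite

namespace AlgSp

open Groth.Agent.Lib.helper5

theorem h5_good_lft : H5Good (@LocallyOfFiniteType : MorphismProperty Scheme.{u}) where
  etale_le f hf := by haveI := hf; infer_instance
  desc p g hp hs h := by
    haveI := hp; haveI := hs; haveI := h
    exact h5_lft_of_smooth_surjective_comp p g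

theorem h5_good_flat : H5Good (@Flat : MorphismProperty Scheme.{u}) where
  etale_le f hf := by haveI := hf; infer_instance
  desc p g hp hs h := by
    haveI := hp; haveI := hs; haveI := h
    exact h5_flat_of_flat_surjective_comp p g

theorem h5_good_lqf :
    H5Good (@LocallyQuasiFinite ⊓ @LocallyOfFiniteType : MorphismProperty Scheme.{u}) where
  etale_le f hf := by
    haveI := hf
    exact ⟨h5_lqf_of_etale f, inferInstance⟩
  desc e f he hs hef := by
    haveI := he; haveI := hs
    haveI : LocallyQuasiFinite (e ≫ f) := hef.1
    haveI : LocallyOfFiniteType (e ≫ f) := hef.2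
    haveI hlft : LocallyOfFiniteType f := h5_lft_of_smooth_surjective_comp e f
    refine ⟨?_, hlft⟩
    rw [locallyQuasiFinite_iff_isDiscrete_preimage_singleton]
    intro y
    apply h5_isDiscrete_of_preimage e e.isOpenMap e.surjective
    have := (e ≫ f).isDiscrete_preimage_singleton y
    rwa [Scheme.Hom.comp_base, TopCat.coe_comp, Set.preimage_comp] at this

theorem h5_good_unram :
    H5Good (@LocallyOfFiniteType ⊓ @FormallyUnramified : MorphismProperty Scheme.{u}) where
  etale_le f hf := by
    haveI := hf
    exact ⟨inferInstance, inferInstance⟩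
  desc e f he hs hef := by
    haveI := he; haveI := hs
    haveI : LocallyOfFiniteType (e ≫ f) := hef.1
    haveI : FormallyUnramified (e ≫ f) := hef.2
    exact ⟨h5_lft_of_smooth_surjective_comp e f,
      h5_formallyUnramified_of_etale_surjective_comp e f⟩

instance : (@LocallyQuasiFinite ⊓ @LocallyOfFiniteType :
    MorphismProperty Scheme.{u}).IsStableUnderBaseChange := inferInstance
instance : (@LocallyQuasiFinite ⊓ @LocallyOfFiniteType :
    MorphismProperty Scheme.{u}).IsStableUnderComposition := inferInstance
instance : (@LocallyOfFiniteType ⊓ @FormallyUnramified :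
    MorphismProperty Scheme.{u}).IsStableUnderBaseChange := inferInstance
instance : (@LocallyOfFiniteType ⊓ @FormallyUnramified :
    MorphismProperty Scheme.{u}).IsStableUnderComposition := inferInstance

end AlgSp
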