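import Mathlib
import Groth.Prelude.Def_AlgSp4
import Groth.Agent.Lib.helper5.AlgSpDiag
import Groth.Agent.Lib.helper5.AlgSpLocPInst
import Groth.Agent.Lib.helper5.AlgSpEt

set_option autoImplicit false
universe u
open CategoryTheory CategoryTheory.Limits AlgebraicGeometry Opposite

namespace AlgSp

variable {S : Scheme.{u}}

section Cat

set_option backward.isDefEq.respectTransparency false

variable {C : Type*} [Category C]

/-- The locus where two sections agree: a base change of the diagonal along a pair of sections is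
the fibre product of the two sections. -/
theorem h5_isPullback_sections [HasPullbacks C] {P T E : C} (g : P ⟶ T) (a b : T ⟶ P)
    (ha : a ≫ g = 𝟙 T) (hb : b ≫ g = 𝟙 T) {e1 : E ⟶ P} {e2 : E ⟶ T}
    (sq : IsPullback e1 e2 (pullback.diagonal g) (pullback.lift a b (by rw [ha, hb]))) :
    IsPullback e2 e2 a b := by
  have he1 : e1 = e2 ≫ a := by
    have := congrArg (· ≫ pullback.fst g g) sq.w
    simpa using this
  have he1' : e1 = e2 ≫ b := by
    have := congrArg (· ≫ pullback.snd g g) sq.w
    simpa using this
  refine h5_isPullback_of_exists_unique ?_ ?_ ?_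
  · rw [← he1, ← he1']
  · intro W x y h
    have hxy : x = y := by
      have := congrArg (· ≫ g) h
      simpa [ha, hb] using this
    subst hxy
    have hcond : (x ≫ a) ≫ pullback.diagonal g = x ≫ pullback.lift a b (by rw [ha, hb]) := by
      apply pullback.hom_ext
      · simp
      · simp [h]
    exact ⟨sq.lift (x ≫ a) x hcond, sq.lift_snd _ _ _, sq.lift_snd _ _ _⟩
  · intro W p q h1 _
    apply sq.hom_ext
    · rw [he1, ← Category.assoc, ← Category.assoc, h1]
    · exact h1

end Cat

/-- A section of an unramified morphism from an algebraic space to a scheme is an open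
immersion. -/
theorem h5_repWith_openImmersion_section {P : Sp S} (hP : IsAlgSpace P) {T : Over S}
    (g : P ⟶ (yon S).obj T)
    (hg : LocP (@LocallyOfFiniteType ⊓ @FormallyUnramified : MorphismProperty Scheme.{u}) g)
    (s : (yon S).obj T ⟶ P) (hs : s ≫ g = 𝟙 _) : RepWith @IsOpenImmersion s := by
  obtain ⟨U, p, hpe, hps⟩ := hP.atlas
  haveI := h5_isLocallySurjective_of_etale_surjective p hpe hps
  have sq := hpe.rep.isPullback s
  obtain ⟨w1, hw1⟩ := (yon S).map_surjective (hpe.rep.fst s)
  obtain ⟨h, hh⟩ := (yon S).map_surjective (p ≫ g)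
  have hun := hg p (𝟙 _) h hpe (repWith_id _ _) (by rw [hh, Category.comp_id])
  haveI : LocallyOfFiniteType h.left := hun.1
  haveI : FormallyUnramified h.left := hun.2
  have e1 : w1 ≫ h = hpe.rep.snd s := (yon S).map_injective (by
    rw [Functor.map_comp, hw1, hh, ← Category.assoc, sq.w, Category.assoc, hs, Category.comp_id])
  haveI : Etale (hpe.rep.snd s).left := hpe.property_snd s
  haveI : Etale (w1.left ≫ h.left) := by rw [← Over.comp_left, e1]; infer_instance
  haveI : Etale w1.left := Etale.of_comp w1.left h.left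
  haveI : Mono s := mono_of_mono_fac hs
  haveI : Mono ((yon S).map w1) := by rw [hw1]; exact sq.mono_fst_of_mono
  haveI : Mono w1 := (yon S).mono_of_mono_map ‹_›
  haveI : Mono w1.left := inferInstance
  haveI : IsOpenImmersion w1.left := IsOpenImmersion.of_flat_of_mono w1.left
  refine h5_repWith_descend s (hP.representable_from_yon s) p ((yon S).map (hpe.rep.snd s))
    (hpe.rep.fst s) sq.flip @IsOpenImmersion ?_
  rw [← hw1]
  exact (repWith_yon_map_iff _ _).2 ‹_›

set_option backward.isDefEq.respectTransparency false in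
/-- The diagonal of an unramified morphism of algebraic spaces is an open immersion. -/
theorem h5_repWith_openImmersion_diagonal {X Y : Sp S} (hX : IsAlgSpace X) (hY : IsAlgSpace Y)
    (f : X ⟶ Y)
    (hf : LocP (@LocallyOfFiniteType ⊓ @FormallyUnramified : MorphismProperty Scheme.{u}) f) :
    RepWith @IsOpenImmersion (pullback.diagonal f) := by
  refine ⟨(h5_diagonal_props hX f).1, fun T E t fst e sqE => ?_⟩
  show IsOpenImmersion e.left
  have sq := IsPullback.of_hasPullback f (t ≫ pullback.fst f f ≫ f)
  have hP : IsAlgSpace (pullback f (t ≫ pullback.fst f f ≫ f)) :=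
    h5_isAlgSpace_of_isPullback hY.diag hX (IsAlgSpace.yon_obj T) sq
  have hg := h5_locP_baseChange h5_good_unram hX hY (IsAlgSpace.yon_obj T) sq hf
  let a' := sq.lift (t ≫ pullback.fst f f) (𝟙 _) (by simp)
  let b' := sq.lift (t ≫ pullback.snd f f) (𝟙 _) (by simp [pullback.condition])
  have ha' : a' ≫ pullback.snd f (t ≫ pullback.fst f f ≫ f) = 𝟙 _ := sq.lift_snd _ _ _
  have hb' : b' ≫ pullback.snd f (t ≫ pullback.fst f f ≫ f) = 𝟙 _ := sq.lift_snd _ _ _
  have hc : pullback.lift a' b' (by rw [ha', hb']) ≫
      pullback.map _ _ f f (pullback.fst f (t ≫ pullback.fst f f ≫ f))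
        (pullback.fst f (t ≫ pullback.fst f f ≫ f)) _ sq.w.symm sq.w.symm = t := by
    apply pullback.hom_ext <;> simp [a', b']
  have sqE' : IsPullback fst ((yon S).map e) (pullback.diagonal f)
      (pullback.lift a' b' (by rw [ha', hb']) ≫
        pullback.map _ _ f f (pullback.fst f (t ≫ pullback.fst f f ≫ f))
          (pullback.fst f (t ≫ pullback.fst f f ≫ f)) _ sq.w.symm sq.w.symm) := by
    rw [hc]; exact sqE
  have sqE'' := IsPullback.of_right' sqE' (h5_isPullback_diagonal_baseChange sq)
  have sqS := h5_isPullback_sections _ a' b' ha' hb' sqE''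
  have hOI := h5_repWith_openImmersion_section hP _ hg a' ha'
  exact hOI.property b' ((yon S).map e) e sqS

end AlgSp
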