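import Mathlib
import Groth.Prelude.Def_AlgSp4
import Groth.Agent.Lib.helper5.AlgSpUnramDiag
import Groth.Agent.Lib.helper5.AlgSpCancel

set_option autoImplicit false
universe u
open CategoryTheory CategoryTheory.Limits AlgebraicGeometry Opposite

namespace AlgSp

variable {S : Scheme.{u}}

/-- Sections of a morphism with `LocP R` from an algebraic space to a scheme are representable
with `Q`, as soon as `Q` holds for monomorphisms `w` of schemes with `w ≫ h` etale and `R h`. -/
theorem h5_repWith_section_gen (R Q : MorphismProperty Scheme.{u}) [Q.IsStableUnderBaseChange]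
    [Q.IsLocalAtTarget Scheme.fppfPrecoverage]
    (hQ : ∀ {W U T : Scheme.{u}} (w : W ⟶ U) (h : U ⟶ T), Mono w → Etale (w ≫ h) → R h → Q w)
    {P : Sp S} (hP : IsAlgSpace P) {T : Over S}
    (g : P ⟶ (yon S).obj T) (hg : LocP R g)
    (s : (yon S).obj T ⟶ P) (hs : s ≫ g = 𝟙 _) : RepWith Q s := by
  obtain ⟨U, p, hpe, hps⟩ := hP.atlas
  haveI := h5_isLocallySurjective_of_etale_surjective p hpe hps
  have sq := hpe.rep.isPullback s
  obtain ⟨w1, hw1⟩ := (yon S).map_surjective (hpe.rep.fst s)
  obtain ⟨h, hh⟩ := (yon S).map_surjective (p ≫ g)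
  have hun : R h.left := hg p (𝟙 _) h hpe (repWith_id _ _) (by rw [hh, Category.comp_id])
  have e1 : w1 ≫ h = hpe.rep.snd s := (yon S).map_injective (by
    rw [Functor.map_comp, hw1, hh, ← Category.assoc, sq.w, Category.assoc, hs, Category.comp_id])
  haveI : Etale (hpe.rep.snd s).left := hpe.property_snd s
  haveI : Etale (w1.left ≫ h.left) := by rw [← Over.comp_left, e1]; infer_instance
  haveI : Mono s := mono_of_mono_fac hs
  haveI : Mono ((yon S).map w1) := by rw [hw1]; exact sq.mono_fst_of_mono
  haveI : Mono w1 := (yon S).mono_of_mono_map ‹_›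
  haveI : Mono w1.left := inferInstance
  have hQw : Q w1.left := hQ w1.left h.left inferInstance inferInstance hun
  refine h5_repWith_descend s (hP.representable_from_yon s) p ((yon S).map (hpe.rep.snd s))
    (hpe.rep.fst s) sq.flip Q ?_
  rw [← hw1]
  exact (repWith_yon_map_iff _ _).2 hQw

set_option backward.isDefEq.respectTransparency false in
/-- The diagonal of a morphism with `LocP R` is representable with `Q`. -/
theorem h5_repWith_diagonal_gen (R Q : MorphismProperty Scheme.{u}) [Q.IsStableUnderBaseChange]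
    [Q.IsLocalAtTarget Scheme.fppfPrecoverage] [R.IsStableUnderBaseChange]
    [R.IsStableUnderComposition] (hR : H5Good R)
    (hQ : ∀ {W U T : Scheme.{u}} (w : W ⟶ U) (h : U ⟶ T), Mono w → Etale (w ≫ h) → R h → Q w)
    {X Y : Sp S} (hX : IsAlgSpace X) (hY : IsAlgSpace Y)
    (f : X ⟶ Y) (hf : LocP R f) : RepWith Q (pullback.diagonal f) := by
  refine ⟨(h5_diagonal_props hX f).1, fun T E t fst e sqE => ?_⟩
  show Q e.left
  have sq := IsPullback.of_hasPullback f (t ≫ pullback.fst f f ≫ f)
  have hP : IsAlgSpace (pullback f (t ≫ pullback.fst f f ≫ f)) :=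
    h5_isAlgSpace_of_isPullback hY.diag hX (IsAlgSpace.yon_obj T) sq
  have hg := h5_locP_baseChange hR hX hY (IsAlgSpace.yon_obj T) sq hf
  let a' := sq.lift (t ≫ pullback.fst f f) (𝟙 _) (by simp)
  let b' := sq.lift (t ≫ pullback.snd f f) (𝟙 _) (by simp [pullback.condition])
  have ha' : a' ≫ pullback.snd f (t ≫ pullback.fst f f ≫ f) = 𝟙 _ := sq.lift_snd _ _ _
  have hb' : b' ≫ pullback.snd f (t ≫ pullback.fst f f ≫ f) = 𝟙 _ := sq.lift_snd _ _ _
  have hc : pullback.lift a' b' (by rw [ha', hb']) ≫
      pullback.map _ _ f f (pullback.fst f (t ≫ pullback.fst f f ≫ f))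
        (pullback.fst f (t ≫ pullback.fst f f ≫ f)) _ sq.w.symm sq.w.symm = t := by
    apply pullback.hom_ext <;> simp [a', b']
  have sqE' : IsPullback fst ((yon S).map e) (pullback.diagonal f)
      (pullback.lift a' b' (by rw [ha', hb']) ≫
        pullback.map _ _ f f (pullback.fst f (t ≫ pullback.fst f f ≫ f))
          (pullback.fst f (t ≫ pullback.fst f f ≫ f)) _ sq.w.symm sq.w.symm) := by
    rw [hc]; exact sqE
  have sqE'' := IsPullback.of_right' sqE' (h5_isPullback_diagonal_baseChange sq)
  have sqS := h5_isPullback_sections _ a' b' ha' hb' sqE''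
  have hOI := h5_repWith_section_gen R Q hQ hP _ hg a' ha'
  exact hOI.property b' ((yon S).map e) e sqS

/-- The diagonal of a morphism locally of finite type is locally of finite presentation. -/
theorem h5_repWith_lfp_diagonal {X Y : Sp S} (hX : IsAlgSpace X) (hY : IsAlgSpace Y)
    (f : X ⟶ Y) (hf : LocP @LocallyOfFiniteType f) :
    RepWith @LocallyOfFinitePresentation (pullback.diagonal f) := by
  refine h5_repWith_diagonal_gen @LocallyOfFiniteType @LocallyOfFinitePresentation h5_good_lft
    ?_ hX hY f hf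
  intro W U T w h _ he hh
  haveI := he
  haveI : LocallyOfFiniteType h := hh
  haveI : LocallyOfFinitePresentation (w ≫ h) := inferInstance
  exact h5_lfp_of_comp w h

end AlgSp
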