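import Mathlib

set_option autoImplicit false
universe u
open CategoryTheory CategoryTheory.Limits AlgebraicGeometry Opposite Topology

namespace Groth.Agent.Lib.helper5

/-- A flat locally quasi-finite morphism preserves the coheight of points. -/
theorem h5_coheight_eq_of_flat_lqf {R U : Scheme.{u}} (g : R ⟶ U) [Flat g]
    [LocallyQuasiFinite g] (r : R) : Order.coheight r = Order.coheight (g r) := by
  refine Order.coheight_eq_of_strictMono (fun x : R => g x) ?_ ?_ r
  · intro a b hab
    have h1 : b ⤳ a := hab.le
    have h2 : ¬ a ⤳ b := hab.not_ge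
    refine lt_of_le_not_ge (h1.map g.continuous) ?_
    intro h3
    have h3' : g a ⤳ g b := h3
    have heq : g a = g b := (h3'.antisymm (h1.map g.continuous)).eq
    have hd := (g.isDiscrete_preimage_singleton (g a)).to_subtype
    let a' : g ⁻¹' {g a} := ⟨a, rfl⟩
    let b' : g ⁻¹' {g a} := ⟨b, heq.symm⟩
    have hs : b' ⤳ a' := (Topology.IsInducing.subtypeVal.specializes_iff).1 h1
    have : b' = a' := hs.eq
    apply h2
    have hba : b = a := congrArg Subtype.val this
    rw [hba]
  · intro a b hab
    have h1 : b ⤳ g a := hab.le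
    obtain ⟨a', ha', hga'⟩ := Flat.generalizingMap g h1
    refine ⟨a', lt_of_le_not_ge ha' ?_, hga'⟩
    intro h3
    have h3' : a ⤳ a' := h3
    apply hab.not_ge
    have := h3'.map g.continuous
    rw [hga'] at this
    exact this

theorem h5_ringKrullDim_stalk_eq_of_etale {R U : Scheme.{u}} (g : R ⟶ U) [Etale g] (r : R) :
    ringKrullDim (R.presheaf.stalk r) = ringKrullDim (U.presheaf.stalk (g r)) := by
  haveI : LocallyQuasiFinite g := by
    rw [HasRingHomProperty.iff_appLE (P := @LocallyQuasiFinite)]
    intro V W e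
    have h1 := HasRingHomProperty.appLE (P := @LocallyOfFiniteType) g inferInstance V W e
    have h2 := HasRingHomProperty.appLE (P := @FormallyUnramified) g inferInstance V W e
    letI := (g.appLE V W e).hom.toAlgebra
    haveI : Algebra.FiniteType Γ(U, V.1) Γ(R, W.1) := h1
    haveI : Algebra.FormallyUnramified Γ(U, V.1) Γ(R, W.1) := h2
    show Algebra.QuasiFinite Γ(U, V.1) Γ(R, W.1)
    infer_instance
  rw [AlgebraicGeometry.ringKrullDim_stalk_eq_coheight, AlgebraicGeometry.ringKrullDim_stalk_eq_coheight,
    h5_coheight_eq_of_flat_lqf g r]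

end Groth.Agent.Lib.helper5
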