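import Mathlib
import Groth.Prelude.Def_AlgSp4
import Groth.Agent.Lib.helper5.SchEtDim
import Groth.Agent.Lib.helper5.AlgSpPts

set_option autoImplicit false
universe u
open CategoryTheory CategoryTheory.Limits AlgebraicGeometry Opposite Topology
open Groth.Agent.Lib.helper5

namespace AlgSp

variable {S : Scheme.{u}}

/-- The dimension of the local ring at a point of an etale chart does not depend on the chart. -/
theorem h5_ringKrullDim_stalk_chart_indep {X : Sp S} {U U' : Over S} (a : (yon S).obj U ⟶ X)
    (a' : (yon S).obj U' ⟶ X) (ha : RepWith @Etale a) (ha' : RepWith @Etale a') (u : ↥U.left)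
    (u' : ↥U'.left) (e : Points.ofPt a u = Points.ofPt a' u') :
    ringKrullDim ↥(U.left.presheaf.stalk u) = ringKrullDim ↥(U'.left.presheaf.stalk u') := by
  have sq := ha.rep.isPullback a'
  obtain ⟨p1, hp1⟩ := (yon S).map_surjective (ha.rep.fst a')
  rw [← hp1] at sq
  haveI h2 : Etale (ha.rep.snd a').left := ha.property_snd a'
  haveI h1 : Etale p1.left := ha'.property a _ p1 sq.flip
  obtain ⟨v, hv1, hv2⟩ := h5_exists_of_ofPt_eq sq u u' e
  rw [← hv1, ← hv2, ← h5_ringKrullDim_stalk_eq_of_etale, ← h5_ringKrullDim_stalk_eq_of_etale]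

end AlgSp
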