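import Mathlib
import Groth.Agent.Lib.helper5.SchSrcDesc5
import Groth.Agent.Lib.helper5.SchFlatSrc

set_option autoImplicit false
universe u
open CategoryTheory CategoryTheory.Limits AlgebraicGeometry Opposite TensorProduct PrimeSpectrum

namespace Groth.Agent.Lib.helper5

/-- A flat ring map is injective locally at primes in its image. -/
theorem h5_eq_zero_of_flat {E B : Type u} [CommRing E] [CommRing B] (ψ : E →+* B) (hψ : ψ.Flat)
    (x y : E) (hx : ψ x = 0) (hyx : y * x = 0)
    (hy : ∀ p : PrimeSpectrum E, y ∈ p.asIdeal → p ∈ Set.range (PrimeSpectrum.comap ψ)) :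
    x = 0 := by
  apply eq_zero_of_localization
  intro J hJ
  haveI : J.IsPrime := hJ.isPrime
  by_cases hyJ : y ∈ J
  · obtain ⟨Q, hQ⟩ := hy ⟨J, inferInstance⟩ hyJ
    have hJQ : J = Ideal.comap ψ Q.asIdeal := by
      have := congrArg PrimeSpectrum.asIdeal hQ
      simpa using this.symm
    have hfl := RingHom.Flat.localRingHom hψ Q.asIdeal J hJQ
    have hinj : Function.Injective (Localization.localRingHom J Q.asIdeal ψ hJQ) := by
      algebraize [Localization.localRingHom J Q.asIdeal ψ hJQ]
      haveI : IsLocalHom (algebraMap (Localization.AtPrime J) (Localization.AtPrime Q.asIdeal)) :=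
        Localization.isLocalHom_localRingHom J Q.asIdeal ψ hJQ
      haveI : Module.FaithfullyFlat (Localization.AtPrime J) (Localization.AtPrime Q.asIdeal) :=
        Module.FaithfullyFlat.of_flat_of_isLocalHom
      exact FaithfulSMul.algebraMap_injective _ _
    apply hinj
    rw [Localization.localRingHom_to_map, hx, map_zero, map_zero]
  · rw [IsLocalization.map_eq_zero_iff J.primeCompl]
    exact ⟨⟨y, hyJ⟩, hyx⟩

/-- If an etale algebra `E` surjects onto `A` and `A` has a faithfully flat algebra `B` which is
etale over the base, then the kernel of `E → A` is finitely generated. -/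
theorem h5_ker_fg_of_etale {R E A B : Type u} [CommRing R] [CommRing E] [CommRing A] [CommRing B]
    [Algebra R E] [Algebra R A] [Algebra R B] [Algebra A B] [IsScalarTower R A B]
    [Algebra.Etale R E] [Algebra.Etale R B] [Module.FaithfullyFlat A B]
    (φ : E →ₐ[R] A) (hφ : Function.Surjective φ) : (RingHom.ker φ.toRingHom).FG := by
  let ψ : E →ₐ[R] B := (IsScalarTower.toAlgHom R A B).comp φ
  algebraize [ψ.toRingHom]
  haveI : IsScalarTower R E B := IsScalarTower.of_algebraMap_eq fun r => (ψ.commutes r).symm
  haveI : Algebra.Etale E B := Algebra.Etale.of_restrictScalars R E B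
  have hψ : ∀ x, algebraMap E B x = algebraMap A B (φ x) := fun x => rfl
  have hopen : IsOpenMap (PrimeSpectrum.comap (algebraMap E B)) :=
    PrimeSpectrum.isOpenMap_comap_of_hasGoingDown_of_finitePresentation
  have hrange : Set.range (PrimeSpectrum.comap (algebraMap E B)) =
      PrimeSpectrum.zeroLocus (RingHom.ker φ.toRingHom : Set E) := by
    ext p
    constructor
    · rintro ⟨P, rfl⟩ k hk
      change algebraMap E B k ∈ P.asIdeal
      rw [hψ, show φ k = 0 from hk, map_zero]
      exact zero_mem _
    · intro hp
      rw [← _root_.range_comap_of_surjective A φ.toRingHom hφ] at hp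
      obtain ⟨q, rfl⟩ := hp
      obtain ⟨P, rfl⟩ := PrimeSpectrum.comap_surjective_of_faithfullyFlat (A := A) (B := B) q
      refine ⟨P, ?_⟩
      ext x
      rfl
  have hclopen : IsClopen (PrimeSpectrum.zeroLocus (RingHom.ker φ.toRingHom : Set E)) :=
    ⟨PrimeSpectrum.isClosed_zeroLocus _, hrange ▸ hopen.isOpen_range⟩
  obtain ⟨e, he, heq⟩ := PrimeSpectrum.exists_idempotent_basicOpen_eq_of_isClopen hclopen
  have hrange' : ∀ p : PrimeSpectrum E, p ∈ Set.range (PrimeSpectrum.comap (algebraMap E B)) ↔
      e ∉ p.asIdeal := by
    intro p
    rw [hrange, heq]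
    rfl
  -- (a)
  have hunit : IsUnit (algebraMap E B e) := by
    by_contra hnu
    obtain ⟨M, hM, heM⟩ := exists_max_ideal_of_mem_nonunits hnu
    have := (hrange' (PrimeSpectrum.comap (algebraMap E B) ⟨M, hM.isPrime⟩)).1 ⟨_, rfl⟩
    exact this heM
  have hone : algebraMap E B e = 1 := by
    have hid : algebraMap E B e * algebraMap E B e = algebraMap E B e := by
      rw [← map_mul, he.eq]
    exact (IsUnit.mul_eq_left hunit).mp hid
  have hinjAB : Function.Injective (algebraMap A B) := FaithfulSMul.algebraMap_injective _ _
  have ha : 1 - e ∈ RingHom.ker φ.toRingHom := by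
    rw [RingHom.mem_ker]
    apply hinjAB
    change algebraMap A B (φ (1 - e)) = _
    rw [← hψ, map_sub, map_one, hone, sub_self, map_zero]
  -- (b)
  have hb : ∀ k ∈ RingHom.ker φ.toRingHom, k * e = 0 := by
    intro k hk
    have hflat : (algebraMap E B).Flat := by
      rw [RingHom.flat_algebraMap_iff]; infer_instance
    refine h5_eq_zero_of_flat (algebraMap E B) hflat (k * e) (1 - e) ?_ ?_ ?_
    · rw [map_mul, hψ k, show φ k = 0 from hk, map_zero, zero_mul]
    · have : (1 - e) * (k * e) = k * (e - e * e) := by ring
      rw [this, he.eq, sub_self, mul_zero]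
    · intro p hp
      rw [hrange']
      intro hep
      have : (1 : E) ∈ p.asIdeal := by
        have := p.asIdeal.add_mem hp hep
        simpa using this
      exact p.isPrime.ne_top ((Ideal.eq_top_iff_one _).2 this)
  have hK : RingHom.ker φ.toRingHom = Ideal.span {1 - e} := by
    apply le_antisymm
    · intro k hk
      have : k = k * (1 - e) := by
        have := hb k hk
        linear_combination this
      rw [this]
      exact Ideal.mul_mem_left _ _ (Ideal.subset_span rfl)
    · rw [Ideal.span_le]
      rintro _ rfl
      exact ha
  rw [hK]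
  exact ⟨{1 - e}, by simp⟩

end Groth.Agent.Lib.helper5

namespace Groth.Agent.Lib.helper5

/-- Local step: around each prime of `A`, some localization `A[1/g]` is finitely presented. -/
theorem h5_exists_fp_localization {R A B : Type u} [CommRing R] [CommRing A] [CommRing B]
    [Algebra R A] [Algebra A B] [Algebra R B] [IsScalarTower R A B]
    [Algebra.Etale A B] [Module.FaithfullyFlat A B] [Algebra.Etale R B]
    [Algebra.FiniteType R A] [Algebra.FormallyUnramified R A] (q : Ideal A) [q.IsPrime] :
    ∃ g ∉ q, Algebra.FinitePresentation R (Localization.Away g) := by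
  obtain ⟨g, hgq, P, φ, hφ⟩ :=
    Algebra.IsUnramifiedAt.exists_hasStandardEtaleSurjectionOn (R := R) q
  refine ⟨g, hgq, ?_⟩
  haveI : IsLocalization (Submonoid.map (algebraMap A B) (Submonoid.powers g))
      (Localization.Away (algebraMap A B g)) := by
    rw [Submonoid.map_powers]; infer_instance
  let ι : Localization.Away g →+* Localization.Away (algebraMap A B g) :=
    IsLocalization.map (Localization.Away (algebraMap A B g)) (algebraMap A B)
      (Submonoid.powers g).le_comap_map
  have hιe : ι.Etale :=
    RingHom.Etale.isStableUnderBaseChange.isLocalization_map (Submonoid.powers g)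
      (algebraMap A B) (RingHom.etale_algebraMap.2 inferInstance)
  have hιf : ι.FaithfullyFlat :=
    RingHom.FaithfullyFlat.isStableUnderBaseChange.isLocalization_map (Submonoid.powers g)
      (algebraMap A B) (RingHom.faithfullyFlat_algebraMap_iff.2 inferInstance)
  algebraize [ι]
  have hcomp : ι.comp (algebraMap A (Localization.Away g)) =
      (algebraMap B (Localization.Away (algebraMap A B g))).comp (algebraMap A B) :=
    IsLocalization.map_comp _
  haveI : IsScalarTower A (Localization.Away g) (Localization.Away (algebraMap A B g)) :=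
    IsScalarTower.of_algebraMap_eq' (by
      rw [IsScalarTower.algebraMap_eq A B (Localization.Away (algebraMap A B g))]
      exact hcomp.symm)
  haveI : IsScalarTower R (Localization.Away g) (Localization.Away (algebraMap A B g)) :=
    IsScalarTower.of_algebraMap_eq' (by
      rw [IsScalarTower.algebraMap_eq R A (Localization.Away g),
        IsScalarTower.algebraMap_eq R A (Localization.Away (algebraMap A B g)),
        IsScalarTower.algebraMap_eq A (Localization.Away g) (Localization.Away (algebraMap A B g)),
        RingHom.comp_assoc])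
  haveI : Algebra.Etale (Localization.Away g) (Localization.Away (algebraMap A B g)) :=
    RingHom.etale_algebraMap.1 hιe
  haveI : Module.FaithfullyFlat (Localization.Away g) (Localization.Away (algebraMap A B g)) :=
    RingHom.faithfullyFlat_algebraMap_iff.1 hιf
  have hfg := h5_ker_fg_of_etale (R := R) (E := P.Ring) (A := Localization.Away g)
    (B := Localization.Away (algebraMap A B g)) φ hφ
  exact Algebra.FinitePresentation.of_surjective hφ hfg

/-- Etale algebras descend on the source along etale faithfully flat maps. -/
theorem h5_etale_of_etale_faithfullyFlat (R A B : Type u) [CommRing R] [CommRing A] [CommRing B]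
    [Algebra R A] [Algebra A B] [Algebra R B] [IsScalarTower R A B]
    [Algebra.Etale A B] [Module.FaithfullyFlat A B] [Algebra.Etale R B] : Algebra.Etale R A := by
  haveI : Algebra.FiniteType R A := h5_finiteType_of_smooth_faithfullyFlat (R := R) (A := A) (B := B)
  haveI : Algebra.FormallyUnramified R A :=
    h5_formallyUnramified_of_faithfullyFlat (R := R) (A := A) (B := B)
  haveI : Module.Flat R A := h5_module_flat_of_faithfullyFlat R A B
  haveI : Algebra.FinitePresentation R A := by
    rw [← RingHom.finitePresentation_algebraMap]
    refine RingHom.finitePresentation_ofLocalizationSpanTarget (algebraMap R A)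
      {g | Algebra.FinitePresentation R (Localization.Away g)} ?_ ?_
    · by_contra hne
      obtain ⟨m, hm, hle⟩ := Ideal.exists_le_maximal _ hne
      haveI := hm.isPrime
      obtain ⟨g, hgm, hg⟩ := h5_exists_fp_localization (R := R) (A := A) (B := B) m
      exact hgm (hle (Ideal.subset_span hg))
    · rintro ⟨g, hg⟩
      rw [← IsScalarTower.algebraMap_eq, RingHom.finitePresentation_algebraMap]
      exact hg
  exact Algebra.Etale.of_formallyUnramified_of_flat

theorem h5_ringHom_etale_of_comp {R A B : Type u} [CommRing R] [CommRing A]
    [CommRing B] (φ : R →+* A) (ψ : A →+* B) (h1 : (ψ.comp φ).Etale)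
    (h2 : ψ.Etale) (h3 : ψ.FaithfullyFlat) : φ.Etale := by
  algebraize [φ, ψ, ψ.comp φ]
  exact (RingHom.etale_algebraMap (R := R) (S := A)).2 (h5_etale_of_etale_faithfullyFlat R A B)

end Groth.Agent.Lib.helper5
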