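import Mathlib
import Groth.Agent.Lib.helper5.SchEtSrc
import Groth.Agent.Lib.helper5.SchSrcDesc4

set_option autoImplicit false
universe u
open CategoryTheory CategoryTheory.Limits AlgebraicGeometry Opposite

namespace Groth.Agent.Lib.helper5

/-- Being etale descends along etale surjective maps on the source. -/
theorem h5_etale_of_etale_surjective_comp {X' X Y : Scheme.{u}} (f : X' ⟶ X)
    (g : X ⟶ Y) [Etale f] [Surjective f] [Etale (f ≫ g)] :
    Etale g := by
  haveI : MorphismProperty.RespectsRight (@Etale : MorphismProperty Scheme.{u})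
      @IsOpenImmersion :=
    ⟨fun i hi f hf => by
      haveI : IsOpenImmersion i := hi
      exact MorphismProperty.comp_mem _ _ _ hf (inferInstance : Etale i)⟩
  rw [IsZariskiLocalAtSource.iff_exists_resLE (P := @Etale)]
  intro x
  obtain ⟨V, hV, hxV⟩ : ∃ V : Y.Opens, IsAffineOpen V ∧ g x ∈ V := by
    obtain ⟨_, ⟨V, hV, rfl⟩, hxV, -⟩ :=
      Y.isBasis_affineOpens.exists_subset_of_mem_open (Set.mem_univ (g x)) isOpen_univ
    exact ⟨V, hV, hxV⟩
  obtain ⟨U, U', hU, hU', hxU, hUV, hle, hsurj⟩ :=
    h5_exists_affine_surjOn f f.isOpenMap x (g ⁻¹ᵁ V) hxV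
  refine ⟨V, U, hxU, hUV, ?_⟩
  haveI : IsAffine V.toScheme := hV
  haveI : IsAffine U.toScheme := hU
  haveI : IsAffine U'.toScheme := hU'
  have e' : U' ≤ (f ≫ g) ⁻¹ᵁ V := hle.trans (f.preimage_mono hUV)
  have hpq : f.resLE U U' hle ≫ g.resLE V U hUV = (f ≫ g).resLE V U' e' :=
    Scheme.Hom.resLE_comp_resLE ..
  haveI : Etale (f.resLE U U' hle ≫ g.resLE V U hUV) := by
    rw [hpq]
    exact IsZariskiLocalAtSource.resLE (P := @Etale) e' inferInstance
  haveI : Surjective (f.resLE U U' hle) := h5_surjective_resLE f _ _ _ hsurj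
  rw [HasRingHomProperty.iff_of_isAffine (P := @Etale)]
  have h1 : (f.resLE U U' hle ≫ g.resLE V U hUV).appTop.hom.Etale :=
    (HasRingHomProperty.iff_of_isAffine (P := @Etale)).1 inferInstance
  have h2 : (f.resLE U U' hle).appTop.hom.Etale :=
    (HasRingHomProperty.iff_of_isAffine (P := @Etale)).1 inferInstance
  have h3 : (f.resLE U U' hle).appTop.hom.FaithfullyFlat :=
    (Flat.flat_and_surjective_iff_faithfullyFlat_of_isAffine _).1 ⟨inferInstance, inferInstance⟩
  rw [Scheme.Hom.comp_appTop, CommRingCat.hom_comp] at h1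
  exact h5_ringHom_etale_of_comp _ _ h1 h2 h3

instance h5_etale_isLocalAtSource_etale :
    MorphismProperty.IsLocalAtSource (@Etale : MorphismProperty Scheme.{u})
      Scheme.etalePrecoverage :=
  h5_isLocalAtSource_etale_of _
    (fun e f he hf => by
      haveI := he
      exact MorphismProperty.comp_mem _ _ _ (inferInstance : Etale e) hf)
    (fun e f he hs hef => by
      haveI := he; haveI := hs; haveI : Etale (e ≫ f) := hef
      exact h5_etale_of_etale_surjective_comp e f)

end Groth.Agent.Lib.helper5
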