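import Mathlib
import Groth.Prelude.Def_AlgSpCov
import Groth.Agent.Lib.helper5.AlgSpLocP
import Groth.Agent.Lib.helper5.AlgSpEt
import Groth.Agent.Lib.helper5.SchEtSrc2

set_option autoImplicit false
universe u
open CategoryTheory CategoryTheory.Limits AlgebraicGeometry Opposite

namespace AlgSp

variable {S : Scheme.{u}}

open Groth.Agent.Lib.helper5

theorem h5_good_etale : H5Good (@Etale : MorphismProperty Scheme.{u}) where
  etale_le f hf := hf
  desc p g hp hs h := by
    haveI := hp; haveI := hs; haveI := h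
    exact h5_etale_of_etale_surjective_comp p g

/-- Representable-with-`P` can be checked after precomposing with an etale surjective morphism
of schemes, for `P` descending along such maps on the source. -/
theorem h5_repWith_of_precomp_etale_surjective (P : MorphismProperty Scheme.{u})
    (hdesc : ∀ {X Y Z : Scheme.{u}} (p : X ⟶ Y) (g : Y ⟶ Z), Etale p → Surjective p →
      P (p ≫ g) → P g)
    {F : Sp S} {U U' : Over S} (χ : U ⟶ U') (hχe : Etale χ.left) (hχs : Surjective χ.left)
    (φ' : (yon S).obj U' ⟶ F) (hrep : Representable φ')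
    (h : RepWith P ((yon S).map χ ≫ φ')) : RepWith P φ' := by
  rw [repWith_iff]
  refine ⟨hrep, fun T V g fst snd sq => ?_⟩
  obtain ⟨a, rfl⟩ := (yon S).map_surjective fst
  have sqW : IsPullback (pullback.fst a χ) (pullback.snd a χ) a χ := IsPullback.of_hasPullback _ _
  have sqW' := (sqW.map (yon S)).flip
  have big := sqW'.paste_vert sq
  rw [← Functor.map_comp] at big
  have h1 : P (pullback.fst a χ ≫ snd).left := h.property g _ _ big
  rw [Over.comp_left] at h1
  have sqL := sqW.map (Over.forget S)
  have he : Etale (pullback.fst a χ).left :=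
    MorphismProperty.of_isPullback (P := @Etale) sqL.flip hχe
  have hs : Surjective (pullback.fst a χ).left :=
    MorphismProperty.of_isPullback (P := @Surjective) sqL.flip hχs
  exact hdesc _ _ he hs h1

/-- For morphisms to an algebraic space, being etale is the chart-wise property. -/
theorem h5_isEtaleMor_of_locP {X Y : Sp S} (hY : IsAlgSpace Y) (f : X ⟶ Y)
    (hf : LocP @Etale f) : IsEtaleMor f := by
  intro T φ hφ
  obtain ⟨V₀, b, hbe, hbs⟩ := hY.atlas
  have sq := hbe.rep.isPullback (φ ≫ f)
  obtain ⟨t, ht⟩ := (yon S).map_surjective (hbe.rep.fst (φ ≫ f))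
  have hte : Etale (hbe.rep.snd (φ ≫ f)).left := hbe.property_snd _
  have hts : Surjective (hbe.rep.snd (φ ≫ f)).left := hbs.property_snd _
  have hcomm : ((yon S).map (hbe.rep.snd (φ ≫ f)) ≫ φ) ≫ f = (yon S).map t ≫ b := by
    rw [Category.assoc, ht]; exact sq.w.symm
  have h1 : Etale t.left :=
    hf _ b t ((RepWith @Etale).comp_mem _ _ ((repWith_yon_map_iff _ _).2 hte) hφ) hbe hcomm
  refine h5_repWith_of_precomp_etale_surjective @Etale
    (fun p g hp hs h => h5_good_etale.desc p g hp hs h)
    (hbe.rep.snd (φ ≫ f)) hte hts (φ ≫ f) (hY.representable_from_yon _) ?_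
  rw [← Category.assoc, hcomm]
  exact (RepWith @Etale).comp_mem _ _ ((repWith_yon_map_iff _ _).2 h1) hbe

theorem h5_isEtaleMor_iff_locP {X Y : Sp S} (hY : IsAlgSpace Y) (f : X ⟶ Y) :
    IsEtaleMor f ↔ LocP @Etale f :=
  ⟨h5_locP_etale_of_isEtaleMor f, h5_isEtaleMor_of_locP hY f⟩

end AlgSp
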