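import Mathlib
import Groth.Prelude.Def_AlgSp4
import Groth.Agent.Lib.helper5.AlgSpUnramDiag
import Groth.Agent.Lib.helper5.AlgSpOpen2
import Groth.Agent.Lib.helper5.AlgSpQc
import Groth.Agent.Lib.helper5.AlgSpEtale

set_option autoImplicit false
universe u
open CategoryTheory CategoryTheory.Limits AlgebraicGeometry Opposite

namespace AlgSp

variable {S : Scheme.{u}}

/-- An etale monomorphism from an algebraic space to a scheme is (the inclusion of) an open
subscheme. -/
theorem h5_etale_mono_to_scheme {P : Sp S} (hP : IsAlgSpace P) {T : Over S}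
    (g : P ⟶ (yon S).obj T) [Mono g] (hg : LocP @Etale g) :
    ∃ (W : Over S) (j : W ⟶ T) (e : P ≅ (yon S).obj W),
      IsOpenImmersion j.left ∧ e.hom ≫ (yon S).map j = g := by
  obtain ⟨U, p, hpe, hps⟩ := hP.atlas
  obtain ⟨h, hh⟩ := (yon S).map_surjective (p ≫ g)
  haveI hhe : Etale h.left := hg p (𝟙 _) h hpe (repWith_id _ _) (by rw [hh, Category.comp_id])
  let W₀ : T.left.Opens := ⟨Set.range h.left, h.left.isOpenMap.isOpen_range⟩
  have hr : Set.range h.left ⊆ Set.range W₀.ι := by
    rw [Scheme.Opens.range_ι]; exact subset_rfl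
  let h₀ : U.left ⟶ W₀.toScheme := IsOpenImmersion.lift W₀.ι h.left hr
  have hfac : h₀ ≫ W₀.ι = h.left := IsOpenImmersion.lift_fac _ _ _
  let h' : U ⟶ h5_openOver T W₀ := Over.homMk h₀ (by
    change h₀ ≫ W₀.ι ≫ T.hom = U.hom
    rw [← Category.assoc, hfac]; exact Over.w h)
  have hh' : h' ≫ h5_openOverι T W₀ = h := Over.OverMorphism.ext hfac
  haveI : Etale (h₀ ≫ W₀.ι) := by rw [hfac]; exact hhe
  haveI he₀ : Etale h₀ := Etale.of_comp h₀ W₀.ι
  have hsurj : Surjective h₀ := ⟨fun w => by
    obtain ⟨u, hu⟩ : (W₀.ι w) ∈ Set.range h.left := w.2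
    refine ⟨u, W₀.ι.isOpenEmbedding.injective ?_⟩
    rw [← Scheme.Hom.comp_apply, hfac]; exact hu⟩
  have hj : RepWith @IsOpenImmersion ((yon S).map (h5_openOverι T W₀)) :=
    (repWith_yon_map_iff _ _).2 (inferInstanceAs (IsOpenImmersion W₀.ι))
  haveI hjm : Mono ((yon S).map (h5_openOverι T W₀)) :=
    h5_mono_of_repWith h5_openImm_le_mono _ hj
  obtain ⟨d, hd⟩ := h5_exists_factor_of_openImmersion _ hj g (by
    rintro _ ⟨x, rfl⟩
    obtain ⟨u, rfl⟩ := h5_surjective_ofPt p hps x
    rw [Points.map_ofPt, ← hh, ← hh', Functor.map_comp, ← Points.map_ofPt]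
    exact ⟨_, rfl⟩)
  haveI : Mono d := by
    haveI : Mono (d ≫ (yon S).map (h5_openOverι T W₀)) := by rw [hd]; infer_instance
    exact mono_of_mono d ((yon S).map (h5_openOverι T W₀))
  have hpd : p ≫ d = (yon S).map h' := by
    rw [← cancel_mono ((yon S).map (h5_openOverι T W₀)), Category.assoc, hd,
      ← Functor.map_comp, hh', hh]
  haveI : Epi ((yon S).map h') := h5_epi_of_repWith_etale_surjective _
    ((repWith_yon_map_iff _ _).2 he₀) ((repWith_yon_map_iff _ _).2 hsurj)
  haveI : Epi d := epi_of_epi_fac hpd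
  haveI : IsIso d := isIso_of_mono_of_epi d
  exact ⟨_, h5_openOverι T W₀, asIso d, inferInstanceAs (IsOpenImmersion W₀.ι), hd⟩

/-- An etale monomorphism of algebraic spaces is an open immersion. -/
theorem h5_repWith_openImmersion_of_etale_mono {X Y : Sp S} (hX : IsAlgSpace X)
    (hY : IsAlgSpace Y) (f : X ⟶ Y) [Mono f] (hf : LocP @Etale f) :
    RepWith @IsOpenImmersion f := by
  apply MorphismProperty.relative.of_exists
  intro T t
  have sq0 := IsPullback.of_hasPullback f t
  have hP : IsAlgSpace (pullback f t) :=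
    h5_isAlgSpace_of_isPullback hY.diag hX (IsAlgSpace.yon_obj T) sq0
  have hg := h5_locP_baseChange h5_good_etale hX hY (IsAlgSpace.yon_obj T) sq0 hf
  obtain ⟨W, j, e, hj, he⟩ := h5_etale_mono_to_scheme hP (pullback.snd f t) hg
  refine ⟨W, e.inv ≫ pullback.fst f t, j, ?_, hj⟩
  refine IsPullback.of_iso sq0 e (Iso.refl _) (Iso.refl _) (Iso.refl _) ?_ ?_ ?_ ?_
  · simp
  · simp [he]
  · simp
  · simp

/-- A representable open immersion which is surjective on points is an isomorphism. -/
theorem h5_isIso_of_openImmersion_surjective {F' F : Sp S} (j : F' ⟶ F)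
    (hj : RepWith @IsOpenImmersion j) (hs : IsSurjectiveMor j) : IsIso j := by
  haveI hm : Mono j := h5_mono_of_repWith h5_openImm_le_mono j hj
  obtain ⟨g, hg⟩ := h5_exists_factor_of_openImmersion j hj (𝟙 F) (by
    intro x _
    exact hs x)
  have : j ≫ g = 𝟙 _ := by
    rw [← cancel_mono j, Category.assoc, hg, Category.comp_id, Category.id_comp]
  exact ⟨g, this, hg⟩

/-- Universally injective morphisms have surjective diagonal. -/
theorem h5_isSurjectiveMor_diagonal_of_univInjective {X Y : Sp S} (hX : IsAlgSpace X)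
    (f : X ⟶ Y) (hf : IsUnivInjectiveMor f) : IsSurjectiveMor (pullback.diagonal f) := by
  have hinj : Function.Injective (Points.map (pullback.snd f f)) :=
    hf hX f (pullback.fst f f) (pullback.snd f f) (IsPullback.of_hasPullback f f)
  intro z
  refine ⟨Points.map (pullback.snd f f) z, hinj ?_⟩
  rw [← Points.map_comp, pullback.diagonal_snd, Points.map_id]

/-- An etale universally injective morphism of algebraic spaces is an open immersion. -/
theorem h5_repWith_openImmersion_of_etale_univInjective {X Y : Sp S} (hX : IsAlgSpace X)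
    (hY : IsAlgSpace Y) (f : X ⟶ Y) (hf : LocP @Etale f) (hinj : IsUnivInjectiveMor f) :
    RepWith @IsOpenImmersion f := by
  have hle : (@Etale : MorphismProperty Scheme.{u}) ≤
      (@LocallyOfFiniteType ⊓ @FormallyUnramified : MorphismProperty Scheme.{u}) :=
    fun _ _ g hg => by
      haveI : Etale g := hg
      exact ⟨inferInstance, inferInstance⟩
  have hun : LocP (@LocallyOfFiniteType ⊓ @FormallyUnramified : MorphismProperty Scheme.{u}) f :=
    fun U V a b h ha hb comm => hle _ _ _ (hf a b h ha hb comm)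
  have hΔ := h5_repWith_openImmersion_diagonal hX hY f hun
  haveI : IsIso (pullback.diagonal f) := h5_isIso_of_openImmersion_surjective _ hΔ
    (h5_isSurjectiveMor_diagonal_of_univInjective hX f hinj)
  haveI : Mono f := (pullback.isIso_diagonal_iff f).1 inferInstance
  exact h5_repWith_openImmersion_of_etale_mono hX hY f hf

end AlgSp
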