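import Mathlib
import Groth.Prelude.Def_AlgSp4
import Groth.Agent.Lib.helper5.AlgSpOpen3
import Groth.Agent.Lib.helper5.AlgSpPb

set_option autoImplicit false
universe u
open CategoryTheory CategoryTheory.Limits AlgebraicGeometry Opposite Topology

namespace AlgSp

variable {S : Scheme.{u}}

/-- An etale morphism of algebraic spaces is universally open. -/
theorem h5_isUnivOpenMor_of_isEtaleMor {Y' Y : Sp S} (hY' : IsAlgSpace Y') (hY : IsAlgSpace Y)
    (g : Y' ⟶ Y) (hg : IsEtaleMor g) : IsUnivOpenMor g := by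
  intro Z Z' hZ h fst snd sq
  obtain ⟨U, pU, he, hs⟩ := hY'.atlas
  have hpg : RepWith @Etale (pU ≫ g) := hg pU he
  have hZ' : IsAlgSpace Z' := h5_isAlgSpace_of_isPullback hY.diag hY' hZ sq
  have sqQ := IsPullback.of_hasPullback fst pU
  have hQ : IsAlgSpace (pullback fst pU) :=
    h5_isAlgSpace_of_isPullback hY'.diag hZ' (IsAlgSpace.yon_obj U) sqQ
  have hπs : RepWith @Surjective (pullback.fst fst pU) :=
    MorphismProperty.of_isPullback (P := RepWith @Surjective) sqQ.flip hs
  have sqbig := sqQ.paste_horiz sq.flip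
  have hbe : RepWith @Etale (pullback.fst fst pU ≫ snd) :=
    MorphismProperty.of_isPullback (P := RepWith @Etale) sqbig.flip hpg
  have hopen := h5_isOpenMap_map_of_repWith_etale hQ _ hbe
  have hsurj := (h5_repWith_surjective_iff _ hπs.rep).1 hπs
  intro W hW
  have : Points.map snd '' W = Points.map (pullback.fst fst pU ≫ snd) ''
      (Points.map (pullback.fst fst pU) ⁻¹' W) := by
    ext y
    constructor
    · rintro ⟨x, hx, rfl⟩
      obtain ⟨q, rfl⟩ := hsurj x
      exact ⟨q, hx, Points.map_comp _ _ _⟩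
    · rintro ⟨q, hq, rfl⟩
      exact ⟨Points.map (pullback.fst fst pU) q, hq, (Points.map_comp _ _ _).symm⟩
  rw [this]
  exact hopen _ (hW.preimage (Points.continuous_map _))

end AlgSp
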