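import Mathlib
import Groth.Prelude.Def_AlgSp4
import Groth.Agent.Lib.helper5.AlgSpDiag

set_option autoImplicit false
universe u v
open CategoryTheory CategoryTheory.Limits AlgebraicGeometry Opposite Topology

namespace AlgSp

section cat

variable {C : Type u} [Category.{v} C]

/-- The map `A ×_Y B ⟶ X ×_Y Z` induced by `A ⟶ X`, `B ⟶ Z` is a composite of base changes of
these two maps. -/
theorem h5_isPullback_fib_factor [HasPullbacks C] {X Y Z Z' A B P : C} {f : X ⟶ Y} {g : Z ⟶ Y}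
    {fst : Z' ⟶ X} {snd : Z' ⟶ Z} (sq : IsPullback fst snd f g) (pX : A ⟶ X) (pZ : B ⟶ Z)
    {p1 : P ⟶ A} {p2 : P ⟶ B} (sqP : IsPullback p1 p2 (pX ≫ f) (pZ ≫ g)) :
    ∃ (qM : P ⟶ pullback fst pX), IsPullback p2 qM pZ (pullback.fst fst pX ≫ snd) ∧
      qM ≫ pullback.fst fst pX = sq.lift (p1 ≫ pX) (p2 ≫ pZ) (by simpa using sqP.w) := by
  have sqM := IsPullback.of_hasPullback fst pX
  have sqMZ := sqM.paste_horiz sq.flip
  let q : P ⟶ Z' := sq.lift (p1 ≫ pX) (p2 ≫ pZ) (by simpa using sqP.w)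
  let qM : P ⟶ pullback fst pX := sqM.lift q p1 (sq.lift_fst _ _ _)
  have h1 : qM ≫ pullback.snd fst pX = p1 := sqM.lift_snd _ _ _
  have h2 : qM ≫ pullback.fst fst pX = q := sqM.lift_fst _ _ _
  refine ⟨qM, ?_, h2⟩
  refine IsPullback.of_bot ?_ ?_ sqMZ
  · rw [h1]; exact sqP.flip
  · rw [← Category.assoc, h2]
    exact (sq.lift_snd _ _ _).symm

set_option backward.isDefEq.respectTransparency false in
/-- The diagonal of an object with a jointly monic pair of maps to `X`, `Z`: its base change is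
the intersection of the base changes of the diagonals of `X` and `Z`. -/
theorem h5_isPullback_diag_of_jointly_mono [HasBinaryProducts C] {P X Z T EX EZ E : C}
    (fst : P ⟶ X) (snd : P ⟶ Z)
    (hmono : ∀ {W : C} (u v : W ⟶ P), u ≫ fst = v ≫ fst → u ≫ snd = v ≫ snd → u = v)
    (t1 t2 : T ⟶ P) {ex1 : EX ⟶ X} {ex2 : EX ⟶ T}
    (sqX : IsPullback ex1 ex2 (Limits.diag X) (prod.lift (t1 ≫ fst) (t2 ≫ fst)))
    {ez1 : EZ ⟶ Z} {ez2 : EZ ⟶ T}
    (sqZ : IsPullback ez1 ez2 (Limits.diag Z) (prod.lift (t1 ≫ snd) (t2 ≫ snd)))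
    {a : E ⟶ EX} {b : E ⟶ EZ} (sqE : IsPullback a b ex2 ez2) :
    IsPullback (a ≫ ex2 ≫ t1) (a ≫ ex2) (Limits.diag P) (prod.lift t1 t2) := by
  have wx1 : ex1 = ex2 ≫ t1 ≫ fst := by
    have := congrArg (· ≫ prod.fst) sqX.w
    simpa using this
  have wx2 : ex1 = ex2 ≫ t2 ≫ fst := by
    have := congrArg (· ≫ prod.snd) sqX.w
    simpa using this
  have wz1 : ez1 = ez2 ≫ t1 ≫ snd := by
    have := congrArg (· ≫ prod.fst) sqZ.w
    simpa using this
  have wz2 : ez1 = ez2 ≫ t2 ≫ snd := by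
    have := congrArg (· ≫ prod.snd) sqZ.w
    simpa using this
  have hkey : a ≫ ex2 ≫ t1 = a ≫ ex2 ≫ t2 := by
    apply hmono
    · simp only [Category.assoc]
      rw [← wx1, ← wx2]
    · have e : a ≫ ex2 = b ≫ ez2 := sqE.w
      simp only [Category.assoc]
      rw [reassoc_of% e, reassoc_of% e, ← wz1, ← wz2]
  refine h5_isPullback_of_exists_unique ?_ ?_ ?_
  · apply prod.hom_ext
    · simp
    · simp [hkey]
  · intro W x y h
    have hx1 : x = y ≫ t1 := by
      have := congrArg (· ≫ prod.fst) h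
      simpa using this
    have hx2 : x = y ≫ t2 := by
      have := congrArg (· ≫ prod.snd) h
      simpa using this
    have hmX : (x ≫ fst) ≫ Limits.diag X = y ≫ prod.lift (t1 ≫ fst) (t2 ≫ fst) := by
      apply prod.hom_ext
      · simp [hx1]
      · have : x ≫ fst = y ≫ t2 ≫ fst := by rw [hx2, Category.assoc]
        simpa using this
    have hmZ : (x ≫ snd) ≫ Limits.diag Z = y ≫ prod.lift (t1 ≫ snd) (t2 ≫ snd) := by
      apply prod.hom_ext
      · simp [hx1]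
      · have : x ≫ snd = y ≫ t2 ≫ snd := by rw [hx2, Category.assoc]
        simpa using this
    refine ⟨sqE.lift (sqX.lift (x ≫ fst) y hmX) (sqZ.lift (x ≫ snd) y hmZ)
      (by rw [sqX.lift_snd, sqZ.lift_snd]), ?_, ?_⟩
    · rw [← Category.assoc, sqE.lift_fst, ← Category.assoc, sqX.lift_snd, ← hx1]
    · rw [← Category.assoc, sqE.lift_fst, sqX.lift_snd]
  · intro W m m' _ h2
    have h2' : m ≫ b ≫ ez2 = m' ≫ b ≫ ez2 := by rw [← sqE.w]; exact h2
    apply sqE.hom_ext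
    · apply sqX.hom_ext
      · rw [wx1]
        simp only [Category.assoc] at h2 ⊢
        rw [reassoc_of% h2]
      · simpa using h2
    · apply sqZ.hom_ext
      · rw [wz1]
        simp only [Category.assoc] at h2' ⊢
        rw [reassoc_of% h2']
      · simpa using h2'

end cat

variable {S : Scheme.{u}}

theorem h5_repWith_fib_lift (Q : MorphismProperty Scheme.{u}) [Q.IsStableUnderBaseChange]
    [Q.IsMultiplicative] {X Y Z Z' A B P : Sp S} {f : X ⟶ Y} {g : Z ⟶ Y}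
    {fst : Z' ⟶ X} {snd : Z' ⟶ Z} (sq : IsPullback fst snd f g) (pX : A ⟶ X) (pZ : B ⟶ Z)
    (hX : RepWith Q pX) (hZ : RepWith Q pZ)
    {p1 : P ⟶ A} {p2 : P ⟶ B} (sqP : IsPullback p1 p2 (pX ≫ f) (pZ ≫ g)) :
    RepWith Q (sq.lift (p1 ≫ pX) (p2 ≫ pZ) (by simpa using sqP.w)) := by
  obtain ⟨qM, sq1, h⟩ := h5_isPullback_fib_factor sq pX pZ sqP
  rw [← h]
  refine (RepWith Q).comp_mem _ _ ?_ ?_
  · exact MorphismProperty.of_isPullback (P := RepWith Q) sq1 hZ
  · exact MorphismProperty.of_isPullback (P := RepWith Q)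
      (IsPullback.of_hasPullback fst pX).flip hX


theorem h5_repWith_diag_of_isPullback (Q : MorphismProperty Scheme.{u})
    [Q.IsStableUnderBaseChange] [Q.IsStableUnderComposition] {X Y Z P : Sp S} {f : X ⟶ Y}
    {g : Z ⟶ Y} {fst : P ⟶ X} {snd : P ⟶ Z} (sq : IsPullback fst snd f g)
    (hX : RepWith Q (Limits.diag X)) (hZ : RepWith Q (Limits.diag Z)) :
    RepWith Q (Limits.diag P) := by
  apply MorphismProperty.relative.of_exists
  intro T t
  have ht : t = prod.lift (t ≫ prod.fst) (t ≫ prod.snd) := by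
    apply prod.hom_ext
    · rw [prod.lift_fst]
    · rw [prod.lift_snd]
  have sqX := hX.rep.isPullback (prod.lift ((t ≫ prod.fst) ≫ fst) ((t ≫ prod.snd) ≫ fst))
  have hQX : Q (hX.rep.snd (prod.lift ((t ≫ prod.fst) ≫ fst) ((t ≫ prod.snd) ≫ fst))).left :=
    hX.property_snd _
  have sqZ := hZ.rep.isPullback (prod.lift ((t ≫ prod.fst) ≫ snd) ((t ≫ prod.snd) ≫ snd))
  have hQZ : Q (hZ.rep.snd (prod.lift ((t ≫ prod.fst) ≫ snd) ((t ≫ prod.snd) ≫ snd))).left :=
    hZ.property_snd _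
  have sqO := IsPullback.of_hasPullback
    (hX.rep.snd (prod.lift ((t ≫ prod.fst) ≫ fst) ((t ≫ prod.snd) ≫ fst)))
    (hZ.rep.snd (prod.lift ((t ≫ prod.fst) ≫ snd) ((t ≫ prod.snd) ≫ snd)))
  have sqE := sqO.map (yon S)
  have key := h5_isPullback_diag_of_jointly_mono fst snd
    (fun u v h1 h2 => sq.hom_ext h1 h2) (t ≫ prod.fst) (t ≫ prod.snd) sqX sqZ sqE
  rw [← ht, ← Category.assoc, ← (yon S).map_comp] at key
  refine ⟨_, _, _, key, ?_⟩
  have sqS := sqO.map (Over.forget S)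
  exact Q.comp_mem _ _ (Q.of_isPullback sqS.flip hQZ) hQX

end AlgSp
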