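import Mathlib
import Groth.Agent.Lib.helper5.SchReduced
import Groth.Agent.Lib.helper5.SchSrcDesc5

set_option autoImplicit false
universe u
open CategoryTheory CategoryTheory.Limits AlgebraicGeometry Opposite

namespace Groth.Agent.Lib.helper5

/-- The local rings of a scheme etale over a field are fields. -/
theorem h5_isField_stalk_of_etale_field (K : Type u) [Field K] {W : Scheme.{u}}
    (g : W ⟶ Spec (CommRingCat.of K)) [Etale g] (w : W) : IsField (W.presheaf.stalk w) := by
  haveI : IsReduced W := h5_isReduced_of_smooth_hom g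
  haveI : LocallyQuasiFinite g := h5_lqf_of_etale g
  haveI : IsLocallyArtinian (Spec (CommRingCat.of K)) :=
    Scheme.isLocallyArtinianScheme_Spec.2 (inferInstanceAs (IsArtinianRing K))
  haveI : IsLocallyArtinian W := IsLocallyArtinian.of_locallyQuasiFinite g
  obtain ⟨_, ⟨U, hU, rfl⟩, hwU, -⟩ :=
    W.isBasis_affineOpens.exists_subset_of_mem_open (Set.mem_univ w) isOpen_univ
  letI : Algebra Γ(W, U) (W.presheaf.stalk w) :=
    TopCat.Presheaf.algebra_section_stalk W.presheaf ⟨w, hwU⟩
  haveI := hU.isLocalization_stalk ⟨w, hwU⟩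
  haveI : IsArtinianRing Γ(W, U) := IsLocallyArtinian.isArtinianRing_presheaf_obj ⟨U, hU⟩
  haveI : IsArtinianRing (W.presheaf.stalk w) :=
    (IsArtinianRing.localization_surjective (hU.primeIdealOf ⟨w, hwU⟩).asIdeal.primeCompl
      (W.presheaf.stalk w)).isArtinianRing
  haveI : _root_.IsReduced (W.presheaf.stalk w) :=
    isReduced_localizationPreserves (hU.primeIdealOf ⟨w, hwU⟩).asIdeal.primeCompl _ inferInstance
  exact IsArtinianRing.isField_of_isReduced_of_isLocalRing _

/-- A local ring admitting a flat local homomorphism to a field is a field. -/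
theorem h5_isField_of_flat_local {A B : Type u} [CommRing A] [CommRing B] [IsLocalRing A]
    (φ : A →+* B) (hφ : φ.Flat) [IsLocalRing B] [IsLocalHom φ] (hB : IsField B) : IsField A := by
  have hinj : Function.Injective φ := by
    algebraize [φ]
    haveI : IsLocalHom (algebraMap A B) := ‹IsLocalHom φ›
    haveI : Module.FaithfullyFlat A B := Module.FaithfullyFlat.of_flat_of_isLocalHom
    exact FaithfulSMul.algebraMap_injective _ _
  refine ⟨exists_pair_ne A, mul_comm, fun {a} ha => ?_⟩
  have h1 : φ a ≠ 0 := fun h => ha (hinj (by rw [h, map_zero]))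
  obtain ⟨b, hb⟩ := hB.mul_inv_cancel h1
  have hu : IsUnit (φ a) := IsUnit.of_mul_eq_one _ hb
  have hua : IsUnit a := isUnit_of_map_unit φ a hu
  obtain ⟨u, rfl⟩ := hua
  exact ⟨↑u⁻¹, by simp⟩

theorem h5_isField_stalk_of_flat {W V : Scheme.{u}} (f : W ⟶ V) [Flat f] (w : W)
    (h : IsField (W.presheaf.stalk w)) : IsField (V.presheaf.stalk (f w)) := by
  haveI : IsLocalHom (f.stalkMap w).hom := f.toLRSHom.prop w
  exact h5_isField_of_flat_local (f.stalkMap w).hom (Flat.stalkMap f w) h

/-- Every morphism to a scheme whose local rings are fields is flat. -/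
theorem h5_flat_of_isField_stalk {U V : Scheme.{u}} (h : U ⟶ V)
    (hV : ∀ v : V, IsField (V.presheaf.stalk v)) : Flat h := by
  rw [Flat.iff_flat_stalkMap]
  intro u
  algebraize [(h.stalkMap u).hom]
  letI := (hV (h u)).toField
  change Module.Flat (V.presheaf.stalk (h u)) (U.presheaf.stalk u)
  infer_instance

theorem h5_t1Space_of_isField_stalk (V : Scheme.{u})
    (hV : ∀ v : V, IsField (V.presheaf.stalk v)) : T1Space V := by
  rw [t1Space_iff_specializes_imp_eq]
  intro x y hxy
  have h1 : Order.coheight y = 0 := by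
    have := AlgebraicGeometry.ringKrullDim_stalk_eq_coheight (X := V) y
    rw [ringKrullDim_eq_zero_of_isField (hV y)] at this
    exact_mod_cast this.symm
  have hmax : IsMax y := Order.coheight_eq_zero.1 h1
  have hle : y ≤ x := hxy
  have hge : x ≤ y := hmax hle
  have hyx : y ⤳ x := hge
  exact (hxy.antisymm hyx).eq

end Groth.Agent.Lib.helper5
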