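import Mathlib
import Groth.Prelude.Def_AlgSp4
import Groth.Agent.Lib.helper5.SchFieldStalk
import Groth.Agent.Lib.helper5.AlgSpChartSq
import Groth.Agent.Lib.helper5.AlgSpLocP
import Groth.Agent.Lib.helper5.AlgSpPts

set_option autoImplicit false
universe u
open CategoryTheory CategoryTheory.Limits AlgebraicGeometry Opposite Groth.Agent.Lib.helper5

namespace AlgSp

variable {S : Scheme.{u}}

section TargetChart

variable {P : MorphismProperty Scheme.{u}} [P.IsStableUnderBaseChange]
  [P.IsStableUnderComposition]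

/-- Cancellation past an etale morphism, for a property containing etale morphisms. -/
theorem h5_cancel_etale (hle : ∀ {X Y : Scheme.{u}} (f : X ⟶ Y), Etale f → P f)
    {X Y Z : Scheme.{u}} (f : X ⟶ Y) (g : Y ⟶ Z) (hg : Etale g)
    (h : P (f ≫ g)) : P f := by
  have sq := IsPullback.of_hasPullback (f ≫ g) g
  haveI : Etale (pullback.fst (f ≫ g) g) :=
    MorphismProperty.of_isPullback (P := @Etale) sq.flip hg
  have hsnd : P (pullback.snd (f ≫ g) g) := MorphismProperty.of_isPullback (P := P) sq h
  let σ : X ⟶ pullback (f ≫ g) g := pullback.lift (𝟙 X) f (by simp)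
  have h1 : σ ≫ pullback.fst (f ≫ g) g = 𝟙 X := pullback.lift_fst _ _ _
  have h2 : σ ≫ pullback.snd (f ≫ g) g = f := pullback.lift_snd _ _ _
  haveI : Etale (σ ≫ pullback.fst (f ≫ g) g) := by rw [h1]; infer_instance
  have hσ : Etale σ := Etale.of_comp σ (pullback.fst (f ≫ g) g)
  rw [← h2]
  exact P.comp_mem _ _ (hle _ hσ) hsnd

/-- A morphism from a scheme which factors as a `P`-morphism of schemes followed by an etale chart
has `LocP P` (no descent on the source is needed). -/
theorem h5_locP_of_target_chart (hle : ∀ {X Y : Scheme.{u}} (f : X ⟶ Y), Etale f → P f)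
    {Y : Sp S} {U₀ V₀ : Over S}
    (b₀ : (yon S).obj V₀ ⟶ Y) (h₀ : U₀ ⟶ V₀)
    (hb₀ : RepWith @Etale b₀) (hh₀ : P h₀.left) :
    LocP P ((yon S).map h₀ ≫ b₀) := by
  intro U V a b h ha hb comm
  obtain ⟨α, rfl⟩ := (yon S).map_surjective a
  have hα : Etale α.left := (repWith_yon_map_iff _ _).1 ha
  have sq2 := hb₀.rep.isPullback b
  have hw : (yon S).map (α ≫ h₀) ≫ b₀ = (yon S).map h ≫ b := by
    rw [Functor.map_comp, Category.assoc]; exact comm
  obtain ⟨l, hl⟩ := (yon S).map_surjective (sq2.lift _ _ hw)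
  have e1 : l ≫ hb₀.rep.snd b = h :=
    (yon S).map_injective (by rw [Functor.map_comp, hl, sq2.lift_snd])
  obtain ⟨v₂, hv₂⟩ := (yon S).map_surjective (hb₀.rep.fst b)
  have e2 : l ≫ v₂ = α ≫ h₀ :=
    (yon S).map_injective (by rw [Functor.map_comp, hl, hv₂, sq2.lift_fst])
  have hv₂e : Etale v₂.left := by
    have : RepWith @Etale (hb₀.rep.fst b) :=
      MorphismProperty.of_isPullback (P := RepWith @Etale) sq2.flip hb
    rw [← hv₂] at this
    exact (repWith_yon_map_iff _ _).1 this
  have h3 : P (l.left ≫ v₂.left) := by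
    rw [← Over.comp_left, e2, Over.comp_left]
    exact P.comp_mem _ _ (hle _ hα) hh₀
  have h4 : P l.left := h5_cancel_etale hle _ _ hv₂e h3
  have h5 : Etale (hb₀.rep.snd b).left := hb₀.property_snd b
  rw [← e1, Over.comp_left]
  exact P.comp_mem _ _ h4 (hle _ h5)

end TargetChart

/-- Every morphism whose image consists of points with field local rings is flat. -/
theorem h5_flat_of_isField_stalk' {U V : Scheme.{u}} (h : U ⟶ V)
    (hV : ∀ u : U, IsField (V.presheaf.stalk (h u))) : Flat h := by
  rw [Flat.iff_flat_stalkMap]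
  intro u
  algebraize [(h.stalkMap u).hom]
  letI := (hV u).toField
  change Module.Flat (V.presheaf.stalk (h u)) (U.presheaf.stalk u)
  infer_instance

/-- If `Spec k ⟶ Z` is flat and surjective, then every scheme etale over `Z` has field local
rings. -/
theorem h5_isField_stalk_of_field_cover {Z : Sp S} (k : Type u) [Field k]
    (str : Spec (CommRingCat.of k) ⟶ S) (p : (yon S).obj (Over.mk str) ⟶ Z)
    (hpf : LocP @Flat p) (hps : IsSurjectiveMor p) {V : Over S}
    (b : (yon S).obj V ⟶ Z) (hb : RepWith @Etale b) (v : V.left) :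
    IsField (V.left.presheaf.stalk v) := by
  obtain ⟨W, a, b', ha, sq, -⟩ := h5_chart_square p b hb
  have hfl : Flat b'.left :=
    hpf ((yon S).map a) b b' ((repWith_yon_map_iff _ _).2 ha) hb sq.w.symm
  have sq' : IsPullback ((yon S).map b') ((yon S).map a) b (𝟙 _ ≫ p) := by
    rw [Category.id_comp]; exact sq
  have hsurj : Surjective b'.left :=
    h5_chart_square_surjective p hps (𝟙 _) (repWith_id _ _) b sq'
  obtain ⟨w, rfl⟩ := hsurj.surj v
  exact h5_isField_stalk_of_flat b'.left w (h5_isField_stalk_of_etale_field k a.left w)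

/-- If `Spec k ⟶ Z` is flat and surjective, then every morphism to `Z` is flat. -/
theorem h5_locP_flat_of_field_cover {Z : Sp S} (k : Type u) [Field k]
    (str : Spec (CommRingCat.of k) ⟶ S) (p : (yon S).obj (Over.mk str) ⟶ Z)
    (hpf : LocP @Flat p) (hps : IsSurjectiveMor p) {X : Sp S} (q : X ⟶ Z) :
    LocP @Flat q := by
  intro U V a b h _ hb _
  exact h5_flat_of_isField_stalk' h.left
    (fun u => h5_isField_stalk_of_field_cover k str p hpf hps b hb _)

theorem h5_subsingleton_points_field (k : Type u) [Field k]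
    (str : Spec (CommRingCat.of k) ⟶ S) :
    Subsingleton (Points ((yon S).obj (Over.mk str))) := by
  refine ⟨fun x y => ?_⟩
  rw [← Points.ofScheme_toScheme _ x, ← Points.ofScheme_toScheme _ y]
  congr 1
  exact Subsingleton.elim (α := PrimeSpectrum k) _ _

theorem h5_nonempty_points_field (k : Type u) [Field k]
    (str : Spec (CommRingCat.of k) ⟶ S) :
    Nonempty (Points ((yon S).obj (Over.mk str))) :=
  ⟨Points.ofScheme (Over.mk str) (IsLocalRing.closedPoint k)⟩

theorem h5_subsingleton_points_of_field_cover {Z : Sp S} (k : Type u) [Field k]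
    (str : Spec (CommRingCat.of k) ⟶ S) (p : (yon S).obj (Over.mk str) ⟶ Z)
    (hps : IsSurjectiveMor p) : Subsingleton (Points Z) := by
  haveI := h5_subsingleton_points_field k str
  refine ⟨fun x y => ?_⟩
  obtain ⟨x', rfl⟩ := hps x
  obtain ⟨y', rfl⟩ := hps y
  rw [Subsingleton.elim x' y']

theorem h5_isSurjectiveMor_of_subsingleton {X Z : Sp S} (q : X ⟶ Z)
    [Subsingleton (Points Z)] (hX : Nonempty (Points X)) : IsSurjectiveMor q := by
  intro z
  obtain ⟨x⟩ := hX
  exact ⟨x, Subsingleton.elim _ _⟩

/-- The residue field point of a scheme over `S`, as an object over `S` and a morphism. -/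
noncomputable abbrev h5_resOver (V : Over S) (v : V.left) : Over S :=
  Over.mk (V.left.fromSpecResidueField v ≫ V.hom)

noncomputable abbrev h5_resOverι (V : Over S) (v : V.left) : h5_resOver V v ⟶ V :=
  Over.homMk (V.left.fromSpecResidueField v) rfl

end AlgSp
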