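import Mathlib
import Groth.Prelude.Def_AlgSp4
import Groth.Agent.Lib.helper5.AlgSpFieldPt

set_option autoImplicit false
universe u
open CategoryTheory CategoryTheory.Limits AlgebraicGeometry Opposite Groth.Agent.Lib.helper5

namespace AlgSp

variable {S : Scheme.{u}}

/-- A nonempty reduced scheme has a point whose local ring is a field. -/
theorem h5_exists_isField_stalk_of_isReduced (U : Scheme.{u}) [IsReduced U] (x₀ : U) :
    ∃ u : U, IsField (U.presheaf.stalk u) := by
  obtain ⟨_, ⟨W, hW, rfl⟩, hxW, -⟩ :=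
    U.isBasis_affineOpens.exists_subset_of_mem_open (Set.mem_univ x₀) isOpen_univ
  have hp0 := (hW.primeIdealOf ⟨x₀, hxW⟩).2
  obtain ⟨q, hq, -⟩ := Ideal.exists_minimalPrimes_le (I := ⊥)
    (J := (hW.primeIdealOf ⟨x₀, hxW⟩).asIdeal) bot_le
  haveI hqp : q.IsPrime := hq.1.1
  let x : W := hW.isoSpec.inv ⟨q, hqp⟩
  have hx : hW.primeIdealOf x = ⟨q, hqp⟩ := by
    change hW.isoSpec.hom (hW.isoSpec.inv ⟨q, hqp⟩) = _
    rw [← Scheme.Hom.comp_apply, Iso.inv_hom_id]
    rfl
  refine ⟨x.1, ?_⟩
  letI : Algebra Γ(U, W) (U.presheaf.stalk x.1) :=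
    TopCat.Presheaf.algebra_section_stalk U.presheaf x
  haveI h1 : IsLocalization.AtPrime (U.presheaf.stalk x.1) (hW.primeIdealOf x).asIdeal :=
    hW.isLocalization_stalk x
  haveI h2 : IsLocalization.AtPrime (U.presheaf.stalk x.1) q := by
    have : (hW.primeIdealOf x).asIdeal = q := by rw [hx]
    simpa only [this] using h1
  have hq' : q ∈ minimalPrimes Γ(U, W) := hq
  haveI : Ring.KrullDimLE 0 (U.presheaf.stalk x.1) :=
    Ring.KrullDimLE.of_isLocalization q hq' _
  exact Ring.KrullDimLE.isField_of_isReduced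

theorem h5_isReduced_of_isField_stalk (V : Scheme.{u})
    (hV : ∀ v : V, IsField (V.presheaf.stalk v)) : IsReduced V := by
  haveI : ∀ v : V, _root_.IsReduced (V.presheaf.stalk v) := fun v => by
    letI := (hV v).toField
    infer_instance
  exact isReduced_of_isReduced_stalk V

theorem h5_flat_fromSpecResidueField_of_isField (U : Scheme.{u}) (u : U)
    (hu : IsField (U.presheaf.stalk u)) : Flat (U.fromSpecResidueField u) := by
  apply h5_flat_of_isField_stalk'
  intro x
  rw [Scheme.fromSpecResidueField_apply]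
  exact hu

/-- A reduced algebraic space with exactly one point receives a flat surjective morphism from
the spectrum of a field. -/
theorem h5_exists_field_cover_of_reduced {Z : Sp S}
    (hred : EtaleLocally (fun U => IsReduced U) Z) (hne : Nonempty (Points Z))
    [Subsingleton (Points Z)] :
    ∃ (k : Type u) (_ : Field k) (str : Spec (CommRingCat.of k) ⟶ S)
      (p : (yon S).obj (Over.mk str) ⟶ Z), LocP @Flat p ∧ IsSurjectiveMor p := by
  obtain ⟨U, a, hae, has, hU⟩ := hred
  obtain ⟨z⟩ := hne
  obtain ⟨x₀, -⟩ := h5_surjective_ofPt a has z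
  haveI : IsReduced U.left := hU
  obtain ⟨u, hu⟩ := h5_exists_isField_stalk_of_isReduced U.left x₀
  refine ⟨U.left.residueField u, inferInstance, U.left.fromSpecResidueField u ≫ U.hom,
    (yon S).map (h5_resOverι U u) ≫ a, ?_, ?_⟩
  · exact h5_locP_of_target_chart (P := @Flat) (fun f hf => inferInstance) a _ hae
      (h5_flat_fromSpecResidueField_of_isField U.left u hu)
  · exact h5_isSurjectiveMor_of_subsingleton _ (h5_nonempty_points_field _ _)

/-- The converse: reducedness and one-pointedness from a flat surjective field point. -/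
theorem h5_reduced_of_field_cover {Z : Sp S} (hZ : IsAlgSpace Z) (k : Type u) [Field k]
    (str : Spec (CommRingCat.of k) ⟶ S) (p : (yon S).obj (Over.mk str) ⟶ Z)
    (hpf : LocP @Flat p) (hps : IsSurjectiveMor p) :
    EtaleLocally (fun U => IsReduced U) Z ∧ Nonempty (Points Z) ∧ Subsingleton (Points Z) := by
  obtain ⟨V, b, hbe, hbs⟩ := hZ.atlas
  refine ⟨⟨V, b, hbe, hbs, ?_⟩, ?_, h5_subsingleton_points_of_field_cover k str p hps⟩
  · exact h5_isReduced_of_isField_stalk V.left
      (fun v => h5_isField_stalk_of_field_cover k str p hpf hps b hbe v)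
  · obtain ⟨x⟩ := h5_nonempty_points_field k str
    exact ⟨Points.map p x⟩

end AlgSp
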