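import Mathlib
import Groth.Prelude.Def_AlgSp4
import Groth.Agent.Lib.helper5.AlgSpFib
import Groth.Agent.Lib.helper5.AlgSpOpen3
import Groth.Agent.Lib.helper5.AlgSpPb

set_option autoImplicit false
universe u v
open CategoryTheory CategoryTheory.Limits AlgebraicGeometry Opposite Topology

namespace AlgSp

section cat

variable {C : Type u} [Category.{v} C]

/-- `(X ×_Y V) ×_V (Z ×_Y V)` is the base change of `X ×_Y Z` along `V ⟶ Y`. -/
theorem h5_isPullback_fib_baseChange {X Y Z Z' V A B M : C} {f : X ⟶ Y} {g : Z ⟶ Y}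
    {fst : Z' ⟶ X} {snd : Z' ⟶ Z} (sq : IsPullback fst snd f g) {pV : V ⟶ Y}
    {a0 : A ⟶ X} {a1 : A ⟶ V} (sqA : IsPullback a0 a1 f pV)
    {b0 : B ⟶ Z} {b1 : B ⟶ V} (sqB : IsPullback b0 b1 g pV)
    {m1 : M ⟶ A} {m2 : M ⟶ B} (sqM : IsPullback m1 m2 a1 b1) :
    ∃ μ : M ⟶ Z', μ ≫ fst = m1 ≫ a0 ∧ μ ≫ snd = m2 ≫ b0 ∧
      IsPullback μ (m1 ≫ a1) (fst ≫ f) pV := by
  have hw : (m1 ≫ a0) ≫ f = (m2 ≫ b0) ≫ g := by
    rw [Category.assoc, sqA.w, ← Category.assoc, sqM.w, Category.assoc, ← sqB.w, Category.assoc]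
  refine ⟨sq.lift (m1 ≫ a0) (m2 ≫ b0) hw, sq.lift_fst _ _ _, sq.lift_snd _ _ _, ?_⟩
  refine h5_isPullback_of_exists_unique ?_ ?_ ?_
  · rw [← Category.assoc, sq.lift_fst, Category.assoc, sqA.w, Category.assoc]
  · intro W x y h
    have hA : (x ≫ fst) ≫ f = y ≫ pV := by rw [Category.assoc]; exact h
    have hB : (x ≫ snd) ≫ g = y ≫ pV := by rw [Category.assoc, ← sq.w]; exact h
    refine ⟨sqM.lift (sqA.lift (x ≫ fst) y hA) (sqB.lift (x ≫ snd) y hB)
      (by rw [sqA.lift_snd, sqB.lift_snd]), ?_, ?_⟩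
    · apply sq.hom_ext
      · rw [Category.assoc, sq.lift_fst, ← Category.assoc, sqM.lift_fst, sqA.lift_fst]
      · rw [Category.assoc, sq.lift_snd, ← Category.assoc, sqM.lift_snd, sqB.lift_fst]
    · rw [← Category.assoc, sqM.lift_fst, sqA.lift_snd]
  · intro W l l' h1 h2
    have h1f : l ≫ m1 ≫ a0 = l' ≫ m1 ≫ a0 := by
      have := congrArg (· ≫ fst) h1
      simpa only [Category.assoc, sq.lift_fst] using this
    have h1s : l ≫ m2 ≫ b0 = l' ≫ m2 ≫ b0 := by
      have := congrArg (· ≫ snd) h1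
      simpa only [Category.assoc, sq.lift_snd] using this
    have h2' : l ≫ m2 ≫ b1 = l' ≫ m2 ≫ b1 := by
      rw [← sqM.w]; exact h2
    apply sqM.hom_ext
    · apply sqA.hom_ext
      · simpa only [Category.assoc] using h1f
      · simpa only [Category.assoc] using h2
    · apply sqB.hom_ext
      · simpa only [Category.assoc] using h1s
      · simpa only [Category.assoc] using h2'

end cat

variable {S : Scheme.{u}}

/-- A flat morphism locally of finite presentation between algebraic spaces is universally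
open. -/
theorem h5_isUnivOpenMor_of_flat_lfp {X Y : Sp S} (hX : IsAlgSpace X) (hY : IsAlgSpace Y)
    (f : X ⟶ Y) (hfl : LocP @Flat f) (hfp : LocP @LocallyOfFinitePresentation f) :
    IsUnivOpenMor f := by
  intro Z Z' hZ g fst snd sq
  obtain ⟨V, pV, heV, hsV⟩ := hY.atlas
  have sqA := IsPullback.of_hasPullback f pV
  have sqB := IsPullback.of_hasPullback g pV
  have hA : IsAlgSpace (pullback f pV) :=
    h5_isAlgSpace_of_isPullback hY.diag hX (IsAlgSpace.yon_obj V) sqA
  have hB : IsAlgSpace (pullback g pV) :=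
    h5_isAlgSpace_of_isPullback hY.diag hZ (IsAlgSpace.yon_obj V) sqB
  obtain ⟨U, pA, heA, hsA⟩ := hA.atlas
  obtain ⟨T, pB, heB, hsB⟩ := hB.atlas
  obtain ⟨h, hh⟩ := (yon S).map_surjective (pA ≫ pullback.snd f pV)
  obtain ⟨k, hk⟩ := (yon S).map_surjective (pB ≫ pullback.snd g pV)
  have ha0 : RepWith @Etale (pullback.fst f pV) :=
    MorphismProperty.of_isPullback (P := RepWith @Etale) sqA.flip heV
  have hb0 : RepWith @Etale (pullback.fst g pV) :=
    MorphismProperty.of_isPullback (P := RepWith @Etale) sqB.flip heV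
  have hcomm : (pA ≫ pullback.fst f pV) ≫ f = (yon S).map h ≫ pV := by
    rw [hh, Category.assoc, Category.assoc, pullback.condition]
  have hea : RepWith @Etale (pA ≫ pullback.fst f pV) := (RepWith @Etale).comp_mem _ _ heA ha0
  have heb : RepWith @Etale (pB ≫ pullback.fst g pV) := (RepWith @Etale).comp_mem _ _ heB hb0
  haveI hflat : Flat h.left := hfl _ pV h hea heV hcomm
  haveI hlfp : LocallyOfFinitePresentation h.left := hfp _ pV h hea heV hcomm
  have sqO := IsPullback.of_hasPullback h k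
  have sqPy := sqO.map (yon S)
  rw [hh, hk] at sqPy
  have hopen2 : IsOpenMap (pullback.snd h k).left := by
    have sqS := sqO.map (Over.forget S)
    haveI : UniversallyOpen (pullback.snd h k).left :=
      MorphismProperty.of_isPullback (P := @UniversallyOpen) sqS
        (inferInstance : UniversallyOpen h.left)
    exact (pullback.snd h k).left.isOpenMap
  have sqM := IsPullback.of_hasPullback (pullback.snd f pV) (pullback.snd g pV)
  have hq1 := h5_repWith_fib_lift @Surjective sqM pA pB hsA hsB sqPy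
  obtain ⟨μ, hμ1, hμ2, sqμ⟩ := h5_isPullback_fib_baseChange sq sqA sqB sqM
  have hμ : RepWith @Surjective μ :=
    MorphismProperty.of_isPullback (P := RepWith @Surjective) sqμ.flip hsV
  have hq := (RepWith @Surjective).comp_mem _ _ hq1 hμ
  set q := sqM.lift ((yon S).map (pullback.fst h k) ≫ pA) ((yon S).map (pullback.snd h k) ≫ pB)
    (by simpa using sqPy.w) ≫ μ with hqdef
  have hqsnd : q ≫ snd = (yon S).map (pullback.snd h k) ≫ (pB ≫ pullback.fst g pV) := by
    rw [hqdef, Category.assoc, hμ2, ← Category.assoc, sqM.lift_snd, Category.assoc]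
  have hsurj := h5_surjective_ofPt q hq
  have hopen3 := h5_isOpenMap_ofPt_of_etale _ heb
  intro W hW
  have : Points.map snd '' W = Points.ofPt (pB ≫ pullback.fst g pV) ''
      ((pullback.snd h k).left '' (Points.ofPt q ⁻¹' W)) := by
    ext z
    constructor
    · rintro ⟨x, hx, rfl⟩
      obtain ⟨u, rfl⟩ := hsurj x
      refine ⟨(pullback.snd h k).left u, ⟨u, hx, rfl⟩, ?_⟩
      rw [Points.map_ofPt, hqsnd, h5_ofPt_map_comp]
    · rintro ⟨t, ⟨u, hu, rfl⟩, rfl⟩
      refine ⟨Points.ofPt q u, hu, ?_⟩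
      rw [Points.map_ofPt, hqsnd, h5_ofPt_map_comp]
  rw [this]
  exact hopen3 _ (hopen2 _ (hW.preimage (Points.continuous_ofPt q)))

end AlgSp
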