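import Mathlib
import Groth.Agent.Lib.helper5.AlgSpImm
import Groth.Prelude.Def_AlgSpCov

set_option autoImplicit false
universe u
open CategoryTheory CategoryTheory.Limits AlgebraicGeometry Opposite Topology

namespace AlgSp

variable {S : Scheme.{u}}

/-- A finite jointly surjective family of flat morphisms of affine schemes detects open sets. -/
theorem h5_isOpen_of_fpqc_family {Z : Scheme.{u}} [IsAffine Z] {m : ℕ} (W : Fin m → Scheme.{u})
    (c : ∀ j, W j ⟶ Z) (hW : ∀ j, IsAffine (W j)) (hc : ∀ j, Flat (c j))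
    (hs : ∀ z : Z, ∃ j, z ∈ Set.range (c j))
    (B : Set Z) (hB : ∀ j, IsOpen ((c j) ⁻¹' B)) : IsOpen B := by
  let π : ∐ W ⟶ Z := Sigma.desc c
  have hπι : ∀ j, Sigma.ι W j ≫ π = c j := fun j => Sigma.ι_desc _ _
  have hflat : Flat π := by
    rw [IsZariskiLocalAtSource.iff_of_openCover (P := @Flat) (sigmaOpenCover W)]
    intro j
    show Flat (Sigma.ι W j ≫ π)
    rw [hπι]
    exact hc j
  have hsurj : Surjective π := by
    constructor
    intro z
    obtain ⟨j, w, rfl⟩ := hs z
    refine ⟨Sigma.ι W j w, ?_⟩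
    rw [← Scheme.Hom.comp_apply, hπι]
  have hqc : QuasiCompact π := inferInstance
  rw [← (Flat.isQuotientMap_of_surjective π).isOpen_preimage]
  rw [h5_isOpen_iff_of_open_cover (fun j => (Sigma.ι W j : W j → ↥(∐ W)))
    (fun j => (Sigma.ι W j).continuous) (fun j => (Sigma.ι W j).isOpenEmbedding.isOpenMap)
    (fun b => by
      obtain ⟨j, x, hx⟩ := (sigmaOpenCover W).exists_eq b
      exact ⟨j, x, hx⟩)]
  intro j
  convert hB j using 1
  ext w
  simp only [Set.mem_preimage]
  rw [← Scheme.Hom.comp_apply, hπι]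

end AlgSp

namespace AlgSp

variable {S : Scheme.{u}}

/-- A family of maps to `Z` which is jointly surjective on points and detects open subsets. -/
def h5_SubmFam {Z : Sp S} {ι : Type*} (T : ι → Sp S) (t : ∀ a, T a ⟶ Z) : Prop :=
  (∀ z : Points Z, ∃ a, z ∈ Set.range (Points.map (t a))) ∧
  ∀ B : Set (Points Z), (∀ a, IsOpen (Points.map (t a) ⁻¹' B)) → IsOpen B

theorem h5_SubmFam.isClosed {Z : Sp S} {ι : Type*} {T : ι → Sp S} {t : ∀ a, T a ⟶ Z}
    (h : h5_SubmFam T t) (B : Set (Points Z)) (hB : ∀ a, IsClosed (Points.map (t a) ⁻¹' B)) :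
    IsClosed B := by
  rw [← isOpen_compl_iff]
  apply h.2
  intro a
  rw [Set.preimage_compl, isOpen_compl_iff]
  exact hB a

theorem h5_submFam_of_isQuotientMap {V Z : Sp S} (q : V ⟶ Z)
    (hq : Topology.IsQuotientMap (Points.map q)) :
    h5_SubmFam (fun _ : PUnit.{1} => V) (fun _ => q) :=
  ⟨fun z => by
    obtain ⟨v, rfl⟩ := hq.surjective z
    exact ⟨PUnit.unit, v, rfl⟩,
   fun B hB => hq.isOpen_preimage.1 (hB PUnit.unit)⟩

theorem h5_submFam_comp {Z : Sp S} {ι : Type*} {V : ι → Sp S} {v : ∀ k, V k ⟶ Z}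
    (hv : h5_SubmFam V v) {κ : ι → Type*} {T : ∀ k, κ k → Sp S} {t : ∀ k a, T k a ⟶ V k}
    (ht : ∀ k, h5_SubmFam (T k) (t k)) :
    h5_SubmFam (fun r : Σ k, κ k => T r.1 r.2) (fun r => t r.1 r.2 ≫ v r.1) := by
  constructor
  · intro z
    obtain ⟨k, y, rfl⟩ := hv.1 z
    obtain ⟨a, x, rfl⟩ := (ht k).1 y
    exact ⟨⟨k, a⟩, x, Points.map_comp _ _ x⟩
  · intro B hB
    apply hv.2
    intro k
    apply (ht k).2
    intro a
    have := hB ⟨k, a⟩
    have e : Points.map (t k a ≫ v k) ⁻¹' B =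
        Points.map (t k a) ⁻¹' (Points.map (v k) ⁻¹' B) := by
      ext x
      simp only [Set.mem_preimage, Points.map_comp]
    rw [← e]
    exact this

theorem h5_submFam_affineOpens (V : Over S) :
    h5_SubmFam (fun W : V.left.affineOpens => (yon S).obj (h5_openOver V W.1))
      (fun W => (yon S).map (h5_openOverι V W.1)) := by
  constructor
  · intro z
    exact h5_affine_cover_points V z
  · intro B hB
    rw [h5_isOpen_iff_of_open_cover
      (fun W : V.left.affineOpens => Points.map ((yon S).map (h5_openOverι V W.1)))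
      (fun W => Points.continuous_map _) (fun W => h5_isOpenMap_map_openOverι V W.1)
      (fun b => h5_affine_cover_points V b)]
    exact hB

theorem h5_submFam_fpqc (Z : Over S) (hZ : IsAffine Z.left) {m : ℕ} (W : Fin m → Over S)
    (c : ∀ j, W j ⟶ Z) (hW : ∀ j, IsAffine (W j).left) (hc : ∀ j, Flat (c j).left)
    (hs : ∀ z : ↥Z.left, ∃ j, z ∈ Set.range (c j).left) :
    h5_SubmFam (fun j => (yon S).obj (W j)) (fun j => (yon S).map (c j)) := by
  constructor
  · intro z
    obtain ⟨z', rfl⟩ := (Points.schemeHomeo Z).surjective z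
    obtain ⟨j, w, rfl⟩ := hs z'
    exact ⟨j, Points.schemeHomeo (W j) w, Points.map_yon_map_apply (c j) w⟩
  · intro B hB
    rw [← (Points.schemeHomeo Z).isOpen_preimage]
    apply h5_isOpen_of_fpqc_family (fun j => (W j).left) (fun j => (c j).left) hW hc hs
    intro j
    have := (hB j).preimage (Points.schemeHomeo (W j)).continuous
    convert this using 1
    ext w
    simp only [Set.mem_preimage]
    rw [Points.map_yon_map_apply]

end AlgSp

namespace AlgSp

variable {S : Scheme.{u}}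

/-- An fpqc covering of `Y` gives, for every morphism from an algebraic space `Z`, a submersive
family of affine schemes over `Z` lifting to members of the covering. -/
theorem h5_exists_submFam_of_isFpqcCover {ι : Type u} {Y : Sp S} (Yi : ι → Sp S)
    (g : ∀ i, Yi i ⟶ Y) (hcov : IsFpqcCover Yi g) {Z : Sp S} (hZ : IsAlgSpace Z) (h : Z ⟶ Y) :
    ∃ (κ : Type u) (T : κ → Over S) (t : ∀ a, (yon S).obj (T a) ⟶ Z),
      h5_SubmFam (fun a => (yon S).obj (T a)) t ∧ (∀ a, IsAffine (T a).left) ∧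
      ∀ a, ∃ (i : ι) (l : (yon S).obj (T a) ⟶ Yi i), l ≫ g i = t a ≫ h := by
  obtain ⟨V, p, he, hs⟩ := hZ.atlas
  have hquot := h5_isQuotientMap_map_of_etale_surjective (IsAlgSpace.yon_obj V) p he hs
  have key : ∀ W : V.left.affineOpens, ∃ (m : ℕ) (W' : Fin m → Over S)
      (c : ∀ j, W' j ⟶ h5_openOver V W.1),
      (∀ j, IsAffine (W' j).left) ∧ (∀ j, Flat (c j).left) ∧
      (∀ z : ↥(h5_openOver V W.1).left, ∃ j, z ∈ Set.range (c j).left) ∧
      ∀ j, ∃ (i : ι) (l : (yon S).obj (W' j) ⟶ Yi i),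
        l ≫ g i = (yon S).map (c j) ≫ ((yon S).map (h5_openOverι V W.1) ≫ p ≫ h) := by
    intro W
    have haff : IsAffine (h5_openOver V W.1).left := W.2
    exact hcov.2 (h5_openOver V W.1) haff ((yon S).map (h5_openOverι V W.1) ≫ p ≫ h)
  choose m W' c hW' hc hsurj hl using key
  have h1 := h5_submFam_comp (h5_submFam_of_isQuotientMap p hquot)
    (κ := fun _ => V.left.affineOpens)
    (T := fun _ W => (yon S).obj (h5_openOver V W.1))
    (t := fun _ W => (yon S).map (h5_openOverι V W.1))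
    (fun _ => h5_submFam_affineOpens V)
  have h2 := h5_submFam_comp h1
    (κ := fun r => Fin (m r.2))
    (T := fun r j => (yon S).obj (W' r.2 j))
    (t := fun r j => (yon S).map (c r.2 j))
    (fun r => h5_submFam_fpqc (h5_openOver V r.2.1)
      (show IsAffine (r.2.1 : Scheme) from r.2.2) (W' r.2) (c r.2) (hW' r.2) (hc r.2) (hsurj r.2))
  refine ⟨Σ r : (Σ _ : PUnit.{1}, V.left.affineOpens), Fin (m r.2), fun a => W' a.1.2 a.2,
    fun a => (yon S).map (c a.1.2 a.2) ≫ (yon S).map (h5_openOverι V a.1.2.1) ≫ p, h2,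
    fun a => hW' a.1.2 a.2, fun a => ?_⟩
  obtain ⟨i, l, hl'⟩ := hl a.1.2 a.2
  refine ⟨i, l, ?_⟩
  rw [hl']
  simp only [Category.assoc]

end AlgSp

namespace AlgSp

variable {S : Scheme.{u}}

/-- `UnivSp Q` is stable under base change. -/
theorem h5_univSp_baseChange (Q : MorphismProperty (Sp S)) {X Y X' Y' : Sp S} {f : X ⟶ Y}
    {g : Y' ⟶ Y} {q : X' ⟶ X} {p : X' ⟶ Y'} (sq : IsPullback q p f g) (hf : UnivSp Q f) :
    UnivSp Q p := by
  intro Z Z' hZ h fst snd sqZ
  exact hf hZ (h ≫ g) (fst ≫ q) snd (sqZ.paste_horiz sq)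

/-- Descent of `UnivSp Q` along an fpqc covering, for `Q` detected by submersive families. -/
theorem h5_univSp_of_fpqc (Q : MorphismProperty (Sp S))
    (hQ3 : ∀ {Z' Z : Sp S} (snd : Z' ⟶ Z) {κ : Type u} (T : κ → Sp S) (t : ∀ a, T a ⟶ Z),
      h5_SubmFam T t → (∀ a, Q (pullback.snd snd (t a))) → Q snd)
    {ι : Type u} {Y : Sp S} (Yi : ι → Sp S) (g : ∀ i, Yi i ⟶ Y) (hcov : IsFpqcCover Yi g)
    {X : Sp S} (f : X ⟶ Y) (Xi : ι → Sp S) (p : ∀ i, Xi i ⟶ Yi i) (q : ∀ i, Xi i ⟶ X)
    (sq : ∀ i, IsPullback (q i) (p i) f (g i)) (hp : ∀ i, UnivSp Q (p i)) : UnivSp Q f := by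
  intro Z Z' hZ h fst snd sqZ
  obtain ⟨κ, T, t, hsub, -, hl⟩ := h5_exists_submFam_of_isFpqcCover Yi g hcov hZ h
  apply hQ3 snd (fun a => (yon S).obj (T a)) t hsub
  intro a
  obtain ⟨i, l, hl'⟩ := hl a
  have sqa : IsPullback (pullback.fst snd (t a)) (pullback.snd snd (t a)) snd (t a) :=
    IsPullback.of_hasPullback _ _
  have big := sqa.paste_horiz sqZ
  rw [← hl'] at big
  let k : pullback snd (t a) ⟶ Xi i :=
    (sq i).lift (pullback.fst snd (t a) ≫ fst) (pullback.snd snd (t a) ≫ l) big.w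
  have hk1 : k ≫ q i = pullback.fst snd (t a) ≫ fst := (sq i).lift_fst _ _ _
  have hk2 : k ≫ p i = pullback.snd snd (t a) ≫ l := (sq i).lift_snd _ _ _
  have sqk : IsPullback k (pullback.snd snd (t a)) (p i) l := by
    refine IsPullback.of_right ?_ hk2 (sq i)
    rw [hk1]
    exact big
  exact hp i (IsAlgSpace.yon_obj (T a)) l k _ sqk

theorem h5_isLocalOnBase_univSp (Q : MorphismProperty (Sp S))
    (hQ3 : ∀ {Z' Z : Sp S} (snd : Z' ⟶ Z) {κ : Type u} (T : κ → Sp S) (t : ∀ a, T a ⟶ Z),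
      h5_SubmFam T t → (∀ a, Q (pullback.snd snd (t a))) → Q snd) :
    IsLocalOnBase (IsFpqcCover (S := S)) (UnivSp Q) := by
  intro ι Y Yi g hY hYi hcov X f hX Xi p q hXi sq
  constructor
  · intro hf i
    exact h5_univSp_baseChange Q (sq i) hf
  · intro hp
    exact h5_univSp_of_fpqc Q hQ3 Yi g hcov f Xi p q sq hp

/-- Open maps are detected by submersive families. -/
theorem h5_isOpenMap_of_submFam {Z' Z : Sp S} (snd : Z' ⟶ Z) {κ : Type u} (T : κ → Sp S)
    (t : ∀ a, T a ⟶ Z) (ht : h5_SubmFam T t)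
    (h : ∀ a, IsOpenMap (Points.map (pullback.snd snd (t a)))) : IsOpenMap (Points.map snd) := by
  intro A hA
  apply ht.2
  intro a
  have sqa : IsPullback (pullback.fst snd (t a)) (pullback.snd snd (t a)) snd (t a) :=
    IsPullback.of_hasPullback _ _
  rw [h5_preimage_image_of_isPullback sqa]
  exact h a _ (hA.preimage (Points.continuous_map _))

theorem h5_isClosedMap_of_submFam {Z' Z : Sp S} (snd : Z' ⟶ Z) {κ : Type u} (T : κ → Sp S)
    (t : ∀ a, T a ⟶ Z) (ht : h5_SubmFam T t)
    (h : ∀ a, IsClosedMap (Points.map (pullback.snd snd (t a)))) :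
    IsClosedMap (Points.map snd) := by
  intro A hA
  apply ht.isClosed
  intro a
  have sqa : IsPullback (pullback.fst snd (t a)) (pullback.snd snd (t a)) snd (t a) :=
    IsPullback.of_hasPullback _ _
  rw [h5_preimage_image_of_isPullback sqa]
  exact h a _ (hA.preimage (Points.continuous_map _))

theorem h5_injective_of_submFam {Z' Z : Sp S} (snd : Z' ⟶ Z) {κ : Type u} (T : κ → Sp S)
    (t : ∀ a, T a ⟶ Z) (ht : h5_SubmFam T t)
    (h : ∀ a, Function.Injective (Points.map (pullback.snd snd (t a)))) :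
    Function.Injective (Points.map snd) := by
  intro x1 x2 hx
  obtain ⟨a, w, hw⟩ := ht.1 (Points.map snd x1)
  have sqa : IsPullback (pullback.fst snd (t a)) (pullback.snd snd (t a)) snd (t a) :=
    IsPullback.of_hasPullback _ _
  obtain ⟨p1, hp1, hp1'⟩ := h5_points_exists_of_isPullback sqa x1 w hw.symm
  obtain ⟨p2, hp2, hp2'⟩ := h5_points_exists_of_isPullback sqa x2 w (hx ▸ hw.symm)
  have : p1 = p2 := h a (hp1'.trans hp2'.symm)
  rw [← hp1, ← hp2, this]

theorem h5_surjective_of_submFam {Z' Z : Sp S} (snd : Z' ⟶ Z) {κ : Type u} (T : κ → Sp S)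
    (t : ∀ a, T a ⟶ Z) (ht : h5_SubmFam T t)
    (h : ∀ a, Function.Surjective (Points.map (pullback.snd snd (t a)))) :
    Function.Surjective (Points.map snd) := by
  intro z
  obtain ⟨a, w, rfl⟩ := ht.1 z
  obtain ⟨p, rfl⟩ := h a w
  refine ⟨Points.map (pullback.fst snd (t a)) p, ?_⟩
  rw [← Points.map_comp, ← Points.map_comp, pullback.condition]

theorem h5_isQuotientMap_of_submFam {Z' Z : Sp S} (snd : Z' ⟶ Z) {κ : Type u} (T : κ → Sp S)
    (t : ∀ a, T a ⟶ Z) (ht : h5_SubmFam T t)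
    (h : ∀ a, Topology.IsQuotientMap (Points.map (pullback.snd snd (t a)))) :
    Topology.IsQuotientMap (Points.map snd) := by
  rw [Topology.isQuotientMap_iff]
  refine ⟨.of_isOpen_preimage_iff_isOpen fun B => ?_,
    h5_surjective_of_submFam snd T t ht (fun a => (h a).surjective)⟩
  constructor
  · intro hB
    apply ht.2
    intro a
    rw [← (h a).isOpen_preimage]
    have e : Points.map (pullback.snd snd (t a)) ⁻¹' (Points.map (t a) ⁻¹' B) =
        Points.map (pullback.fst snd (t a)) ⁻¹' (Points.map snd ⁻¹' B) := by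
      ext x
      simp only [Set.mem_preimage]
      rw [← Points.map_comp, ← Points.map_comp, pullback.condition]
    rw [e]
    exact hB.preimage (Points.continuous_map _)
  · intro hB
    exact hB.preimage (Points.continuous_map snd)

theorem h5_isHomeomorph_of_submFam {Z' Z : Sp S} (snd : Z' ⟶ Z) {κ : Type u} (T : κ → Sp S)
    (t : ∀ a, T a ⟶ Z) (ht : h5_SubmFam T t)
    (h : ∀ a, IsHomeomorph (Points.map (pullback.snd snd (t a)))) :
    IsHomeomorph (Points.map snd) :=
  ⟨Points.continuous_map snd, h5_isOpenMap_of_submFam snd T t ht (fun a => (h a).isOpenMap),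
    h5_injective_of_submFam snd T t ht (fun a => (h a).injective),
    h5_surjective_of_submFam snd T t ht (fun a => (h a).surjective)⟩

end AlgSp

namespace AlgSp

variable {S : Scheme.{u}}

theorem h5_isQuasiCompactSp_yon (W : Over S) (hW : CompactSpace ↥W.left) :
    IsQuasiCompactSp ((yon S).obj W) := by
  refine ⟨W, 𝟙 _, ?_, ?_, hW⟩
  · rw [← (yon S).map_id]
    exact (repWith_yon_map_iff _ _).2 (by dsimp; infer_instance)
  · rw [← (yon S).map_id]
    exact (repWith_yon_map_iff _ _).2 (by dsimp; infer_instance)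

theorem h5_isQuasiCompactSp_of_finite_cover {F : Sp S} (hF : IsAlgSpace F) {m : ℕ}
    (P : Fin m → Sp S) (φ : ∀ j, P j ⟶ F) (hP : ∀ j, IsQuasiCompactSp (P j))
    (hsurj : ∀ x : Points F, ∃ j, x ∈ Set.range (Points.map (φ j))) : IsQuasiCompactSp F := by
  rw [h5_isQuasiCompactSp_iff hF, ← isCompact_univ_iff]
  have : (Set.univ : Set (Points F)) = ⋃ j, Set.range (Points.map (φ j)) := by
    ext x
    simp only [Set.mem_univ, Set.mem_iUnion, true_iff]
    exact hsurj x
  rw [this]
  apply isCompact_iUnion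
  intro j
  have := h5_compactSpace_of_isQuasiCompactSp (hP j)
  exact isCompact_range (Points.continuous_map _)

theorem h5_isLocalOnBase_isQuasiCompactMor :
    IsLocalOnBase (IsFpqcCover (S := S)) IsQuasiCompactMor := by
  intro ι Y Yi g hY hYi hcov X f hX Xi p q hXi sq
  constructor
  · intro hf i Z Z' hZ hZq h fst snd sqZ
    exact hf hZ hZq (h ≫ g i) (fst ≫ q i) snd (sqZ.paste_horiz (sq i))
  · intro hp Z Z' hZ hZq h fst snd sqZ
    have hZ' : IsAlgSpace Z' := h5_isAlgSpace_of_isPullback hY.diag hX hZ sqZ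
    obtain ⟨V, pV, haff, he, hs⟩ := h5_isQuasiCompactSp_iff_affine.1 hZq
    obtain ⟨m, W, c, hW, hc, hsurj, hl⟩ := hcov.2 V haff (pV ≫ h)
    refine h5_isQuasiCompactSp_of_finite_cover hZ'
      (fun j => pullback snd ((yon S).map (c j) ≫ pV))
      (fun j => pullback.fst snd ((yon S).map (c j) ≫ pV)) ?_ ?_
    · intro j
      obtain ⟨i, l, hl'⟩ := hl j
      have sqa : IsPullback (pullback.fst snd ((yon S).map (c j) ≫ pV))
          (pullback.snd snd ((yon S).map (c j) ≫ pV)) snd ((yon S).map (c j) ≫ pV) :=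
        IsPullback.of_hasPullback _ _
      have big := sqa.paste_horiz sqZ
      rw [Category.assoc, ← hl'] at big
      let k : pullback snd ((yon S).map (c j) ≫ pV) ⟶ Xi i :=
        (sq i).lift (pullback.fst snd ((yon S).map (c j) ≫ pV) ≫ fst)
          (pullback.snd snd ((yon S).map (c j) ≫ pV) ≫ l) big.w
      have hk1 : k ≫ q i = pullback.fst snd ((yon S).map (c j) ≫ pV) ≫ fst :=
        (sq i).lift_fst _ _ _
      have hk2 : k ≫ p i = pullback.snd snd ((yon S).map (c j) ≫ pV) ≫ l :=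
        (sq i).lift_snd _ _ _
      have sqk : IsPullback k (pullback.snd snd ((yon S).map (c j) ≫ pV)) (p i) l := by
        refine IsPullback.of_right ?_ hk2 (sq i)
        rw [hk1]
        exact big
      have hWj : IsAffine (W j).left := hW j
      exact hp i (IsAlgSpace.yon_obj (W j)) (h5_isQuasiCompactSp_yon (W j) inferInstance) l k _ sqk
    · intro x
      obtain ⟨v, hv⟩ := (h5_repWith_surjective_iff pV hs.rep).1 hs (Points.map snd x)
      obtain ⟨v', rfl⟩ := (Points.schemeHomeo V).surjective v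
      obtain ⟨j, w, rfl⟩ := hsurj v'
      have sqa : IsPullback (pullback.fst snd ((yon S).map (c j) ≫ pV))
          (pullback.snd snd ((yon S).map (c j) ≫ pV)) snd ((yon S).map (c j) ≫ pV) :=
        IsPullback.of_hasPullback _ _
      obtain ⟨pt, hpt, -⟩ := h5_points_exists_of_isPullback sqa x (Points.schemeHomeo (W j) w) (by
        rw [Points.map_comp, Points.map_yon_map_apply, hv])
      exact ⟨j, pt, hpt⟩

end AlgSp
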