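import Mathlib
import Groth.Prelude.Def_AlgSp4
import Groth.Agent.Lib.helper5.AlgSpDiag
import Groth.Agent.Lib.helper5.AlgSpMono

set_option autoImplicit false
universe u v
open CategoryTheory CategoryTheory.Limits AlgebraicGeometry Opposite Topology

namespace AlgSp

section cat

variable {C : Type u} [Category.{v} C]

set_option backward.isDefEq.respectTransparency false in
/-- Graph factorisation: the base change of `f` along `t` is the base change of the diagonal of `g`
along `X ×_Z T ⟶ Y ×_Z Y`. -/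
theorem h5_isPullback_graph [HasPullbacks C] {X Y Z T P1 E : C} {f : X ⟶ Y} {g : Y ⟶ Z}
    {t : T ⟶ Y} {p1 : P1 ⟶ X} {p2 : P1 ⟶ T} (sq1 : IsPullback p1 p2 (f ≫ g) (t ≫ g))
    {e1 : E ⟶ Y} {e2 : E ⟶ P1}
    (sq2 : IsPullback e1 e2 (pullback.diagonal g)
      (pullback.lift (p1 ≫ f) (p2 ≫ t) (by simpa using sq1.w))) :
    IsPullback (e2 ≫ p1) (e2 ≫ p2) f t := by
  have w1 : e1 = e2 ≫ p1 ≫ f := by
    have := congrArg (· ≫ pullback.fst g g) sq2.w
    simpa using this
  have w2 : e1 = e2 ≫ p2 ≫ t := by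
    have := congrArg (· ≫ pullback.snd g g) sq2.w
    simpa using this
  refine h5_isPullback_of_exists_unique ?_ ?_ ?_
  · rw [Category.assoc, Category.assoc, ← w1, ← w2]
  · intro W x y h
    have h1 : x ≫ f ≫ g = y ≫ t ≫ g := by rw [← Category.assoc, h, Category.assoc]
    refine ⟨sq2.lift (x ≫ f) (sq1.lift x y h1) ?_, ?_, ?_⟩
    · apply pullback.hom_ext
      · simp
      · simp [h]
    · rw [← Category.assoc, sq2.lift_snd, sq1.lift_fst]
    · rw [← Category.assoc, sq2.lift_snd, sq1.lift_snd]
  · intro W p q h1 h2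
    have h3 : p ≫ e2 = q ≫ e2 := by
      apply sq1.hom_ext
      · simpa using h1
      · simpa using h2
    apply sq2.hom_ext
    · rw [w1, ← Category.assoc, ← Category.assoc, h3]
      simp
    · exact h3

set_option backward.isDefEq.respectTransparency false in
/-- The base change of the relative diagonal of `f` along `t` is the equaliser of the two sections
of the base change of `f` defined by `t`. -/
theorem h5_isPullback_diagonal_sections [HasPullbacks C] {X Y T P E : C} {f : X ⟶ Y}
    (t : T ⟶ pullback f f) {fstP : P ⟶ X} {p : P ⟶ T}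
    (sq : IsPullback fstP p f (t ≫ pullback.fst f f ≫ f)) (s1 s2 : T ⟶ P)
    (h11 : s1 ≫ fstP = t ≫ pullback.fst f f) (h12 : s1 ≫ p = 𝟙 T)
    (h21 : s2 ≫ fstP = t ≫ pullback.snd f f) (h22 : s2 ≫ p = 𝟙 T)
    {e e' : E ⟶ T} (sqE : IsPullback e e' s1 s2) :
    IsPullback (e ≫ t ≫ pullback.fst f f) e (pullback.diagonal f) t := by
  have hee : e = e' := by
    have h := congrArg (· ≫ p) sqE.w
    simpa [h12, h22] using h
  refine h5_isPullback_of_exists_unique ?_ ?_ ?_
  · apply pullback.hom_ext
    · simp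
    · have h := congrArg (· ≫ fstP) sqE.w
      simp only [Category.assoc, h11, h21] at h
      simp only [Category.assoc, pullback.diagonal_snd, Category.comp_id]
      rw [h, hee]
  · intro W x y h
    have hx1 : x = y ≫ t ≫ pullback.fst f f := by
      have := congrArg (· ≫ pullback.fst f f) h
      simpa using this
    have hx2 : x = y ≫ t ≫ pullback.snd f f := by
      have := congrArg (· ≫ pullback.snd f f) h
      simpa using this
    have hy : y ≫ s1 = y ≫ s2 := by
      apply sq.hom_ext
      · rw [Category.assoc, Category.assoc, h11, h21, ← hx1, ← hx2]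
      · rw [Category.assoc, Category.assoc, h12, h22]
    refine ⟨sqE.lift y y hy, ?_, sqE.lift_fst _ _ _⟩
    rw [← Category.assoc, sqE.lift_fst, ← hx1]
  · intro W a b _ h2
    apply sqE.hom_ext
    · exact h2
    · rw [← hee]; exact h2

set_option backward.isDefEq.respectTransparency false in
/-- The magic square: `T ×_{X × X} X` is the base change of `T ×_X T ⟶ T × T` along the diagonal
of `T`. -/
theorem h5_isPullback_magic [HasBinaryProducts C] {X T P E : C} {g1 g2 : T ⟶ X} {p1 p2 : P ⟶ T}
    (sq : IsPullback p1 p2 g1 g2) {e1 : E ⟶ X} {e2 : E ⟶ T}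
    (sqE : IsPullback e1 e2 (Limits.diag X) (prod.lift g1 g2)) :
    ∃ l : E ⟶ P, l ≫ p1 = e2 ∧ l ≫ p2 = e2 ∧
      IsPullback l e2 (prod.lift p1 p2) (Limits.diag T) := by
  have w1 : e1 = e2 ≫ g1 := by
    have := congrArg (· ≫ prod.fst) sqE.w
    simpa using this
  have w2 : e1 = e2 ≫ g2 := by
    have := congrArg (· ≫ prod.snd) sqE.w
    simpa using this
  refine ⟨sq.lift e2 e2 (by rw [← w1, ← w2]), sq.lift_fst _ _ _, sq.lift_snd _ _ _, ?_⟩
  refine h5_isPullback_of_exists_unique ?_ ?_ ?_
  · apply prod.hom_ext <;> simp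
  · intro W x y h
    have hx1 : x ≫ p1 = y := by
      have := congrArg (· ≫ prod.fst) h
      simpa using this
    have hx2 : x ≫ p2 = y := by
      have := congrArg (· ≫ prod.snd) h
      simpa using this
    have hy : y ≫ g1 = y ≫ g2 := by
      rw [← hx1, Category.assoc, sq.w, ← Category.assoc, hx2, hx1]
    refine ⟨sqE.lift (y ≫ g1) y ?_, ?_, sqE.lift_snd _ _ _⟩
    · apply prod.hom_ext
      · simp
      · simp [hy]
    · apply sq.hom_ext
      · rw [Category.assoc, sq.lift_fst, sqE.lift_snd, hx1]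
      · rw [Category.assoc, sq.lift_snd, sqE.lift_snd, hx2]
  · intro W m m' _ h2
    apply sqE.hom_ext
    · rw [w1, ← Category.assoc, h2, Category.assoc]
    · exact h2

set_option backward.isDefEq.respectTransparency false in
/-- Converse of the magic square. -/
theorem h5_isPullback_magic_conv [HasBinaryProducts C] {X T P E : C} {g1 g2 : T ⟶ X}
    {p1 p2 : P ⟶ T} (sq : IsPullback p1 p2 g1 g2) {l : E ⟶ P} {e2 : E ⟶ T}
    (sqM : IsPullback l e2 (prod.lift p1 p2) (Limits.diag T)) :
    IsPullback (e2 ≫ g1) e2 (Limits.diag X) (prod.lift g1 g2) := by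
  have hl1 : l ≫ p1 = e2 := by
    have := congrArg (· ≫ prod.fst) sqM.w
    simpa using this
  have hl2 : l ≫ p2 = e2 := by
    have := congrArg (· ≫ prod.snd) sqM.w
    simpa using this
  have he : e2 ≫ g1 = e2 ≫ g2 := by
    rw [← hl1, Category.assoc, sq.w, ← Category.assoc, hl2, hl1]
  refine h5_isPullback_of_exists_unique ?_ ?_ ?_
  · apply prod.hom_ext
    · simp
    · simp [he]
  · intro W x y h
    have hx1 : x = y ≫ g1 := by
      have := congrArg (· ≫ prod.fst) h
      simpa using this
    have hx2 : x = y ≫ g2 := by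
      have := congrArg (· ≫ prod.snd) h
      simpa using this
    refine ⟨sqM.lift (sq.lift y y (by rw [← hx1, ← hx2])) y ?_, ?_, sqM.lift_snd _ _ _⟩
    · apply prod.hom_ext <;> simp
    · rw [← Category.assoc, sqM.lift_snd, ← hx1]
  · intro W m m' _ h2
    apply sqM.hom_ext
    · apply sq.hom_ext
      · rw [Category.assoc, Category.assoc, hl1, h2]
      · rw [Category.assoc, Category.assoc, hl2, h2]
    · exact h2

end cat

variable {S : Scheme.{u}}

theorem h5_representable_of_comp_of_diagonal {X Y Z : Sp S} (f : X ⟶ Y) (g : Y ⟶ Z)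
    (hfg : Representable (f ≫ g)) (hd : Representable (pullback.diagonal g)) :
    Representable f := by
  intro T t
  have sq1 := hfg.isPullback (t ≫ g)
  have sq2 := hd.isPullback (pullback.lift (hfg.fst (t ≫ g) ≫ f)
      ((yon S).map (hfg.snd (t ≫ g)) ≫ t) (by simpa using sq1.w))
  have sq3 := h5_isPullback_graph sq1 sq2
  rw [← (yon S).map_comp] at sq3
  exact ⟨_, _, _, sq3⟩

theorem h5_repWith_of_comp_of_diagonal (P : MorphismProperty Scheme.{u})
    [P.IsStableUnderBaseChange] [P.IsStableUnderComposition] {X Y Z : Sp S} (f : X ⟶ Y)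
    (g : Y ⟶ Z) (hfg : RepWith P (f ≫ g)) (hd : RepWith P (pullback.diagonal g)) :
    RepWith P f := by
  apply MorphismProperty.relative.of_exists
  intro T t
  have sq1 := hfg.rep.isPullback (t ≫ g)
  have h1 : P (hfg.rep.snd (t ≫ g)).left := hfg.property_snd _
  have sq2 := hd.rep.isPullback (pullback.lift (hfg.rep.fst (t ≫ g) ≫ f)
      ((yon S).map (hfg.rep.snd (t ≫ g)) ≫ t) (by simpa using sq1.w))
  have h2 : P (hd.rep.snd (pullback.lift (hfg.rep.fst (t ≫ g) ≫ f)
      ((yon S).map (hfg.rep.snd (t ≫ g)) ≫ t) (by simpa using sq1.w))).left :=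
    hd.property_snd _
  have sq3 := h5_isPullback_graph sq1 sq2
  rw [← (yon S).map_comp] at sq3
  refine ⟨_, _, _, sq3, ?_⟩
  exact P.comp_mem _ _ h2 h1


/-- The magic square on the level of schemes. -/
theorem h5_magic_scheme {X : Sp S} {T P E : Over S} {g1 g2 : (yon S).obj T ⟶ X} {p1 p2 : P ⟶ T}
    (sq : IsPullback ((yon S).map p1) ((yon S).map p2) g1 g2) {e1 : (yon S).obj E ⟶ X}
    {e2 : E ⟶ T} (sqE : IsPullback e1 ((yon S).map e2) (Limits.diag X) (prod.lift g1 g2)) :
    ∃ l : E ⟶ P, l ≫ p1 = e2 ∧ l ≫ p2 = e2 ∧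
      IsPullback l.left e2.left (prod.lift p1 p2).left (Limits.diag T).left := by
  obtain ⟨l0, hl1, hl2, sq0⟩ := h5_isPullback_magic sq sqE
  obtain ⟨l, rfl⟩ := (yon S).map_surjective l0
  have h1 : l ≫ p1 = e2 := (yon S).map_injective (by rw [(yon S).map_comp, hl1])
  have h2 : l ≫ p2 = e2 := (yon S).map_injective (by rw [(yon S).map_comp, hl2])
  refine ⟨l, h1, h2, ?_⟩
  have e1' : prod.lift ((yon S).map p1) ((yon S).map p2) =
      (yon S).map (prod.lift p1 p2) ≫ prodComparison (yon S) T T := by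
    apply prod.hom_ext
    · rw [Category.assoc, prodComparison_fst, ← Functor.map_comp, prod.lift_fst, prod.lift_fst]
    · rw [Category.assoc, prodComparison_snd, ← Functor.map_comp, prod.lift_snd, prod.lift_snd]
  rw [e1', diag_yon_obj] at sq0
  have sq1 := h5_isPullback_of_comp_mono _ sq0
  have w : l ≫ prod.lift p1 p2 = e2 ≫ Limits.diag T := by
    apply (yon S).map_injective
    rw [(yon S).map_comp, (yon S).map_comp, sq1.w]
  have sq2 : IsPullback l e2 (prod.lift p1 p2) (Limits.diag T) :=
    IsPullback.of_map (yon S) w sq1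
  exact sq2.map (Over.forget S)

end AlgSp
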