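import Mathlib
import Groth.Prelude.Def_AlgSpCov
import Groth.Agent.Lib.helper5.AlgSpOpen3
import Groth.Agent.Lib.helper5.AlgSpOpen2
import Groth.Agent.Lib.helper5.AlgSpPb

set_option autoImplicit false
universe u
open CategoryTheory CategoryTheory.Limits AlgebraicGeometry Opposite

namespace AlgSp

variable {S : Scheme.{u}}

/-- Closure properties of a class `Q` of morphisms used for coverings. -/
structure H5QGood (Q : MorphismProperty (Sp S)) : Prop where
  oi : ∀ {A B : Sp S} (j : A ⟶ B), IsAlgSpace A → IsAlgSpace B → RepWith @IsOpenImmersion j → Q j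
  comp : ∀ {A B C : Sp S} (a : A ⟶ B) (b : B ⟶ C), IsAlgSpace A → IsAlgSpace B → IsAlgSpace C →
    Q a → Q b → Q (a ≫ b)
  bc : ∀ {A B A' B' : Sp S} {a : A ⟶ B} {b : B' ⟶ B} {a' : A' ⟶ B'} {b' : A' ⟶ A},
    IsAlgSpace A → IsAlgSpace B → IsAlgSpace B' → IsPullback b' a' a b → Q a → Q a'
  openMap : ∀ {A B : Sp S} (a : A ⟶ B), IsAlgSpace A → IsAlgSpace B → Q a →
    IsOpenMap (Points.map a)

/-- The closure properties actually used: only open immersions are composed or base changed along. -/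
structure H5QWeak (Q : MorphismProperty (Sp S)) : Prop where
  oi : ∀ {A B : Sp S} (j : A ⟶ B), IsAlgSpace A → IsAlgSpace B → RepWith @IsOpenImmersion j → Q j
  comp_oi : ∀ {A B C : Sp S} (a : A ⟶ B) (b : B ⟶ C), IsAlgSpace A → IsAlgSpace B →
    IsAlgSpace C → RepWith @IsOpenImmersion a → Q b → Q (a ≫ b)
  bc_oi : ∀ {A B A' B' : Sp S} {a : A ⟶ B} {b : B' ⟶ B} {a' : A' ⟶ B'} {b' : A' ⟶ A},
    IsAlgSpace A → IsAlgSpace B → IsAlgSpace B' → IsPullback b' a' a b →
    RepWith @IsOpenImmersion b → Q a → Q a'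
  openMap : ∀ {A B : Sp S} (a : A ⟶ B), IsAlgSpace A → IsAlgSpace B → Q a →
    IsOpenMap (Points.map a)

theorem H5QGood.toWeak {Q : MorphismProperty (Sp S)} (h : H5QGood Q) : H5QWeak Q where
  oi := h.oi
  comp_oi := fun a b hA hB hC ha hb => h.comp a b hA hB hC (h.oi a hA hB ha) hb
  bc_oi := fun hA hB hB' sq _ ha => h.bc hA hB hB' sq ha
  openMap := h.openMap

theorem h5_repWith_oi_id (B : Sp S) : RepWith @IsOpenImmersion (𝟙 B) :=
  (repWith_isMultiplicative (S := S) @IsOpenImmersion).id_mem B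

/-- A property local on the base for `Q`-coverings is stable under base change along `Q`. -/
theorem h5_P_baseChange {P Q : MorphismProperty (Sp S)} (hQ : H5QWeak Q)
    (hP : IsLocalOnBase (fun _ _ Y g => IsCover Q Y g) P)
    {A B A' B' : Sp S} {h : A ⟶ B} {k : B' ⟶ B} {h' : A' ⟶ B'} {k' : A' ⟶ A}
    (hA : IsAlgSpace A) (hB : IsAlgSpace B) (hB' : IsAlgSpace B') (hA' : IsAlgSpace A')
    (sq : IsPullback k' h' h k) (hk : Q k) (hh : P h) : P h' := by
  let Yi : (PUnit.{u + 1} ⊕ PUnit.{u + 1}) → Sp S := Sum.elim (fun _ => B') (fun _ => B)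
  let g : ∀ i, Yi i ⟶ B := fun i => match i with
    | Sum.inl _ => k
    | Sum.inr _ => 𝟙 B
  let Xi : (PUnit.{u + 1} ⊕ PUnit.{u + 1}) → Sp S := Sum.elim (fun _ => A') (fun _ => A)
  let p : ∀ i, Xi i ⟶ Yi i := fun i => match i with
    | Sum.inl _ => h'
    | Sum.inr _ => h
  let q : ∀ i, Xi i ⟶ A := fun i => match i with
    | Sum.inl _ => k'
    | Sum.inr _ => 𝟙 A
  have hcov : IsCover Q Yi g := by
    refine ⟨fun i => ?_, fun x => ⟨Sum.inr PUnit.unit, x, Points.map_id x⟩⟩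
    rcases i with _ | _
    · exact hk
    · exact hQ.oi (𝟙 B) hB hB (h5_repWith_oi_id B)
  have key := hP Yi g hB (fun i => by rcases i with _ | _; exact hB'; exact hB) hcov h hA Xi p q
    (fun i => by rcases i with _ | _; exact hA'; exact hA)
    (fun i => by rcases i with _ | _; exact sq; exact IsPullback.id_horiz h)
  exact key.1 hh (Sum.inl PUnit.unit)

/-- `f` has `P` over the open set `V` of `|Y|`. -/
def h5_PropOver (P : MorphismProperty (Sp S)) {X Y : Sp S} (f : X ⟶ Y) (V : Set (Points Y)) :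
    Prop :=
  ∀ (W₁ X₁ : Sp S) (j₁ : W₁ ⟶ Y) (j₁' : X₁ ⟶ X) (f₁ : X₁ ⟶ W₁), IsAlgSpace W₁ → IsAlgSpace X₁ →
    RepWith @IsOpenImmersion j₁ → Set.range (Points.map j₁) = V → IsPullback j₁' f₁ f j₁ → P f₁

section

variable {P Q : MorphismProperty (Sp S)} (hQ : H5QWeak Q)
  (hP : IsLocalOnBase (fun _ _ Y g => IsCover Q Y g) P)
  {X Y : Sp S} (hX : IsAlgSpace X) (hY : IsAlgSpace Y) (f : X ⟶ Y)

include hQ hP hX hY

theorem h5_propOver_mono {V V' : Set (Points Y)} (hV : IsOpen V) (h : h5_PropOver P f V)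
    (hV' : V' ⊆ V) : h5_PropOver P f V' := by
  intro W₁ X₁ j₁ j₁' f₁ hW₁ hX₁ hj₁ hr sq
  have hWV : IsAlgSpace (h5_openSp Y V) := h5_openSp_isAlgSpace hY hV
  have hXV : IsAlgSpace (pullback f (h5_openSpι Y V)) :=
    h5_isAlgSpace_of_isPullback hY.diag hX hWV (IsPullback.of_hasPullback f (h5_openSpι Y V))
  have hPV : P (pullback.snd f (h5_openSpι Y V)) :=
    h _ _ (h5_openSpι Y V) (pullback.fst f (h5_openSpι Y V)) _ hWV hXV (h5_openSp_repWith hV)
      (h5_openSp_range V) (IsPullback.of_hasPullback f (h5_openSpι Y V))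
  obtain ⟨k, hk⟩ := h5_exists_factor_of_openImmersion (h5_openSpι Y V) (h5_openSp_repWith hV) j₁
    (by rw [hr, h5_openSp_range]; exact hV')
  have hQk : Q k := hQ.oi k hW₁ hWV
    (h5_repWith_of_comp_mono @IsOpenImmersion k (h5_openSpι Y V) (by rw [hk]; exact hj₁))
  let l : X₁ ⟶ pullback f (h5_openSpι Y V) :=
    pullback.lift j₁' (f₁ ≫ k) (by rw [Category.assoc, hk, sq.w])
  have sq2 : IsPullback l f₁ (pullback.snd f (h5_openSpι Y V)) k := by
    refine IsPullback.of_right ?_ (pullback.lift_snd _ _ _)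
      (IsPullback.of_hasPullback f (h5_openSpι Y V))
    rw [pullback.lift_fst, hk]
    exact sq
  exact h5_P_baseChange hQ hP hXV hWV hW₁ hX₁ sq2 hQk hPV

/-- The largest open over which `f` has `P`. -/
def h5_largestOpen (P : MorphismProperty (Sp S)) {X Y : Sp S} (f : X ⟶ Y) : Set (Points Y) :=
  ⋃₀ {V | IsOpen V ∧ h5_PropOver P f V}

omit hQ hP hX hY in
theorem h5_largestOpen_isOpen : IsOpen (h5_largestOpen P f) :=
  isOpen_sUnion fun _ hV => hV.1

theorem h5_propOver_largestOpen : h5_PropOver P f (h5_largestOpen P f) := by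
  intro W₀ X₀ j₀ j₀' f₀ hW₀ hX₀ hj₀ hr sq
  obtain ⟨A, pA, hpe, hps⟩ := hW₀.atlas
  have hsurj := h5_surjective_ofPt pA hps
  have hch : ∀ a : A.left, ∃ V : Set (Points Y), IsOpen V ∧ h5_PropOver P f V ∧
      Points.map j₀ (Points.ofPt pA a) ∈ V := by
    intro a
    have hmem : Points.map j₀ (Points.ofPt pA a) ∈ h5_largestOpen P f := by
      rw [← hr]; exact ⟨_, rfl⟩
    obtain ⟨V, ⟨hVo, hVp⟩, hVa⟩ := hmem
    exact ⟨V, hVo, hVp, hVa⟩
  choose V hVo hVp hVa using hch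
  have hNo : ∀ a, IsOpen (Points.map j₀ ⁻¹' V a) :=
    fun a => (hVo a).preimage (Points.continuous_map j₀)
  have hN : ∀ a, IsAlgSpace (h5_openSp W₀ (Points.map j₀ ⁻¹' V a)) :=
    fun a => h5_openSp_isAlgSpace hW₀ (hNo a)
  have hXa : ∀ a, IsAlgSpace (pullback f₀ (h5_openSpι W₀ (Points.map j₀ ⁻¹' V a))) :=
    fun a => h5_isAlgSpace_of_isPullback hW₀.diag hX₀ (hN a) (IsPullback.of_hasPullback _ _)
  have hcov : IsCover Q (fun a : A.left => h5_openSp W₀ (Points.map j₀ ⁻¹' V a))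
      (fun a => h5_openSpι W₀ (Points.map j₀ ⁻¹' V a)) := by
    refine ⟨fun a => hQ.oi _ (hN a) hW₀ (h5_openSp_repWith (hNo a)), fun w => ?_⟩
    obtain ⟨a, rfl⟩ := hsurj w
    refine ⟨a, ?_⟩
    rw [h5_openSp_range]
    exact hVa a
  have key := hP _ _ hW₀ hN hcov f₀ hX₀
    (fun a => pullback f₀ (h5_openSpι W₀ (Points.map j₀ ⁻¹' V a)))
    (fun a => pullback.snd _ _) (fun a => pullback.fst _ _) hXa
    (fun a => IsPullback.of_hasPullback _ _)
  rw [key]
  intro a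
  refine hVp a _ _ (h5_openSpι W₀ (Points.map j₀ ⁻¹' V a) ≫ j₀) (pullback.fst _ _ ≫ j₀') _
    (hN a) (hXa a) ?_ ?_ ((IsPullback.of_hasPullback _ _).paste_horiz sq)
  · exact (repWith_isMultiplicative (S := S) @IsOpenImmersion).comp_mem _ _
      (h5_openSp_repWith (hNo a)) hj₀
  · have e : Points.map (h5_openSpι W₀ (Points.map j₀ ⁻¹' V a) ≫ j₀) =
        Points.map j₀ ∘ Points.map (h5_openSpι W₀ (Points.map j₀ ⁻¹' V a)) := by
      funext x; exact Points.map_comp _ _ x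
    rw [e, Set.range_comp, h5_openSp_range, Set.image_preimage_eq_inter_range, hr]
    apply Set.inter_eq_left.2
    exact Set.subset_sUnion_of_mem ⟨hVo a, hVp a⟩

theorem h5_range_subset_largestOpen {Y' X' : Sp S} (hY' : IsAlgSpace Y') (hX' : IsAlgSpace X')
    (g : Y' ⟶ Y) (g' : X' ⟶ X) (f' : X' ⟶ Y') (hg : Q g) (sq' : IsPullback g' f' f g)
    (hf' : P f') : Set.range (Points.map g) ⊆ h5_largestOpen P f := by
  have hVo : IsOpen (Set.range (Points.map g)) := (hQ.openMap g hY' hY hg).isOpen_range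
  apply Set.subset_sUnion_of_mem
  refine ⟨hVo, ?_⟩
  intro W₁ X₁ j₁ j₁' f₁ hW₁ hX₁ hj₁ hr sq₁
  obtain ⟨g₁, hg₁⟩ := h5_exists_factor_of_openImmersion j₁ hj₁ g (by rw [hr])
  haveI : Mono j₁ := h5_mono_of_repWith h5_openImm_le_mono j₁ hj₁
  have sqm : IsPullback (𝟙 Y') g₁ g j₁ :=
    (IsPullback.of_vert_isIso_mono (fst := g₁) (snd := 𝟙 Y') (f := j₁) (g := g)
      ⟨by rw [hg₁, Category.id_comp]⟩).flip
  have hQg₁ : Q g₁ := hQ.bc_oi hY' hY hW₁ sqm hj₁ hg
  have hsurj : ∀ w : Points W₁, ∃ y', Points.map g₁ y' = w := by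
    intro w
    have hw : Points.map j₁ w ∈ Set.range (Points.map g) := by rw [← hr]; exact ⟨w, rfl⟩
    obtain ⟨y', hy'⟩ := hw
    refine ⟨y', h5_injective_map_of_openImmersion j₁ hj₁ ?_⟩
    rw [← Points.map_comp, hg₁, hy']
  have hcov : IsCover Q (fun _ : PUnit.{u + 1} => Y') (fun _ => g₁) :=
    ⟨fun _ => hQg₁, fun w => ⟨PUnit.unit, hsurj w⟩⟩
  let l : X' ⟶ X₁ := sq₁.lift g' (f' ≫ g₁) (by rw [Category.assoc, hg₁, sq'.w])
  have sq2 : IsPullback l f' f₁ g₁ := by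
    refine IsPullback.of_right ?_ (sq₁.lift_snd _ _ _) sq₁
    rw [sq₁.lift_fst, hg₁]
    exact sq'
  have key := hP _ _ hW₁ (fun _ => hY') hcov f₁ hX₁ (fun _ => X') (fun _ => f') (fun _ => l)
    (fun _ => hX') (fun _ => sq2)
  exact key.2 (fun _ => hf')


theorem h5_largestOpen_preimage {Y' X' : Sp S} (hY' : IsAlgSpace Y') (hX' : IsAlgSpace X')
    (g : Y' ⟶ Y) (g' : X' ⟶ X) (f' : X' ⟶ Y') (hg : Q g) (sq' : IsPullback g' f' f g)
    (W' : Set (Points Y')) (hW'o : IsOpen W') (hW'p : h5_PropOver P f' W')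
    (hW'max : ∀ V' : Set (Points Y'), IsOpen V' → h5_PropOver P f' V' → V' ⊆ W') :
    W' = Points.map g ⁻¹' h5_largestOpen P f := by
  apply Set.Subset.antisymm
  · have hWsp : IsAlgSpace (h5_openSp Y' W') := h5_openSp_isAlgSpace hY' hW'o
    have hXsp : IsAlgSpace (pullback f' (h5_openSpι Y' W')) :=
      h5_isAlgSpace_of_isPullback hY'.diag hX' hWsp (IsPullback.of_hasPullback _ _)
    have hPs : P (pullback.snd f' (h5_openSpι Y' W')) :=
      hW'p _ _ (h5_openSpι Y' W') (pullback.fst _ _) _ hWsp hXsp (h5_openSp_repWith hW'o)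
        (h5_openSp_range W') (IsPullback.of_hasPullback _ _)
    have hQc : Q (h5_openSpι Y' W' ≫ g) :=
      hQ.comp_oi _ _ hWsp hY' hY (h5_openSp_repWith hW'o) hg
    have hsub := h5_range_subset_largestOpen hQ hP hX hY f hWsp hXsp (h5_openSpι Y' W' ≫ g)
      (pullback.fst _ _ ≫ g') (pullback.snd f' (h5_openSpι Y' W')) hQc
      ((IsPullback.of_hasPullback _ _).paste_horiz sq') hPs
    intro y' hy'
    rw [← h5_openSp_range W'] at hy'
    obtain ⟨z, rfl⟩ := hy'
    apply hsub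
    exact ⟨z, Points.map_comp _ _ z⟩
  · apply hW'max _ ((h5_largestOpen_isOpen f).preimage (Points.continuous_map g))
    intro W₃ X₃ j₃ j₃' f₃ hW₃ hX₃ hj₃ hr sq₃
    have hWo := h5_largestOpen_isOpen (P := P) f
    have hWsp : IsAlgSpace (h5_openSp Y (h5_largestOpen P f)) := h5_openSp_isAlgSpace hY hWo
    have hXsp : IsAlgSpace (pullback f (h5_openSpι Y (h5_largestOpen P f))) :=
      h5_isAlgSpace_of_isPullback hY.diag hX hWsp (IsPullback.of_hasPullback _ _)
    have hPW : P (pullback.snd f (h5_openSpι Y (h5_largestOpen P f))) :=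
      h5_propOver_largestOpen hQ hP hX hY f _ _ (h5_openSpι Y _) (pullback.fst _ _) _ hWsp hXsp
        (h5_openSp_repWith hWo) (h5_openSp_range _) (IsPullback.of_hasPullback _ _)
    obtain ⟨k, hk⟩ := h5_exists_factor_of_openImmersion (h5_openSpι Y (h5_largestOpen P f))
      (h5_openSp_repWith hWo) (j₃ ≫ g) (by
        rw [h5_openSp_range]
        rintro _ ⟨w, rfl⟩
        rw [Points.map_comp]
        have hw : Points.map j₃ w ∈ Points.map g ⁻¹' h5_largestOpen P f := by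
          rw [← hr]; exact ⟨w, rfl⟩
        exact hw)
    have hQjg : Q (j₃ ≫ g) := hQ.comp_oi _ _ hW₃ hY' hY hj₃ hg
    have sqm : IsPullback (𝟙 W₃) k (j₃ ≫ g) (h5_openSpι Y (h5_largestOpen P f)) :=
      (IsPullback.of_vert_isIso_mono (fst := k) (snd := 𝟙 W₃)
        (f := h5_openSpι Y (h5_largestOpen P f)) (g := j₃ ≫ g)
        ⟨by rw [hk, Category.id_comp]⟩).flip
    have hQk : Q k := hQ.bc_oi hW₃ hY hWsp sqm (h5_openSp_repWith hWo) hQjg
    have big := sq₃.paste_horiz sq'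
    let l : X₃ ⟶ pullback f (h5_openSpι Y (h5_largestOpen P f)) :=
      pullback.lift (j₃' ≫ g') (f₃ ≫ k) (by rw [big.w, Category.assoc, hk])
    have sq2 : IsPullback l f₃ (pullback.snd f (h5_openSpι Y (h5_largestOpen P f))) k := by
      refine IsPullback.of_right ?_ (pullback.lift_snd _ _ _) (IsPullback.of_hasPullback _ _)
      rw [pullback.lift_fst, hk]
      exact big
    exact h5_P_baseChange hQ hP hXsp hWsp hW₃ hX₃ sq2 hQk hPW

end

/-- Space-level form of `h5_PropOver`. -/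
def h5_PropOverSp (P : MorphismProperty (Sp S)) {X Y : Space S} (f : X ⟶ Y)
    (V : Set (Points Y.obj)) : Prop :=
  ∀ (W₁ X₁ : Space S) (j₁ : W₁ ⟶ Y) (j₁' : X₁ ⟶ X) (f₁ : X₁ ⟶ W₁),
    RepWith @IsOpenImmersion j₁.hom → Set.range (Points.map j₁.hom) = V →
    IsPullback j₁'.hom f₁.hom f.hom j₁.hom → P f₁.hom

theorem h5_propOverSp_iff (P : MorphismProperty (Sp S)) {X Y : Space S} (f : X ⟶ Y)
    (V : Set (Points Y.obj)) : h5_PropOverSp P f V ↔ h5_PropOver P f.hom V := by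
  constructor
  · intro h W₁ X₁ j₁ j₁' f₁ hW₁ hX₁ hj₁ hr sq
    exact h ⟨W₁, hW₁⟩ ⟨X₁, hX₁⟩ (ObjectProperty.homMk j₁) (ObjectProperty.homMk j₁')
      (ObjectProperty.homMk f₁) hj₁ hr sq
  · intro h W₁ X₁ j₁ j₁' f₁ hj₁ hr sq
    exact h W₁.obj X₁.obj j₁.hom j₁'.hom f₁.hom W₁.property X₁.property hj₁ hr sq

theorem h5_largest_open_main' {P Q : MorphismProperty (Sp S)} (hQ : H5QWeak Q)
    (hP : IsLocalOnBase (fun _ _ Y g => IsCover Q Y g) P) {X Y : Space S} (f : X ⟶ Y) :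
    ∃ W : TopologicalSpace.Opens (Points Y.obj),
      h5_PropOverSp P f (W : Set (Points Y.obj)) ∧
      (∀ V : TopologicalSpace.Opens (Points Y.obj),
        h5_PropOverSp P f (V : Set (Points Y.obj)) → V ≤ W) ∧
      (∀ (Y' X' : Space S) (g : Y' ⟶ Y) (g' : X' ⟶ X) (f' : X' ⟶ Y'), Q g.hom →
        IsPullback g'.hom f'.hom f.hom g.hom → P f'.hom →
        Set.range (Points.map g.hom) ⊆ (W : Set (Points Y.obj))) ∧
      (∀ (Y' X' : Space S) (g : Y' ⟶ Y) (g' : X' ⟶ X) (f' : X' ⟶ Y'), Q g.hom →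
        IsPullback g'.hom f'.hom f.hom g.hom →
        ∀ W' : TopologicalSpace.Opens (Points Y'.obj),
          h5_PropOverSp P f' (W' : Set (Points Y'.obj)) →
          (∀ V' : TopologicalSpace.Opens (Points Y'.obj),
            h5_PropOverSp P f' (V' : Set (Points Y'.obj)) → V' ≤ W') →
          (W' : Set (Points Y'.obj)) = Points.map g.hom ⁻¹' (W : Set (Points Y.obj))) := by
  refine ⟨⟨h5_largestOpen P f.hom, h5_largestOpen_isOpen f.hom⟩, ?_, ?_, ?_, ?_⟩
  · exact (h5_propOverSp_iff P f _).2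
      (h5_propOver_largestOpen hQ hP X.property Y.property f.hom)
  · intro V hV
    intro y hy
    exact Set.subset_sUnion_of_mem
      (show (V : Set (Points Y.obj)) ∈ {V | IsOpen V ∧ h5_PropOver P f.hom V} from
        ⟨V.isOpen, (h5_propOverSp_iff P f _).1 hV⟩) hy
  · intro Y' X' g g' f' hg sq' hf'
    exact h5_range_subset_largestOpen hQ hP X.property Y.property f.hom Y'.property X'.property
      g.hom g'.hom f'.hom hg sq' hf'
  · intro Y' X' g g' f' hg sq' W' hW'p hW'max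
    exact h5_largestOpen_preimage hQ hP X.property Y.property f.hom Y'.property X'.property
      g.hom g'.hom f'.hom hg sq' (W' : Set (Points Y'.obj)) W'.isOpen
      ((h5_propOverSp_iff P f' _).1 hW'p)
      (fun V' hV'o hV'p => hW'max ⟨V', hV'o⟩ ((h5_propOverSp_iff P f' _).2 hV'p))

theorem h5_largest_open_main {P Q : MorphismProperty (Sp S)} (hQ : H5QGood Q)
    (hP : IsLocalOnBase (fun _ _ Y g => IsCover Q Y g) P) {X Y : Space S} (f : X ⟶ Y) :
    ∃ W : TopologicalSpace.Opens (Points Y.obj),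
      h5_PropOverSp P f (W : Set (Points Y.obj)) ∧
      (∀ V : TopologicalSpace.Opens (Points Y.obj),
        h5_PropOverSp P f (V : Set (Points Y.obj)) → V ≤ W) ∧
      (∀ (Y' X' : Space S) (g : Y' ⟶ Y) (g' : X' ⟶ X) (f' : X' ⟶ Y'), Q g.hom →
        IsPullback g'.hom f'.hom f.hom g.hom → P f'.hom →
        Set.range (Points.map g.hom) ⊆ (W : Set (Points Y.obj))) ∧
      (∀ (Y' X' : Space S) (g : Y' ⟶ Y) (g' : X' ⟶ X) (f' : X' ⟶ Y'), Q g.hom →
        IsPullback g'.hom f'.hom f.hom g.hom →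
        ∀ W' : TopologicalSpace.Opens (Points Y'.obj),
          h5_PropOverSp P f' (W' : Set (Points Y'.obj)) →
          (∀ V' : TopologicalSpace.Opens (Points Y'.obj),
            h5_PropOverSp P f' (V' : Set (Points Y'.obj)) → V' ≤ W') →
          (W' : Set (Points Y'.obj)) = Points.map g.hom ⁻¹' (W : Set (Points Y.obj))) :=
  h5_largest_open_main' hQ.toWeak hP f

end AlgSp
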