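import Mathlib
import Groth.Prelude.Def_AlgSp4
import Groth.Agent.Lib.helper5.AlgSpPb
import Groth.Agent.Lib.helper5.SchSrcDesc3

set_option autoImplicit false
universe u
open CategoryTheory CategoryTheory.Limits AlgebraicGeometry Opposite

namespace AlgSp

variable {S : Scheme.{u}}

open Groth.Agent.Lib.helper5 in
/-- Locally of finite type can be checked after precomposing with one etale surjective chart of
the source. -/
theorem h5_locP_lft_of_source_cover {X Y : Sp S} (f : X ⟶ Y) {U : Over S}
    (φ : (yon S).obj U ⟶ X) (hφ : RepWith @Etale φ) (hφs : RepWith @Surjective φ)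
    (h : LocP @LocallyOfFiniteType (φ ≫ f)) : LocP @LocallyOfFiniteType f := by
  intro U₁ V a b h' ha hb comm
  have sq := hφ.rep.isPullback a
  haveI e1 : Etale (hφ.rep.snd a).left := hφ.property_snd a
  haveI s1 : Surjective (hφ.rep.snd a).left := hφs.property_snd a
  obtain ⟨w, hw⟩ := (yon S).map_surjective (hφ.rep.fst a)
  have hfe : RepWith @Etale (hφ.rep.fst a) :=
    MorphismProperty.of_isPullback (P := RepWith @Etale) sq.flip ha
  rw [← hw] at hfe
  have hcomm : (yon S).map w ≫ (φ ≫ f) = (yon S).map (hφ.rep.snd a ≫ h') ≫ b := by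
    rw [← Category.assoc, hw, sq.w, Category.assoc, comm, Functor.map_comp, Category.assoc]
  have h1 : LocallyOfFiniteType (hφ.rep.snd a ≫ h').left := h _ b _ hfe hb hcomm
  rw [Over.comp_left] at h1
  exact h5_lft_of_smooth_surjective_comp (hφ.rep.snd a).left h'.left

/-- Locally of finite type can be checked on one chart diagram with surjective source chart. -/
theorem h5_locP_lft_of_one_chart {X Y : Sp S} (f : X ⟶ Y) {U₀ V₀ : Over S}
    (a₀ : (yon S).obj U₀ ⟶ X) (b₀ : (yon S).obj V₀ ⟶ Y) (h₀ : U₀ ⟶ V₀)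
    (ha₀ : RepWith @Etale a₀) (has₀ : RepWith @Surjective a₀) (hb₀ : RepWith @Etale b₀)
    (comm₀ : a₀ ≫ f = (yon S).map h₀ ≫ b₀) (hh₀ : LocallyOfFiniteType h₀.left) :
    LocP @LocallyOfFiniteType f := by
  apply h5_locP_lft_of_source_cover f a₀ ha₀ has₀
  rw [comm₀]
  intro U V a b h ha hb comm
  obtain ⟨α, rfl⟩ := (yon S).map_surjective a
  haveI : Etale α.left := (repWith_yon_map_iff _ _).1 ha
  have sq2 := hb₀.rep.isPullback b
  have hw : (yon S).map (α ≫ h₀) ≫ b₀ = (yon S).map h ≫ b := by
    rw [Functor.map_comp, Category.assoc]; exact comm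
  obtain ⟨l, hl⟩ := (yon S).map_surjective (sq2.lift _ _ hw)
  have e1 : l ≫ hb₀.rep.snd b = h :=
    (yon S).map_injective (by rw [Functor.map_comp, hl, sq2.lift_snd])
  obtain ⟨v₂, hv₂⟩ := (yon S).map_surjective (hb₀.rep.fst b)
  have e2 : l ≫ v₂ = α ≫ h₀ :=
    (yon S).map_injective (by rw [Functor.map_comp, hl, hv₂, sq2.lift_fst])
  have h3 : LocallyOfFiniteType (l.left ≫ v₂.left) := by
    rw [← Over.comp_left, e2, Over.comp_left]; infer_instance
  have h4 : LocallyOfFiniteType l.left := locallyOfFiniteType_of_comp _ v₂.left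
  haveI : Etale (hb₀.rep.snd b).left := hb₀.property_snd b
  rw [← e1, Over.comp_left]
  infer_instance

end AlgSp
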