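import Mathlib
import Groth.Prelude.Def_AlgSp4
import Groth.Agent.Lib.helper5.AlgSpPb
import Groth.Agent.Lib.helper5.AlgSpLft

set_option autoImplicit false
universe u
open CategoryTheory CategoryTheory.Limits AlgebraicGeometry Opposite

namespace AlgSp

variable {S : Scheme.{u}}

/-- Locally of finite type morphisms of algebraic spaces are stable under composition. -/
theorem h5_locP_lft_comp {X Y Z : Sp S} (hX : IsAlgSpace X) (hY : IsAlgSpace Y)
    (hZ : IsAlgSpace Z) (f : X ⟶ Y) (g : Y ⟶ Z) (hf : LocP @LocallyOfFiniteType f)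
    (hg : LocP @LocallyOfFiniteType g) : LocP @LocallyOfFiniteType (f ≫ g) := by
  obtain ⟨W, c, hce, hcs⟩ := hZ.atlas
  have sqY := IsPullback.of_hasPullback g c
  have hYW : IsAlgSpace (pullback g c) :=
    h5_isAlgSpace_of_isPullback hZ.diag hY (IsAlgSpace.yon_obj W) sqY
  obtain ⟨V, b, hbe, hbs⟩ := hYW.atlas
  have hfe : RepWith @Etale (pullback.fst g c) :=
    MorphismProperty.of_isPullback (P := RepWith @Etale) sqY.flip hce
  have hfs : RepWith @Surjective (pullback.fst g c) :=
    MorphismProperty.of_isPullback (P := RepWith @Surjective) sqY.flip hcs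
  have hb'e : RepWith @Etale (b ≫ pullback.fst g c) := (RepWith @Etale).comp_mem _ _ hbe hfe
  have hb's : RepWith @Surjective (b ≫ pullback.fst g c) :=
    (RepWith @Surjective).comp_mem _ _ hbs hfs
  obtain ⟨v, hv⟩ := (yon S).map_surjective (b ≫ pullback.snd g c)
  have hvl : LocallyOfFiniteType v.left :=
    hg (b ≫ pullback.fst g c) c v hb'e hce (by rw [hv, Category.assoc, Category.assoc, sqY.w])
  have sqX := IsPullback.of_hasPullback f (b ≫ pullback.fst g c)
  have hXV : IsAlgSpace (pullback f (b ≫ pullback.fst g c)) :=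
    h5_isAlgSpace_of_isPullback hY.diag hX (IsAlgSpace.yon_obj V) sqX
  obtain ⟨U, a, hae, has⟩ := hXV.atlas
  have hge : RepWith @Etale (pullback.fst f (b ≫ pullback.fst g c)) :=
    MorphismProperty.of_isPullback (P := RepWith @Etale) sqX.flip hb'e
  have hgs : RepWith @Surjective (pullback.fst f (b ≫ pullback.fst g c)) :=
    MorphismProperty.of_isPullback (P := RepWith @Surjective) sqX.flip hb's
  have ha'e : RepWith @Etale (a ≫ pullback.fst f (b ≫ pullback.fst g c)) :=
    (RepWith @Etale).comp_mem _ _ hae hge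
  have ha's : RepWith @Surjective (a ≫ pullback.fst f (b ≫ pullback.fst g c)) :=
    (RepWith @Surjective).comp_mem _ _ has hgs
  obtain ⟨w, hw⟩ := (yon S).map_surjective (a ≫ pullback.snd f (b ≫ pullback.fst g c))
  have hwl : LocallyOfFiniteType w.left :=
    hf (a ≫ pullback.fst f (b ≫ pullback.fst g c)) (b ≫ pullback.fst g c) w ha'e hb'e
      (by rw [hw, Category.assoc, Category.assoc, sqX.w])
  refine h5_locP_lft_of_one_chart (f ≫ g) (a ≫ pullback.fst f (b ≫ pullback.fst g c)) c (w ≫ v)
    ha'e ha's hce ?_ (by rw [Over.comp_left]; infer_instance)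
  rw [Functor.map_comp, hw, hv]
  simp only [Category.assoc]
  rw [← sqY.w, reassoc_of% sqX.w]

/-- Locally of finite type morphisms of algebraic spaces are stable under base change. -/
theorem h5_locP_lft_baseChange {X Y Y' X' : Sp S} (hX : IsAlgSpace X) (hY : IsAlgSpace Y)
    (hY' : IsAlgSpace Y') {f : X ⟶ Y} {g : Y' ⟶ Y} {fst : X' ⟶ X} {f' : X' ⟶ Y'}
    (sq : IsPullback fst f' f g) (hf : LocP @LocallyOfFiniteType f) :
    LocP @LocallyOfFiniteType f' := by
  obtain ⟨V', b', hb'e, hb's⟩ := hY'.atlas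
  obtain ⟨V, p, hpe, hps⟩ := hY.atlas
  -- V'₁ = V' ×_Y V
  have sq1 := hpe.rep.isPullback (b' ≫ g)
  haveI e1 : Etale (hpe.rep.snd (b' ≫ g)).left := hpe.property_snd _
  haveI s1 : Surjective (hpe.rep.snd (b' ≫ g)).left := hps.property_snd _
  obtain ⟨v, hv⟩ := (yon S).map_surjective (hpe.rep.fst (b' ≫ g))
  -- X_V = X ×_Y V
  have sqXV := IsPullback.of_hasPullback f p
  have hXV : IsAlgSpace (pullback f p) :=
    h5_isAlgSpace_of_isPullback hY.diag hX (IsAlgSpace.yon_obj V) sqXV
  obtain ⟨U, c, hce, hcs⟩ := hXV.atlas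
  have hπe : RepWith @Etale (pullback.fst f p) :=
    MorphismProperty.of_isPullback (P := RepWith @Etale) sqXV.flip hpe
  obtain ⟨w, hw⟩ := (yon S).map_surjective (c ≫ pullback.snd f p)
  haveI hwl : LocallyOfFiniteType w.left :=
    hf (c ≫ pullback.fst f p) p w ((RepWith @Etale).comp_mem _ _ hce hπe) hpe
      (by rw [hw, Category.assoc, Category.assoc, sqXV.w])
  -- X'₁ = X_V ×_V V'₁
  have sqX1 := IsPullback.of_hasPullback (pullback.snd f p) ((yon S).map v)
  -- Q = U ×_V V'₁ in schemes
  have sqQ : IsPullback (pullback.fst w v) (pullback.snd w v) w v := IsPullback.of_hasPullback _ _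
  have sqQy := sqQ.map (yon S)
  rw [hw] at sqQy
  have hwl' : (yon S).map (pullback.fst w v) ≫ c ≫ pullback.snd f p =
      (yon S).map (pullback.snd w v) ≫ (yon S).map v := by
    simpa using sqQy.w
  have sqL : IsPullback (sqX1.lift ((yon S).map (pullback.fst w v) ≫ c)
      ((yon S).map (pullback.snd w v)) (by rw [Category.assoc]; exact hwl'))
      ((yon S).map (pullback.fst w v)) (pullback.fst (pullback.snd f p) ((yon S).map v)) c := by
    refine IsPullback.of_right ?_ (by rw [sqX1.lift_fst]) sqX1.flip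
    rw [sqX1.lift_snd]
    exact sqQy.flip
  have hle : RepWith @Etale (sqX1.lift ((yon S).map (pullback.fst w v) ≫ c)
      ((yon S).map (pullback.snd w v)) (by rw [Category.assoc]; exact hwl')) :=
    MorphismProperty.of_isPullback (P := RepWith @Etale) sqL.flip hce
  have hls : RepWith @Surjective (sqX1.lift ((yon S).map (pullback.fst w v) ≫ c)
      ((yon S).map (pullback.snd w v)) (by rw [Category.assoc]; exact hwl')) :=
    MorphismProperty.of_isPullback (P := RepWith @Surjective) sqL.flip hcs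
  -- X'₁ = X' ×_{Y'} V'₁
  have hbig : IsPullback (pullback.fst (pullback.snd f p) ((yon S).map v) ≫ pullback.fst f p)
      (pullback.snd (pullback.snd f p) ((yon S).map v)) f
      ((yon S).map (hpe.rep.snd (b' ≫ g)) ≫ b' ≫ g) := by
    have := sqX1.paste_horiz sqXV
    have e : (yon S).map v ≫ p = (yon S).map (hpe.rep.snd (b' ≫ g)) ≫ b' ≫ g := by
      rw [hv, sq1.w]
    rw [e] at this
    exact this
  have hwm : (pullback.fst (pullback.snd f p) ((yon S).map v) ≫ pullback.fst f p) ≫ f =
      (pullback.snd (pullback.snd f p) ((yon S).map v) ≫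
        (yon S).map (hpe.rep.snd (b' ≫ g)) ≫ b') ≫ g := by
    rw [hbig.w]; simp only [Category.assoc]
  have sqM : IsPullback (sq.lift _ _ hwm) (pullback.snd (pullback.snd f p) ((yon S).map v)) f'
      ((yon S).map (hpe.rep.snd (b' ≫ g)) ≫ b') := by
    refine IsPullback.of_right ?_ (by rw [sq.lift_snd]) sq
    rw [sq.lift_fst]
    simpa only [Category.assoc] using hbig
  have hb1e : RepWith @Etale ((yon S).map (hpe.rep.snd (b' ≫ g)) ≫ b') :=
    (RepWith @Etale).comp_mem _ _ ((repWith_yon_map_iff _ _).2 e1) hb'e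
  have hb1s : RepWith @Surjective ((yon S).map (hpe.rep.snd (b' ≫ g)) ≫ b') :=
    (RepWith @Surjective).comp_mem _ _ ((repWith_yon_map_iff _ _).2 s1) hb's
  have hme : RepWith @Etale (sq.lift _ _ hwm) :=
    MorphismProperty.of_isPullback (P := RepWith @Etale) sqM.flip hb1e
  have hms : RepWith @Surjective (sq.lift _ _ hwm) :=
    MorphismProperty.of_isPullback (P := RepWith @Surjective) sqM.flip hb1s
  haveI hq2 : LocallyOfFiniteType (pullback.snd w v).left :=
    MorphismProperty.of_isPullback (P := @LocallyOfFiniteType) (sqQ.map (Over.forget S)) hwl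
  refine h5_locP_lft_of_one_chart f' (_ ≫ sq.lift _ _ hwm) b'
    (pullback.snd w v ≫ hpe.rep.snd (b' ≫ g))
    ((RepWith @Etale).comp_mem _ _ hle hme) ((RepWith @Surjective).comp_mem _ _ hls hms) hb'e ?_
    (by rw [Over.comp_left]; infer_instance)
  rw [Category.assoc, sq.lift_snd, ← Category.assoc, sqX1.lift_snd, Functor.map_comp,
    Category.assoc]

end AlgSp
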