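import Mathlib
import Groth.Prelude.Def_AlgSp4
import Groth.Agent.Lib.helper5.AlgSpLft2

set_option autoImplicit false
universe u
open CategoryTheory CategoryTheory.Limits AlgebraicGeometry Opposite

namespace AlgSp

variable {S : Scheme.{u}}

/-- Locally of finite type can be checked after base change to affine schemes etale over the
target. -/
theorem h5_locP_lft_of_affine_baseChange {X Y : Sp S} (f : X ⟶ Y)
    (H : ∀ (Z : Over S), IsAffine Z.left → ∀ (g : (yon S).obj Z ⟶ Y), RepWith @Etale g →
      LocP @LocallyOfFiniteType (pullback.snd f g)) : LocP @LocallyOfFiniteType f := by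
  intro U V a b h ha hb comm
  apply IsZariskiLocalAtTarget.of_openCover (P := @LocallyOfFiniteType) V.left.affineCover
  intro i
  let Z : Over S := Over.mk (V.left.affineCover.f i ≫ V.hom)
  let j : Z ⟶ V := Over.homMk (V.left.affineCover.f i) rfl
  haveI : IsOpenImmersion j.left := by
    change IsOpenImmersion (V.left.affineCover.f i); infer_instance
  have hZ : IsAffine Z.left := by
    change IsAffine (V.left.affineCover.X i); infer_instance
  have hg : RepWith @Etale ((yon S).map j ≫ b) :=
    (RepWith @Etale).comp_mem _ _ ((repWith_yon_map_iff _ _).2 (inferInstance : Etale j.left)) hb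
  have hL := H Z hZ _ hg
  have sqP := IsPullback.of_hasPullback f ((yon S).map j ≫ b)
  have hπ : RepWith @Etale (pullback.fst f ((yon S).map j ≫ b)) :=
    MorphismProperty.of_isPullback (P := RepWith @Etale) sqP.flip hg
  have sqW := hπ.rep.isPullback a
  have hfW : RepWith @Etale (hπ.rep.fst a) :=
    MorphismProperty.of_isPullback (P := RepWith @Etale) sqW.flip ha
  obtain ⟨w, hw⟩ := (yon S).map_surjective (hπ.rep.fst a ≫ pullback.snd f ((yon S).map j ≫ b))
  haveI hwl : LocallyOfFiniteType w.left :=
    hL (hπ.rep.fst a) (𝟙 _) w hfW (repWith_id _ Z) (by rw [hw, Category.comp_id])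
  have sqi : IsPullback (pullback.fst h j) (pullback.snd h j) h j := IsPullback.of_hasPullback _ _
  have hwa : ((yon S).map (pullback.fst h j) ≫ a) ≫ f =
      (yon S).map (pullback.snd h j) ≫ (yon S).map j ≫ b := by
    rw [Category.assoc, comm, ← Category.assoc, ← Functor.map_comp, sqi.w, Functor.map_comp,
      Category.assoc]
  obtain ⟨s, hs⟩ := (yon S).map_surjective (sqW.lift (sqP.lift _ _ hwa)
    ((yon S).map (pullback.fst h j)) (sqP.lift_fst _ _ _))
  have e1 : s ≫ hπ.rep.snd a = pullback.fst h j :=
    (yon S).map_injective (by rw [Functor.map_comp, hs, sqW.lift_snd])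
  have e2 : s ≫ w = pullback.snd h j :=
    (yon S).map_injective (by
      rw [Functor.map_comp, hs, hw, ← Category.assoc, sqW.lift_fst, sqP.lift_snd])
  have sqL := sqi.map (Over.forget S)
  haveI : IsOpenImmersion (pullback.fst h j).left :=
    MorphismProperty.of_isPullback (P := @IsOpenImmersion) sqL.flip
      (inferInstanceAs (IsOpenImmersion j.left))
  haveI hsl : LocallyOfFiniteType s.left := by
    have : LocallyOfFiniteType (s.left ≫ (hπ.rep.snd a).left) := by
      rw [← Over.comp_left, e1]; infer_instance
    exact locallyOfFiniteType_of_comp _ (hπ.rep.snd a).left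
  have hq2 : LocallyOfFiniteType (pullback.snd h j).left := by
    rw [← e2, Over.comp_left]; infer_instance
  haveI hq2' : LocallyOfFiniteType ((Over.forget S).map (pullback.snd h j)) := hq2
  have : pullback.snd ((Over.forget S).map h) ((Over.forget S).map j) =
      sqL.isoPullback.inv ≫ (Over.forget S).map (pullback.snd h j) :=
    (sqL.isoPullback_inv_snd).symm
  change LocallyOfFiniteType (pullback.snd ((Over.forget S).map h) ((Over.forget S).map j))
  rw [this]
  infer_instance

end AlgSp
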