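import Mathlib
import Groth.Prelude.Def_AlgSpCov
import Groth.Agent.Lib.helper5.AlgSpDiag

set_option autoImplicit false
universe u
open CategoryTheory CategoryTheory.Limits AlgebraicGeometry Opposite Topology MorphismProperty

namespace AlgSp

/-- The class of fpqc covering maps. -/
abbrev h5Fpqc : MorphismProperty Scheme.{u} :=
  @Surjective ⊓ @Flat ⊓ @QuasiCompact

instance h5_descendsAlong_mono_fpqc : DescendsAlong (monomorphisms Scheme.{u}) h5Fpqc.{u} := by
  rw [← diagonal_isomorphisms]
  infer_instance

instance h5_descendsAlong_isClosedImmersion_fpqc :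
    DescendsAlong (@IsClosedImmersion : MorphismProperty Scheme.{u}) h5Fpqc.{u} where
  of_isPullback {A X Y Z fst snd f g} h hf hfst := by
    haveI : IsClosedImmersion fst := hfst
    have hmono : Mono g := of_isPullback_of_descendsAlong (P := monomorphisms Scheme.{u})
      (Q := h5Fpqc.{u}) h hf (inferInstanceAs (Mono fst))
    have hUC : UniversallyClosed g := of_isPullback_of_descendsAlong (P := @UniversallyClosed)
      (Q := h5Fpqc.{u}) h hf inferInstance
    have hLFT : LocallyOfFiniteType g := of_isPullback_of_descendsAlong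
      (P := @LocallyOfFiniteType) (Q := h5Fpqc.{u}) h hf inferInstance
    haveI : IsProper g := { }
    exact (IsClosedImmersion.iff_isProper_and_mono g).2 ⟨inferInstance, hmono⟩

/-- Descent along a finite jointly surjective flat family of affine schemes over an affine
scheme. -/
theorem h5_of_finite_fpqc_family (P : MorphismProperty Scheme.{u}) [P.DescendsAlong h5Fpqc.{u}]
    [IsZariskiLocalAtTarget P] {E T : Scheme.{u}} (e : E ⟶ T) {m : ℕ} (W : Fin m → Scheme.{u})
    (c : ∀ j, W j ⟶ T) (hT : IsAffine T) (hW : ∀ j, IsAffine (W j)) (hfl : ∀ j, Flat (c j))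
    (hs : ∀ t : T, ∃ j, t ∈ Set.range (c j)) (h : ∀ j, P (pullback.snd e (c j))) : P e := by
  have hPiso : P.RespectsIso := inferInstance
  let d : ∐ W ⟶ T := Sigma.desc c
  have hd : ∀ j, Sigma.ι W j ≫ d = c j := fun j => Sigma.ι_desc _ _
  have h1 : Flat d := IsZariskiLocalAtSource.sigmaDesc (P := @Flat) hfl
  have h2 : Surjective d := by
    constructor
    intro t
    obtain ⟨j, w, hw⟩ := hs t
    refine ⟨Sigma.ι W j w, ?_⟩
    rw [← Scheme.Hom.comp_apply, hd]; exact hw
  have h3 : QuasiCompact d := inferInstance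
  refine of_isPullback_of_descendsAlong (P := P) (Q := h5Fpqc.{u})
    (IsPullback.of_hasPullback e d).flip ⟨⟨h2, h1⟩, h3⟩ ?_
  rw [IsZariskiLocalAtTarget.iff_of_openCover (P := P) (sigmaOpenCover W)]
  intro j
  show P (pullback.snd (pullback.snd e d) (Sigma.ι W j))
  have s := (IsPullback.of_hasPullback (pullback.snd e d) (Sigma.ι W j)).flip
  have t := (IsPullback.of_hasPullback e d).flip
  have big := (s.paste_vert t).flip
  rw [hd j] at big
  have e1 := big.isoPullback_hom_snd
  rw [← e1]
  exact (P.cancel_left_of_respectsIso big.isoPullback.hom _).2 (h j)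

theorem h5_quasiCompact_of_finite_family {E T : Scheme.{u}} (e : E ⟶ T) {m : ℕ}
    (W : Fin m → Scheme.{u})
    (c : ∀ j, W j ⟶ T) (hT : IsAffine T) (hW : ∀ j, IsAffine (W j))
    (hs : ∀ t : T, ∃ j, t ∈ Set.range (c j)) (h : ∀ j, QuasiCompact (pullback.snd e (c j))) :
    QuasiCompact e := by
  rw [HasAffineProperty.iff_of_isAffine (P := @QuasiCompact)]
  have hc : ∀ j, CompactSpace ↥(pullback e (c j)) := fun j =>
    QuasiCompact.compactSpace_of_compactSpace (pullback.snd e (c j))
  have hcov : (Set.univ : Set E) ⊆ ⋃ j, Set.range (pullback.fst e (c j)) := by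
    intro x _
    obtain ⟨j, w, hw⟩ := hs (e x)
    obtain ⟨z, hz1, _⟩ := Scheme.Pullback.exists_preimage_pullback x w hw.symm
    exact Set.mem_iUnion.2 ⟨j, z, hz1⟩
  constructor
  refine IsCompact.of_isClosed_subset (isCompact_iUnion fun j => ?_) isClosed_univ hcov
  exact isCompact_range (pullback.fst e (c j)).continuous

variable {S : Scheme.{u}}

/-- Properties of the diagonal are fpqc local on the base. -/
theorem h5_isLocalOnBase_diagonal (P0 : MorphismProperty Scheme.{u}) [P0.IsStableUnderBaseChange]
    [IsZariskiLocalAtTarget P0]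
    (hdesc : ∀ {E T : Scheme.{u}} (e : E ⟶ T) {m : ℕ} (W : Fin m → Scheme.{u})
      (c : ∀ j, W j ⟶ T), IsAffine T → (∀ j, IsAffine (W j)) → (∀ j, Flat (c j)) →
      (∀ t : T, ∃ j, t ∈ Set.range (c j)) → (∀ j, P0 (pullback.snd e (c j))) → P0 e) :
    IsLocalOnBase (IsFpqcCover (S := S)) (fun _ _ f => RepWith P0 (pullback.diagonal f)) := by
  have hPiso : P0.RespectsIso := inferInstance
  intro ι Y Yi g hY hYi hcov X f hX Xi p q hXi hsq
  constructor
  · intro h i
    exact MorphismProperty.of_isPullback (P := RepWith P0)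
      (h5_isPullback_diagonal_baseChange (hsq i)) h
  · intro h
    have hd := h5_diagonal_props hX f
    refine h5_repWith_of_affine P0 _ hd.1 (fun T V hT t e1 e sqE => ?_)
    obtain ⟨m, W, c, hWaff, hcflat, hcsurj, hlift⟩ :=
      hcov.2 T hT (t ≫ pullback.fst f f ≫ f)
    refine hdesc e.left (fun j => (W j).left) (fun j => (c j).left) hT hWaff hcflat hcsurj ?_
    intro j
    obtain ⟨i, l, hl⟩ := hlift j
    have sq1 := IsPullback.map (yon S) (IsPullback.of_hasPullback e (c j))
    have sq2 := sq1.paste_horiz sqE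
    obtain ⟨s, e1', sq3⟩ := h5_diag_probe' (hsq i) ((yon S).map (c j) ≫ t) l
      (by rw [hl, Category.assoc]) sq2
    have key : P0 (pullback.snd e (c j)).left := (h i).property s e1' _ sq3
    have e2 : (pullback.snd e (c j)).left = (PreservesPullback.iso (Over.forget S) e (c j)).hom ≫
        pullback.snd e.left (c j).left :=
      (PreservesPullback.iso_hom_snd (Over.forget S) e (c j)).symm
    rw [e2] at key
    exact (P0.cancel_left_of_respectsIso (PreservesPullback.iso (Over.forget S) e (c j)).hom
      (pullback.snd e.left (c j).left)).1 key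

theorem h5_isIso_of_repWith_isomorphisms {F G : Sp S} (g : F ⟶ G)
    (h : RepWith (MorphismProperty.isomorphisms Scheme.{u}) g) : IsIso g := by
  have hiso : ∀ {T : Over S} (z : (yon S).obj T ⟶ G), IsIso ((yon S).map (h.rep.snd z)) := by
    intro T z
    have h1 : IsIso (h.rep.snd z).left := h.property_snd z
    have h1' : IsIso ((Over.forget S).map (h.rep.snd z)) := h1
    have h2 : IsIso (h.rep.snd z) := isIso_of_reflects_iso _ (Over.forget S)
    infer_instance
  apply h5_isIso_of_probe
  · intro T z
    haveI := hiso z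
    refine ⟨inv ((yon S).map (h.rep.snd z)) ≫ h.rep.fst z, ?_⟩
    rw [Category.assoc, (h.rep.isPullback z).w, IsIso.inv_hom_id_assoc]
  · intro T p q hpq
    haveI := hiso (p ≫ g)
    have sq := h.rep.isPullback (p ≫ g)
    have e : sq.lift p (𝟙 _) (by simp) = sq.lift q (𝟙 _) (by simp [hpq]) := by
      rw [← cancel_mono ((yon S).map (h.rep.snd (p ≫ g))), sq.lift_snd, sq.lift_snd]
    have := congrArg (· ≫ h.rep.fst (p ≫ g)) e
    simpa using this

theorem h5_mono_iff_repWith_iso_diagonal {F G : Sp S} (f : F ⟶ G) :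
    Mono f ↔ RepWith (MorphismProperty.isomorphisms Scheme.{u}) (pullback.diagonal f) := by
  constructor
  · intro hf
    haveI : IsIso (pullback.diagonal f) := (pullback.isIso_diagonal_iff f).2 hf
    exact h5_repWith_of_isIso (MorphismProperty.isomorphisms Scheme.{u}) _
  · intro h
    exact (pullback.isIso_diagonal_iff f).1 (h5_isIso_of_repWith_isomorphisms _ h)

end AlgSp
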