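import Mathlib

set_option autoImplicit false
universe u
open CategoryTheory CategoryTheory.Limits AlgebraicGeometry Opposite MorphismProperty

namespace Groth.Agent.Lib.helper5

/-- Two base changes of the same morphism along the same morphism have `P` simultaneously. -/
theorem h5_P_of_isPullback_of_isPullback (P : MorphismProperty Scheme.{u}) [P.RespectsIso]
    {X Y Z A B : Scheme.{u}} {f : X ⟶ Z} {g : Y ⟶ Z} {a1 : A ⟶ X} {a2 : A ⟶ Y}
    {b1 : B ⟶ X} {b2 : B ⟶ Y} (sqA : IsPullback a1 a2 f g) (sqB : IsPullback b1 b2 f g)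
    (h : P a2) : P b2 := by
  have e : b2 = (sqB.isoIsPullback _ _ sqA).hom ≫ a2 := by simp
  rw [e]
  exact (P.cancel_left_of_respectsIso _ _).2 h

/-- Descent of a property of morphisms along a finite jointly surjective family of flat
morphisms from affine schemes to an affine scheme. -/
theorem h5_descend_fpqc_family (P : MorphismProperty Scheme.{u}) [IsZariskiLocalAtTarget P]
    [P.DescendsAlong (@Surjective ⊓ @Flat ⊓ @QuasiCompact)]
    {Z U : Scheme.{u}} (w : U ⟶ Z) [IsAffine Z] {m : ℕ} (W : Fin m → Scheme.{u})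
    (c : ∀ j, W j ⟶ Z) [∀ j, IsAffine (W j)] [∀ j, Flat (c j)]
    (hsurj : ∀ z : ↥Z, ∃ j, z ∈ Set.range (c j))
    (h : ∀ j, P (pullback.snd w (c j))) : P w := by
  have hc' : (@Surjective ⊓ @Flat ⊓ @QuasiCompact : MorphismProperty Scheme.{u})
      (Sigma.desc c) := by
    refine ⟨⟨⟨fun z => ?_⟩, inferInstance⟩, inferInstance⟩
    obtain ⟨j, x, hx⟩ := hsurj z
    refine ⟨Sigma.ι W j x, ?_⟩
    rw [← Scheme.Hom.comp_apply, Sigma.ι_desc]
    exact hx
  refine MorphismProperty.of_isPullback_of_descendsAlong (P := P)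
    (Q := @Surjective ⊓ @Flat ⊓ @QuasiCompact)
    (IsPullback.of_hasPullback w (Sigma.desc c)).flip hc' ?_
  apply IsZariskiLocalAtTarget.of_openCover (P := P) (sigmaOpenCover W)
  intro j
  change P (pullback.snd (pullback.snd w (Sigma.desc c)) (Sigma.ι W j))
  have sq1 := (IsPullback.of_hasPullback (pullback.snd w (Sigma.desc c)) (Sigma.ι W j)).paste_horiz
    (IsPullback.of_hasPullback w (Sigma.desc c))
  have e : Sigma.ι W j ≫ Sigma.desc c = c j := Sigma.ι_desc _ _
  rw [e] at sq1
  exact h5_P_of_isPullback_of_isPullback P (IsPullback.of_hasPullback w (c j)) sq1 (h j)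

end Groth.Agent.Lib.helper5
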