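import Mathlib
import Groth.Prelude.Def_AlgSpCov
import Groth.Agent.Lib.helper5.AlgSpLocP
import Groth.Agent.Lib.helper5.SchFpqcFam

set_option autoImplicit false
universe u
open CategoryTheory CategoryTheory.Limits AlgebraicGeometry Opposite

namespace AlgSp

variable {S : Scheme.{u}}

open Groth.Agent.Lib.helper5 in
/-- For a good property `P` of morphisms of schemes satisfying fpqc descent, `LocP P` is fpqc
local on the base. -/
theorem h5_isLocalOnBase_fpqc_locP {P : MorphismProperty Scheme.{u}}
    [P.IsStableUnderBaseChange] [P.IsStableUnderComposition] (hP : H5Good P)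
    [IsZariskiLocalAtTarget P]
    [P.DescendsAlong (@Surjective ⊓ @Flat ⊓ @QuasiCompact)] :
    IsLocalOnBase (IsFpqcCover (S := S)) (LocP P) := by
  intro ι Y Yi g hY hYi hcov X f hX Xi p q hXi sq
  constructor
  · intro hf i
    exact h5_locP_baseChange hP hX hY (hYi i) (sq i) hf
  · intro hp
    apply h5_locP_of_affine_baseChange hP f
    intro Z hZ gZ _
    obtain ⟨m, W, c, hWaff, hflat, hsurj, hlift⟩ := hcov.2 Z hZ gZ
    have sqZ := IsPullback.of_hasPullback f gZ
    have hXZ : IsAlgSpace (pullback f gZ) :=
      h5_isAlgSpace_of_isPullback hY.diag hX (IsAlgSpace.yon_obj Z) sqZ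
    obtain ⟨U, a, hae, has⟩ := hXZ.atlas
    obtain ⟨w, hw⟩ := (yon S).map_surjective (a ≫ pullback.snd f gZ)
    refine h5_locP_of_one_chart hP (pullback.snd f gZ) a (𝟙 _) w hae has (repWith_id _ Z)
      (by rw [hw, Category.comp_id]) ?_
    haveI : IsAffine Z.left := hZ
    haveI : ∀ j, IsAffine (W j).left := hWaff
    haveI : ∀ j, Flat (c j).left := hflat
    refine h5_descend_fpqc_family P w.left (fun j => (W j).left) (fun j => (c j).left) hsurj ?_
    intro j
    obtain ⟨i, l, hl⟩ := hlift j
    -- the base change of `X_Z → Z` to `W j`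
    have sqT := IsPullback.of_hasPullback (pullback.snd f gZ) ((yon S).map (c j))
    have hbig := sqT.paste_horiz sqZ
    rw [← hl] at hbig
    have hbw : (pullback.fst (pullback.snd f gZ) ((yon S).map (c j)) ≫ pullback.fst f gZ) ≫ f =
        (pullback.snd (pullback.snd f gZ) ((yon S).map (c j)) ≫ l) ≫ g i := by
      rw [hbig.w, Category.assoc]
    have sqTi : IsPullback ((sq i).lift _ _ hbw)
        (pullback.snd (pullback.snd f gZ) ((yon S).map (c j))) (p i) l := by
      refine IsPullback.of_right ?_ ((sq i).lift_snd _ _ _) (sq i)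
      rw [(sq i).lift_fst]
      exact hbig
    have hT : IsAlgSpace (pullback (pullback.snd f gZ) ((yon S).map (c j))) :=
      h5_isAlgSpace_of_isPullback (IsAlgSpace.yon_obj Z).diag hXZ (IsAlgSpace.yon_obj (W j)) sqT
    have hLT : LocP P (pullback.snd (pullback.snd f gZ) ((yon S).map (c j))) :=
      h5_locP_baseChange hP (hXi i) (hYi i) (IsAlgSpace.yon_obj (W j)) sqTi (hp i)
    -- the scheme-level pullback
    have sqU : IsPullback (pullback.fst w (c j)) (pullback.snd w (c j)) w (c j) :=
      IsPullback.of_hasPullback _ _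
    have sqUy := sqU.map (yon S)
    rw [hw] at sqUy
    have hcomm : ((yon S).map (pullback.fst w (c j)) ≫ a) ≫ pullback.snd f gZ =
        (yon S).map (pullback.snd w (c j)) ≫ (yon S).map (c j) := by
      rw [Category.assoc]; exact sqUy.w
    have sqL : IsPullback (sqT.lift _ _ hcomm) ((yon S).map (pullback.fst w (c j)))
        (pullback.fst (pullback.snd f gZ) ((yon S).map (c j))) a := by
      refine IsPullback.of_right ?_ (by rw [sqT.lift_fst]) sqT.flip
      rw [sqT.lift_snd]
      exact sqUy.flip
    have hle : RepWith @Etale (sqT.lift _ _ hcomm) :=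
      MorphismProperty.of_isPullback (P := RepWith @Etale) sqL.flip hae
    have h1 : P (pullback.snd w (c j)).left :=
      hLT (sqT.lift _ _ hcomm) (𝟙 _) (pullback.snd w (c j)) hle (repWith_id _ (W j))
        (by rw [sqT.lift_snd, Category.comp_id])
    exact h5_P_of_isPullback_of_isPullback P (sqU.map (Over.forget S))
      (IsPullback.of_hasPullback w.left (c j).left) h1

end AlgSp
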