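import Mathlib
import Groth.Agent.Lib.helper5.SchEtSrc

set_option autoImplicit false
universe u
open CategoryTheory TensorProduct

namespace Groth.Agent.Lib.helper5

/-- Variant of `h5_ker_fg_of_etale` which remembers the idempotent. -/
theorem h5_ker_eq_span_idempotent {R E A B : Type u} [CommRing R] [CommRing E] [CommRing A]
    [CommRing B]
    [Algebra R E] [Algebra R A] [Algebra R B] [Algebra A B] [IsScalarTower R A B]
    [Algebra.Etale R E] [Algebra.Etale R B] [Module.FaithfullyFlat A B]
    (φ : E →ₐ[R] A) (hφ : Function.Surjective φ) :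
    ∃ e : E, IsIdempotentElem e ∧ RingHom.ker φ.toRingHom = Ideal.span {1 - e} := by
  let ψ : E →ₐ[R] B := (IsScalarTower.toAlgHom R A B).comp φ
  algebraize [ψ.toRingHom]
  haveI : IsScalarTower R E B := IsScalarTower.of_algebraMap_eq fun r => (ψ.commutes r).symm
  haveI : Algebra.Etale E B := Algebra.Etale.of_restrictScalars R E B
  have hψ : ∀ x, algebraMap E B x = algebraMap A B (φ x) := fun x => rfl
  have hopen : IsOpenMap (PrimeSpectrum.comap (algebraMap E B)) :=
    PrimeSpectrum.isOpenMap_comap_of_hasGoingDown_of_finitePresentation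
  have hrange : Set.range (PrimeSpectrum.comap (algebraMap E B)) =
      PrimeSpectrum.zeroLocus (RingHom.ker φ.toRingHom : Set E) := by
    ext p
    constructor
    · rintro ⟨P, rfl⟩ k hk
      change algebraMap E B k ∈ P.asIdeal
      rw [hψ, show φ k = 0 from hk, map_zero]
      exact zero_mem _
    · intro hp
      rw [← _root_.range_comap_of_surjective A φ.toRingHom hφ] at hp
      obtain ⟨q, rfl⟩ := hp
      obtain ⟨P, rfl⟩ := PrimeSpectrum.comap_surjective_of_faithfullyFlat (A := A) (B := B) q
      refine ⟨P, ?_⟩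
      ext x
      rfl
  have hclopen : IsClopen (PrimeSpectrum.zeroLocus (RingHom.ker φ.toRingHom : Set E)) :=
    ⟨PrimeSpectrum.isClosed_zeroLocus _, hrange ▸ hopen.isOpen_range⟩
  obtain ⟨e, he, heq⟩ := PrimeSpectrum.exists_idempotent_basicOpen_eq_of_isClopen hclopen
  have hrange' : ∀ p : PrimeSpectrum E, p ∈ Set.range (PrimeSpectrum.comap (algebraMap E B)) ↔
      e ∉ p.asIdeal := by
    intro p
    rw [hrange, heq]
    rfl
  have hunit : IsUnit (algebraMap E B e) := by
    by_contra hnu
    obtain ⟨M, hM, heM⟩ := exists_max_ideal_of_mem_nonunits hnu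
    have := (hrange' (PrimeSpectrum.comap (algebraMap E B) ⟨M, hM.isPrime⟩)).1 ⟨_, rfl⟩
    exact this heM
  have hone : algebraMap E B e = 1 := by
    have hid : algebraMap E B e * algebraMap E B e = algebraMap E B e := by
      rw [← map_mul, he.eq]
    exact (IsUnit.mul_eq_left hunit).mp hid
  have hinjAB : Function.Injective (algebraMap A B) := FaithfulSMul.algebraMap_injective _ _
  have ha : 1 - e ∈ RingHom.ker φ.toRingHom := by
    rw [RingHom.mem_ker]
    apply hinjAB
    change algebraMap A B (φ (1 - e)) = _
    rw [← hψ, map_sub, map_one, hone, sub_self, map_zero]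
  have hb : ∀ k ∈ RingHom.ker φ.toRingHom, k * e = 0 := by
    intro k hk
    have hflat : (algebraMap E B).Flat := by
      rw [RingHom.flat_algebraMap_iff]; infer_instance
    refine h5_eq_zero_of_flat (algebraMap E B) hflat (k * e) (1 - e) ?_ ?_ ?_
    · rw [map_mul, hψ k, show φ k = 0 from hk, map_zero, zero_mul]
    · have : (1 - e) * (k * e) = k * (e - e * e) := by ring
      rw [this, he.eq, sub_self, mul_zero]
    · intro p hp
      rw [hrange']
      intro hep
      have : (1 : E) ∈ p.asIdeal := by
        have := p.asIdeal.add_mem hp hep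
        simpa using this
      exact p.isPrime.ne_top ((Ideal.eq_top_iff_one _).2 this)
  have hK : RingHom.ker φ.toRingHom = Ideal.span {1 - e} := by
    apply le_antisymm
    · intro k hk
      have : k = k * (1 - e) := by
        have := hb k hk
        linear_combination this
      rw [this]
      exact Ideal.mul_mem_left _ _ (Ideal.subset_span rfl)
    · rw [Ideal.span_le]
      rintro _ rfl
      exact ha
  exact ⟨e, he, hK⟩

theorem h5_includeRight_surjective {P A E : Type u} [CommRing P] [CommRing A] [CommRing E]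
    [Algebra P A] [Algebra P E] (hPA : Function.Surjective (algebraMap P A)) (z : A ⊗[P] E) :
    ∃ x : E, (1 : A) ⊗ₜ[P] x = z := by
  induction z using TensorProduct.induction_on with
  | zero => exact ⟨0, by simp⟩
  | tmul a x =>
    obtain ⟨p, rfl⟩ := hPA a
    refine ⟨p • x, ?_⟩
    rw [Algebra.algebraMap_eq_smul_one, TensorProduct.smul_tmul]
  | add z w hz hw =>
    obtain ⟨a, rfl⟩ := hz
    obtain ⟨b, rfl⟩ := hw
    exact ⟨a + b, TensorProduct.tmul_add _ _ _⟩

theorem h5_mem_map_of_one_tmul_eq_zero {P A E : Type u} [CommRing P] [CommRing A] [CommRing E]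
    [Algebra P A] [Algebra P E] (hPA : Function.Surjective (algebraMap P A)) (y : E)
    (hy : (1 : A) ⊗ₜ[P] y = 0) :
    y ∈ (RingHom.ker (algebraMap P A)).map (algebraMap P E) := by
  have hker := Algebra.TensorProduct.rTensor_ker (R := P) (S := P) (C := E)
    (Algebra.ofId P A) hPA
  have hmem : ((1 : P) ⊗ₜ[P] y) ∈
      RingHom.ker (Algebra.TensorProduct.map (Algebra.ofId P A) (AlgHom.id P E)) := by
    rw [RingHom.mem_ker]
    simpa using hy
  rw [hker] at hmem
  have hle : Ideal.map (Algebra.TensorProduct.includeLeft : P →ₐ[P] P ⊗[P] E)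
      (RingHom.ker (Algebra.ofId P A)) ≤
      Ideal.comap (Algebra.TensorProduct.lid P E).toAlgHom.toRingHom
        ((RingHom.ker (algebraMap P A)).map (algebraMap P E)) := by
    rw [Ideal.map_le_iff_le_comap]
    intro p hp
    have hp' : p ∈ RingHom.ker (algebraMap P A) := hp
    rw [Ideal.mem_comap, Ideal.mem_comap]
    have : (Algebra.TensorProduct.lid P E).toAlgHom.toRingHom
        ((Algebra.TensorProduct.includeLeft : P →ₐ[P] P ⊗[P] E) p) = algebraMap P E p := by
      simp [Algebra.algebraMap_eq_smul_one]
    rw [this]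
    exact Ideal.mem_map_of_mem _ hp'
  have h2 := hle hmem
  rw [Ideal.mem_comap] at h2
  simpa using h2

end Groth.Agent.Lib.helper5
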