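import Mathlib
import Groth.Agent.Lib.helper5.SchLfpSrc

set_option autoImplicit false
universe u
open CategoryTheory TensorProduct

namespace Groth.Agent.Lib.helper5

set_option maxHeartbeats 1000000 in
/-- Local step for descent of finite presentation along an etale cover of the source. -/
theorem h5_exists_fg_localization_of_etale_cover {R P A B : Type u} [CommRing R] [CommRing P]
    [CommRing A] [CommRing B]
    [Algebra R P] [Algebra R A] [Algebra R B] [Algebra P A] [Algebra A B] [Algebra P B]
    [IsScalarTower R P A] [IsScalarTower R A B] [IsScalarTower P A B] [IsScalarTower R P B]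
    (hPA : Function.Surjective (algebraMap P A))
    [Algebra.FinitePresentation R P] [Algebra.Etale A B] [Algebra.FinitePresentation R B]
    (Q : Ideal B) [Q.IsPrime] :
    ∃ t : P, t ∉ Q.comap (algebraMap P B) ∧
      ((RingHom.ker (algebraMap P A)).map (algebraMap P (Localization.Away t))).FG := by
  haveI : Algebra.FormallyUnramified P A :=
    Algebra.FormallyUnramified.of_surjective (Algebra.ofId P A) hPA
  haveI : Algebra.FormallyUnramified P B := Algebra.FormallyUnramified.comp P A B
  haveI : Algebra.FiniteType P A := Algebra.FiniteType.of_surjective (Algebra.ofId P A) hPA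
  haveI : Algebra.FiniteType P B := Algebra.FiniteType.trans ‹Algebra.FiniteType P A› inferInstance
  haveI : Algebra.IsUnramifiedAt P Q :=
    Algebra.formallyUnramified_iff_forall.1 ‹Algebra.FormallyUnramified P B› ⟨Q, inferInstance⟩
  obtain ⟨f, hfQ, SE, φ, hφ⟩ :=
    Algebra.IsUnramifiedAt.exists_hasStandardEtaleSurjectionOn (R := P) Q
  letI : Algebra R SE.Ring := ((algebraMap P SE.Ring).comp (algebraMap R P)).toAlgebra
  haveI : IsScalarTower R P SE.Ring := IsScalarTower.of_algebraMap_eq' rfl
  haveI : IsScalarTower R P (Localization.Away f) := IsScalarTower.of_algebraMap_eq' (by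
    rw [IsScalarTower.algebraMap_eq R B (Localization.Away f),
      IsScalarTower.algebraMap_eq P B (Localization.Away f),
      IsScalarTower.algebraMap_eq R P B, RingHom.comp_assoc])
  haveI : IsScalarTower P A (Localization.Away f) := IsScalarTower.of_algebraMap_eq' (by
    rw [IsScalarTower.algebraMap_eq A B (Localization.Away f),
      IsScalarTower.algebraMap_eq P B (Localization.Away f),
      IsScalarTower.algebraMap_eq P A B, RingHom.comp_assoc])
  -- the kernel of `φ` is finitely generated
  haveI : Algebra.FinitePresentation R SE.Ring := Algebra.FinitePresentation.trans R P SE.Ring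
  haveI : Algebra.FinitePresentation R (Localization.Away f) :=
    Algebra.FinitePresentation.trans R B (Localization.Away f)
  have hK : (RingHom.ker φ.toRingHom).FG :=
    Algebra.FinitePresentation.ker_fG_of_surjective (φ.restrictScalars R) hφ
  -- the idempotent
  let φ' : A ⊗[P] SE.Ring →ₐ[A] Localization.Away f :=
    Algebra.TensorProduct.lift (Algebra.ofId A (Localization.Away f)) φ
      (fun _ _ => Commute.all _ _)
  have hφ'1 : ∀ x : SE.Ring, φ' ((1 : A) ⊗ₜ[P] x) = φ x := fun x => by simp [φ']
  have hφ' : Function.Surjective φ' := fun z => by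
    obtain ⟨x, rfl⟩ := hφ z
    exact ⟨1 ⊗ₜ x, hφ'1 x⟩
  haveI : Algebra.Etale A (Localization.Away f) := Algebra.Etale.comp A B (Localization.Away f)
  obtain ⟨e, he, hker⟩ := h5_ker_eq_span_idempotent (R := A) (E := A ⊗[P] SE.Ring)
    (A := Localization.Away f) (B := Localization.Away f) φ' hφ'
  obtain ⟨k, hk⟩ := h5_includeRight_surjective (P := P) (A := A) (E := SE.Ring) hPA (1 - e)
  have hkK : φ k = 0 := by
    rw [← hφ'1, hk]
    have hmem : (1 - e) ∈ RingHom.ker φ'.toRingHom := by
      rw [hker]; exact Ideal.subset_span rfl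
    exact hmem
  have hφh : φ (1 - k) = 1 := by rw [map_sub, map_one, hkK, sub_zero]
  have hincl : (1 : A) ⊗ₜ[P] (1 - k) = e := by
    rw [TensorProduct.tmul_sub, hk]
    change (1 : A ⊗[P] SE.Ring) - (1 - e) = e
    ring
  have hxh : ∀ x ∈ RingHom.ker φ.toRingHom,
      x * (1 - k) ∈ (RingHom.ker (algebraMap P A)).map (algebraMap P SE.Ring) := by
    intro x hx
    apply h5_mem_map_of_one_tmul_eq_zero hPA
    have h1 : (1 : A) ⊗ₜ[P] x ∈ RingHom.ker φ'.toRingHom := by
      rw [RingHom.mem_ker]
      change φ' _ = 0
      rw [hφ'1]; exact hx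
    rw [hker, Ideal.mem_span_singleton'] at h1
    obtain ⟨y, hy⟩ := h1
    have h2 : (1 : A) ⊗ₜ[P] (x * (1 - k)) = ((1 : A) ⊗ₜ[P] x) * ((1 : A) ⊗ₜ[P] (1 - k)) := by
      rw [Algebra.TensorProduct.tmul_mul_tmul, one_mul]
    rw [h2, hincl, ← hy, mul_assoc, sub_mul, one_mul, he.eq, sub_self, mul_zero]
  -- finite generation after inverting `h = 1 - k`
  have hIK : (RingHom.ker (algebraMap P A)).map (algebraMap P SE.Ring) ≤
      RingHom.ker φ.toRingHom := by
    rw [Ideal.map_le_iff_le_comap]
    intro p hp
    have hp' : algebraMap P A p = 0 := hp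
    rw [Ideal.mem_comap, RingHom.mem_ker]
    change φ (algebraMap P SE.Ring p) = 0
    rw [AlgHom.commutes, IsScalarTower.algebraMap_apply P A (Localization.Away f), hp', map_zero]
  have hfgEh : ((RingHom.ker (algebraMap P A)).map
      (algebraMap P (Localization.Away (1 - k)))).FG := by
    have e1 : (RingHom.ker (algebraMap P A)).map (algebraMap P (Localization.Away (1 - k))) =
        (RingHom.ker φ.toRingHom).map (algebraMap SE.Ring (Localization.Away (1 - k))) := by
      rw [IsScalarTower.algebraMap_eq P SE.Ring (Localization.Away (1 - k)), ← Ideal.map_map]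
      apply le_antisymm
      · exact Ideal.map_mono hIK
      · rw [Ideal.map_le_iff_le_comap]
        intro x hx
        have hu : IsUnit (algebraMap SE.Ring (Localization.Away (1 - k)) (1 - k)) :=
          IsLocalization.Away.algebraMap_isUnit (1 - k)
        have := Ideal.mem_map_of_mem (algebraMap SE.Ring (Localization.Away (1 - k))) (hxh x hx)
        rw [map_mul] at this
        exact (Ideal.mul_unit_mem_iff_mem _ hu).1 this
    rw [e1]
    exact hK.map _
  -- openness of the image
  haveI : Algebra.Etale P (Localization.Away (1 - k)) :=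
    Algebra.Etale.comp P SE.Ring (Localization.Away (1 - k))
  have hopen : IsOpenMap (PrimeSpectrum.comap (algebraMap P (Localization.Away (1 - k)))) :=
    PrimeSpectrum.isOpenMap_comap_of_hasGoingDown_of_finitePresentation
  -- the point over `Q`
  have hdisj : Disjoint (Submonoid.powers f : Set B) (Q : Set B) := by
    rw [Set.disjoint_left]
    rintro _ ⟨n, rfl⟩ hn
    exact hfQ (‹Q.IsPrime›.mem_of_pow_mem n hn)
  haveI hQf : (Q.map (algebraMap B (Localization.Away f))).IsPrime :=
    IsLocalization.isPrime_of_isPrime_disjoint (Submonoid.powers f) _ Q ‹_› hdisj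
  have hQfc : (Q.map (algebraMap B (Localization.Away f))).comap
      (algebraMap B (Localization.Away f)) = Q :=
    IsLocalization.comap_map_of_isPrime_disjoint (Submonoid.powers f) _ ‹_› hdisj
  let Q' : Ideal SE.Ring := (Q.map (algebraMap B (Localization.Away f))).comap φ.toRingHom
  haveI hQ' : Q'.IsPrime := Ideal.comap_isPrime _ _
  have hhQ' : (1 - k) ∉ Q' := by
    intro hmem
    have h1 : φ (1 - k) ∈ Q.map (algebraMap B (Localization.Away f)) := hmem
    rw [hφh] at h1
    exact hQf.ne_top ((Ideal.eq_top_iff_one _).2 h1)
  have hdisj' : Disjoint (Submonoid.powers (1 - k) : Set SE.Ring) (Q' : Set SE.Ring) := by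
    rw [Set.disjoint_left]
    rintro _ ⟨n, rfl⟩ hn
    exact hhQ' (hQ'.mem_of_pow_mem n hn)
  haveI hQ'' : (Q'.map (algebraMap SE.Ring (Localization.Away (1 - k)))).IsPrime :=
    IsLocalization.isPrime_of_isPrime_disjoint (Submonoid.powers (1 - k)) _ Q' hQ' hdisj'
  have hQ''c : (Q'.map (algebraMap SE.Ring (Localization.Away (1 - k)))).comap
      (algebraMap SE.Ring (Localization.Away (1 - k))) = Q' :=
    IsLocalization.comap_map_of_isPrime_disjoint (Submonoid.powers (1 - k)) _ hQ' hdisj'
  have hpt : (⟨Q.comap (algebraMap P B), inferInstance⟩ : PrimeSpectrum P) ∈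
      Set.range (PrimeSpectrum.comap (algebraMap P (Localization.Away (1 - k)))) := by
    refine ⟨⟨_, hQ''⟩, ?_⟩
    ext1
    change (Q'.map (algebraMap SE.Ring (Localization.Away (1 - k)))).comap
      (algebraMap P (Localization.Away (1 - k))) = Q.comap (algebraMap P B)
    rw [IsScalarTower.algebraMap_eq P SE.Ring (Localization.Away (1 - k)), ← Ideal.comap_comap,
      hQ''c]
    change ((Q.map (algebraMap B (Localization.Away f))).comap φ.toRingHom).comap
      (algebraMap P SE.Ring) = _
    rw [Ideal.comap_comap]
    have : φ.toRingHom.comp (algebraMap P SE.Ring) = algebraMap P (Localization.Away f) :=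
      φ.comp_algebraMap
    rw [this, IsScalarTower.algebraMap_eq P B (Localization.Away f), ← Ideal.comap_comap, hQfc]
  obtain ⟨_, ⟨t, rfl⟩, htmem, htsub⟩ :=
    PrimeSpectrum.isTopologicalBasis_basic_opens.exists_subset_of_mem_open hpt hopen.isOpen_range
  refine ⟨t, htmem, ?_⟩
  -- faithfully flat descent from the localization of `E_h` at `t`
  haveI : IsLocalization (Submonoid.map (algebraMap P (Localization.Away (1 - k)))
      (Submonoid.powers t))
      (Localization.Away (algebraMap P (Localization.Away (1 - k)) t)) := by
    rw [Submonoid.map_powers]; infer_instance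
  let ι : Localization.Away t →+*
      Localization.Away (algebraMap P (Localization.Away (1 - k)) t) :=
    IsLocalization.map _ (algebraMap P (Localization.Away (1 - k)))
      (Submonoid.powers t).le_comap_map
  have hιflat : ι.Flat :=
    RingHom.Flat.isStableUnderBaseChange.isLocalization_map (Submonoid.powers t)
      (algebraMap P (Localization.Away (1 - k))) (RingHom.flat_algebraMap_iff.2 inferInstance)
  have hcomp : ι.comp (algebraMap P (Localization.Away t)) =
      (algebraMap (Localization.Away (1 - k))
        (Localization.Away (algebraMap P (Localization.Away (1 - k)) t))).comp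
        (algebraMap P (Localization.Away (1 - k))) :=
    IsLocalization.map_comp _
  have hιsurj : Function.Surjective (PrimeSpectrum.comap ι) := by
    intro 𝔭'
    have htp : t ∉ (PrimeSpectrum.comap (algebraMap P (Localization.Away t)) 𝔭').asIdeal := by
      intro hmem
      have h1 : algebraMap P (Localization.Away t) t ∈ 𝔭'.asIdeal := hmem
      exact 𝔭'.isPrime.ne_top (Ideal.eq_top_of_isUnit_mem _ h1
        (IsLocalization.Away.algebraMap_isUnit t))
    obtain ⟨𝔮, h𝔮⟩ := htsub htp
    have ht𝔮 : algebraMap P (Localization.Away (1 - k)) t ∉ 𝔮.asIdeal := by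
      intro hmem
      apply htp
      rw [← h𝔮]
      exact hmem
    have hd : Disjoint (Submonoid.powers (algebraMap P (Localization.Away (1 - k)) t) :
        Set (Localization.Away (1 - k))) (𝔮.asIdeal : Set (Localization.Away (1 - k))) := by
      rw [Set.disjoint_left]
      rintro _ ⟨n, rfl⟩ hn
      exact ht𝔮 (𝔮.isPrime.mem_of_pow_mem n hn)
    have h𝔮' : (𝔮.asIdeal.map (algebraMap (Localization.Away (1 - k))
        (Localization.Away (algebraMap P (Localization.Away (1 - k)) t)))).IsPrime :=
      IsLocalization.isPrime_of_isPrime_disjoint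
        (Submonoid.powers (algebraMap P (Localization.Away (1 - k)) t)) _ _ 𝔮.isPrime hd
    have h𝔮'c : (𝔮.asIdeal.map (algebraMap (Localization.Away (1 - k))
        (Localization.Away (algebraMap P (Localization.Away (1 - k)) t)))).comap
        (algebraMap (Localization.Away (1 - k))
          (Localization.Away (algebraMap P (Localization.Away (1 - k)) t))) = 𝔮.asIdeal :=
      IsLocalization.comap_map_of_isPrime_disjoint
        (Submonoid.powers (algebraMap P (Localization.Away (1 - k)) t))
        (Localization.Away (algebraMap P (Localization.Away (1 - k)) t)) 𝔮.isPrime hd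
    refine ⟨⟨_, h𝔮'⟩, ?_⟩
    apply PrimeSpectrum.localization_comap_injective (Localization.Away t) (Submonoid.powers t)
    rw [← h𝔮]
    ext1
    change ((𝔮.asIdeal.map _).comap ι).comap (algebraMap P (Localization.Away t)) =
      𝔮.asIdeal.comap (algebraMap P (Localization.Away (1 - k)))
    rw [Ideal.comap_comap, hcomp, ← Ideal.comap_comap, h𝔮'c]
  algebraize [ι]
  haveI : Module.Flat (Localization.Away t)
      (Localization.Away (algebraMap P (Localization.Away (1 - k)) t)) :=
    RingHom.flat_algebraMap_iff.1 hιflat
  haveI : Module.FaithfullyFlat (Localization.Away t)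
      (Localization.Away (algebraMap P (Localization.Away (1 - k)) t)) :=
    Module.FaithfullyFlat.of_comap_surjective hιsurj
  apply Ideal.FG.of_FG_map_of_faithfullyFlat
    (S := Localization.Away (algebraMap P (Localization.Away (1 - k)) t))
  change (((RingHom.ker (algebraMap P A)).map (algebraMap P (Localization.Away t))).map ι).FG
  rw [Ideal.map_map, hcomp, ← Ideal.map_map]
  exact hfgEh.map _

end Groth.Agent.Lib.helper5
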