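import Mathlib
import Groth.Agent.Lib.helper5.SchLfpSrc2
import Groth.Agent.Lib.helper5.SchSrcDesc2
import Groth.Agent.Lib.helper5.SchSrcDesc4
import Groth.Agent.Lib.helper5.SchEtSrc2

set_option autoImplicit false
universe u
open CategoryTheory CategoryTheory.Limits AlgebraicGeometry Opposite

namespace Groth.Agent.Lib.helper5

/-- If `A = P/I` has a faithfully flat etale algebra `B` which is finitely presented over the base,
then `I` is finitely generated. -/
theorem h5_ker_fg_of_etale_cover {R P A B : Type u} [CommRing R] [CommRing P]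
    [CommRing A] [CommRing B]
    [Algebra R P] [Algebra R A] [Algebra R B] [Algebra P A] [Algebra A B] [Algebra P B]
    [IsScalarTower R P A] [IsScalarTower R A B] [IsScalarTower P A B] [IsScalarTower R P B]
    (hPA : Function.Surjective (algebraMap P A))
    [Algebra.FinitePresentation R P] [Algebra.Etale A B] [Module.FaithfullyFlat A B]
    [Algebra.FinitePresentation R B] : (RingHom.ker (algebraMap P A)).FG := by
  apply Ideal.fg_of_localizationSpan
    {t : P | ((RingHom.ker (algebraMap P A)).map (algebraMap P (Localization.Away t))).FG}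
  · by_contra hne
    obtain ⟨m, hm, hle⟩ := Ideal.exists_le_maximal _ hne
    by_cases hIm : RingHom.ker (algebraMap P A) ≤ m
    · have hmem : (⟨m, hm.isPrime⟩ : PrimeSpectrum P) ∈
          PrimeSpectrum.zeroLocus (RingHom.ker (algebraMap P A) : Set P) := hIm
      rw [← _root_.range_comap_of_surjective A (algebraMap P A) hPA] at hmem
      obtain ⟨q, hq⟩ := hmem
      obtain ⟨Qs, hQs⟩ := PrimeSpectrum.comap_surjective_of_faithfullyFlat (A := A) (B := B) q
      obtain ⟨t, htQ, htfg⟩ :=
        h5_exists_fg_localization_of_etale_cover (R := R) hPA Qs.asIdeal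
      apply htQ
      have h1 : Qs.asIdeal.comap (algebraMap P B) = m := by
        rw [IsScalarTower.algebraMap_eq P A B, ← Ideal.comap_comap]
        have h2 : Qs.asIdeal.comap (algebraMap A B) = q.asIdeal :=
          congrArg PrimeSpectrum.asIdeal hQs
        rw [h2]
        exact congrArg PrimeSpectrum.asIdeal hq
      rw [h1]
      exact hle (Ideal.subset_span htfg)
    · obtain ⟨s, hsI, hsm⟩ := Set.not_subset.1 hIm
      have hs : s ∈ {t : P | ((RingHom.ker (algebraMap P A)).map
          (algebraMap P (Localization.Away t))).FG} := by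
        show ((RingHom.ker (algebraMap P A)).map (algebraMap P (Localization.Away s))).FG
        have : (RingHom.ker (algebraMap P A)).map (algebraMap P (Localization.Away s)) = ⊤ :=
          Ideal.eq_top_of_isUnit_mem _ (Ideal.mem_map_of_mem _ hsI)
            (IsLocalization.Away.algebraMap_isUnit s)
        rw [this]
        exact ⟨{1}, by simp⟩
      exact hsm (hle (Ideal.subset_span hs))
  · rintro ⟨t, ht⟩
    exact ht

/-- Finite presentation descends on the source along etale faithfully flat ring maps. -/
theorem h5_fp_of_etale_faithfullyFlat (R A B : Type u) [CommRing R] [CommRing A] [CommRing B]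
    [Algebra R A] [Algebra A B] [Algebra R B] [IsScalarTower R A B]
    [Algebra.Etale A B] [Module.FaithfullyFlat A B] [Algebra.FinitePresentation R B] :
    Algebra.FinitePresentation R A := by
  haveI : Algebra.FiniteType R A :=
    h5_finiteType_of_smooth_faithfullyFlat (R := R) (A := A) (B := B)
  obtain ⟨n, f, hf⟩ := Algebra.FiniteType.iff_quotient_mvPolynomial''.1 ‹Algebra.FiniteType R A›
  letI : Algebra (MvPolynomial (Fin n) R) A := f.toRingHom.toAlgebra
  letI : Algebra (MvPolynomial (Fin n) R) B :=
    ((algebraMap A B).comp f.toRingHom).toAlgebra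
  haveI : IsScalarTower R (MvPolynomial (Fin n) R) A :=
    IsScalarTower.of_algebraMap_eq fun r => (f.commutes r).symm
  haveI : IsScalarTower (MvPolynomial (Fin n) R) A B := IsScalarTower.of_algebraMap_eq' rfl
  haveI : IsScalarTower R (MvPolynomial (Fin n) R) B := IsScalarTower.of_algebraMap_eq fun r => by
    change algebraMap R B r = algebraMap A B (f (algebraMap R _ r))
    rw [f.commutes, ← IsScalarTower.algebraMap_apply]
  have hfg := h5_ker_fg_of_etale_cover (R := R) (P := MvPolynomial (Fin n) R) (A := A) (B := B) hf
  exact Algebra.FinitePresentation.of_surjective hf hfg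

theorem h5_ringHom_fp_of_comp {R A B : Type u} [CommRing R] [CommRing A]
    [CommRing B] (φ : R →+* A) (ψ : A →+* B) (h1 : (ψ.comp φ).FinitePresentation)
    (h2 : ψ.Etale) (h3 : ψ.FaithfullyFlat) : φ.FinitePresentation := by
  algebraize [φ, ψ, ψ.comp φ]
  exact RingHom.finitePresentation_algebraMap.2
    (h5_fp_of_etale_faithfullyFlat R A B)

/-- Local finite presentation descends along etale surjective maps on the source. -/
theorem h5_lfp_of_etale_surjective_comp {X' X Y : Scheme.{u}} (f : X' ⟶ X)
    (g : X ⟶ Y) [Etale f] [Surjective f] [LocallyOfFinitePresentation (f ≫ g)] :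
    LocallyOfFinitePresentation g := by
  haveI : MorphismProperty.RespectsRight
      (@LocallyOfFinitePresentation : MorphismProperty Scheme.{u}) @IsOpenImmersion :=
    ⟨fun i hi f hf => by
      haveI : IsOpenImmersion i := hi
      exact MorphismProperty.comp_mem _ _ _ hf (inferInstance : LocallyOfFinitePresentation i)⟩
  rw [IsZariskiLocalAtSource.iff_exists_resLE (P := @LocallyOfFinitePresentation)]
  intro x
  obtain ⟨V, hV, hxV⟩ : ∃ V : Y.Opens, IsAffineOpen V ∧ g x ∈ V := by
    obtain ⟨_, ⟨V, hV, rfl⟩, hxV, -⟩ :=
      Y.isBasis_affineOpens.exists_subset_of_mem_open (Set.mem_univ (g x)) isOpen_univ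
    exact ⟨V, hV, hxV⟩
  obtain ⟨U, U', hU, hU', hxU, hUV, hle, hsurj⟩ :=
    h5_exists_affine_surjOn f f.isOpenMap x (g ⁻¹ᵁ V) hxV
  refine ⟨V, U, hxU, hUV, ?_⟩
  haveI : IsAffine V.toScheme := hV
  haveI : IsAffine U.toScheme := hU
  haveI : IsAffine U'.toScheme := hU'
  have e' : U' ≤ (f ≫ g) ⁻¹ᵁ V := hle.trans (f.preimage_mono hUV)
  have hpq : f.resLE U U' hle ≫ g.resLE V U hUV = (f ≫ g).resLE V U' e' :=
    Scheme.Hom.resLE_comp_resLE ..
  haveI : LocallyOfFinitePresentation (f.resLE U U' hle ≫ g.resLE V U hUV) := by
    rw [hpq]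
    exact IsZariskiLocalAtSource.resLE (P := @LocallyOfFinitePresentation) e' inferInstance
  haveI : Surjective (f.resLE U U' hle) := h5_surjective_resLE f _ _ _ hsurj
  rw [HasRingHomProperty.iff_of_isAffine (P := @LocallyOfFinitePresentation)]
  have h1 : (f.resLE U U' hle ≫ g.resLE V U hUV).appTop.hom.FinitePresentation :=
    (HasRingHomProperty.iff_of_isAffine (P := @LocallyOfFinitePresentation)).1 inferInstance
  have h2 : (f.resLE U U' hle).appTop.hom.Etale :=
    (HasRingHomProperty.iff_of_isAffine (P := @Etale)).1 inferInstance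
  have h3 : (f.resLE U U' hle).appTop.hom.FaithfullyFlat :=
    (Flat.flat_and_surjective_iff_faithfullyFlat_of_isAffine _).1 ⟨inferInstance, inferInstance⟩
  rw [Scheme.Hom.comp_appTop, CommRingCat.hom_comp] at h1
  exact h5_ringHom_fp_of_comp _ _ h1 h2 h3

instance h5_lfp_isLocalAtSource_etale :
    MorphismProperty.IsLocalAtSource
      (@LocallyOfFinitePresentation : MorphismProperty Scheme.{u}) Scheme.etalePrecoverage :=
  h5_isLocalAtSource_etale_of _
    (fun e f he hf => by
      haveI := he
      exact MorphismProperty.comp_mem _ _ _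
        (inferInstance : LocallyOfFinitePresentation e) hf)
    (fun e f he hs hef => by
      haveI := he; haveI := hs; haveI : LocallyOfFinitePresentation (e ≫ f) := hef
      exact h5_lfp_of_etale_surjective_comp e f)

end Groth.Agent.Lib.helper5
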