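import Mathlib
import Groth.Prelude.Def_AlgSp4
import Groth.Agent.Lib.helper5.AlgSpLocP
import Groth.Agent.Lib.helper5.SchLfpSrc3

set_option autoImplicit false
universe u
open CategoryTheory CategoryTheory.Limits AlgebraicGeometry Opposite

namespace AlgSp

open Groth.Agent.Lib.helper5

theorem h5_good_lfp : H5Good (@LocallyOfFinitePresentation : MorphismProperty Scheme.{u}) where
  etale_le f hf := by haveI := hf; infer_instance
  desc p g hp hs h := by
    haveI := hp; haveI := hs; haveI := h
    exact h5_lfp_of_etale_surjective_comp p g

end AlgSp
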