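import Mathlib
import Groth.Agent.Lib.helper5.AlgSpPts

set_option autoImplicit false
universe u
open CategoryTheory CategoryTheory.Limits AlgebraicGeometry Opposite

namespace AlgSp

variable {S : Scheme.{u}}

/-- Converse of `h5_mkHom_eq`. -/
theorem h5_exists_of_mkHom_eq {F : Sp S} {K L : Type u} [Field K] [Field L]
    {str : Spec (CommRingCat.of K) ⟶ S} {str' : Spec (CommRingCat.of L) ⟶ S}
    (a : (yon S).obj (Over.mk str) ⟶ F) (a' : (yon S).obj (Over.mk str') ⟶ F)
    (h : h5_mkHom K str a = h5_mkHom L str' a') :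
    ∃ (Ω : Type u) (_ : Field Ω) (w : Spec (CommRingCat.of Ω) ⟶ S)
      (α : Over.mk w ⟶ Over.mk str) (β : Over.mk w ⟶ Over.mk str'),
      (yon S).map α ≫ a = (yon S).map β ≫ a' := by
  obtain ⟨Ω, hΩ, w, α, β, hab⟩ := Points.mk_eq_mk_iff.1 h
  refine ⟨Ω, hΩ, w, α, β, ?_⟩
  change F.obj.map α.op (h5_yEquiv a) = F.obj.map β.op (h5_yEquiv a') at hab
  rw [GrothendieckTopology.uliftYonedaEquiv_naturality,
    GrothendieckTopology.uliftYonedaEquiv_naturality] at hab
  exact h5_yEquiv.injective hab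

theorem h5_exists_eq_mkHom {F : Sp S} (x : Points F) :
    ∃ (K : Type u) (_ : Field K) (str : Spec (CommRingCat.of K) ⟶ S)
      (a : (yon S).obj (Over.mk str) ⟶ F), x = h5_mkHom K str a := by
  induction x using Points.ind with
  | h p =>
  exact ⟨p.K, p.field, p.str, h5_yEquiv.symm p.val, h5_mk_eq_mkHom p⟩

theorem h5_mkHom_comp {F : Sp S} {K L : Type u} [Field K] [Field L]
    {str : Spec (CommRingCat.of K) ⟶ S} {str' : Spec (CommRingCat.of L) ⟶ S}
    (α : Over.mk str' ⟶ Over.mk str) (a : (yon S).obj (Over.mk str) ⟶ F) :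
    h5_mkHom L str' ((yon S).map α ≫ a) = h5_mkHom K str a := by
  refine h5_mkHom_eq _ _ L str' (𝟙 _) α ?_
  rw [(yon S).map_id, Category.id_comp]

end AlgSp
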