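import Mathlib
import Groth.Prelude.Def_AlgSp2
import Groth.Agent.Lib.helper5.AlgSpDiag

set_option autoImplicit false
universe u
open CategoryTheory CategoryTheory.Limits AlgebraicGeometry Opposite Topology

namespace AlgSp

variable {S : Scheme.{u}}

set_option backward.isDefEq.respectTransparency false

/-- In a pullback square `h_V = h_U ×_X h_T`, the induced map `V ⟶ U ×_S T` is a monomorphism. -/
theorem h5_mono_lift_of_isPullback {X : Sp S} {U T V : Over S} {a : (yon S).obj U ⟶ X}
    {g : (yon S).obj T ⟶ X} {fstV : V ⟶ U} {snd : V ⟶ T}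
    (sq : IsPullback ((yon S).map fstV) ((yon S).map snd) a g) :
    Mono (pullback.lift fstV.left snd.left (by rw [Over.w, Over.w]) :
      V.left ⟶ pullback U.hom T.hom) := by
  constructor
  intro W α β hαβ
  have h1 : α ≫ fstV.left = β ≫ fstV.left := by
    have := congrArg (· ≫ pullback.fst U.hom T.hom) hαβ
    simpa using this
  have h2 : α ≫ snd.left = β ≫ snd.left := by
    have := congrArg (· ≫ pullback.snd U.hom T.hom) hαβ
    simpa using this
  have hβ : β ≫ V.hom = α ≫ V.hom := by
    rw [← Over.w snd, ← Category.assoc, ← Category.assoc, h2]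
  let W' : Over S := Over.mk (α ≫ V.hom)
  let α' : W' ⟶ V := Over.homMk α rfl
  let β' : W' ⟶ V := Over.homMk β hβ
  have e : (yon S).map α' = (yon S).map β' := by
    apply sq.hom_ext
    · rw [← (yon S).map_comp, ← (yon S).map_comp]
      congr 1
      ext
      exact h1
    · rw [← (yon S).map_comp, ← (yon S).map_comp]
      congr 1
      ext
      exact h2
  have e' : α' = β' := (yon S).map_injective e
  exact congrArg (fun k => k.left) e'

/-- If `U` is separated over `S`, every base change of `a : h_U ⟶ X` is separated. -/
theorem h5_isSeparated_snd_of_isPullback {X : Sp S} {U T V : Over S} {a : (yon S).obj U ⟶ X}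
    {g : (yon S).obj T ⟶ X} {fstV : V ⟶ U} {snd : V ⟶ T} [IsSeparated U.hom]
    (sq : IsPullback ((yon S).map fstV) ((yon S).map snd) a g) : IsSeparated snd.left := by
  haveI := h5_mono_lift_of_isPullback sq
  have e : snd.left = (pullback.lift fstV.left snd.left (by rw [Over.w, Over.w]) :
      V.left ⟶ pullback U.hom T.hom) ≫ pullback.snd U.hom T.hom := by simp
  rw [e]
  infer_instance

end AlgSp
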