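import Mathlib
import Groth.Prelude.Def_AlgSpCov
import Groth.Agent.Lib.helper5.AlgSpPb
import Groth.Agent.Lib.helper5.AlgSpEt

set_option autoImplicit false
universe u
open CategoryTheory CategoryTheory.Limits AlgebraicGeometry Opposite

namespace AlgSp

variable {S : Scheme.{u}}

/-- If `P` is etale local on the source for schemes, the chart-wise property `LocP P` is etale local
on the source for algebraic spaces. -/
theorem h5_isLocalOnSource_etale (P : MorphismProperty Scheme.{u})
    [P.IsLocalAtSource Scheme.etalePrecoverage] :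
    IsLocalOnSource (IsEtCover (S := S)) (LocP P) := by
  intro ι X Xi g hX hXi hcov Y f hY
  obtain ⟨hg, hsurj⟩ := hcov
  constructor
  · intro hf i U V a b h ha hb comm
    exact hf (a ≫ g i) b h (hg i a ha) hb (by rw [Category.assoc]; exact comm)
  · intro H U V a b h ha hb comm
    have key : ∀ i, ∃ (W : Over S) (e : W ⟶ U), Etale e.left ∧ P (e ≫ h).left ∧
        ∀ u : ↥U.left, (Points.ofPt a u ∈ Set.range (Points.map (g i))) →
          u ∈ Set.range e.left := by
      intro i
      have sqZ := IsPullback.of_hasPullback a (g i)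
      have hZ : IsAlgSpace (pullback a (g i)) :=
        h5_isAlgSpace_of_isPullback hX.diag (IsAlgSpace.yon_obj U) (hXi i) sqZ
      obtain ⟨W, c, hce, hcs⟩ := hZ.atlas
      obtain ⟨e, he⟩ := (yon S).map_surjective (c ≫ pullback.fst a (g i))
      have hsnd : RepWith @Etale (pullback.snd a (g i)) :=
        MorphismProperty.of_isPullback (P := RepWith @Etale) sqZ ha
      have hc' : RepWith @Etale (c ≫ pullback.snd a (g i)) :=
        (RepWith @Etale).comp_mem _ _ hce hsnd
      have hea : RepWith @Etale ((yon S).map e ≫ a) := by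
        rw [he, Category.assoc, sqZ.w, ← Category.assoc]
        exact hg i _ hc'
      refine ⟨W, e, h5_etale_of_comm e a ha hea, ?_, ?_⟩
      · refine H i (c ≫ pullback.snd a (g i)) b (e ≫ h) hc' hb ?_
        rw [Functor.map_comp, he]
        simp only [Category.assoc]
        rw [← comm, ← sqZ.w_assoc]
      · rintro u ⟨xi, hxi⟩
        obtain ⟨p, hp1, hp2⟩ := h5_points_exists_of_isPullback sqZ (Points.ofScheme U u) xi
          (by rw [← Points.ofPt_eq_map_ofScheme]; exact hxi.symm)
        obtain ⟨w, rfl⟩ := h5_surjective_ofPt c hcs p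
        refine ⟨w, ?_⟩
        apply (Points.schemeEquiv U).injective
        change Points.ofScheme U _ = Points.ofScheme U _
        rw [← hp1, Points.map_ofPt, ← he, Points.ofPt_eq_map_ofScheme, h5_map_ofScheme]
    choose W e hee hPe hcovr using key
    have hmem : Presieve.ofArrows (fun i => (W i).left) (fun i => (e i).left) ∈
        Scheme.etalePrecoverage U.left := by
      rw [Scheme.etalePrecoverage, Scheme.ofArrows_mem_precoverage_iff]
      refine ⟨fun u => ?_, hee⟩
      obtain ⟨i, hi⟩ := hsurj (Points.ofPt a u)
      exact ⟨i, hcovr i u hi⟩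
    refine MorphismProperty.IsLocalAtSource.of_forall_comp hmem ?_
    rintro _ _ ⟨i⟩
    have := hPe i
    rwa [Over.comp_left] at this

end AlgSp
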