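import Mathlib
import Groth.Prelude.Def_AlgSpCov
import Groth.Agent.Lib.helper5.AlgSpFpqc
import Groth.Agent.Lib.helper5.AlgSpLocPInst

set_option autoImplicit false
universe u
open CategoryTheory CategoryTheory.Limits AlgebraicGeometry Opposite

namespace AlgSp

variable {S : Scheme.{u}}

theorem h5_isQuotientMap_yon_map {W Z : Over S} (c : W ⟶ Z)
    (h : Topology.IsQuotientMap c.left) :
    Topology.IsQuotientMap (Points.map ((yon S).map c)) := by
  have e : Points.map ((yon S).map c) =
      (Points.schemeHomeo Z) ∘ c.left ∘ (Points.schemeHomeo W).symm := by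
    funext x
    obtain ⟨w, rfl⟩ := (Points.schemeHomeo W).surjective x
    simp only [Function.comp_apply, Homeomorph.symm_apply_apply]
    exact Points.map_yon_map_apply c w
  rw [e]
  exact (Points.schemeHomeo Z).isQuotientMap.comp
    (h.comp (Points.schemeHomeo W).symm.isQuotientMap)

/-- A flat, quasi-compact, surjective morphism of algebraic spaces is submersive. -/
theorem h5_isSubmersiveMor_of_flat {X Y : Sp S} (hX : IsAlgSpace X) (hY : IsAlgSpace Y)
    (f : X ⟶ Y) (hfl : LocP @Flat f) (hqc : IsQuasiCompactMor f) (hs : IsSurjectiveMor f) :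
    IsSubmersiveMor f := by
  obtain ⟨V, q, hqe, hqs⟩ := hY.atlas
  have hquot := h5_isQuotientMap_map_of_etale_surjective (IsAlgSpace.yon_obj V) q hqe hqs
  have key : ∀ W : V.left.affineOpens, ∃ (U : Over S) (u : U ⟶ h5_openOver V W.1)
      (x : (yon S).obj U ⟶ X), Topology.IsQuotientMap (Points.map ((yon S).map u)) ∧
      x ≫ f = (yon S).map u ≫ (yon S).map (h5_openOverι V W.1) ≫ q := by
    intro W
    have haff : IsAffine (h5_openOver V W.1).left := W.2
    have hg : RepWith @Etale ((yon S).map (h5_openOverι V W.1) ≫ q) :=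
      h5_repWith_comp_yon_map _ _ (show Etale (W.1.ι) from inferInstance) q hqe
    have sqW := IsPullback.of_hasPullback f ((yon S).map (h5_openOverι V W.1) ≫ q)
    have hXW : IsAlgSpace (pullback f ((yon S).map (h5_openOverι V W.1) ≫ q)) :=
      h5_isAlgSpace_of_isPullback hY.diag hX (IsAlgSpace.yon_obj _) sqW
    obtain ⟨U, a, hae, has, hUc⟩ := hqc (IsAlgSpace.yon_obj _)
      (h5_isQuasiCompactSp_yon (h5_openOver V W.1) (by dsimp; infer_instance)) _ _ _ sqW
    haveI : CompactSpace ↥U.left := hUc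
    obtain ⟨u, hu⟩ := (yon S).map_surjective
      (a ≫ pullback.snd f ((yon S).map (h5_openOverι V W.1) ≫ q))
    have hfst : RepWith @Etale (pullback.fst f ((yon S).map (h5_openOverι V W.1) ≫ q)) :=
      MorphismProperty.of_isPullback (P := RepWith @Etale) sqW.flip hg
    have hcomm : (a ≫ pullback.fst f ((yon S).map (h5_openOverι V W.1) ≫ q)) ≫ f =
        (yon S).map u ≫ (yon S).map (h5_openOverι V W.1) ≫ q := by
      rw [hu, Category.assoc, Category.assoc, sqW.w]
    haveI : Flat u.left := hfl _ _ u ((RepWith @Etale).comp_mem _ _ hae hfst) hg hcomm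
    haveI : Surjective u.left := by
      refine ⟨fun z => ?_⟩
      obtain ⟨x, hx⟩ := hs (Points.ofPt ((yon S).map (h5_openOverι V W.1) ≫ q) z)
      obtain ⟨p, hp1, hp2⟩ := h5_points_exists_of_isPullback sqW x (Points.ofScheme _ z)
        (by rw [hx, Points.ofPt_eq_map_ofScheme])
      obtain ⟨w, rfl⟩ := h5_surjective_ofPt a has p
      refine ⟨w, ?_⟩
      apply (Points.schemeEquiv _).injective
      change Points.ofScheme _ _ = Points.ofScheme _ _
      rw [← hp2, Points.map_ofPt, ← hu, Points.ofPt_eq_map_ofScheme, h5_map_ofScheme]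
    haveI : QuasiCompact u.left := inferInstance
    refine ⟨U, u, a ≫ pullback.fst f _, ?_, hcomm⟩
    exact h5_isQuotientMap_yon_map u (Flat.isQuotientMap_of_surjective u.left)
  choose U u x hquotu hcomm using key
  have h1 := h5_submFam_comp (h5_submFam_of_isQuotientMap q hquot)
    (κ := fun _ => V.left.affineOpens)
    (T := fun _ W => (yon S).obj (h5_openOver V W.1))
    (t := fun _ W => (yon S).map (h5_openOverι V W.1))
    (fun _ => h5_submFam_affineOpens V)
  have h2 := h5_submFam_comp h1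
    (κ := fun _ => PUnit.{1})
    (T := fun r _ => (yon S).obj (U r.2))
    (t := fun r _ => (yon S).map (u r.2))
    (fun r => h5_submFam_of_isQuotientMap _ (hquotu r.2))
  change Topology.IsQuotientMap (Points.map f)
  rw [Topology.isQuotientMap_iff]
  refine ⟨.of_isOpen_preimage_iff_isOpen fun B => ⟨fun hB => ?_,
    fun hB => hB.preimage (Points.continuous_map f)⟩, hs⟩
  apply h2.2
  intro r
  have e : Points.map ((yon S).map (u r.1.2) ≫ (yon S).map (h5_openOverι V r.1.2.1) ≫ q) ⁻¹' B =
      Points.map (x r.1.2) ⁻¹' (Points.map f ⁻¹' B) := by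
    rw [← hcomm]
    ext y
    simp only [Set.mem_preimage, Points.map_comp]
  rw [e]
  exact hB.preimage (Points.continuous_map _)

theorem h5_isQuasiCompactMor_baseChange {X Y X' Y' : Sp S} {f : X ⟶ Y} {g : Y' ⟶ Y}
    {fst : X' ⟶ X} {f' : X' ⟶ Y'} (sq : IsPullback fst f' f g) (hf : IsQuasiCompactMor f) :
    IsQuasiCompactMor f' := by
  intro Z Z' hZ hZq h a b sqZ
  exact hf hZ hZq (h ≫ g) (a ≫ fst) b (sqZ.paste_horiz sq)

theorem h5_isSurjectiveMor_baseChange {X Y X' Y' : Sp S} {f : X ⟶ Y} {g : Y' ⟶ Y}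
    {fst : X' ⟶ X} {f' : X' ⟶ Y'} (sq : IsPullback fst f' f g) (hf : IsSurjectiveMor f) :
    IsSurjectiveMor f' := by
  intro y
  obtain ⟨x, hx⟩ := hf (Points.map g y)
  obtain ⟨p, -, hp2⟩ := h5_points_exists_of_isPullback sq x y hx
  exact ⟨p, hp2⟩

/-- A flat, quasi-compact, surjective morphism of algebraic spaces is universally submersive. -/
theorem h5_isUnivSubmersiveMor_of_flat {X Y : Sp S} (hX : IsAlgSpace X) (hY : IsAlgSpace Y)
    (f : X ⟶ Y) (hfl : LocP @Flat f) (hqc : IsQuasiCompactMor f) (hs : IsSurjectiveMor f) :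
    IsUnivSubmersiveMor f := by
  intro Z Z' hZ g fst snd sq
  have hZ' : IsAlgSpace Z' := h5_isAlgSpace_of_isPullback hY.diag hX hZ sq
  exact h5_isSubmersiveMor_of_flat hZ' hZ snd
    (h5_locP_baseChange h5_good_flat hX hY hZ sq hfl)
    (h5_isQuasiCompactMor_baseChange sq hqc) (h5_isSurjectiveMor_baseChange sq hs)

end AlgSp
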