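import Mathlib
import Groth.Prelude.Def_AlgSp4
import Groth.Agent.Lib.helper5.AlgSpEtMono
import Groth.Agent.Lib.helper5.AlgSpPts2
import Groth.Agent.Lib.helper5.SchFieldStalk

set_option autoImplicit false
universe u
open CategoryTheory CategoryTheory.Limits AlgebraicGeometry Opposite Groth.Agent.Lib.helper5

namespace AlgSp

variable {S : Scheme.{u}}

/-- A nonempty scheme with a monomorphism, locally of finite type, to the spectrum of a field is
that spectrum. -/
theorem h5_isIso_of_mono_to_field (K : Type u) [Field K] {Z : Scheme.{u}}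
    (g : Z ⟶ Spec (CommRingCat.of K)) [Mono g] [LocallyOfFiniteType g] (z : Z) : IsIso g := by
  haveI : Flat g := h5_flat_of_isField_stalk g
    (fun v => h5_isField_stalk_of_etale_field K (𝟙 _) v)
  haveI : LocallyOfFinitePresentation g := inferInstance
  haveI : IsOpenImmersion g := IsOpenImmersion.of_flat_of_mono g
  have hsurj : Function.Surjective g :=
    fun x => ⟨z, Subsingleton.elim (α := PrimeSpectrum K) _ _⟩
  have : Epi g.base := (TopCat.epi_iff_surjective _).2 hsurj
  exact IsOpenImmersion.isIso _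

/-- If the diagonal of `f` is surjective, then `f` is injective on field valued points. -/
theorem h5_injective_fieldPts_of_diagonal_surjective {X Y : Sp S} (hX : IsAlgSpace X)
    (f : X ⟶ Y) (hΔ : IsSurjectiveMor (pullback.diagonal f)) (K : Type u) [Field K]
    (str : Spec (CommRingCat.of K) ⟶ S) :
    Function.Injective (fun a : (yon S).obj (Over.mk str) ⟶ X => a ≫ f) := by
  intro a a' haa
  have haa' : a ≫ f = a' ≫ f := haa
  obtain ⟨hrep, hlft, hmono⟩ := h5_diagonal_props hX f
  let t : (yon S).obj (Over.mk str) ⟶ pullback f f := pullback.lift a a' haa'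
  have sq := hrep.isPullback t
  haveI : LocallyOfFiniteType (hrep.snd t).left := hlft.property _ _ _ sq
  haveI : Mono (hrep.snd t).left := hmono.property _ _ _ sq
  obtain ⟨x, hx⟩ := hΔ (Points.ofPt t (IsLocalRing.closedPoint K))
  obtain ⟨v, -, -⟩ := h5_exists_of_map_eq_ofPt sq x (IsLocalRing.closedPoint K) hx
  haveI hiso : IsIso (hrep.snd t).left :=
    h5_isIso_of_mono_to_field K (hrep.snd t).left v
  haveI hiso' : IsIso (hrep.snd t) :=
    have : IsIso ((Over.forget S).map (hrep.snd t)) := hiso
    isIso_of_reflects_iso _ (Over.forget S)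
  have ht : t = inv ((yon S).map (hrep.snd t)) ≫ hrep.fst t ≫ pullback.diagonal f := by
    rw [sq.w, IsIso.inv_hom_id_assoc]
  have h1 : t ≫ pullback.fst f f = t ≫ pullback.snd f f := by
    rw [ht]; simp
  have e1 : t ≫ pullback.fst f f = a := pullback.lift_fst _ _ _
  have e2 : t ≫ pullback.snd f f = a' := pullback.lift_snd _ _ _
  rw [← e1, ← e2]; exact h1

/-- Injectivity on field valued points implies universal injectivity. -/
theorem h5_isUnivInjectiveMor_of_injective_fieldPts {X Y : Sp S} (f : X ⟶ Y)
    (h : ∀ (K : Type u) [Field K] (str : Spec (CommRingCat.of K) ⟶ S),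
      Function.Injective (fun a : (yon S).obj (Over.mk str) ⟶ X => a ≫ f)) :
    IsUnivInjectiveMor f := by
  intro Z Z' _ g fst snd sq x x' hxx
  obtain ⟨K, _, str, a, rfl⟩ := h5_exists_eq_mkHom x
  obtain ⟨K', _, str', a', rfl⟩ := h5_exists_eq_mkHom x'
  rw [h5_map_mkHom, h5_map_mkHom] at hxx
  obtain ⟨Ω, _, w, α, β, hab⟩ := h5_exists_of_mkHom_eq _ _ hxx
  refine h5_mkHom_eq a a' Ω w α β ?_
  apply sq.hom_ext
  · have : ((yon S).map α ≫ a ≫ fst) ≫ f = ((yon S).map β ≫ a' ≫ fst) ≫ f := by
      simp only [Category.assoc, sq.w]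
      rw [← Category.assoc a, ← Category.assoc a', ← Category.assoc, ← Category.assoc _ _ g, hab]
    simpa using h Ω w this
  · simpa using hab

end AlgSp
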