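import Mathlib
import Groth.Prelude.Def_FlatCA

set_option autoImplicit false
universe u v

namespace FlatCA

theorem h5_ass_of_exact {A : Type u} [CommRing A] {M₁ M₂ M₃ : Type v} [AddCommGroup M₁]
    [AddCommGroup M₂] [AddCommGroup M₃] [Module A M₁] [Module A M₂] [Module A M₃]
    (f : M₁ →ₗ[A] M₂) (g : M₂ →ₗ[A] M₃) (hf : Function.Injective f)
    (hfg : Function.Exact f g) (q : Ideal A)
    (hq : q ∈ ass A M₂) : q ∈ ass A M₁ ∨ q ∈ ass A M₃ := by
  obtain ⟨hqp, b, hb⟩ := hq
  have hmem : ∀ r : A, r ∈ q ↔ r • b = 0 := by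
    intro r
    rw [hb, Submodule.mem_annihilator_span_singleton]
  by_cases h : ∃ s : A, s ∉ q ∧ g (s • b) = 0
  · obtain ⟨s, hs, hgs⟩ := h
    obtain ⟨a, ha⟩ := (hfg (s • b)).1 hgs
    left
    refine ⟨hqp, a, ?_⟩
    ext r
    rw [Submodule.mem_annihilator_span_singleton]
    constructor
    · intro hr
      apply hf
      rw [map_smul, ha, map_zero, smul_smul, mul_comm, ← smul_smul, (hmem r).1 hr, smul_zero]
    · intro hr
      have h1 : (r * s) • b = 0 := by
        rw [← smul_smul, ← ha, ← map_smul, hr, map_zero]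
      rcases hqp.mem_or_mem ((hmem _).2 h1) with h2 | h2
      · exact h2
      · exact absurd h2 hs
  · simp only [not_exists, not_and] at h
    right
    refine ⟨hqp, g b, ?_⟩
    ext r
    rw [Submodule.mem_annihilator_span_singleton]
    constructor
    · intro hr
      rw [← map_smul, (hmem r).1 hr, map_zero]
    · intro hr
      rw [← map_smul] at hr
      by_contra hrq
      exact h r hrq hr

end FlatCA
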