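import Mathlib
import Groth.Prelude.Def_Brnch
universe u
namespace H5BR

/-- In a reduced ring with finitely many minimal primes which is nontrivial and not a domain there
are `x y` nonzero with `x * y = 0` and `x + y` a non-zero-divisor. -/
lemma exists_split (B : Type*) [CommRing B] [IsReduced B] [Nontrivial B]
    (hfin : (minimalPrimes B).Finite) (hnd : ¬ IsDomain B) :
    ∃ x y : B, x ≠ 0 ∧ y ≠ 0 ∧ x * y = 0 ∧ x + y ∈ nonZeroDivisors B := by
  classical
  have hnil : sInf (minimalPrimes B) = ⊥ := by
    have h1 := Ideal.sInf_minimalPrimes (I := (⊥ : Ideal B))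
    rw [show (⊥ : Ideal B).radical = nilradical B from rfl, nilradical_eq_zero] at h1
    exact h1
  obtain ⟨⟨p₁, hp₁⟩⟩ : Nonempty (minimalPrimes B) :=
    Ideal.nonempty_minimalPrimes (I := (⊥ : Ideal B)) bot_ne_top
  haveI hp₁prime : p₁.IsPrime := hp₁.1.1
  let s : Finset (Ideal B) := hfin.toFinset.erase p₁
  have hs : ∀ i, i ∈ s ↔ i ∈ minimalPrimes B ∧ i ≠ p₁ := by
    intro i
    simp [s, and_comm]
  have hsne : s.Nonempty := by
    by_contra hemp
    rw [Finset.not_nonempty_iff_eq_empty] at hemp
    have hall : ∀ i ∈ minimalPrimes B, i = p₁ := by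
      intro i hi
      by_contra hne
      have : i ∈ s := (hs i).mpr ⟨hi, hne⟩
      rw [hemp] at this
      exact absurd this (Finset.notMem_empty _)
    have hbot : p₁ = ⊥ := by
      rw [← hnil]
      apply le_antisymm
      · exact le_sInf (fun i hi => (hall i hi).symm ▸ le_refl _)
      · exact sInf_le hp₁
    apply hnd
    have : (⊥ : Ideal B).IsPrime := hbot ▸ hp₁prime
    exact IsDomain.of_bot_isPrime B
  have hmin_eq : ∀ i j, i ∈ minimalPrimes B → j ∈ minimalPrimes B → i ≤ j → i = j := by
    intro i j hi hj hij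
    exact le_antisymm hij (hj.2 ⟨hi.1.1, bot_le⟩ hij)
  -- x ∈ (s.inf id) \ p₁
  have hx : ∃ x ∈ s.inf id, x ∉ p₁ := by
    by_contra hcon
    push Not at hcon
    have hle : s.inf id ≤ p₁ := fun x hx => hcon x hx
    obtain ⟨i, his, hi⟩ := (Ideal.IsPrime.inf_le' hp₁prime).mp hle
    have := hmin_eq i p₁ ((hs i).mp his).1 hp₁ hi
    exact ((hs i).mp his).2 this
  obtain ⟨x, hxI, hxp⟩ := hx
  have hy : ∃ y ∈ p₁, ∀ i ∈ s, y ∉ i := by
    by_contra hcon
    push Not at hcon
    have hsub : (p₁ : Set B) ⊆ ⋃ i ∈ (↑s : Set (Ideal B)), (id i : Ideal B) := by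
      intro y hy
      obtain ⟨i, his, hyi⟩ := hcon y hy
      exact Set.mem_biUnion his hyi
    obtain ⟨i, his, hi⟩ := (Ideal.subset_union_prime (f := id) p₁ p₁
      (fun i his _ _ => ((hs i).mp his).1.1.1)).mp hsub
    have := hmin_eq p₁ i hp₁ ((hs i).mp (by simpa using his)).1 hi
    exact ((hs i).mp (by simpa using his)).2 this.symm
  obtain ⟨y, hyp, hys⟩ := hy
  have hxs : ∀ i ∈ s, x ∈ i := fun i his => (Finset.inf_le his : s.inf id ≤ id i) hxI
  refine ⟨x, y, ?_, ?_, ?_, ?_⟩
  · intro h0; exact hxp (h0 ▸ p₁.zero_mem)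
  · intro h0
    obtain ⟨i, his⟩ := hsne
    exact hys i his (h0 ▸ i.zero_mem)
  · have : x * y ∈ sInf (minimalPrimes B) := by
      rw [Ideal.mem_sInf]
      intro p hp
      by_cases hpp : p = p₁
      · rw [hpp]; exact p₁.mul_mem_left x hyp
      · exact p.mul_mem_right y (hxs p ((hs p).mpr ⟨hp, hpp⟩))
    rw [hnil] at this
    exact this
  · rw [mem_nonZeroDivisors_iff_right]
    intro z hz
    have : z ∈ sInf (minimalPrimes B) := by
      rw [Ideal.mem_sInf]
      intro p hp
      haveI : p.IsPrime := hp.1.1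
      have hnot : x + y ∉ p := by
        by_cases hpp : p = p₁
        · rw [hpp]
          intro hmem
          exact hxp ((Ideal.add_mem_iff_left p₁ hyp).mp hmem)
        · have hps : p ∈ s := (hs p).mpr ⟨hp, hpp⟩
          intro hmem
          exact hys p hps ((Ideal.add_mem_iff_right p (hxs p hps)).mp hmem)
      have hzp : z * (x + y) ∈ p := hz ▸ p.zero_mem
      exact (Ideal.IsPrime.mem_or_mem ‹_› hzp).resolve_right hnot
    rw [hnil] at this
    exact this

end H5BR

namespace H5BR

section
variable (A : Type u) [CommRing A] [IsLocalRing A]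

lemma isReduced_red : IsReduced (CAlg2.red A) :=
  (Ideal.isRadical_iff_quotient_reduced (nilradical A)).mp (Ideal.radical_isRadical _)

lemma nontrivial_red : Nontrivial (CAlg2.red A) := by
  apply Ideal.Quotient.nontrivial_iff.mpr
  intro h
  have h1 : (1 : A) ∈ nilradical A := h ▸ Submodule.mem_top
  obtain ⟨n, hn⟩ := mem_nilradical.mp h1
  rw [one_pow] at hn
  exact one_ne_zero hn

lemma finite_minimalPrimes_red (h : (minimalPrimes A).Finite) :
    (minimalPrimes (CAlg2.red A)).Finite := by
  have h1 : (nilradical A).minimalPrimes = minimalPrimes A := Ideal.radical_minimalPrimes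
  have h2 := Ideal.minimalPrimes_eq_comap (I := nilradical A)
  rw [h1] at h2
  rw [h2] at h
  exact Set.Finite.of_finite_image h
    (Ideal.comap_injective_of_surjective _ Ideal.Quotient.mk_surjective).injOn

/-- if `normRed A` is local and `A` has finitely many minimal primes then `red A` is a domain -/
lemma isDomain_red_of_local (hfin : (minimalPrimes A).Finite) (hloc : IsLocalRing (CAlg2.normRed A)) :
    IsDomain (CAlg2.red A) := by
  by_contra hnd
  haveI := isReduced_red A
  haveI := nontrivial_red A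
  obtain ⟨x, y, hx, hy, hxy, hs⟩ := exists_split (CAlg2.red A) (finite_minimalPrimes_red A hfin) hnd
  set Q := FractionRing (CAlg2.red A)
  have hinj : Function.Injective (algebraMap (CAlg2.red A) Q) :=
    IsLocalization.injective Q (le_refl _)
  have hu : IsUnit (algebraMap (CAlg2.red A) Q (x + y)) :=
    IsLocalization.map_units Q (⟨x + y, hs⟩ : nonZeroDivisors (CAlg2.red A))
  obtain ⟨u, hu⟩ := hu
  set X := algebraMap (CAlg2.red A) Q x with hX
  set Y := algebraMap (CAlg2.red A) Q y with hY
  have huXY : (u : Q) = X + Y := by rw [hu, map_add]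
  have hXY : X * Y = 0 := by rw [hX, hY, ← map_mul, hxy, map_zero]
  let e : Q := X * ↑u⁻¹
  have he : e * e = e := by
    have h1 : e = X * (X + Y) * (↑u⁻¹ * ↑u⁻¹) := by
      show X * ↑u⁻¹ = _
      rw [← huXY]
      calc X * ↑u⁻¹ = X * (↑u * ↑u⁻¹) * ↑u⁻¹ := by rw [Units.mul_inv, mul_one]
        _ = X * ↑u * (↑u⁻¹ * ↑u⁻¹) := by ring
    have h2 : e * e = X * X * (↑u⁻¹ * ↑u⁻¹) := by
      show X * ↑u⁻¹ * (X * ↑u⁻¹) = _
      ring
    rw [h2]
    conv_rhs => rw [h1]
    rw [mul_add, hXY, add_zero]
  have hint : IsIntegral (CAlg2.red A) e := by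
    refine ⟨Polynomial.X ^ 2 - Polynomial.X, ?_, ?_⟩
    · exact Polynomial.monic_X_pow_sub (by simp)
    · simp [pow_two, he]
  let e' : CAlg2.normRed A := ⟨e, hint⟩
  have he' : e' * e' = e' := Subtype.ext he
  have h01 : e' = 0 ∨ e' = 1 := by
    rcases IsLocalRing.isUnit_or_isUnit_one_sub_self e' with h | h
    · right
      have : e' * (1 - e') = 0 := by rw [mul_sub, mul_one, he', sub_self]
      have := (h.mul_right_eq_zero).mp this
      exact (sub_eq_zero.mp this).symm
    · left
      have : (1 - e') * e' = 0 := by rw [sub_mul, one_mul, he', sub_self]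
      exact (h.mul_right_eq_zero).mp this
  rcases h01 with h0 | h1
  · have h2 : e = 0 := congrArg Subtype.val h0
    have h3 : X = 0 := by
      have : X = e * ↑u := by show X = X * ↑u⁻¹ * ↑u; rw [mul_assoc, Units.inv_mul, mul_one]
      rw [this, h2, zero_mul]
    exact hx (hinj (h3.trans (map_zero _).symm))
  · have h2 : e = 1 := congrArg Subtype.val h1
    have h3 : X = ↑u := by
      have : X = e * ↑u := by show X = X * ↑u⁻¹ * ↑u; rw [mul_assoc, Units.inv_mul, mul_one]
      rw [this, h2, one_mul]
    have h4 : Y = 0 := by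
      have := huXY
      rw [← h3] at this
      exact (add_eq_left.mp this.symm)
    exact hy (hinj (h4.trans (map_zero _).symm))

theorem main : Brnch.numBranches A = 1 ↔ CAlg2.IsUnibranch A := by
  classical
  constructor
  · intro h
    unfold Brnch.numBranches at h
    by_cases hfin : (minimalPrimes A).Finite
    · rw [if_pos hfin, ENat.card_eq_one_iff_unique] at h
      obtain ⟨huniq⟩ := h
      have hloc : IsLocalRing (CAlg2.normRed A) := by
        apply IsLocalRing.of_unique_max_ideal
        refine ⟨huniq.default.asIdeal, huniq.default.isMaximal, ?_⟩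
        intro I hI
        exact congrArg MaximalSpectrum.asIdeal (huniq.uniq ⟨I, hI⟩)
      exact ⟨isDomain_red_of_local A hfin hloc, hloc⟩
    · rw [if_neg hfin] at h
      exact absurd h (by simp)
  · rintro ⟨hdom, hloc⟩
    have hprime : (nilradical A).IsPrime := (Ideal.Quotient.isDomain_iff_prime _).mp hdom
    have hfin : (minimalPrimes A).Finite := by
      apply Set.Finite.subset (Set.finite_singleton (nilradical A))
      intro p hp
      rw [Set.mem_singleton_iff]
      haveI := hp.1.1
      exact le_antisymm (hp.2 ⟨hprime, bot_le⟩ (nilradical_le_prime p)) (nilradical_le_prime p)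
    unfold Brnch.numBranches
    rw [if_pos hfin, ENat.card_eq_one_iff_unique]
    exact ⟨{ default := ⟨IsLocalRing.maximalIdeal _, IsLocalRing.maximalIdeal.isMaximal _⟩
             uniq := fun m => MaximalSpectrum.ext (IsLocalRing.eq_maximalIdeal m.isMaximal) }⟩

end

end H5BR
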