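import Mathlib
import Groth.Prelude.Def_Found

set_option autoImplicit false
universe u v

namespace CAlg

/-- The abstract catenary condition on a partial order. -/
def H5Cat (α : Type u) [PartialOrder α] : Prop :=
  (∀ p q : α, p ≤ q → ∃ n : ℕ, ∀ s : LTSeries α, s.head = p → s.last = q → s.length ≤ n) ∧
  ∀ s t : LTSeries α, s.head = t.head → s.last = t.last →
    (∀ i : Fin s.length, s (Fin.castSucc i) ⋖ s (Fin.succ i)) →
    (∀ i : Fin t.length, t (Fin.castSucc i) ⋖ t (Fin.succ i)) →
    s.length = t.length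

theorem h5_isCatenary_iff (R : Type u) [CommRing R] : IsCatenary R ↔ H5Cat (PrimeSpectrum R) :=
  Iff.rfl

section Order

variable {α : Type u} {β : Type v} [PartialOrder α] [PartialOrder β]

theorem H5Cat.of_embedding (f : α ↪o β) (hconv : (Set.range f).OrdConnected) (h : H5Cat β) :
    H5Cat α := by
  refine ⟨fun p q hpq => ?_, fun s t hh hl hs ht => ?_⟩
  · obtain ⟨n, hn⟩ := h.1 (f p) (f q) (f.monotone hpq)
    refine ⟨n, fun s hs hl => ?_⟩
    have := hn (s.map f f.strictMono) (by rw [LTSeries.head_map, hs])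
      (by rw [LTSeries.last_map, hl])
    exact this
  · have := h.2 (s.map f f.strictMono) (t.map f f.strictMono)
      (by rw [LTSeries.head_map, LTSeries.head_map, hh])
      (by rw [LTSeries.last_map, LTSeries.last_map, hl])
      (fun i => CovBy.image f (hs i) hconv) (fun i => CovBy.image f (ht i) hconv)
    exact this

theorem h5_exists_lift_series (f : α ↪o β) (hconv : (Set.range f).OrdConnected)
    (s : LTSeries β) (hh : s.head ∈ Set.range f) (hl : s.last ∈ Set.range f) :
    ∃ s' : LTSeries α, s'.map f f.strictMono = s := by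
  have hmem : ∀ i, s i ∈ Set.range f := fun i =>
    hconv.out hh hl ⟨s.head_le i, s.monotone (Fin.le_last i)⟩
  choose g hg using hmem
  have hmono : StrictMono g := by
    intro i j hij
    have : f (g i) < f (g j) := by
      rw [hg, hg]
      exact s.strictMono hij
    exact f.lt_iff_lt.1 this
  refine ⟨LTSeries.mk s.length g hmono, ?_⟩
  refine RelSeries.ext rfl ?_
  funext i
  exact hg i

theorem H5Cat.of_local
    (h : ∀ p : β, ∃ (α : Type u) (_ : PartialOrder α) (f : α ↪o β),
      (Set.range f).OrdConnected ∧ (∀ y, p ≤ y → y ∈ Set.range f) ∧ H5Cat α) : H5Cat β := by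
  refine ⟨fun p q hpq => ?_, fun s t hh hl hs ht => ?_⟩
  · obtain ⟨α, _, f, hconv, hup, hcat⟩ := h p
    obtain ⟨p', rfl⟩ := hup p le_rfl
    obtain ⟨q', rfl⟩ := hup q hpq
    obtain ⟨n, hn⟩ := hcat.1 p' q' (f.le_iff_le.1 hpq)
    refine ⟨n, fun s hs hl => ?_⟩
    obtain ⟨s', rfl⟩ := h5_exists_lift_series f hconv s (hs ▸ ⟨p', rfl⟩) (hl ▸ ⟨q', rfl⟩)
    rw [LTSeries.head_map] at hs
    rw [LTSeries.last_map] at hl
    exact hn s' (f.injective hs) (f.injective hl)
  · obtain ⟨α, _, f, hconv, hup, hcat⟩ := h s.head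
    have hsl : s.last ∈ Set.range f := hup _ s.head_le_last
    obtain ⟨s', rfl⟩ := h5_exists_lift_series f hconv s (hup _ le_rfl) hsl
    obtain ⟨t', rfl⟩ := h5_exists_lift_series f hconv t (hh ▸ hup _ le_rfl) (hl ▸ hsl)
    rw [LTSeries.head_map, LTSeries.head_map] at hh
    rw [LTSeries.last_map, LTSeries.last_map] at hl
    exact hcat.2 s' t' (f.injective hh) (f.injective hl)
      (fun i => CovBy.of_image f (hs i)) (fun i => CovBy.of_image f (ht i))

end Order

section Ring

variable {R : Type u} {S : Type v} [CommRing R] [CommRing S]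

/-- The map on spectra as an order embedding. -/
noncomputable def h5SpecEmb (f : R →+* S) (hf : ∀ J : Ideal S, (J.comap f).map f = J) :
    PrimeSpectrum S ↪o PrimeSpectrum R :=
  OrderEmbedding.ofMapLEIff (PrimeSpectrum.comap f) (fun P Q => by
    constructor
    · intro h
      have h1 : P.asIdeal.comap f ≤ Q.asIdeal.comap f := h
      have h2 := Ideal.map_mono (f := f) h1
      rw [hf, hf] at h2
      exact h2
    · intro h
      exact Ideal.comap_mono h)

theorem h5SpecEmb_apply (f : R →+* S) (hf : ∀ J : Ideal S, (J.comap f).map f = J)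
    (P : PrimeSpectrum S) : h5SpecEmb f hf P = PrimeSpectrum.comap f P := rfl

theorem h5_range_specEmb (f : R →+* S) (hf : ∀ J : Ideal S, (J.comap f).map f = J) :
    Set.range (h5SpecEmb f hf) = Set.range (PrimeSpectrum.comap f) := rfl

theorem h5_isCatenary_of_surjective (f : R →+* S) (hf : Function.Surjective f)
    (h : H5Cat (PrimeSpectrum R)) : H5Cat (PrimeSpectrum S) := by
  refine H5Cat.of_embedding (h5SpecEmb f fun J => Ideal.map_comap_of_surjective f hf J) ?_ h
  rw [h5_range_specEmb, range_comap_of_surjective _ f hf]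
  refine ⟨fun x hx y _ z hz => ?_⟩
  rw [PrimeSpectrum.mem_zeroLocus] at hx ⊢
  exact hx.trans (SetLike.coe_subset_coe.2 hz.1)

theorem h5_isCatenary_of_isLocalization (M : Submonoid R) [Algebra R S] [IsLocalization M S]
    (h : H5Cat (PrimeSpectrum R)) : H5Cat (PrimeSpectrum S) := by
  refine H5Cat.of_embedding (h5SpecEmb (algebraMap R S) fun J => IsLocalization.map_comap M S J) ?_ h
  rw [h5_range_specEmb, PrimeSpectrum.localization_comap_range S M]
  refine ⟨fun x _ y hy z hz => ?_⟩
  exact Disjoint.mono_right (SetLike.coe_subset_coe.2 hz.2) hy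

theorem h5_ordConnected_zeroLocus (I : Ideal R) :
    (PrimeSpectrum.zeroLocus (I : Set R)).OrdConnected := by
  refine ⟨fun x hx y _ z hz => ?_⟩
  rw [PrimeSpectrum.mem_zeroLocus] at hx ⊢
  exact hx.trans (SetLike.coe_subset_coe.2 hz.1)

/-- The spectrum of a quotient as an order embedding. -/
noncomputable def h5QuotEmb (I : Ideal R) : PrimeSpectrum (R ⧸ I) ↪o PrimeSpectrum R :=
  h5SpecEmb (Ideal.Quotient.mk I) fun J =>
    Ideal.map_comap_of_surjective _ Ideal.Quotient.mk_surjective J

theorem h5_range_quotEmb (I : Ideal R) :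
    Set.range (h5QuotEmb I) = PrimeSpectrum.zeroLocus (I : Set R) := by
  show Set.range (PrimeSpectrum.comap (Ideal.Quotient.mk I)) = _
  rw [range_comap_of_surjective _ _ Ideal.Quotient.mk_surjective, Ideal.mk_ker]

theorem h5_isCatenary_of_minimalPrimes
    (h : ∀ p ∈ minimalPrimes R, H5Cat (PrimeSpectrum (R ⧸ p))) : H5Cat (PrimeSpectrum R) := by
  refine H5Cat.of_local fun p => ?_
  obtain ⟨p₀, hp₀, hle⟩ := Ideal.exists_minimalPrimes_le (I := ⊥) (J := p.asIdeal) bot_le
  refine ⟨PrimeSpectrum (R ⧸ p₀), inferInstance, h5QuotEmb p₀, ?_, ?_, h p₀ hp₀⟩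
  · rw [h5_range_quotEmb]
    exact h5_ordConnected_zeroLocus p₀
  · intro y hy
    rw [h5_range_quotEmb, PrimeSpectrum.mem_zeroLocus]
    exact SetLike.coe_subset_coe.2 (hle.trans hy)

end Ring

end CAlg
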