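import Mathlib
import Groth.Prelude.Def_Found
import Groth.Agent.Lib.helper5.Catenary

set_option autoImplicit false
universe u v

namespace CAlg

section Order

variable {α : Type u} [PartialOrder α]

/-- Adding a new head to a strict series. -/
def h5Cons (t : LTSeries α) (p : α) (h : p < t.head) : LTSeries α :=
  LTSeries.mk (t.length + 1) (Fin.cons p t.toFun : Fin (t.length + 1 + 1) → α) (by
    rw [Fin.strictMono_iff_lt_succ]
    intro i
    refine Fin.cases ?_ (fun j => ?_) i
    · exact h
    · rw [← Fin.succ_castSucc, Fin.cons_succ, Fin.cons_succ]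
      exact t.step j)

theorem h5Cons_length (t : LTSeries α) (p : α) (h : p < t.head) :
    (h5Cons t p h).length = t.length + 1 := rfl

theorem h5Cons_head (t : LTSeries α) (p : α) (h : p < t.head) : (h5Cons t p h).head = p := rfl

theorem h5Cons_last (t : LTSeries α) (p : α) (h : p < t.head) : (h5Cons t p h).last = t.last := by
  show (Fin.cons p t.toFun : Fin (t.length + 1 + 1) → α) (Fin.last (t.length + 1)) =
    t.toFun (Fin.last t.length)
  rw [← Fin.succ_last, Fin.cons_succ]

theorem h5Cons_saturated (t : LTSeries α) (p : α) (h : p ⋖ t.head)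
    (ht : ∀ i : Fin t.length, t (Fin.castSucc i) ⋖ t (Fin.succ i)) :
    ∀ i : Fin (h5Cons t p h.lt).length,
      (h5Cons t p h.lt) (Fin.castSucc i) ⋖ (h5Cons t p h.lt) (Fin.succ i) := by
  intro i
  refine Fin.cases ?_ (fun j => ?_) i
  · exact h
  · show (Fin.cons p t.toFun : Fin (t.length + 1 + 1) → α) (Fin.castSucc (Fin.succ j)) ⋖
      (Fin.cons p t.toFun : Fin (t.length + 1 + 1) → α) (Fin.succ (Fin.succ j))
    rw [← Fin.succ_castSucc, Fin.cons_succ, Fin.cons_succ]
    exact ht j

theorem h5_saturated_of_length_eq_coheight (s : LTSeries α)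
    (h : (s.length : ℕ∞) = Order.coheight s.head) :
    ∀ i : Fin s.length, s (Fin.castSucc i) ⋖ s (Fin.succ i) := by
  intro i
  refine ⟨s.step i, fun y h1 h2 => ?_⟩
  have e1 := Order.coheight_eq_index_of_length_eq_head_coheight h (Fin.castSucc i)
  have e2 := Order.coheight_eq_index_of_length_eq_head_coheight h (Fin.succ i)
  rw [Fin.rev_castSucc] at e1
  rw [Fin.rev_succ] at e2
  have i1 := Order.coheight_add_one_le h1
  have i2 := Order.coheight_add_one_le h2
  rw [e1] at i1
  rw [e2] at i2
  have hr : ((Fin.succ (Fin.rev i) : Fin (s.length + 1)) : ℕ) = ((Fin.rev i : Fin s.length) : ℕ) + 1 :=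
    Fin.val_succ _
  have hr2 : ((Fin.castSucc (Fin.rev i) : Fin (s.length + 1)) : ℕ) = ((Fin.rev i : Fin s.length) : ℕ) :=
    Fin.val_castSucc _
  rw [hr] at i1
  rw [hr2] at i2
  have hy : Order.coheight y ≠ ⊤ := by
    intro htop
    rw [htop] at i1
    simp at i1
  obtain ⟨c, hc⟩ := ENat.ne_top_iff_exists.1 hy
  rw [← hc] at i1 i2
  norm_cast at i1 i2
  omega

theorem h5_last_isMax_of_length_eq_coheight (s : LTSeries α)
    (h : (s.length : ℕ∞) = Order.coheight s.head) : IsMax s.last := by
  have e1 := Order.coheight_eq_index_of_length_eq_head_coheight h (Fin.last s.length)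
  rw [Fin.rev_last] at e1
  have e2 : Order.coheight s.last = 0 := by
    show Order.coheight (s (Fin.last s.length)) = 0
    rw [e1]
    simp
  exact Order.coheight_eq_zero.1 e2

theorem h5_coheight_head_eq_of_saturated
    (hD : ∀ p q : α, p ⋖ q → Order.coheight p = Order.coheight q + 1)
    (s : LTSeries α) (hs : ∀ i : Fin s.length, s (Fin.castSucc i) ⋖ s (Fin.succ i)) :
    Order.coheight s.head = Order.coheight s.last + s.length := by
  have key : ∀ (k : ℕ) (hk : k < s.length + 1),
      Order.coheight (s 0) = Order.coheight (s ⟨k, hk⟩) + k := by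
    intro k
    induction k with
    | zero =>
      intro hk
      simp
    | succ k ih =>
      intro hk
      have hk' : k < s.length := by omega
      have h1 := ih (by omega)
      have h2 := hD _ _ (hs ⟨k, hk'⟩)
      have e1 : Fin.castSucc (⟨k, hk'⟩ : Fin s.length) = ⟨k, by omega⟩ := rfl
      have e2 : Fin.succ (⟨k, hk'⟩ : Fin s.length) = ⟨k + 1, hk⟩ := rfl
      rw [e1, e2] at h2
      rw [h1, h2, add_assoc, add_comm (1 : ℕ∞)]
      push_cast
      rfl
  exact key s.length (Nat.lt_succ_self _)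

theorem h5_cat_iff_dimFun [OrderTop α] (hfin : ∀ a : α, Order.coheight a < ⊤) :
    H5Cat α ↔ ∀ p q : α, p < q → (Order.coheight q < Order.coheight p ∧
      (p ⋖ q → Order.coheight p = Order.coheight q + 1)) := by
  constructor
  · intro hcat p q hpq
    refine ⟨Order.coheight_strictAnti hpq (hfin q), fun hcov => ?_⟩
    obtain ⟨n, hn⟩ := ENat.ne_top_iff_exists.1 (hfin p).ne
    obtain ⟨m, hm⟩ := ENat.ne_top_iff_exists.1 (hfin q).ne
    obtain ⟨s, hs_head, hs_len⟩ := Order.exists_series_of_coheight_eq_coe p hn.symm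
    obtain ⟨t, ht_head, ht_len⟩ := Order.exists_series_of_coheight_eq_coe q hm.symm
    have hs : (s.length : ℕ∞) = Order.coheight s.head := by rw [hs_head, hs_len, hn]
    have ht : (t.length : ℕ∞) = Order.coheight t.head := by rw [ht_head, ht_len, hm]
    have hsl : s.last = ⊤ := (h5_last_isMax_of_length_eq_coheight s hs).eq_top
    have htl : t.last = ⊤ := (h5_last_isMax_of_length_eq_coheight t ht).eq_top
    have hcov' : p ⋖ t.head := by rw [ht_head]; exact hcov
    have := hcat.2 s (h5Cons t p hcov'.lt) (by rw [h5Cons_head, hs_head])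
      (by rw [h5Cons_last, hsl, htl]) (h5_saturated_of_length_eq_coheight s hs)
      (h5Cons_saturated t p hcov' (h5_saturated_of_length_eq_coheight t ht))
    rw [h5Cons_length] at this
    rw [← hn, ← hm, ← hs_len, ← ht_len, this]
    push_cast
    rfl
  · intro hD
    have hD' : ∀ p q : α, p ⋖ q → Order.coheight p = Order.coheight q + 1 :=
      fun p q h => (hD p q h.lt).2 h
    refine ⟨fun p q _ => ⟨(Order.coheight p).toNat, fun s hs _ => ?_⟩, fun s t hh hl hs ht => ?_⟩
    · have h1 : (s.length : ℕ∞) ≤ Order.coheight s.head := Order.length_le_coheight_head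
      rw [hs, ← ENat.coe_toNat (hfin p).ne] at h1
      exact_mod_cast h1
    · have h1 := h5_coheight_head_eq_of_saturated hD' s hs
      have h2 := h5_coheight_head_eq_of_saturated hD' t ht
      rw [hh, hl] at h1
      obtain ⟨c, hc⟩ := ENat.ne_top_iff_exists.1 (hfin t.last).ne
      rw [h1, ← hc] at h2
      norm_cast at h2
      omega

end Order

section Ring

variable {A : Type u} [CommRing A]

theorem h5_ringKrullDim_quot (p : PrimeSpectrum A) :
    ringKrullDim (A ⧸ p.asIdeal) = ((Order.coheight p : ℕ∞) : WithBot ℕ∞) := by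
  haveI : IsDomain (A ⧸ p.asIdeal) := Ideal.Quotient.isDomain _
  have h1 : ringKrullDim (A ⧸ p.asIdeal) =
      ((Order.coheight (⊥ : PrimeSpectrum (A ⧸ p.asIdeal)) : ℕ∞) : WithBot ℕ∞) := by
    rw [Order.coheight_bot_eq_krullDim]
    rfl
  have h2 : Order.coheight (⊥ : PrimeSpectrum (A ⧸ p.asIdeal)) =
      Order.coheight (h5QuotEmb p.asIdeal ⊥) := by
    refine Order.coheight_eq_of_strictMono _ (h5QuotEmb p.asIdeal).strictMono ?_ ⊥
    intro a b' hab
    have hmem : b' ∈ Set.range (h5QuotEmb p.asIdeal) := by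
      have ha : h5QuotEmb p.asIdeal a ∈ PrimeSpectrum.zeroLocus (p.asIdeal : Set A) := by
        rw [← h5_range_quotEmb]
        exact Set.mem_range_self a
      rw [h5_range_quotEmb, PrimeSpectrum.mem_zeroLocus]
      rw [PrimeSpectrum.mem_zeroLocus] at ha
      exact ha.trans (SetLike.coe_subset_coe.2 hab.le)
    obtain ⟨a', rfl⟩ := hmem
    exact ⟨a', (h5QuotEmb p.asIdeal).lt_iff_lt.1 hab, rfl⟩
  have h3 : h5QuotEmb p.asIdeal ⊥ = p := by
    apply PrimeSpectrum.ext
    show Ideal.comap (Ideal.Quotient.mk p.asIdeal) ⊥ = p.asIdeal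
    rw [← RingHom.ker_eq_comap_bot, Ideal.mk_ker]
  rw [h1, h2, h3]

theorem h5_isCatenary_iff_dimFun [IsNoetherianRing A] [IsLocalRing A] :
    IsCatenary A ↔
      ∀ p q : PrimeSpectrum A, p < q →
        ringKrullDim (A ⧸ q.asIdeal) < ringKrullDim (A ⧸ p.asIdeal) ∧
          (p ⋖ q → ringKrullDim (A ⧸ p.asIdeal) = ringKrullDim (A ⧸ q.asIdeal) + 1) := by
  have hfin : ∀ a : PrimeSpectrum A, Order.coheight a < ⊤ := by
    intro a
    have h1 := Order.coheight_le_krullDim a
    have h2 : Order.krullDim (PrimeSpectrum A) < ⊤ := ringKrullDim_lt_top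
    have h3 := lt_of_le_of_lt h1 h2
    exact WithBot.coe_lt_coe.1 h3
  rw [h5_isCatenary_iff, h5_cat_iff_dimFun hfin]
  refine forall_congr' fun p => forall_congr' fun q => imp_congr_right fun _ => ?_
  rw [h5_ringKrullDim_quot, h5_ringKrullDim_quot, WithBot.coe_lt_coe]
  refine and_congr_right fun _ => imp_congr_right fun _ => ?_
  rw [← WithBot.coe_one, ← WithBot.coe_add, WithBot.coe_inj]

end Ring

end CAlg
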