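import Mathlib
universe u
open TensorProduct
namespace H5CD

/-- linear algebra: no biorthogonal system of size > dimension -/
lemma no_biorth {Ω : Type*} [Field Ω] {ι : Type*} [Fintype ι] (N : ℕ) (v w : Fin N → ι → Ω)
    (h : ∀ n m, ∑ i, v n i * w m i = if n = m then 1 else 0) : N ≤ Fintype.card ι := by
  have hli : LinearIndependent Ω v := by
    rw [Fintype.linearIndependent_iff]
    intro c hc m
    have h1 := congrArg (fun x : ι → Ω => ∑ i, x i * w m i) hc
    simp only [Finset.sum_apply, Pi.smul_apply, smul_eq_mul, Pi.zero_apply, zero_mul,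
      Finset.sum_const_zero] at h1
    have h2 : (∑ i, (∑ n, c n * v n i) * w m i) = ∑ n, c n * ∑ i, v n i * w m i := by
      simp_rw [Finset.sum_mul, Finset.mul_sum]
      rw [Finset.sum_comm]
      refine Finset.sum_congr rfl fun n _ => Finset.sum_congr rfl fun i _ => ?_
      ring
    rw [h2] at h1
    simpa [h] using h1
  have := hli.fintype_card_le_finrank
  simpa using this

lemma exists_common_field (k : Type u) [Field k] (K : ℕ → Type u) [∀ n, Field (K n)]
    [∀ n, Algebra k (K n)] (N : ℕ) :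
    ∃ (Ω : Type u) (_ : Field Ω) (_ : Algebra k Ω), ∀ n, n < N → Nonempty (K n →ₐ[k] Ω) := by
  induction N with
  | zero => exact ⟨k, inferInstance, inferInstance, fun n hn => absurd hn (Nat.not_lt_zero _)⟩
  | succ N ih =>
    obtain ⟨Ω, _, _, h⟩ := ih
    obtain ⟨M, hM⟩ := Ideal.exists_maximal (Ω ⊗[k] K N)
    letI : Field ((Ω ⊗[k] K N) ⧸ M) := Ideal.Quotient.field M
    refine ⟨(Ω ⊗[k] K N) ⧸ M, inferInstance, inferInstance, fun n hn => ?_⟩
    rcases Nat.lt_succ_iff_lt_or_eq.mp hn with h1 | rfl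
    · obtain ⟨f⟩ := h n h1
      exact ⟨((Ideal.Quotient.mkₐ k M).comp Algebra.TensorProduct.includeLeft).comp f⟩
    · exact ⟨(Ideal.Quotient.mkₐ k M).comp Algebra.TensorProduct.includeRight⟩

end H5CD

namespace H5CD

theorem main (A : Type u) [CommRing A] (k : Type u) [Field k] (K : ℕ → Type u) [∀ n, Field (K n)]
    [∀ n, Algebra A (K n)] [∀ n, Algebra k (K n)]
    (φ : ∀ n m, (A ⊗[ℤ] A) →+* (K n ⊗[k] K m))
    (hφ : ∀ n m a b, φ n m (a ⊗ₜ b) = algebraMap A (K n) a ⊗ₜ algebraMap A (K m) b) :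
    (closure (⋃ (n : ℕ) (m : ℕ) (_ : n ≠ m), Set.range (PrimeSpectrum.comap (φ n m))) ∩
      Set.range (PrimeSpectrum.comap (Algebra.TensorProduct.lmul' (S := A) ℤ).toRingHom)).Nonempty := by
  by_contra hne
  rw [Set.not_nonempty_iff_eq_empty] at hne
  set T : Set (PrimeSpectrum (A ⊗[ℤ] A)) :=
    ⋃ (n : ℕ) (m : ℕ) (_ : n ≠ m), Set.range (PrimeSpectrum.comap (φ n m)) with hT
  set μ : (A ⊗[ℤ] A) →+* A := (Algebra.TensorProduct.lmul' (S := A) ℤ).toRingHom with hμ
  have hsurj : Function.Surjective μ := fun a => ⟨a ⊗ₜ 1, by simp [hμ]⟩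
  rw [← PrimeSpectrum.zeroLocus_vanishingIdeal_eq_closure,
    range_comap_of_surjective _ μ hsurj, ← PrimeSpectrum.zeroLocus_sup,
    PrimeSpectrum.zeroLocus_empty_iff_eq_top] at hne
  obtain ⟨z, hz, j, hj, hzj⟩ := Submodule.mem_sup.mp
    (hne ▸ Submodule.mem_top : (1 : A ⊗[ℤ] A) ∈ PrimeSpectrum.vanishingIdeal T ⊔ RingHom.ker μ)
  have hμz : μ z = 1 := by
    have h1 := congrArg μ hzj
    rw [map_add, (RingHom.mem_ker).mp hj, add_zero, map_one] at h1
    exact h1
  obtain ⟨S, hS⟩ := TensorProduct.exists_finset z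
  obtain ⟨Ω, _, _, hΩ⟩ := exists_common_field k K (S.card + 1)
  choose f _ using (fun n (hn : n < S.card + 1) => (⟨(hΩ n hn).some, trivial⟩ : ∃ _ : K n →ₐ[k] Ω, True))
  let α : Fin (S.card + 1) → A →+* Ω :=
    fun n => ((f n n.2 : K n →ₐ[k] Ω) : K n →+* Ω).comp (algebraMap A (K n))
  have key : ∀ n m : Fin (S.card + 1),
      ∑ i ∈ S, α n i.1 * α m i.2 = if n = m then 1 else 0 := by
    intro n m
    split_ifs with hnm
    · subst hnm
      have h1 : α n (μ z) = ∑ i ∈ S, α n i.1 * α n i.2 := by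
        rw [hS, map_sum, map_sum]
        refine Finset.sum_congr rfl fun i _ => ?_
        rw [hμ]
        simp
      rw [← h1, hμz, map_one]
    · let g := Algebra.TensorProduct.productMap (f n n.2) (f m m.2)
      have hker : (RingHom.ker g.toRingHom).IsPrime := RingHom.ker_isPrime _
      let P : PrimeSpectrum (K n ⊗[k] K m) := ⟨RingHom.ker g.toRingHom, hker⟩
      have hmem : PrimeSpectrum.comap (φ n m) P ∈ T :=
        Set.mem_iUnion.mpr ⟨n, Set.mem_iUnion.mpr ⟨m, Set.mem_iUnion.mpr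
          ⟨fun h => hnm (Fin.ext h), P, rfl⟩⟩⟩
      have hz' : z ∈ (PrimeSpectrum.comap (φ n m) P).asIdeal :=
        (PrimeSpectrum.mem_vanishingIdeal _ _).mp hz _ hmem
      have h2 : g (φ n m z) = 0 := hz'
      rw [hS, map_sum, map_sum] at h2
      rw [← h2]
      refine Finset.sum_congr rfl fun i _ => ?_
      rw [hφ]
      simp [g, α]
  have h3 := no_biorth (S.card + 1) (fun n (i : S) => α n i.1.1) (fun m (i : S) => α m i.1.2)
    (by
      intro n m
      rw [← key n m]
      exact Finset.sum_coe_sort S (fun i => α n i.1 * α m i.2))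
  simp at h3

end H5CD
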