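import Mathlib
import Groth.Prelude.Def_CohSite

universe u
open CategoryTheory Limits Functor

namespace H5CS


theorem counit_part {C D : Type u} [SmallCategory C] [SmallCategory D]
    (J : GrothendieckTopology C) (K : GrothendieckTopology D) (u : C ⥤ D)
    [u.IsCocontinuous J K] [u.IsContinuous J K] [u.Full] [u.Faithful]
    (F : Sheaf J AddCommGrpCat.{u}) :
    IsIso ((u.sheafAdjunctionCocontinuous AddCommGrpCat.{u} J K).counit.app F) := by
  apply +allowSynthFailures ReflectsIsomorphisms.reflects (sheafToPresheaf J AddCommGrpCat.{u})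
  change IsIso ((u.sheafAdjunctionCocontinuous AddCommGrpCat.{u} J K).counit.app F).hom
  rw [Functor.sheafAdjunctionCocontinuous_counit_app_hom]
  have : IsIso ((u.op.ranAdjunction AddCommGrpCat.{u}).counit.app F.obj) := inferInstance
  exact this


theorem unit_part {C D : Type u} [SmallCategory C] [SmallCategory D]
    (J : GrothendieckTopology C) (K : GrothendieckTopology D) (u : C ⥤ D)
    [u.IsCocontinuous J K] [u.IsContinuous J K] [u.Full] [u.Faithful]
    (F : Sheaf J AddCommGrpCat.{u}) :
    IsIso ((u.sheafAdjunctionContinuous AddCommGrpCat.{u} J K).unit.app F) := by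
  set adj := u.sheafAdjunctionContinuous AddCommGrpCat.{u} J K with hadj
  set adj' := sheafPullbackConstruction.sheafAdjunctionContinuous u AddCommGrpCat.{u} J K with hadj'
  have h1 := adj.unit_leftAdjointUniq_hom_app adj' F
  suffices h : IsIso (adj'.unit.app F) by
    have h2 : adj.unit.app F = adj'.unit.app F ≫
        inv ((u.sheafPushforwardContinuous AddCommGrpCat.{u} J K).map
          ((adj.leftAdjointUniq adj').hom.app F)) := by
      rw [← h1]; simp
    rw [h2]
    infer_instance
  apply +allowSynthFailures ReflectsIsomorphisms.reflects (sheafToPresheaf J AddCommGrpCat.{u})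
  rw [hadj', sheafPullbackConstruction.sheafAdjunctionContinuous,
    Adjunction.map_restrictFullyFaithful_unit_app, Adjunction.comp_unit_app]
  have ha : IsIso ((u.op.lanAdjunction AddCommGrpCat.{u}).unit.app
      ((sheafToPresheaf J AddCommGrpCat.{u}).obj F)) := inferInstance
  have hb : IsIso (((whiskeringLeft Cᵒᵖ Dᵒᵖ AddCommGrpCat.{u}).obj u.op).map
      ((sheafificationAdjunction K AddCommGrpCat.{u}).unit.app
        (u.op.lan.obj ((sheafToPresheaf J AddCommGrpCat.{u}).obj F)))) := by
    set P := u.op.lan.obj ((sheafToPresheaf J AddCommGrpCat.{u}).obj F) with hP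
    have key := u.toSheafify_pullbackSheafificationCompatibility AddCommGrpCat.{u} J K P
    have hsheaf : Presheaf.IsSheaf J (u.op ⋙ P) := by
      have e : F.obj ≅ u.op ⋙ P :=
        asIso ((u.op.lanAdjunction AddCommGrpCat.{u}).unit.app F.obj)
      exact (Presheaf.isSheaf_of_iso_iff e).mp F.property
    have i1 := isIso_toSheafify J hsheaf
    have i2 : IsIso ((u.pushforwardContinuousSheafificationCompatibility
        AddCommGrpCat.{u} J K).hom.app P).hom :=
      (inferInstance : IsIso ((sheafToPresheaf J AddCommGrpCat.{u}).map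
        ((u.pushforwardContinuousSheafificationCompatibility AddCommGrpCat.{u} J K).hom.app P)))
    change IsIso (whiskerLeft u.op (toSheafify K P))
    rw [← key]
    exact @IsIso.comp_isIso _ _ _ _ _ _ _ i1 i2
  infer_instance

end H5CS
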