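import Mathlib

set_option autoImplicit false
universe u v

namespace CAlg
open TensorProduct

/-- A weak (non-functorial) filtered-colimit presentation of an `A₀`-algebra `A`. -/
structure H5Sys (A₀ : Type v) [CommRing A₀] (A : Type u) [CommRing A] [Algebra A₀ A] where
  ι : Type u
  G : ι → Type u
  [cr : ∀ i, CommRing (G i)]
  [alg : ∀ i, Algebra A₀ (G i)]
  g : ∀ i, G i →ₐ[A₀] A
  ne : Nonempty ι
  lift2 : ∀ i j, ∃ k, ∃ (F₁ : G i →ₐ[A₀] G k) (F₂ : G j →ₐ[A₀] G k),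
    (g k).comp F₁ = g i ∧ (g k).comp F₂ = g j
  surj : ∀ a : A, ∃ i, ∃ x : G i, g i x = a
  kill : ∀ i (x : G i), g i x = 0 → ∃ j, ∃ F : G i →ₐ[A₀] G j, (g j).comp F = g i ∧ F x = 0

attribute [instance] H5Sys.cr H5Sys.alg

/-- The system attached to a directed family with compatible maps. -/
def H5Sys.ofDirected {ι : Type u} [Preorder ι] [IsDirected ι (· ≤ ·)] [Nonempty ι]
    (A₀ : Type u) [CommRing A₀] (G : ι → Type u) [∀ i, CommRing (G i)] [∀ i, Algebra A₀ (G i)]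
    (f : ∀ i j, i ≤ j → (G i →ₐ[A₀] G j)) (A : Type u) [CommRing A] [Algebra A₀ A]
    (g : ∀ i, G i →ₐ[A₀] A) (hg : ∀ i j (h : i ≤ j), (g j).comp (f i j h) = g i)
    (hsurj : ∀ a : A, ∃ i, ∃ x : G i, g i x = a)
    (hker : ∀ i (x : G i), g i x = 0 → ∃ j, ∃ h : i ≤ j, f i j h x = 0) : H5Sys A₀ A where
  ι := ι
  G := G
  g := g
  ne := inferInstance
  lift2 i j := by
    obtain ⟨k, hik, hjk⟩ := exists_ge_ge i j
    exact ⟨k, f i k hik, f j k hjk, hg i k hik, hg j k hjk⟩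
  surj := hsurj
  kill i x hx := by
    obtain ⟨j, h, hj⟩ := hker i x hx
    exact ⟨j, f i j h, hg i j h, hj⟩

variable {A₀ : Type v} [CommRing A₀] {A : Type u} [CommRing A] [Algebra A₀ A]

/-- Finite uniformisation of a monotone family of predicates. -/
theorem H5Sys.fin_unif (S : H5Sys A₀ A) {X : Type*} (P : S.ι → X → Prop)
    (hP : ∀ i j (F : S.G i →ₐ[A₀] S.G j), (S.g j).comp F = S.g i → ∀ x, P i x → P j x)
    (hex : ∀ x, ∃ i, P i x) (s : Finset X) : ∃ i, ∀ x ∈ s, P i x := by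
  classical
  induction s using Finset.induction_on with
  | empty => exact ⟨S.ne.some, by simp⟩
  | insert a s ha ih =>
    obtain ⟨i, hi⟩ := ih
    obtain ⟨j, hj⟩ := hex a
    obtain ⟨k, F₁, F₂, h₁, h₂⟩ := S.lift2 i j
    refine ⟨k, fun x hx => ?_⟩
    rcases Finset.mem_insert.mp hx with rfl | hx
    · exact hP j k F₂ h₂ _ hj
    · exact hP i k F₁ h₁ _ (hi x hx)

/-- Abstract finite killing. -/
theorem H5Sys.kill_fin_abs (S : H5Sys A₀ A) {N : S.ι → Type*} [∀ i, Zero (N i)]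
    (Nmap : ∀ {i j : S.ι}, (S.G i →ₐ[A₀] S.G j) → N i → N j)
    (Nmap_zero : ∀ {i j : S.ι} (F : S.G i →ₐ[A₀] S.G j), Nmap F 0 = 0)
    (Nmap_comp : ∀ {i j k : S.ι} (F : S.G i →ₐ[A₀] S.G j) (F' : S.G j →ₐ[A₀] S.G k) (x : N i),
      Nmap (F'.comp F) x = Nmap F' (Nmap F x))
    (K : ∀ i, N i → Prop)
    (hK : ∀ {i j : S.ι} (F : S.G i →ₐ[A₀] S.G j), (S.g j).comp F = S.g i →
      ∀ x, K i x → K j (Nmap F x))
    (hkill : ∀ i (x : N i), K i x → ∃ j, ∃ F : S.G i →ₐ[A₀] S.G j,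
      (S.g j).comp F = S.g i ∧ Nmap F x = 0)
    (i : S.ι) (s : Finset (N i)) (hs : ∀ x ∈ s, K i x) :
    ∃ j, ∃ F : S.G i →ₐ[A₀] S.G j, (S.g j).comp F = S.g i ∧ ∀ x ∈ s, Nmap F x = 0 := by
  classical
  induction s using Finset.induction_on with
  | empty => exact ⟨i, AlgHom.id _ _, AlgHom.comp_id _, by simp⟩
  | insert a s ha ih =>
    obtain ⟨j, F, hF, hFs⟩ := ih (fun x hx => hs x (Finset.mem_insert_of_mem hx))
    have h1 : K j (Nmap F a) := hK F hF a (hs a (Finset.mem_insert_self a s))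
    obtain ⟨k, F', hF', hk⟩ := hkill j (Nmap F a) h1
    refine ⟨k, F'.comp F, ?_, ?_⟩
    · rw [← AlgHom.comp_assoc, hF', hF]
    · intro x hx
      rw [Nmap_comp]
      rcases Finset.mem_insert.mp hx with rfl | hx
      · exact hk
      · rw [hFs x hx, Nmap_zero]

/-- Finite killing in the algebras themselves. -/
theorem H5Sys.kill_fin (S : H5Sys A₀ A) (i : S.ι) (s : Finset (S.G i))
    (hs : ∀ x ∈ s, S.g i x = 0) :
    ∃ j, ∃ F : S.G i →ₐ[A₀] S.G j, (S.g j).comp F = S.g i ∧ ∀ x ∈ s, F x = 0 := by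
  refine S.kill_fin_abs (N := S.G) (fun F x => F x) (fun F => map_zero F) (fun F F' x => rfl)
    (fun i x => S.g i x = 0) ?_ (fun i x hx => S.kill i x hx) i s hs
  intro i j F hF x hx
  show S.g j (F x) = 0
  rw [← AlgHom.comp_apply, hF]
  exact hx

/-- Finite joint lifting of elements. -/
theorem H5Sys.lift_fin (S : H5Sys A₀ A) (s : Finset A) :
    ∃ i, ∀ a ∈ s, ∃ x : S.G i, S.g i x = a := by
  refine S.fin_unif (fun i (a : A) => ∃ x : S.G i, S.g i x = a) ?_ S.surj s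
  rintro i j F hF a ⟨x, rfl⟩
  exact ⟨F x, by rw [← AlgHom.comp_apply, hF]⟩

/-- Tensoring commutes with the weak colimit: killing a single tensor. -/
theorem H5Sys.tensor_kill (S : H5Sys A₀ A) (M : Type u) [AddCommGroup M] [Module A₀ M]
    (i : S.ι) (z : S.G i ⊗[A₀] M) (hz : (S.g i).toLinearMap.rTensor M z = 0) :
    ∃ j, ∃ F : S.G i →ₐ[A₀] S.G j, (S.g j).comp F = S.g i ∧ F.toLinearMap.rTensor M z = 0 := by
  classical
  obtain ⟨Sx, rfl⟩ := TensorProduct.exists_finset z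
  rw [← Finset.sum_coe_sort Sx (fun p => (p.1 ⊗ₜ[A₀] p.2 : S.G i ⊗[A₀] M))] at hz ⊢
  rw [map_sum] at hz
  simp only [LinearMap.rTensor_tmul, AlgHom.toLinearMap_apply] at hz
  let P : Submodule A₀ A :=
    Submodule.span A₀ ((fun p : S.G i × M => S.g i p.1) '' (Sx : Set (S.G i × M)))
  have hPfg : P.FG := Submodule.fg_span ((Sx.finite_toSet).image _)
  have hmemP : ∀ p : ↥Sx, S.g i p.1.1 ∈ P := fun p => Submodule.subset_span ⟨p.1, p.2, rfl⟩
  let t : P ⊗[A₀] M := ∑ p : ↥Sx, (⟨S.g i p.1.1, hmemP p⟩ : P) ⊗ₜ[A₀] p.1.2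
  have ht : P.subtype.rTensor M t = 0 := by
    simp only [t, map_sum, LinearMap.rTensor_tmul, Submodule.subtype_apply]
    exact hz
  obtain ⟨Q, hPQ, hQfg, hQ⟩ := TensorProduct.eq_zero_of_fg_of_subtype_eq_zero hPfg ht
  obtain ⟨Tq, hTq⟩ := hQfg
  have hTqQ : ∀ q : ↥Tq, q.1 ∈ Q := fun q => hTq ▸ Submodule.subset_span q.2
  let m' : (↥Sx ⊕ ↥Tq) → Q :=
    Sum.elim (fun p => ⟨S.g i p.1.1, hPQ (hmemP p)⟩) (fun q => ⟨q.1, hTqQ q⟩)
  let n' : (↥Sx ⊕ ↥Tq) → M := Sum.elim (fun p => p.1.2) (fun _ => 0)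
  have hsum : ∑ k, m' k ⊗ₜ[A₀] n' k = 0 := by
    rw [Fintype.sum_sum_type]
    simp only [m', n', Sum.elim_inl, Sum.elim_inr, tmul_zero, Finset.sum_const_zero, add_zero]
    have h2 := hQ
    simp only [t, map_sum, LinearMap.rTensor_tmul] at h2
    exact h2
  have hspan : Submodule.span A₀ (Set.range m') = ⊤ := by
    apply Submodule.map_injective_of_injective Q.injective_subtype
    rw [Submodule.map_span, Submodule.map_top, Submodule.range_subtype]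
    apply le_antisymm
    · rw [Submodule.span_le]
      rintro _ ⟨_, ⟨k, rfl⟩, rfl⟩
      exact (m' k).2
    · refine le_of_eq_of_le hTq.symm (Submodule.span_le.mpr fun q hq => ?_)
      exact Submodule.subset_span ⟨_, ⟨Sum.inr ⟨q, hq⟩, rfl⟩, rfl⟩
  obtain ⟨k, a, y, hay, ham⟩ := TensorProduct.vanishesTrivially_of_sum_tmul_eq_zero A₀ hspan hsum
  obtain ⟨i₁, hi₁⟩ := S.lift_fin Tq
  obtain ⟨k₀, F₁, F₂, h₁, h₂⟩ := S.lift2 i i₁
  let x' : (↥Sx ⊕ ↥Tq) → S.G k₀ :=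
    Sum.elim (fun p => F₁ p.1.1) (fun q => F₂ (Classical.choose (hi₁ q.1 q.2)))
  have hx' : ∀ idx, S.g k₀ (x' idx) = (m' idx : A) := by
    rintro (p | q)
    · show S.g k₀ (F₁ p.1.1) = S.g i p.1.1
      rw [← AlgHom.comp_apply, h₁]
    · show S.g k₀ (F₂ (Classical.choose (hi₁ q.1 q.2))) = q.1
      rw [← AlgHom.comp_apply, h₂]
      exact Classical.choose_spec (hi₁ q.1 q.2)
  let ρ : Fin k → S.G k₀ := fun j => ∑ idx, a idx j • x' idx
  have hρ : ∀ j, S.g k₀ (ρ j) = 0 := by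
    intro j
    have h3 := congrArg (Submodule.subtype Q) (ham j)
    simp only [map_sum, map_smul, Submodule.subtype_apply, map_zero] at h3
    simp only [ρ, map_sum, map_smul, hx']
    exact h3
  obtain ⟨J, F₃, hF₃, hF₃ρ⟩ := S.kill_fin k₀ (Finset.univ.image ρ) (by
    intro x hx
    obtain ⟨j, -, rfl⟩ := Finset.mem_image.mp hx
    exact hρ j)
  refine ⟨J, F₃.comp F₁, ?_, ?_⟩
  · rw [← AlgHom.comp_assoc, hF₃, h₁]
  · have hfinal : ∑ idx, (F₃ (x' idx)) ⊗ₜ[A₀] n' idx = 0 :=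
      TensorProduct.sum_tmul_eq_zero_of_vanishesTrivially A₀ ⟨k, a, y, hay, fun j => by
        have h4 := hF₃ρ (ρ j) (Finset.mem_image_of_mem _ (Finset.mem_univ j))
        simpa only [ρ, map_sum, map_smul] using h4⟩
    rw [Fintype.sum_sum_type] at hfinal
    simp only [x', n', Sum.elim_inl, Sum.elim_inr, tmul_zero, Finset.sum_const_zero,
      add_zero] at hfinal
    rw [map_sum]
    simp only [LinearMap.rTensor_tmul, AlgHom.toLinearMap_apply, AlgHom.comp_apply]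
    exact hfinal

end CAlg

namespace CAlg
open TensorProduct

variable {A₀ : Type u} [CommRing A₀] {A : Type u} [CommRing A] [Algebra A₀ A]

/-- Killing finitely many tensors, with the algebras on the right. -/
theorem H5Sys.tensor_kill_right (S : H5Sys A₀ A) (M : Type u) [AddCommGroup M] [Module A₀ M]
    (i : S.ι) (z : M ⊗[A₀] S.G i) (hz : (S.g i).toLinearMap.lTensor M z = 0) :
    ∃ j, ∃ F : S.G i →ₐ[A₀] S.G j, (S.g j).comp F = S.g i ∧ F.toLinearMap.lTensor M z = 0 := by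
  have hcomm : ∀ {X Y : Type u} [AddCommGroup X] [Module A₀ X] [AddCommGroup Y] [Module A₀ Y]
      (φ : X →ₗ[A₀] Y) (w : M ⊗[A₀] X),
      TensorProduct.comm A₀ M Y (φ.lTensor M w) = φ.rTensor M (TensorProduct.comm A₀ M X w) := by
    intro X Y _ _ _ _ φ w
    induction w using TensorProduct.induction_on with
    | zero => simp
    | tmul m x => simp
    | add a b ha hb => simp only [map_add, ha, hb]
  have h1 : (S.g i).toLinearMap.rTensor M (TensorProduct.comm A₀ M (S.G i) z) = 0 := by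
    rw [← hcomm, hz, map_zero]
  obtain ⟨j, F, hF, hFz⟩ := S.tensor_kill M i _ h1
  refine ⟨j, F, hF, ?_⟩
  apply (TensorProduct.comm A₀ M (S.G j)).injective
  rw [hcomm, hFz, map_zero]

variable (B₀ : Type u) [CommRing B₀] [Algebra A₀ B₀]

/-- The functor `G ↦ B₀ ⊗ G` on morphisms. -/
noncomputable def h5T {G G' : Type u} [CommRing G] [Algebra A₀ G] [CommRing G'] [Algebra A₀ G']
    (α : G →ₐ[A₀] G') : (B₀ ⊗[A₀] G) →ₐ[B₀] (B₀ ⊗[A₀] G') :=
  Algebra.TensorProduct.map (AlgHom.id B₀ B₀) α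

@[simp] theorem h5T_tmul {G G' : Type u} [CommRing G] [Algebra A₀ G] [CommRing G'] [Algebra A₀ G']
    (α : G →ₐ[A₀] G') (b : B₀) (x : G) : h5T B₀ α (b ⊗ₜ[A₀] x) = b ⊗ₜ[A₀] α x := by
  simp [h5T]

theorem h5T_comp {G G' G'' : Type u} [CommRing G] [Algebra A₀ G] [CommRing G'] [Algebra A₀ G']
    [CommRing G''] [Algebra A₀ G''] (α : G →ₐ[A₀] G') (β : G' →ₐ[A₀] G'') (z : B₀ ⊗[A₀] G) :
    h5T B₀ (β.comp α) z = h5T B₀ β (h5T B₀ α z) := by
  induction z using TensorProduct.induction_on with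
  | zero => simp
  | tmul b x => simp
  | add a b ha hb => simp only [map_add, ha, hb]

theorem h5T_eq_lTensor {G G' : Type u} [CommRing G] [Algebra A₀ G] [CommRing G'] [Algebra A₀ G']
    (α : G →ₐ[A₀] G') (z : B₀ ⊗[A₀] G) : h5T B₀ α z = α.toLinearMap.lTensor B₀ z := by
  induction z using TensorProduct.induction_on with
  | zero => simp
  | tmul b x => simp
  | add a b ha hb => simp only [map_add, ha, hb]

/-- Every element of `B₀ ⊗ A` comes from some stage. -/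
theorem H5Sys.T_lift (S : H5Sys A₀ A) (τ : B₀ ⊗[A₀] A) :
    ∃ i, ∃ τ' : B₀ ⊗[A₀] S.G i, h5T B₀ (S.g i) τ' = τ := by
  induction τ using TensorProduct.induction_on with
  | zero => exact ⟨S.ne.some, 0, map_zero _⟩
  | tmul b a =>
    obtain ⟨i, x, rfl⟩ := S.surj a
    exact ⟨i, b ⊗ₜ x, by simp⟩
  | add a b ha hb =>
    obtain ⟨i, a', rfl⟩ := ha
    obtain ⟨j, b', rfl⟩ := hb
    obtain ⟨k, F₁, F₂, h₁, h₂⟩ := S.lift2 i j
    refine ⟨k, h5T B₀ F₁ a' + h5T B₀ F₂ b', ?_⟩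
    rw [map_add, ← h5T_comp, ← h5T_comp, h₁, h₂]

theorem H5Sys.T_lift_fin (S : H5Sys A₀ A) (s : Finset (B₀ ⊗[A₀] A)) :
    ∃ i, ∀ τ ∈ s, ∃ τ' : B₀ ⊗[A₀] S.G i, h5T B₀ (S.g i) τ' = τ := by
  refine S.fin_unif (fun i (τ : B₀ ⊗[A₀] A) => ∃ τ' : B₀ ⊗[A₀] S.G i, h5T B₀ (S.g i) τ' = τ)
    ?_ (S.T_lift B₀) s
  rintro i j F hF τ ⟨τ', rfl⟩
  exact ⟨h5T B₀ F τ', by rw [← h5T_comp, hF]⟩

/-- Finite killing in `B₀ ⊗ G i`. -/
theorem H5Sys.T_kill_fin (S : H5Sys A₀ A) (i : S.ι) (s : Finset (B₀ ⊗[A₀] S.G i))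
    (hs : ∀ z ∈ s, h5T B₀ (S.g i) z = 0) :
    ∃ j, ∃ F : S.G i →ₐ[A₀] S.G j, (S.g j).comp F = S.g i ∧ ∀ z ∈ s, h5T B₀ F z = 0 := by
  refine S.kill_fin_abs (N := fun i => B₀ ⊗[A₀] S.G i) (fun F z => h5T B₀ F z)
    (fun F => map_zero _) (fun F F' z => h5T_comp B₀ F F' z)
    (fun i z => h5T B₀ (S.g i) z = 0) ?_ ?_ i s hs
  · intro i j F hF z hz
    show h5T B₀ (S.g j) (h5T B₀ F z) = 0
    rw [← h5T_comp, hF]
    exact hz
  · intro i z hz
    rw [h5T_eq_lTensor] at hz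
    obtain ⟨j, F, hF, hFz⟩ := S.tensor_kill_right B₀ i z hz
    exact ⟨j, F, hF, by rw [h5T_eq_lTensor]; exact hFz⟩

variable (M : Type u) [AddCommGroup M] [Module A₀ M] [Module B₀ M] [IsScalarTower A₀ B₀ M]

/-- The functor `G ↦ (B₀ ⊗ G) ⊗[B₀] M` on morphisms. -/
noncomputable def h5CM {G G' : Type u} [CommRing G] [Algebra A₀ G] [CommRing G'] [Algebra A₀ G']
    (α : G →ₐ[A₀] G') : ((B₀ ⊗[A₀] G) ⊗[B₀] M) →ₗ[B₀] ((B₀ ⊗[A₀] G') ⊗[B₀] M) :=
  (h5T B₀ α).toLinearMap.rTensor M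

@[simp] theorem h5CM_tmul {G G' : Type u} [CommRing G] [Algebra A₀ G] [CommRing G']
    [Algebra A₀ G'] (α : G →ₐ[A₀] G') (t : B₀ ⊗[A₀] G) (m : M) :
    h5CM B₀ M α (t ⊗ₜ[B₀] m) = h5T B₀ α t ⊗ₜ[B₀] m := by
  simp [h5CM]

theorem h5CM_comp {G G' G'' : Type u} [CommRing G] [Algebra A₀ G] [CommRing G'] [Algebra A₀ G']
    [CommRing G''] [Algebra A₀ G''] (α : G →ₐ[A₀] G') (β : G' →ₐ[A₀] G'')
    (z : (B₀ ⊗[A₀] G) ⊗[B₀] M) :
    h5CM B₀ M (β.comp α) z = h5CM B₀ M β (h5CM B₀ M α z) := by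
  induction z using TensorProduct.induction_on with
  | zero => simp
  | tmul t m => simp [h5T_comp]
  | add a b ha hb => simp only [map_add, ha, hb]

/-- The comparison `(B₀ ⊗ G) ⊗[B₀] M ≃ M ⊗[A₀] G`. -/
noncomputable def h5Theta (G : Type u) [CommRing G] [Algebra A₀ G] :
    ((B₀ ⊗[A₀] G) ⊗[B₀] M) ≃ₗ[B₀] (M ⊗[A₀] G) :=
  (TensorProduct.comm B₀ (B₀ ⊗[A₀] G) M).trans
    (TensorProduct.AlgebraTensorModule.cancelBaseChange A₀ B₀ B₀ M G)

theorem h5Theta_tmul (G : Type u) [CommRing G] [Algebra A₀ G] (b : B₀) (x : G) (m : M) :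
    h5Theta B₀ M G ((b ⊗ₜ[A₀] x) ⊗ₜ[B₀] m) = (b • m) ⊗ₜ[A₀] x := by
  simp [h5Theta]

theorem h5Theta_nat {G G' : Type u} [CommRing G] [Algebra A₀ G] [CommRing G'] [Algebra A₀ G']
    (α : G →ₐ[A₀] G') (z : (B₀ ⊗[A₀] G) ⊗[B₀] M) :
    h5Theta B₀ M G' (h5CM B₀ M α z) = α.toLinearMap.lTensor M (h5Theta B₀ M G z) := by
  induction z using TensorProduct.induction_on with
  | zero => simp
  | tmul t m =>
    induction t using TensorProduct.induction_on with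
    | zero => simp
    | tmul b x => simp [h5Theta_tmul]
    | add a b ha hb =>
      simp only [TensorProduct.add_tmul, map_add, ha, hb]
  | add a b ha hb => simp only [map_add, ha, hb]

/-- Finite killing in `(B₀ ⊗ G i) ⊗[B₀] M`. -/
theorem H5Sys.CM_kill_fin (S : H5Sys A₀ A) (i : S.ι) (s : Finset ((B₀ ⊗[A₀] S.G i) ⊗[B₀] M))
    (hs : ∀ z ∈ s, h5CM B₀ M (S.g i) z = 0) :
    ∃ j, ∃ F : S.G i →ₐ[A₀] S.G j, (S.g j).comp F = S.g i ∧ ∀ z ∈ s, h5CM B₀ M F z = 0 := by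
  refine S.kill_fin_abs (N := fun i => (B₀ ⊗[A₀] S.G i) ⊗[B₀] M) (fun F z => h5CM B₀ M F z)
    (fun F => map_zero _) (fun F F' z => h5CM_comp B₀ M F F' z)
    (fun i z => h5CM B₀ M (S.g i) z = 0) ?_ ?_ i s hs
  · intro i j F hF z hz
    show h5CM B₀ M (S.g j) (h5CM B₀ M F z) = 0
    rw [← h5CM_comp, hF]
    exact hz
  · intro i z hz
    have h1 : (S.g i).toLinearMap.lTensor M (h5Theta B₀ M (S.G i) z) = 0 := by
      rw [← h5Theta_nat, hz, map_zero]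
    obtain ⟨j, F, hF, hFz⟩ := S.tensor_kill_right M i _ h1
    refine ⟨j, F, hF, ?_⟩
    apply (h5Theta B₀ M (S.G j)).injective
    rw [h5Theta_nat, hFz, map_zero]

end CAlg
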