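import Mathlib
import Groth.Agent.Lib.helper5.ColimSys

set_option autoImplicit false
universe u

namespace CAlg
open TensorProduct

variable {A₀ : Type u} [CommRing A₀] {A : Type u} [CommRing A] [Algebra A₀ A]
variable (B₀ : Type u) [CommRing B₀] [Algebra A₀ B₀]
variable (C₀ : Type u) [CommRing C₀] [Algebra A₀ C₀] [Algebra B₀ C₀] [IsScalarTower A₀ B₀ C₀]

/-- The functor `G ↦ (B₀ ⊗ G) ⊗[B₀] C₀` on morphisms, as a ring map. -/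
noncomputable def h5C {G G' : Type u} [CommRing G] [Algebra A₀ G] [CommRing G'] [Algebra A₀ G']
    (α : G →ₐ[A₀] G') : ((B₀ ⊗[A₀] G) ⊗[B₀] C₀) →ₐ[B₀] ((B₀ ⊗[A₀] G') ⊗[B₀] C₀) :=
  Algebra.TensorProduct.map (h5T B₀ α) (AlgHom.id B₀ C₀)

@[simp] theorem h5C_tmul {G G' : Type u} [CommRing G] [Algebra A₀ G] [CommRing G'] [Algebra A₀ G']
    (α : G →ₐ[A₀] G') (t : B₀ ⊗[A₀] G) (c : C₀) :
    h5C B₀ C₀ α (t ⊗ₜ[B₀] c) = h5T B₀ α t ⊗ₜ[B₀] c := by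
  simp [h5C]

theorem h5C_algebraMap {G G' : Type u} [CommRing G] [Algebra A₀ G] [CommRing G'] [Algebra A₀ G']
    (α : G →ₐ[A₀] G') (t : B₀ ⊗[A₀] G) :
    h5C B₀ C₀ α (algebraMap (B₀ ⊗[A₀] G) ((B₀ ⊗[A₀] G) ⊗[B₀] C₀) t) =
      algebraMap (B₀ ⊗[A₀] G') ((B₀ ⊗[A₀] G') ⊗[B₀] C₀) (h5T B₀ α t) := by
  simp [Algebra.TensorProduct.algebraMap_apply]

theorem h5C_eq_CM {G G' : Type u} [CommRing G] [Algebra A₀ G] [CommRing G'] [Algebra A₀ G']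
    (α : G →ₐ[A₀] G') (z : (B₀ ⊗[A₀] G) ⊗[B₀] C₀) : h5C B₀ C₀ α z = h5CM B₀ C₀ α z := by
  induction z using TensorProduct.induction_on with
  | zero => simp
  | tmul t c => simp
  | add a b ha hb => simp only [map_add, ha, hb]

/-- Finite killing in `(B₀ ⊗ G i) ⊗[B₀] C₀`, ring version. -/
theorem H5Sys.C_kill_fin (S : H5Sys A₀ A) (i : S.ι) (s : Finset ((B₀ ⊗[A₀] S.G i) ⊗[B₀] C₀))
    (hs : ∀ z ∈ s, h5C B₀ C₀ (S.g i) z = 0) :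
    ∃ j, ∃ F : S.G i →ₐ[A₀] S.G j, (S.g j).comp F = S.g i ∧ ∀ z ∈ s, h5C B₀ C₀ F z = 0 := by
  obtain ⟨j, F, hF, hFs⟩ := S.CM_kill_fin B₀ C₀ i s (fun z hz => by
    rw [← h5C_eq_CM]; exact hs z hz)
  exact ⟨j, F, hF, fun z hz => by rw [h5C_eq_CM]; exact hFs z hz⟩

/-- Surjectivity criterion for `T → T ⊗[B₀] C₀`. -/
theorem h5_surj_crit (T : Type u) [CommRing T] [Algebra B₀ T] (s : Set C₀)
    (hs : Algebra.adjoin B₀ s = ⊤)
    (h : ∀ c ∈ s, ∃ t : T, algebraMap T (T ⊗[B₀] C₀) t = (1 : T) ⊗ₜ[B₀] c) :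
    Function.Surjective (algebraMap T (T ⊗[B₀] C₀)) := by
  have h1 := Algebra.TensorProduct.adjoin_one_tmul_image_eq_top (A := T) s hs
  have h2 : Algebra.adjoin T (((1 : T) ⊗ₜ[B₀] ·) '' s) ≤ ⊥ := by
    apply Algebra.adjoin_le
    rintro _ ⟨c, hc, rfl⟩
    obtain ⟨t, ht⟩ := h c hc
    exact Algebra.mem_bot.mpr ⟨t, ht⟩
  intro z
  have h3 : z ∈ (⊥ : Subalgebra T (T ⊗[B₀] C₀)) := h2 (h1 ▸ Algebra.mem_top)
  exact Algebra.mem_bot.mp h3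

/-- Surjectivity of `T → T ⊗[B₀] C₀` passes along algebra maps of the coefficient algebra. -/
theorem h5_surj_of_hom {G G' : Type u} [CommRing G] [Algebra A₀ G] [CommRing G'] [Algebra A₀ G']
    (α : G →ₐ[A₀] G')
    (h : Function.Surjective (algebraMap (B₀ ⊗[A₀] G) ((B₀ ⊗[A₀] G) ⊗[B₀] C₀))) :
    Function.Surjective (algebraMap (B₀ ⊗[A₀] G') ((B₀ ⊗[A₀] G') ⊗[B₀] C₀)) := by
  refine h5_surj_crit B₀ C₀ (B₀ ⊗[A₀] G') Set.univ (by simp) ?_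
  intro c _
  obtain ⟨t₀, ht₀⟩ := h (1 ⊗ₜ c)
  refine ⟨h5T B₀ α t₀, ?_⟩
  have h1 := congrArg (h5C B₀ C₀ α) ht₀
  rw [h5C_algebraMap, h5C_tmul, map_one] at h1
  exact h1

/-- Descent of surjectivity to a finite stage. -/
theorem h5_surj_main (S : H5Sys A₀ A) [Algebra.FiniteType B₀ C₀]
    (h : Function.Surjective (algebraMap (B₀ ⊗[A₀] A) ((B₀ ⊗[A₀] A) ⊗[B₀] C₀))) :
    ∃ i, Function.Surjective
      (algebraMap (B₀ ⊗[A₀] S.G i) ((B₀ ⊗[A₀] S.G i) ⊗[B₀] C₀)) := by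
  classical
  obtain ⟨s, hs⟩ := (Algebra.FiniteType.out : (⊤ : Subalgebra B₀ C₀).FG)
  choose τ hτ using fun c : C₀ => h ((1 : B₀ ⊗[A₀] A) ⊗ₜ[B₀] c)
  obtain ⟨i, hi⟩ := S.T_lift_fin B₀ (s.image τ)
  let τ' : C₀ → B₀ ⊗[A₀] S.G i := fun c =>
    if hc : c ∈ s then Classical.choose (hi (τ c) (Finset.mem_image_of_mem _ hc)) else 0
  have hτ' : ∀ c ∈ s, h5T B₀ (S.g i) (τ' c) = τ c := by
    intro c hc
    simp only [τ', dif_pos hc]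
    exact Classical.choose_spec (hi (τ c) (Finset.mem_image_of_mem _ hc))
  let δ : C₀ → (B₀ ⊗[A₀] S.G i) ⊗[B₀] C₀ := fun c =>
    algebraMap (B₀ ⊗[A₀] S.G i) ((B₀ ⊗[A₀] S.G i) ⊗[B₀] C₀) (τ' c) - 1 ⊗ₜ[B₀] c
  have hδ : ∀ c ∈ s, h5C B₀ C₀ (S.g i) (δ c) = 0 := by
    intro c hc
    simp only [δ, map_sub, h5C_algebraMap, h5C_tmul, map_one, hτ' c hc, hτ c, sub_self]
  obtain ⟨j, F, hF, hFδ⟩ := S.C_kill_fin B₀ C₀ i (s.image δ) (by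
    intro z hz
    obtain ⟨c, hc, rfl⟩ := Finset.mem_image.mp hz
    exact hδ c hc)
  refine ⟨j, h5_surj_crit B₀ C₀ _ (↑s) hs ?_⟩
  intro c hc
  refine ⟨h5T B₀ F (τ' c), ?_⟩
  have h1 := hFδ (δ c) (Finset.mem_image_of_mem _ hc)
  simp only [δ, map_sub, h5C_algebraMap, h5C_tmul, map_one, sub_eq_zero] at h1
  exact h1

/-- A retraction gives injectivity. -/
theorem h5_inj_of_retract (T : Type u) [CommRing T] [Algebra B₀ T] (h : C₀ →ₐ[B₀] T) :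
    Function.Injective (algebraMap T (T ⊗[B₀] C₀)) := by
  let χ : T ⊗[B₀] C₀ →ₐ[T] T :=
    Algebra.TensorProduct.lift (AlgHom.id T T) h (fun _ _ => Commute.all _ _)
  apply Function.LeftInverse.injective (g := χ)
  intro t
  simpa using χ.commutes t

/-- Descent of algebra maps out of a finitely presented algebra. -/
theorem h5_retract_main (S : H5Sys A₀ A) [Algebra.FinitePresentation B₀ C₀]
    (h : C₀ →ₐ[B₀] B₀ ⊗[A₀] A) : ∃ i, Nonempty (C₀ →ₐ[B₀] B₀ ⊗[A₀] S.G i) := by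
  classical
  obtain ⟨n, I, e, hI⟩ := (Algebra.FinitePresentation.iff (R := B₀) (A := C₀)).mp inferInstance
  obtain ⟨qs, hqs⟩ := hI
  let φ : MvPolynomial (Fin n) B₀ →ₐ[B₀] B₀ ⊗[A₀] A :=
    h.comp (e.toAlgHom.comp (Ideal.Quotient.mkₐ B₀ I))
  let τ : Fin n → B₀ ⊗[A₀] A := fun k => φ (MvPolynomial.X k)
  have hφ : φ = MvPolynomial.aeval τ := MvPolynomial.aeval_unique φ
  have hτq : ∀ q ∈ I, MvPolynomial.aeval τ q = 0 := by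
    intro q hq
    rw [← hφ]
    show h (e (Ideal.Quotient.mk I q)) = 0
    rw [Ideal.Quotient.eq_zero_iff_mem.mpr hq, map_zero, map_zero]
  obtain ⟨i, hi⟩ := S.T_lift_fin B₀ (Finset.univ.image τ)
  let τ' : Fin n → B₀ ⊗[A₀] S.G i := fun k =>
    Classical.choose (hi (τ k) (Finset.mem_image_of_mem _ (Finset.mem_univ k)))
  have hτ' : ∀ k, h5T B₀ (S.g i) (τ' k) = τ k := fun k =>
    Classical.choose_spec (hi (τ k) (Finset.mem_image_of_mem _ (Finset.mem_univ k)))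
  have hε : ∀ q ∈ qs, h5T B₀ (S.g i) (MvPolynomial.aeval τ' q) = 0 := by
    intro q hq
    have h1 : (h5T B₀ (S.g i)).comp (MvPolynomial.aeval τ') = MvPolynomial.aeval τ := by
      rw [MvPolynomial.comp_aeval]
      congr 1
      funext k
      exact hτ' k
    rw [← AlgHom.comp_apply, h1]
    refine hτq q ?_
    rw [← hqs]
    exact Ideal.subset_span hq
  obtain ⟨j, F, hF, hFε⟩ := S.T_kill_fin B₀ i (qs.image (MvPolynomial.aeval τ')) (by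
    intro z hz
    obtain ⟨q, hq, rfl⟩ := Finset.mem_image.mp hz
    exact hε q hq)
  let t : Fin n → B₀ ⊗[A₀] S.G j := fun k => h5T B₀ F (τ' k)
  have hcomp : (h5T B₀ F).comp (MvPolynomial.aeval τ') = MvPolynomial.aeval t :=
    MvPolynomial.comp_aeval (f := τ') (h5T B₀ F)
  have hle : I ≤ RingHom.ker (MvPolynomial.aeval t : MvPolynomial (Fin n) B₀ →ₐ[B₀] _) := by
    rw [← hqs, Ideal.span_le]
    intro q hq
    rw [SetLike.mem_coe, RingHom.mem_ker, ← hcomp]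
    exact hFε _ (Finset.mem_image_of_mem _ hq)
  exact ⟨j, ⟨(Ideal.Quotient.liftₐ I (MvPolynomial.aeval t)
    (fun q hq => RingHom.mem_ker.mp (hle hq))).comp e.symm.toAlgHom⟩⟩

/-- Descent of bijectivity to a finite stage. -/
theorem h5_bij_main (S : H5Sys A₀ A) [Algebra.FinitePresentation B₀ C₀]
    (h : Function.Bijective (algebraMap (B₀ ⊗[A₀] A) ((B₀ ⊗[A₀] A) ⊗[B₀] C₀))) :
    ∃ i, Function.Bijective
      (algebraMap (B₀ ⊗[A₀] S.G i) ((B₀ ⊗[A₀] S.G i) ⊗[B₀] C₀)) := by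
  haveI : Algebra.FiniteType B₀ C₀ := inferInstance
  obtain ⟨i₁, h₁⟩ := h5_surj_main B₀ C₀ S h.2
  let eA : (B₀ ⊗[A₀] A) ≃ₐ[B₀] ((B₀ ⊗[A₀] A) ⊗[B₀] C₀) :=
    AlgEquiv.ofBijective (IsScalarTower.toAlgHom B₀ _ _) h
  obtain ⟨i₂, ⟨h₂⟩⟩ := h5_retract_main B₀ C₀ S
    (eA.symm.toAlgHom.comp (Algebra.TensorProduct.includeRight : C₀ →ₐ[B₀] _))
  obtain ⟨k, F₁, F₂, -, -⟩ := S.lift2 i₁ i₂
  exact ⟨k, h5_inj_of_retract B₀ C₀ _ ((h5T B₀ F₂).comp h₂), h5_surj_of_hom B₀ C₀ F₁ h₁⟩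

end CAlg
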