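import Mathlib
import Groth.Agent.Lib.helper5.ColimSys2

set_option autoImplicit false
universe u

namespace CAlg
open TensorProduct

attribute [local instance] Algebra.TensorProduct.rightAlgebra

variable {A₀ : Type u} [CommRing A₀] {A : Type u} [CommRing A] [Algebra A₀ A]
variable (B₀ : Type u) [CommRing B₀] [Algebra A₀ B₀]
variable (C₀ : Type u) [CommRing C₀] [Algebra A₀ C₀] [Algebra B₀ C₀] [IsScalarTower A₀ B₀ C₀]

theorem h5C_comp_algebraMap {G G' : Type u} [CommRing G] [Algebra A₀ G] [CommRing G']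
    [Algebra A₀ G'] (α : G →ₐ[A₀] G') :
    (h5C B₀ C₀ α).toRingHom.comp (algebraMap (B₀ ⊗[A₀] G) ((B₀ ⊗[A₀] G) ⊗[B₀] C₀)) =
      (algebraMap (B₀ ⊗[A₀] G') ((B₀ ⊗[A₀] G') ⊗[B₀] C₀)).comp (h5T B₀ α).toRingHom := by
  exact RingHom.ext fun t => h5C_algebraMap B₀ C₀ α t

theorem h5C_one_tmul {G G' : Type u} [CommRing G] [Algebra A₀ G] [CommRing G']
    [Algebra A₀ G'] (α : G →ₐ[A₀] G') (c : C₀) :
    (h5C B₀ C₀ α).toRingHom ((1 : B₀ ⊗[A₀] G) ⊗ₜ[B₀] c) = (1 : B₀ ⊗[A₀] G') ⊗ₜ[B₀] c := by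
  show h5C B₀ C₀ α _ = _
  rw [h5C_tmul, map_one]

/-- Descent of module-finiteness to a finite stage. -/
theorem h5_finite_main (S : H5Sys A₀ A) [Algebra.FiniteType B₀ C₀]
    (h : Module.Finite (B₀ ⊗[A₀] A) ((B₀ ⊗[A₀] A) ⊗[B₀] C₀)) :
    ∃ i, Module.Finite (B₀ ⊗[A₀] S.G i) ((B₀ ⊗[A₀] S.G i) ⊗[B₀] C₀) := by
  classical
  obtain ⟨s, hs⟩ := (Algebra.FiniteType.out : (⊤ : Subalgebra B₀ C₀).FG)
  have hint : ∀ c : C₀, ∃ p : Polynomial (B₀ ⊗[A₀] A), p.Monic ∧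
      Polynomial.eval₂ (algebraMap (B₀ ⊗[A₀] A) ((B₀ ⊗[A₀] A) ⊗[B₀] C₀))
        ((1 : B₀ ⊗[A₀] A) ⊗ₜ[B₀] c) p = 0 :=
    fun c => (Algebra.IsIntegral.of_finite (B₀ ⊗[A₀] A) ((B₀ ⊗[A₀] A) ⊗[B₀] C₀)).isIntegral _
  choose p hpm hp0 using hint
  obtain ⟨i, hi⟩ := S.T_lift_fin B₀ (s.biUnion fun c => (p c).coeffs)
  have hq : ∀ c ∈ s, ∃ q : Polynomial (B₀ ⊗[A₀] S.G i),
      q.map (h5T B₀ (S.g i)).toRingHom = p c ∧ q.Monic := by
    intro c hc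
    have hl : p c ∈ Polynomial.lifts (h5T B₀ (S.g i)).toRingHom := by
      rw [Polynomial.lifts_iff_coeff_lifts]
      intro n
      by_cases hn : (p c).coeff n = 0
      · exact ⟨0, by rw [hn]; exact map_zero _⟩
      · obtain ⟨t, ht⟩ := hi _ (Finset.mem_biUnion.mpr ⟨c, hc, Polynomial.coeff_mem_coeffs hn⟩)
        exact ⟨t, ht⟩
    obtain ⟨q, hq1, -, hq2⟩ := Polynomial.lifts_and_natDegree_eq_and_monic hl (hpm c)
    exact ⟨q, hq1, hq2⟩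
  choose! q hq1 hq2 using hq
  let ε : C₀ → (B₀ ⊗[A₀] S.G i) ⊗[B₀] C₀ := fun c =>
    Polynomial.eval₂ (algebraMap (B₀ ⊗[A₀] S.G i) ((B₀ ⊗[A₀] S.G i) ⊗[B₀] C₀))
      ((1 : B₀ ⊗[A₀] S.G i) ⊗ₜ[B₀] c) (q c)
  have hε : ∀ c ∈ s, h5C B₀ C₀ (S.g i) (ε c) = 0 := by
    intro c hc
    show (h5C B₀ C₀ (S.g i)).toRingHom (Polynomial.eval₂ _ _ (q c)) = 0
    rw [Polynomial.hom_eval₂, h5C_comp_algebraMap, h5C_one_tmul, ← Polynomial.eval₂_map,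
      hq1 c hc]
    exact hp0 c
  obtain ⟨j, F, hF, hFε⟩ := S.C_kill_fin B₀ C₀ i (s.image ε) (by
    intro z hz
    obtain ⟨c, hc, rfl⟩ := Finset.mem_image.mp hz
    exact hε c hc)
  refine ⟨j, ?_⟩
  have hint' : ∀ x ∈ (((1 : B₀ ⊗[A₀] S.G j) ⊗ₜ[B₀] ·) '' (s : Set C₀)),
      IsIntegral (B₀ ⊗[A₀] S.G j) x := by
    rintro _ ⟨c, hc, rfl⟩
    refine ⟨(q c).map (h5T B₀ F).toRingHom, (hq2 c hc).map _, ?_⟩
    have h1 := hFε (ε c) (Finset.mem_image_of_mem _ hc)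
    change (h5C B₀ C₀ F).toRingHom (Polynomial.eval₂ _ _ (q c)) = 0 at h1
    rw [Polynomial.hom_eval₂, h5C_comp_algebraMap, h5C_one_tmul, ← Polynomial.eval₂_map] at h1
    exact h1
  have hfg := fg_adjoin_of_finite ((s.finite_toSet).image _) hint'
  have h1 := Algebra.TensorProduct.adjoin_one_tmul_image_eq_top (A := B₀ ⊗[A₀] S.G j)
    (s : Set C₀) hs
  rw [h1, Algebra.top_toSubmodule] at hfg
  exact ⟨hfg⟩

/-- A derivation-vanishing criterion for subsingleton differentials. -/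
theorem h5_subsingleton_kaehler_of_adjoin (R T : Type u) [CommRing R] [CommRing T] [Algebra R T]
    (s : Set T) (hs : Algebra.adjoin R s = ⊤)
    (h : ∀ x ∈ s, KaehlerDifferential.D R T x = 0) : Subsingleton Ω[T⁄R] := by
  have hall : ∀ x : T, KaehlerDifferential.D R T x = 0 := by
    intro x
    have hx : x ∈ Algebra.adjoin R s := hs ▸ Algebra.mem_top
    induction hx using Algebra.adjoin_induction with
    | mem x hx => exact h x hx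
    | algebraMap r => exact Derivation.map_algebraMap _ r
    | add x y _ _ hx hy => rw [map_add, hx, hy, add_zero]
    | mul x y _ _ hx hy => rw [Derivation.leibniz, hx, hy, smul_zero, smul_zero, add_zero]
  suffices (⊤ : Submodule T Ω[T⁄R]) ≤ ⊥ from
    (subsingleton_iff_forall_eq 0).mpr fun y ↦ this trivial
  rw [← KaehlerDifferential.span_range_derivation, Submodule.span_le]
  rintro _ ⟨x, rfl⟩
  rw [hall x]
  exact Submodule.zero_mem _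

/-- Descent of unramifiedness to a finite stage. -/
theorem h5_unram_main (S : H5Sys A₀ A) [Algebra.FiniteType B₀ C₀]
    (h : Algebra.Unramified (B₀ ⊗[A₀] A) ((B₀ ⊗[A₀] A) ⊗[B₀] C₀)) :
    ∃ i, Algebra.Unramified (B₀ ⊗[A₀] S.G i) ((B₀ ⊗[A₀] S.G i) ⊗[B₀] C₀) := by
  classical
  obtain ⟨s, hs⟩ := (Algebra.FiniteType.out : (⊤ : Subalgebra B₀ C₀).FG)
  haveI := h.formallyUnramified
  have hsubA : Subsingleton ((B₀ ⊗[A₀] A) ⊗[B₀] Ω[C₀⁄B₀]) :=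
    (KaehlerDifferential.tensorKaehlerEquivBase B₀ (B₀ ⊗[A₀] A) C₀
      ((B₀ ⊗[A₀] A) ⊗[B₀] C₀)).toEquiv.subsingleton_congr.mpr
      inferInstance
  let i₀ := S.ne.some
  let w : C₀ → (B₀ ⊗[A₀] S.G i₀) ⊗[B₀] Ω[C₀⁄B₀] := fun c =>
    (1 : B₀ ⊗[A₀] S.G i₀) ⊗ₜ[B₀] KaehlerDifferential.D B₀ C₀ c
  obtain ⟨j, F, hF, hFw⟩ := S.CM_kill_fin B₀ Ω[C₀⁄B₀] i₀ (s.image w)
    (fun z hz => Subsingleton.elim _ _)
  refine ⟨j, ?_⟩
  have hD : ∀ x ∈ (((1 : B₀ ⊗[A₀] S.G j) ⊗ₜ[B₀] ·) '' (s : Set C₀)),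
      KaehlerDifferential.D (B₀ ⊗[A₀] S.G j) ((B₀ ⊗[A₀] S.G j) ⊗[B₀] C₀) x = 0 := by
    rintro _ ⟨c, hc, rfl⟩
    have h1 := hFw (w c) (Finset.mem_image_of_mem _ hc)
    simp only [w, h5CM_tmul, map_one] at h1
    have h2 := congrArg (KaehlerDifferential.tensorKaehlerEquivBase B₀ (B₀ ⊗[A₀] S.G j) C₀
      ((B₀ ⊗[A₀] S.G j) ⊗[B₀] C₀)) h1
    rw [KaehlerDifferential.tensorKaehlerEquivBase_tmul, one_smul, KaehlerDifferential.map_D,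
      map_zero] at h2
    exact h2
  have hsub := h5_subsingleton_kaehler_of_adjoin (B₀ ⊗[A₀] S.G j) ((B₀ ⊗[A₀] S.G j) ⊗[B₀] C₀) _
    (Algebra.TensorProduct.adjoin_one_tmul_image_eq_top (A := B₀ ⊗[A₀] S.G j) (↑s) hs) hD
  exact { formallyUnramified := ⟨hsub⟩
          finiteType := inferInstance }

end CAlg
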