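import Mathlib
import Groth.Agent.Lib.helper5.ColimSys2

set_option autoImplicit false
universe u

namespace CAlg
open TensorProduct

variable {A₀ : Type u} [CommRing A₀] {A : Type u} [CommRing A] [Algebra A₀ A]
variable (B₀ : Type u) [CommRing B₀] [Algebra A₀ B₀]
variable (C₀ : Type u) [CommRing C₀] [Algebra A₀ C₀] [Algebra B₀ C₀] [IsScalarTower A₀ B₀ C₀]

theorem h5C_comp {G G' G'' : Type u} [CommRing G] [Algebra A₀ G] [CommRing G'] [Algebra A₀ G']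
    [CommRing G''] [Algebra A₀ G''] (α : G →ₐ[A₀] G') (β : G' →ₐ[A₀] G'')
    (z : (B₀ ⊗[A₀] G) ⊗[B₀] C₀) :
    h5C B₀ C₀ (β.comp α) z = h5C B₀ C₀ β (h5C B₀ C₀ α z) := by
  rw [h5C_eq_CM, h5C_eq_CM, h5C_eq_CM, h5CM_comp]

theorem h5C_comp' {G G' G'' : Type u} [CommRing G] [Algebra A₀ G] [CommRing G'] [Algebra A₀ G']
    [CommRing G''] [Algebra A₀ G''] (α : G →ₐ[A₀] G') (β : G' →ₐ[A₀] G'') :
    h5C B₀ C₀ (β.comp α) = (h5C B₀ C₀ β).comp (h5C B₀ C₀ α) :=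
  AlgHom.ext fun z => h5C_comp B₀ C₀ α β z

/-- Every element of `(B₀ ⊗ A) ⊗[B₀] C₀` comes from some stage. -/
theorem H5Sys.C_lift (S : H5Sys A₀ A) (z : (B₀ ⊗[A₀] A) ⊗[B₀] C₀) :
    ∃ i, ∃ z' : (B₀ ⊗[A₀] S.G i) ⊗[B₀] C₀, h5C B₀ C₀ (S.g i) z' = z := by
  induction z using TensorProduct.induction_on with
  | zero => exact ⟨S.ne.some, 0, map_zero _⟩
  | tmul t c =>
    obtain ⟨i, t', rfl⟩ := S.T_lift B₀ t
    exact ⟨i, t' ⊗ₜ c, by simp⟩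
  | add a b ha hb =>
    obtain ⟨i, a', rfl⟩ := ha
    obtain ⟨j, b', rfl⟩ := hb
    obtain ⟨k, F₁, F₂, h₁, h₂⟩ := S.lift2 i j
    refine ⟨k, h5C B₀ C₀ F₁ a' + h5C B₀ C₀ F₂ b', ?_⟩
    rw [map_add, ← h5C_comp, ← h5C_comp, h₁, h₂]

theorem H5Sys.C_lift_fin (S : H5Sys A₀ A) (s : Finset ((B₀ ⊗[A₀] A) ⊗[B₀] C₀)) :
    ∃ i, ∀ z ∈ s, ∃ z' : (B₀ ⊗[A₀] S.G i) ⊗[B₀] C₀, h5C B₀ C₀ (S.g i) z' = z := by
  refine S.fin_unif (fun i (z : (B₀ ⊗[A₀] A) ⊗[B₀] C₀) =>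
    ∃ z' : (B₀ ⊗[A₀] S.G i) ⊗[B₀] C₀, h5C B₀ C₀ (S.g i) z' = z) ?_ (S.C_lift B₀ C₀) s
  rintro i j F hF z ⟨z', rfl⟩
  exact ⟨h5C B₀ C₀ F z', by rw [← h5C_comp, hF]⟩

variable (D₀ : Type u) [CommRing D₀] [Algebra A₀ D₀] [Algebra B₀ D₀] [IsScalarTower A₀ B₀ D₀]

/-- Descent of algebra maps out of a finitely presented algebra into `(B₀ ⊗ -) ⊗[B₀] D₀`. -/
theorem h5_hom_descend (S : H5Sys A₀ A) [Algebra.FinitePresentation B₀ C₀]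
    (h : C₀ →ₐ[B₀] (B₀ ⊗[A₀] A) ⊗[B₀] D₀) :
    ∃ i, ∃ hi : C₀ →ₐ[B₀] (B₀ ⊗[A₀] S.G i) ⊗[B₀] D₀, (h5C B₀ D₀ (S.g i)).comp hi = h := by
  classical
  obtain ⟨n, I, e, hI⟩ := (Algebra.FinitePresentation.iff (R := B₀) (A := C₀)).mp inferInstance
  obtain ⟨qs, hqs⟩ := hI
  let φ : MvPolynomial (Fin n) B₀ →ₐ[B₀] (B₀ ⊗[A₀] A) ⊗[B₀] D₀ :=
    h.comp (e.toAlgHom.comp (Ideal.Quotient.mkₐ B₀ I))
  let τ : Fin n → (B₀ ⊗[A₀] A) ⊗[B₀] D₀ := fun k => φ (MvPolynomial.X k)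
  have hφ : φ = MvPolynomial.aeval τ := MvPolynomial.aeval_unique φ
  have hτq : ∀ q ∈ I, MvPolynomial.aeval τ q = 0 := by
    intro q hq
    rw [← hφ]
    show h (e (Ideal.Quotient.mk I q)) = 0
    rw [Ideal.Quotient.eq_zero_iff_mem.mpr hq, map_zero, map_zero]
  obtain ⟨i, hi⟩ := S.C_lift_fin B₀ D₀ (Finset.univ.image τ)
  let τ' : Fin n → (B₀ ⊗[A₀] S.G i) ⊗[B₀] D₀ := fun k =>
    Classical.choose (hi (τ k) (Finset.mem_image_of_mem _ (Finset.mem_univ k)))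
  have hτ' : ∀ k, h5C B₀ D₀ (S.g i) (τ' k) = τ k := fun k =>
    Classical.choose_spec (hi (τ k) (Finset.mem_image_of_mem _ (Finset.mem_univ k)))
  have hε : ∀ q ∈ qs, h5C B₀ D₀ (S.g i) (MvPolynomial.aeval τ' q) = 0 := by
    intro q hq
    have h1 : (h5C B₀ D₀ (S.g i)).comp (MvPolynomial.aeval τ') = MvPolynomial.aeval τ := by
      rw [MvPolynomial.comp_aeval]
      congr 1
      funext k
      exact hτ' k
    rw [← AlgHom.comp_apply, h1]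
    refine hτq q ?_
    rw [← hqs]
    exact Ideal.subset_span hq
  obtain ⟨j, F, hF, hFε⟩ := S.C_kill_fin B₀ D₀ i (qs.image (MvPolynomial.aeval τ')) (by
    intro z hz
    obtain ⟨q, hq, rfl⟩ := Finset.mem_image.mp hz
    exact hε q hq)
  let t : Fin n → (B₀ ⊗[A₀] S.G j) ⊗[B₀] D₀ := fun k => h5C B₀ D₀ F (τ' k)
  have hcomp : (h5C B₀ D₀ F).comp (MvPolynomial.aeval τ') = MvPolynomial.aeval t :=
    MvPolynomial.comp_aeval (f := τ') (h5C B₀ D₀ F)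
  have hle : I ≤ RingHom.ker (MvPolynomial.aeval t : MvPolynomial (Fin n) B₀ →ₐ[B₀] _) := by
    rw [← hqs, Ideal.span_le]
    intro q hq
    rw [SetLike.mem_coe, RingHom.mem_ker, ← hcomp]
    exact hFε _ (Finset.mem_image_of_mem _ hq)
  have hker : ∀ q ∈ I, MvPolynomial.aeval t q = 0 := fun q hq => RingHom.mem_ker.mp (hle hq)
  let hj : C₀ →ₐ[B₀] (B₀ ⊗[A₀] S.G j) ⊗[B₀] D₀ :=
    (Ideal.Quotient.liftₐ I (MvPolynomial.aeval t) hker).comp e.symm.toAlgHom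
  have hj_apply : ∀ p, hj (e (Ideal.Quotient.mk I p)) = MvPolynomial.aeval t p := by
    intro p
    show Ideal.Quotient.liftₐ I (MvPolynomial.aeval t) hker
      (e.symm (e (Ideal.Quotient.mk I p))) = _
    rw [AlgEquiv.symm_apply_apply]
    rfl
  refine ⟨j, hj, ?_⟩
  have hsurjπ : Function.Surjective (e.toAlgHom.comp (Ideal.Quotient.mkₐ B₀ I)) := by
    intro c
    obtain ⟨x, rfl⟩ := e.surjective c
    obtain ⟨p, rfl⟩ := Ideal.Quotient.mk_surjective x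
    exact ⟨p, rfl⟩
  rw [← AlgHom.cancel_right hsurjπ]
  apply MvPolynomial.algHom_ext
  intro k
  show h5C B₀ D₀ (S.g j) (hj (e (Ideal.Quotient.mk I (MvPolynomial.X k)))) =
    φ (MvPolynomial.X k)
  rw [hj_apply, MvPolynomial.aeval_X]
  show h5C B₀ D₀ (S.g j) (h5C B₀ D₀ F (τ' k)) = τ k
  rw [← h5C_comp, hF, hτ']

/-- Two maps out of a finite type algebra which agree in the colimit agree at a finite stage. -/
theorem h5_hom_eq_descend (S : H5Sys A₀ A) [Algebra.FiniteType B₀ C₀] (i : S.ι)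
    (φ ψ : C₀ →ₐ[B₀] (B₀ ⊗[A₀] S.G i) ⊗[B₀] D₀)
    (h : (h5C B₀ D₀ (S.g i)).comp φ = (h5C B₀ D₀ (S.g i)).comp ψ) :
    ∃ j, ∃ F : S.G i →ₐ[A₀] S.G j, (S.g j).comp F = S.g i ∧
      (h5C B₀ D₀ F).comp φ = (h5C B₀ D₀ F).comp ψ := by
  classical
  obtain ⟨s, hs⟩ := (Algebra.FiniteType.out : (⊤ : Subalgebra B₀ C₀).FG)
  obtain ⟨j, F, hF, hFδ⟩ := S.C_kill_fin B₀ D₀ i (s.image fun c => φ c - ψ c) (by
    intro z hz
    obtain ⟨c, -, rfl⟩ := Finset.mem_image.mp hz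
    rw [map_sub, sub_eq_zero]
    exact AlgHom.congr_fun h c)
  refine ⟨j, F, hF, AlgHom.ext_of_adjoin_eq_top hs ?_⟩
  intro c hc
  have h1 := hFδ _ (Finset.mem_image_of_mem _ hc)
  rw [map_sub, sub_eq_zero] at h1
  exact h1

end CAlg
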