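import Mathlib
import Groth.Agent.Lib.helper5.ColimSys4

set_option autoImplicit false
universe u

namespace CAlg
open TensorProduct

variable {A₀ : Type u} [CommRing A₀] {A : Type u} [CommRing A] [Algebra A₀ A]
variable (B₀ : Type u) [CommRing B₀] [Algebra A₀ B₀]
variable (C₀ : Type u) [CommRing C₀] [Algebra A₀ C₀] [Algebra B₀ C₀] [IsScalarTower A₀ B₀ C₀]
variable (D₀ : Type u) [CommRing D₀] [Algebra A₀ D₀] [Algebra B₀ D₀] [IsScalarTower A₀ B₀ D₀]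
variable (p : D₀ →ₐ[B₀] C₀)

/-- The base change of `p : D₀ → C₀` to `B₀ ⊗ G`. -/
noncomputable def h5P (G : Type u) [CommRing G] [Algebra A₀ G] :
    ((B₀ ⊗[A₀] G) ⊗[B₀] D₀) →ₐ[B₀ ⊗[A₀] G] ((B₀ ⊗[A₀] G) ⊗[B₀] C₀) :=
  Algebra.TensorProduct.map (AlgHom.id (B₀ ⊗[A₀] G) (B₀ ⊗[A₀] G)) p

@[simp] theorem h5P_tmul (G : Type u) [CommRing G] [Algebra A₀ G] (t : B₀ ⊗[A₀] G) (d : D₀) :
    h5P B₀ C₀ D₀ p G (t ⊗ₜ[B₀] d) = t ⊗ₜ[B₀] p d := by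
  simp [h5P]

theorem h5P_nat {G G' : Type u} [CommRing G] [Algebra A₀ G] [CommRing G'] [Algebra A₀ G']
    (α : G →ₐ[A₀] G') (w : (B₀ ⊗[A₀] G) ⊗[B₀] D₀) :
    h5C B₀ C₀ α (h5P B₀ C₀ D₀ p G w) = h5P B₀ C₀ D₀ p G' (h5C B₀ D₀ α w) := by
  induction w using TensorProduct.induction_on with
  | zero => simp
  | tmul t d => simp
  | add a b ha hb => simp only [map_add, ha, hb]

variable (A₀) in
/-- The finite-level datum witnessing smoothness. -/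
def h5Sm (G : Type u) [CommRing G] [Algebra A₀ G] : Prop :=
  ∃ h : C₀ →ₐ[B₀] (B₀ ⊗[A₀] G) ⊗[B₀] D₀,
    ∀ c, h5P B₀ C₀ D₀ p G (h c) = (1 : B₀ ⊗[A₀] G) ⊗ₜ[B₀] c

theorem h5Sm_of_hom {G G' : Type u} [CommRing G] [Algebra A₀ G] [CommRing G'] [Algebra A₀ G']
    (α : G →ₐ[A₀] G') (h : h5Sm A₀ B₀ C₀ D₀ p G) : h5Sm A₀ B₀ C₀ D₀ p G' := by
  obtain ⟨h, hh⟩ := h
  refine ⟨(h5C B₀ D₀ α).comp h, fun c => ?_⟩
  show h5P B₀ C₀ D₀ p G' (h5C B₀ D₀ α (h c)) = _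
  rw [← h5P_nat, hh c, h5C_tmul, map_one]

theorem h5Sm_descend (S : H5Sys A₀ A) [Algebra.FinitePresentation B₀ C₀]
    (h : h5Sm A₀ B₀ C₀ D₀ p A) : ∃ i, h5Sm A₀ B₀ C₀ D₀ p (S.G i) := by
  obtain ⟨hA, hhA⟩ := h
  obtain ⟨i, hi, hhi⟩ := h5_hom_descend B₀ C₀ D₀ S hA
  let φ : C₀ →ₐ[B₀] (B₀ ⊗[A₀] S.G i) ⊗[B₀] C₀ :=
    ((h5P (A₀ := A₀) B₀ C₀ D₀ p (S.G i)).restrictScalars B₀).comp hi
  let χ : C₀ →ₐ[B₀] (B₀ ⊗[A₀] S.G i) ⊗[B₀] C₀ := Algebra.TensorProduct.includeRight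
  have hφχ : (h5C B₀ C₀ (S.g i)).comp φ = (h5C B₀ C₀ (S.g i)).comp χ := by
    ext c
    show h5C B₀ C₀ (S.g i) (h5P B₀ C₀ D₀ p (S.G i) (hi c)) =
      h5C B₀ C₀ (S.g i) ((1 : B₀ ⊗[A₀] S.G i) ⊗ₜ[B₀] c)
    rw [h5P_nat, h5C_tmul, map_one]
    have h1 : h5C B₀ D₀ (S.g i) (hi c) = hA c := AlgHom.congr_fun hhi c
    rw [h1, hhA c]
  obtain ⟨j, F, hF, hFφχ⟩ := h5_hom_eq_descend B₀ C₀ C₀ S i φ χ hφχ
  refine ⟨j, (h5C B₀ D₀ F).comp hi, fun c => ?_⟩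
  show h5P B₀ C₀ D₀ p (S.G j) (h5C B₀ D₀ F (hi c)) = _
  rw [← h5P_nat]
  have h2 := AlgHom.congr_fun hFφχ c
  have h3 : h5C B₀ C₀ F (h5P B₀ C₀ D₀ p (S.G i) (hi c)) =
      h5C B₀ C₀ F ((1 : B₀ ⊗[A₀] S.G i) ⊗ₜ[B₀] c) := h2
  rw [h3, h5C_tmul, map_one]

end CAlg

namespace CAlg
open TensorProduct

theorem h5_ker_pow_eq_bot {X Y : Type u} [CommRing X] [CommRing Y] (K : Ideal X) (n : ℕ)
    (f : X ⧸ K ^ n →+* Y) (hf : ∀ a, f (Ideal.Quotient.mk (K ^ n) a) = 0 → a ∈ K) :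
    RingHom.ker f ^ n = ⊥ := by
  rw [eq_bot_iff]
  have h1 : RingHom.ker f ≤ K.map (Ideal.Quotient.mk (K ^ n)) := by
    intro x hx
    obtain ⟨a, rfl⟩ := Ideal.Quotient.mk_surjective x
    exact Ideal.mem_map_of_mem _ (hf a ((RingHom.mem_ker).mp hx))
  calc RingHom.ker f ^ n ≤ (K.map (Ideal.Quotient.mk (K ^ n))) ^ n := Ideal.pow_right_mono h1 n
    _ = (K ^ n).map (Ideal.Quotient.mk (K ^ n)) := (Ideal.map_pow _ _ _).symm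
    _ = ⊥ := Ideal.map_quotient_self _

variable {A₀ : Type u} [CommRing A₀]
variable (B₀ : Type u) [CommRing B₀] [Algebra A₀ B₀]
variable (C₀ : Type u) [CommRing C₀] [Algebra A₀ C₀] [Algebra B₀ C₀] [IsScalarTower A₀ B₀ C₀]
variable (D₀ : Type u) [CommRing D₀] [Algebra A₀ D₀] [Algebra B₀ D₀] [IsScalarTower A₀ B₀ D₀]
variable (p : D₀ →ₐ[B₀] C₀)

theorem h5Sm_of_formallySmooth (G : Type u) [CommRing G] [Algebra A₀ G]
    (hp : Function.Surjective p) (hp2 : RingHom.ker p ^ 2 = ⊥)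
    [Algebra.FormallySmooth (B₀ ⊗[A₀] G) ((B₀ ⊗[A₀] G) ⊗[B₀] C₀)] :
    h5Sm A₀ B₀ C₀ D₀ p G := by
  have hsurj : Function.Surjective (h5P (A₀ := A₀) B₀ C₀ D₀ p G) := by
    show Function.Surjective
      (TensorProduct.map (AlgHom.id B₀ (B₀ ⊗[A₀] G)).toLinearMap p.toLinearMap)
    apply TensorProduct.map_surjective
    · exact Function.surjective_id
    · exact hp
  have hker : RingHom.ker (h5P (A₀ := A₀) B₀ C₀ D₀ p G) =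
      (RingHom.ker p).map
        (Algebra.TensorProduct.includeRight : D₀ →ₐ[B₀] (B₀ ⊗[A₀] G) ⊗[B₀] D₀) :=
    Algebra.TensorProduct.lTensor_ker p hp
  have hnil : IsNilpotent (RingHom.ker
      (h5P (A₀ := A₀) B₀ C₀ D₀ p G : ((B₀ ⊗[A₀] G) ⊗[B₀] D₀) →+* ((B₀ ⊗[A₀] G) ⊗[B₀] C₀))) := by
    refine ⟨2, ?_⟩
    show RingHom.ker (h5P (A₀ := A₀) B₀ C₀ D₀ p G) ^ 2 = ⊥
    rw [hker, ← Ideal.map_pow, hp2, Ideal.map_bot]
  refine ⟨((Algebra.FormallySmooth.liftOfSurjective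
    (AlgHom.id (B₀ ⊗[A₀] G) ((B₀ ⊗[A₀] G) ⊗[B₀] C₀)) (h5P (A₀ := A₀) B₀ C₀ D₀ p G)
    hsurj hnil).restrictScalars B₀).comp Algebra.TensorProduct.includeRight, fun c => ?_⟩
  exact Algebra.FormallySmooth.liftOfSurjective_apply _ _ hsurj hnil _

end CAlg

namespace CAlg
open TensorProduct

variable (B₀ : Type u) [CommRing B₀]
variable (C₀ : Type u) [CommRing C₀] [Algebra B₀ C₀]

/-- The canonical map `P₀ ⧸ I ^ 2 → C₀` attached to a presentation `P₀ ⧸ I ≃ C₀`. -/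
noncomputable def h5pI {n : ℕ} (I : Ideal (MvPolynomial (Fin n) B₀))
    (e : (MvPolynomial (Fin n) B₀ ⧸ I) ≃ₐ[B₀] C₀) :
    (MvPolynomial (Fin n) B₀ ⧸ I ^ 2) →ₐ[B₀] C₀ :=
  e.toAlgHom.comp (Ideal.Quotient.factorₐ B₀ (Ideal.pow_le_self two_ne_zero))

theorem h5pI_mk {n : ℕ} (I : Ideal (MvPolynomial (Fin n) B₀))
    (e : (MvPolynomial (Fin n) B₀ ⧸ I) ≃ₐ[B₀] C₀) (x : MvPolynomial (Fin n) B₀) :
    h5pI B₀ C₀ I e (Ideal.Quotient.mk (I ^ 2) x) = e (Ideal.Quotient.mk I x) := rfl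

theorem h5pI_surjective {n : ℕ} (I : Ideal (MvPolynomial (Fin n) B₀))
    (e : (MvPolynomial (Fin n) B₀ ⧸ I) ≃ₐ[B₀] C₀) : Function.Surjective (h5pI B₀ C₀ I e) := by
  intro c
  obtain ⟨y, rfl⟩ := e.surjective c
  obtain ⟨x, rfl⟩ := Ideal.Quotient.mk_surjective y
  exact ⟨Ideal.Quotient.mk (I ^ 2) x, h5pI_mk B₀ C₀ I e x⟩

theorem h5pI_ker_sq {n : ℕ} (I : Ideal (MvPolynomial (Fin n) B₀))
    (e : (MvPolynomial (Fin n) B₀ ⧸ I) ≃ₐ[B₀] C₀) : RingHom.ker (h5pI B₀ C₀ I e) ^ 2 = ⊥ := by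
  have := h5_ker_pow_eq_bot I 2 (h5pI B₀ C₀ I e : _ →+* C₀) (fun a ha => by
    have h1 : e (Ideal.Quotient.mk I a) = 0 := ha
    rw [← map_zero e] at h1
    exact Ideal.Quotient.eq_zero_iff_mem.mp (e.injective h1))
  exact this

/-- A section of `T ⊗ (P₀ ⧸ I²) → T ⊗ C₀` gives formal smoothness. -/
theorem h5_formallySmooth_of_section (T : Type u) [CommRing T] [Algebra B₀ T] {n : ℕ}
    (I : Ideal (MvPolynomial (Fin n) B₀)) (e : (MvPolynomial (Fin n) B₀ ⧸ I) ≃ₐ[B₀] C₀)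
    (h : C₀ →ₐ[B₀] T ⊗[B₀] (MvPolynomial (Fin n) B₀ ⧸ I ^ 2))
    (hh : ∀ c, Algebra.TensorProduct.map (AlgHom.id T T) (h5pI B₀ C₀ I e) (h c) =
      (1 : T) ⊗ₜ[B₀] c) :
    Algebra.FormallySmooth T (T ⊗[B₀] C₀) := by
  classical
  let π : MvPolynomial (Fin n) B₀ →ₐ[B₀] C₀ := e.toAlgHom.comp (Ideal.Quotient.mkₐ B₀ I)
  have hπ : ∀ x, π x = e (Ideal.Quotient.mk I x) := fun x => rfl
  have hπI : ∀ x ∈ I, π x = 0 := fun x hx => by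
    rw [hπ, Ideal.Quotient.eq_zero_iff_mem.mpr hx, map_zero]
  let f : T ⊗[B₀] MvPolynomial (Fin n) B₀ →ₐ[T] T ⊗[B₀] C₀ :=
    Algebra.TensorProduct.map (AlgHom.id T T) π
  have hf_tmul : ∀ t x, f (t ⊗ₜ[B₀] x) = t ⊗ₜ[B₀] π x := fun t x => by simp [f]
  let incl : MvPolynomial (Fin n) B₀ →ₐ[B₀] T ⊗[B₀] MvPolynomial (Fin n) B₀ :=
    Algebra.TensorProduct.includeRight
  have hincl : ∀ x, incl x = (1 : T) ⊗ₜ[B₀] x := fun x => rfl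
  have hIK : I ≤ (RingHom.ker f.toRingHom).comap incl := by
    intro x hx
    rw [Ideal.mem_comap, RingHom.mem_ker]
    show f (incl x) = 0
    rw [hincl, hf_tmul, hπI x hx, TensorProduct.tmul_zero]
  have hI2K2 : I ^ 2 ≤ ((RingHom.ker f.toRingHom) ^ 2).comap incl :=
    (Ideal.pow_right_mono hIK 2).trans (Ideal.le_comap_pow _ 2)
  let κ₀ : (MvPolynomial (Fin n) B₀ ⧸ I ^ 2) →ₐ[B₀]
      (T ⊗[B₀] MvPolynomial (Fin n) B₀) ⧸ (RingHom.ker f.toRingHom) ^ 2 :=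
    Ideal.Quotient.liftₐ (I ^ 2)
      ((Ideal.Quotient.mkₐ B₀ ((RingHom.ker f.toRingHom) ^ 2)).comp incl) (fun x hx => by
        show Ideal.Quotient.mk ((RingHom.ker f.toRingHom) ^ 2) (incl x) = 0
        exact Ideal.Quotient.eq_zero_iff_mem.mpr (hI2K2 hx))
  have hκ₀ : ∀ x, κ₀ (Ideal.Quotient.mk (I ^ 2) x) =
      Ideal.Quotient.mk ((RingHom.ker f.toRingHom) ^ 2) (incl x) := fun x => rfl
  let κ : T ⊗[B₀] (MvPolynomial (Fin n) B₀ ⧸ I ^ 2) →ₐ[T]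
      (T ⊗[B₀] MvPolynomial (Fin n) B₀) ⧸ (RingHom.ker f.toRingHom) ^ 2 :=
    Algebra.TensorProduct.lift (Algebra.ofId T _) κ₀ (fun a b => by
      show _ * _ = _ * _
      exact mul_comm
        (G := (T ⊗[B₀] MvPolynomial (Fin n) B₀) ⧸ (RingHom.ker f.toRingHom) ^ 2) _ _)
  have hκ : ∀ t d, κ (t ⊗ₜ[B₀] d) = algebraMap T _ t * κ₀ d := fun t d => by
    show Algebra.TensorProduct.lift _ _ _ (t ⊗ₜ[B₀] d) = _
    rw [Algebra.TensorProduct.lift_tmul]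
    rfl
  let σ : T ⊗[B₀] C₀ →ₐ[T] T ⊗[B₀] (MvPolynomial (Fin n) B₀ ⧸ I ^ 2) :=
    Algebra.TensorProduct.lift (Algebra.ofId T _) h (fun a b => by
      show _ * _ = _ * _
      exact mul_comm (G := T ⊗[B₀] (MvPolynomial (Fin n) B₀ ⧸ I ^ 2)) _ _)
  have hσ : ∀ t c, σ (t ⊗ₜ[B₀] c) = algebraMap T _ t * h c := fun t c => by
    show Algebra.TensorProduct.lift _ _ _ (t ⊗ₜ[B₀] c) = _
    rw [Algebra.TensorProduct.lift_tmul]
    rfl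
  have hstar : ∀ w, f.kerSquareLift (κ w) =
      Algebra.TensorProduct.map (AlgHom.id T T) (h5pI B₀ C₀ I e) w := by
    intro w
    induction w using TensorProduct.induction_on with
    | zero => rw [map_zero, map_zero, map_zero]
    | tmul t d =>
      obtain ⟨x, rfl⟩ := Ideal.Quotient.mk_surjective d
      rw [hκ, hκ₀, map_mul, AlgHom.commutes, AlgHom.kerSquareLift_mk, hincl, hf_tmul,
        Algebra.TensorProduct.map_tmul, h5pI_mk, hπ, Algebra.TensorProduct.algebraMap_apply,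
        Algebra.TensorProduct.tmul_mul_tmul]
      simp
    | add a b ha hb => simp only [map_add, ha, hb]
  apply Algebra.FormallySmooth.of_split f (κ.comp σ)
  apply Algebra.TensorProduct.ext'
  intro t c
  show f.kerSquareLift (κ (σ (t ⊗ₜ[B₀] c))) = t ⊗ₜ[B₀] c
  rw [hσ, map_mul, AlgHom.commutes, map_mul, AlgHom.commutes, hstar, hh c,
    Algebra.TensorProduct.algebraMap_apply, Algebra.TensorProduct.tmul_mul_tmul]
  simp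

end CAlg
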