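import Mathlib
import Groth.Agent.Lib.helper5.ColimSys5

set_option autoImplicit false
universe u

namespace CAlg
open TensorProduct

attribute [local instance] Algebra.TensorProduct.rightAlgebra

/-- A derivation-vanishing criterion for subsingleton differentials. -/
theorem h5_subsingleton_kaehler_of_adjoin' (R T : Type u) [CommRing R] [CommRing T] [Algebra R T]
    (s : Set T) (hs : Algebra.adjoin R s = ⊤)
    (h : ∀ x ∈ s, KaehlerDifferential.D R T x = 0) : Subsingleton Ω[T⁄R] := by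
  have hall : ∀ x : T, KaehlerDifferential.D R T x = 0 := by
    intro x
    have hx : x ∈ Algebra.adjoin R s := hs ▸ Algebra.mem_top
    induction hx using Algebra.adjoin_induction with
    | mem x hx => exact h x hx
    | algebraMap r => exact Derivation.map_algebraMap _ r
    | add x y _ _ hx hy => rw [map_add, hx, hy, add_zero]
    | mul x y _ _ hx hy => rw [Derivation.leibniz, hx, hy, smul_zero, smul_zero, add_zero]
  suffices (⊤ : Submodule T Ω[T⁄R]) ≤ ⊥ from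
    (subsingleton_iff_forall_eq 0).mpr fun y ↦ this trivial
  rw [← KaehlerDifferential.span_range_derivation, Submodule.span_le]
  rintro _ ⟨x, rfl⟩
  rw [hall x]
  exact Submodule.zero_mem _

variable {A₀ : Type u} [CommRing A₀] {A : Type u} [CommRing A] [Algebra A₀ A]
variable (B₀ : Type u) [CommRing B₀] [Algebra A₀ B₀]
variable (C₀ : Type u) [CommRing C₀] [Algebra A₀ C₀] [Algebra B₀ C₀] [IsScalarTower A₀ B₀ C₀]

variable (A₀) in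
/-- The finite-level datum witnessing unramifiedness. -/
def h5Un (s : Finset C₀) (G : Type u) [CommRing G] [Algebra A₀ G] : Prop :=
  ∀ c ∈ s, ((1 : B₀ ⊗[A₀] G) ⊗ₜ[B₀] KaehlerDifferential.D B₀ C₀ c :
    (B₀ ⊗[A₀] G) ⊗[B₀] Ω[C₀⁄B₀]) = 0

theorem h5Un_of_hom (s : Finset C₀) {G G' : Type u} [CommRing G] [Algebra A₀ G] [CommRing G']
    [Algebra A₀ G'] (α : G →ₐ[A₀] G') (h : h5Un A₀ B₀ C₀ s G) : h5Un A₀ B₀ C₀ s G' := by
  intro c hc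
  have h1 := congrArg (h5CM B₀ Ω[C₀⁄B₀] α) (h c hc)
  rw [h5CM_tmul, map_one, map_zero] at h1
  exact h1

theorem h5Un_descend (s : Finset C₀) (S : H5Sys A₀ A) (h : h5Un A₀ B₀ C₀ s A) :
    ∃ i, h5Un A₀ B₀ C₀ s (S.G i) := by
  classical
  let i₀ := S.ne.some
  let w : C₀ → (B₀ ⊗[A₀] S.G i₀) ⊗[B₀] Ω[C₀⁄B₀] := fun c =>
    (1 : B₀ ⊗[A₀] S.G i₀) ⊗ₜ[B₀] KaehlerDifferential.D B₀ C₀ c
  obtain ⟨j, F, hF, hFw⟩ := S.CM_kill_fin B₀ Ω[C₀⁄B₀] i₀ (s.image w) (by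
    intro z hz
    obtain ⟨c, hc, rfl⟩ := Finset.mem_image.mp hz
    simp only [w, h5CM_tmul, map_one]
    exact h c hc)
  refine ⟨j, fun c hc => ?_⟩
  have h1 := hFw (w c) (Finset.mem_image_of_mem _ hc)
  simp only [w, h5CM_tmul, map_one] at h1
  exact h1

theorem h5Un_of_formallyUnramified (s : Finset C₀) (G : Type u) [CommRing G] [Algebra A₀ G]
    [Algebra.FormallyUnramified (B₀ ⊗[A₀] G) ((B₀ ⊗[A₀] G) ⊗[B₀] C₀)] : h5Un A₀ B₀ C₀ s G := by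
  have hsub : Subsingleton ((B₀ ⊗[A₀] G) ⊗[B₀] Ω[C₀⁄B₀]) :=
    (KaehlerDifferential.tensorKaehlerEquivBase B₀ (B₀ ⊗[A₀] G) C₀
      ((B₀ ⊗[A₀] G) ⊗[B₀] C₀)).toEquiv.subsingleton_congr.mpr inferInstance
  intro c _
  exact Subsingleton.elim _ _

theorem h5_formallyUnramified_of_h5Un (s : Finset C₀) (hs : Algebra.adjoin B₀ (s : Set C₀) = ⊤)
    (G : Type u) [CommRing G] [Algebra A₀ G] (h : h5Un A₀ B₀ C₀ s G) :
    Algebra.FormallyUnramified (B₀ ⊗[A₀] G) ((B₀ ⊗[A₀] G) ⊗[B₀] C₀) := by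
  have hD : ∀ x ∈ (((1 : B₀ ⊗[A₀] G) ⊗ₜ[B₀] ·) '' (s : Set C₀)),
      KaehlerDifferential.D (B₀ ⊗[A₀] G) ((B₀ ⊗[A₀] G) ⊗[B₀] C₀) x = 0 := by
    rintro _ ⟨c, hc, rfl⟩
    have h2 := congrArg (KaehlerDifferential.tensorKaehlerEquivBase B₀ (B₀ ⊗[A₀] G) C₀
      ((B₀ ⊗[A₀] G) ⊗[B₀] C₀)) (h c hc)
    rw [KaehlerDifferential.tensorKaehlerEquivBase_tmul, one_smul, KaehlerDifferential.map_D,
      map_zero] at h2
    exact h2
  exact ⟨h5_subsingleton_kaehler_of_adjoin' (B₀ ⊗[A₀] G) ((B₀ ⊗[A₀] G) ⊗[B₀] C₀) _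
    (Algebra.TensorProduct.adjoin_one_tmul_image_eq_top (A := B₀ ⊗[A₀] G) (↑s) hs) hD⟩

/-- Descent of smoothness to a finite stage. -/
theorem h5_smooth_main (S : H5Sys A₀ A) [Algebra.FinitePresentation B₀ C₀]
    (h : Algebra.Smooth (B₀ ⊗[A₀] A) ((B₀ ⊗[A₀] A) ⊗[B₀] C₀)) :
    ∃ i, Algebra.Smooth (B₀ ⊗[A₀] S.G i) ((B₀ ⊗[A₀] S.G i) ⊗[B₀] C₀) := by
  obtain ⟨n, I, e, -⟩ := (Algebra.FinitePresentation.iff (R := B₀) (A := C₀)).mp inferInstance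
  haveI := h.formallySmooth
  have hA : h5Sm A₀ B₀ C₀ (MvPolynomial (Fin n) B₀ ⧸ I ^ 2) (h5pI B₀ C₀ I e) A :=
    h5Sm_of_formallySmooth B₀ C₀ _ _ A (h5pI_surjective B₀ C₀ I e) (h5pI_ker_sq B₀ C₀ I e)
  obtain ⟨i, hh, hhh⟩ := h5Sm_descend B₀ C₀ _ _ S hA
  exact ⟨i, { formallySmooth :=
                h5_formallySmooth_of_section B₀ C₀ (B₀ ⊗[A₀] S.G i) I e hh hhh
              finitePresentation := inferInstance }⟩

/-- Descent of étaleness to a finite stage. -/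
theorem h5_etale_main (S : H5Sys A₀ A) [Algebra.FinitePresentation B₀ C₀]
    (h : Algebra.Etale (B₀ ⊗[A₀] A) ((B₀ ⊗[A₀] A) ⊗[B₀] C₀)) :
    ∃ i, Algebra.Etale (B₀ ⊗[A₀] S.G i) ((B₀ ⊗[A₀] S.G i) ⊗[B₀] C₀) := by
  obtain ⟨n, I, e, -⟩ := (Algebra.FinitePresentation.iff (R := B₀) (A := C₀)).mp inferInstance
  haveI : Algebra.FiniteType B₀ C₀ := inferInstance
  obtain ⟨s, hs⟩ := (Algebra.FiniteType.out : (⊤ : Subalgebra B₀ C₀).FG)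
  haveI := h.formallyEtale
  have hA : h5Sm A₀ B₀ C₀ (MvPolynomial (Fin n) B₀ ⧸ I ^ 2) (h5pI B₀ C₀ I e) A :=
    h5Sm_of_formallySmooth B₀ C₀ _ _ A (h5pI_surjective B₀ C₀ I e) (h5pI_ker_sq B₀ C₀ I e)
  have hUA : h5Un A₀ B₀ C₀ s A := h5Un_of_formallyUnramified B₀ C₀ s A
  obtain ⟨i₁, h₁⟩ := h5Sm_descend B₀ C₀ _ _ S hA
  obtain ⟨i₂, h₂⟩ := h5Un_descend B₀ C₀ s S hUA
  obtain ⟨k, F₁, F₂, -, -⟩ := S.lift2 i₁ i₂
  obtain ⟨hh, hhh⟩ := h5Sm_of_hom B₀ C₀ _ _ F₁ h₁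
  haveI : Algebra.FormallySmooth (B₀ ⊗[A₀] S.G k) ((B₀ ⊗[A₀] S.G k) ⊗[B₀] C₀) :=
    h5_formallySmooth_of_section B₀ C₀ (B₀ ⊗[A₀] S.G k) I e hh hhh
  haveI : Algebra.FormallyUnramified (B₀ ⊗[A₀] S.G k) ((B₀ ⊗[A₀] S.G k) ⊗[B₀] C₀) :=
    h5_formallyUnramified_of_h5Un B₀ C₀ s hs (S.G k) (h5Un_of_hom B₀ C₀ s F₂ h₂)
  exact ⟨k, { formallyEtale := Algebra.FormallyEtale.of_formallyUnramified_and_formallySmooth
              finitePresentation := inferInstance }⟩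

end CAlg
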