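import Mathlib
import Groth.Agent.Lib.helper5.ColimSys

set_option autoImplicit false
universe u v

namespace CAlg
open CategoryTheory CategoryTheory.Limits

variable {A₀ : Type v} [CommRing A₀] {A : Type u} [CommRing A] [Algebra A₀ A]

/-- Maps out of a finitely presented algebra into the colimit factor through a stage. -/
theorem h5_algHom_descend (S : H5Sys A₀ A) (C₀ : Type u) [CommRing C₀] [Algebra A₀ C₀]
    [Algebra.FinitePresentation A₀ C₀] (h : C₀ →ₐ[A₀] A) :
    ∃ i, ∃ hi : C₀ →ₐ[A₀] S.G i, (S.g i).comp hi = h := by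
  classical
  obtain ⟨n, I, e, hI⟩ := (Algebra.FinitePresentation.iff (R := A₀) (A := C₀)).mp inferInstance
  obtain ⟨qs, hqs⟩ := hI
  let φ : MvPolynomial (Fin n) A₀ →ₐ[A₀] A := h.comp (e.toAlgHom.comp (Ideal.Quotient.mkₐ A₀ I))
  let τ : Fin n → A := fun k => φ (MvPolynomial.X k)
  have hφ : φ = MvPolynomial.aeval τ := MvPolynomial.aeval_unique φ
  have hτq : ∀ q ∈ I, MvPolynomial.aeval τ q = 0 := by
    intro q hq
    rw [← hφ]
    show h (e (Ideal.Quotient.mk I q)) = 0
    rw [Ideal.Quotient.eq_zero_iff_mem.mpr hq, map_zero, map_zero]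
  obtain ⟨i, hi⟩ := S.lift_fin (Finset.univ.image τ)
  let τ' : Fin n → S.G i := fun k =>
    Classical.choose (hi (τ k) (Finset.mem_image_of_mem _ (Finset.mem_univ k)))
  have hτ' : ∀ k, S.g i (τ' k) = τ k := fun k =>
    Classical.choose_spec (hi (τ k) (Finset.mem_image_of_mem _ (Finset.mem_univ k)))
  have hε : ∀ q ∈ qs, S.g i (MvPolynomial.aeval τ' q) = 0 := by
    intro q hq
    have h1 : (S.g i).comp (MvPolynomial.aeval τ') = MvPolynomial.aeval τ := by
      rw [MvPolynomial.comp_aeval]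
      congr 1
      funext k
      exact hτ' k
    rw [← AlgHom.comp_apply, h1]
    refine hτq q ?_
    rw [← hqs]
    exact Ideal.subset_span hq
  obtain ⟨j, F, hF, hFε⟩ := S.kill_fin i (qs.image (MvPolynomial.aeval τ')) (by
    intro z hz
    obtain ⟨q, hq, rfl⟩ := Finset.mem_image.mp hz
    exact hε q hq)
  let t : Fin n → S.G j := fun k => F (τ' k)
  have hcomp : F.comp (MvPolynomial.aeval τ') = MvPolynomial.aeval t :=
    MvPolynomial.comp_aeval (f := τ') F
  have hle : I ≤ RingHom.ker (MvPolynomial.aeval t : MvPolynomial (Fin n) A₀ →ₐ[A₀] _) := by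
    rw [← hqs, Ideal.span_le]
    intro q hq
    rw [SetLike.mem_coe, RingHom.mem_ker, ← hcomp]
    exact hFε _ (Finset.mem_image_of_mem _ hq)
  have hker : ∀ q ∈ I, MvPolynomial.aeval t q = 0 := fun q hq => RingHom.mem_ker.mp (hle hq)
  let hj : C₀ →ₐ[A₀] S.G j :=
    (Ideal.Quotient.liftₐ I (MvPolynomial.aeval t) hker).comp e.symm.toAlgHom
  have hj_apply : ∀ p, hj (e (Ideal.Quotient.mk I p)) = MvPolynomial.aeval t p := by
    intro p
    show Ideal.Quotient.liftₐ I (MvPolynomial.aeval t) hker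
      (e.symm (e (Ideal.Quotient.mk I p))) = _
    rw [AlgEquiv.symm_apply_apply]
    rfl
  refine ⟨j, hj, ?_⟩
  have hsurjπ : Function.Surjective (e.toAlgHom.comp (Ideal.Quotient.mkₐ A₀ I)) := by
    intro c
    obtain ⟨x, rfl⟩ := e.surjective c
    obtain ⟨p, rfl⟩ := Ideal.Quotient.mk_surjective x
    exact ⟨p, rfl⟩
  rw [← AlgHom.cancel_right hsurjπ]
  apply MvPolynomial.algHom_ext
  intro k
  show S.g j (hj (e (Ideal.Quotient.mk I (MvPolynomial.X k)))) = φ (MvPolynomial.X k)
  rw [hj_apply, MvPolynomial.aeval_X]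
  show S.g j (F (τ' k)) = τ k
  rw [← AlgHom.comp_apply, hF, hτ']

/-- The weak colimit system attached to a filtered colimit of commutative rings. -/
noncomputable def H5Sys.ofFiltered {I : Type u} [SmallCategory I] [IsFiltered I]
    (D : I ⥤ CommRingCat.{u}) (c : Cocone D) (hc : IsColimit c) : H5Sys ℤ c.pt where
  ι := I
  G := fun i => D.obj i
  g := fun i => (c.ι.app i).hom.toIntAlgHom
  ne := IsFiltered.nonempty
  lift2 i j := by
    refine ⟨IsFiltered.max i j, (D.map (IsFiltered.leftToMax i j)).hom.toIntAlgHom,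
      (D.map (IsFiltered.rightToMax i j)).hom.toIntAlgHom, ?_, ?_⟩
    · ext x
      show (c.ι.app _).hom ((D.map (IsFiltered.leftToMax i j)).hom x) = (c.ι.app i).hom x
      rw [← c.w (IsFiltered.leftToMax i j)]
      rfl
    · ext x
      show (c.ι.app _).hom ((D.map (IsFiltered.rightToMax i j)).hom x) = (c.ι.app j).hom x
      rw [← c.w (IsFiltered.rightToMax i j)]
      rfl
  surj a := by
    obtain ⟨i, x, hx⟩ := Concrete.isColimit_exists_rep D hc a
    exact ⟨i, x, hx⟩
  kill i x hx := by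
    have h0 : (c.ι.app i) x = (c.ι.app i) (0 : D.obj i) := by
      rw [map_zero]
      exact hx
    obtain ⟨k, f, g, hfg⟩ := Concrete.isColimit_exists_of_rep_eq D hc x (0 : D.obj i) h0
    refine ⟨k, (D.map f).hom.toIntAlgHom, ?_, ?_⟩
    · ext y
      show (c.ι.app _).hom ((D.map f).hom y) = (c.ι.app i).hom y
      rw [← c.w f]
      rfl
    · show (D.map f) x = 0
      rw [hfg, map_zero]

end CAlg
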