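import Mathlib
import Groth.Agent.Lib.helper5.ColimSys

set_option autoImplicit false
universe u

namespace CAlg
open TensorProduct

variable {A₀ : Type u} [CommRing A₀] {A : Type u} [CommRing A] [Algebra A₀ A]
variable (M : Type u) [AddCommGroup M] [Module A₀ M]

theorem h5_rTensor_comp {G G' G'' : Type u} [CommRing G] [Algebra A₀ G] [CommRing G']
    [Algebra A₀ G'] [CommRing G''] [Algebra A₀ G''] (α : G →ₐ[A₀] G') (β : G' →ₐ[A₀] G'')
    (z : G ⊗[A₀] M) :
    (β.comp α).toLinearMap.rTensor M z = β.toLinearMap.rTensor M (α.toLinearMap.rTensor M z) := by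
  induction z using TensorProduct.induction_on with
  | zero => simp
  | tmul x m => simp
  | add a b ha hb => simp only [map_add, ha, hb]

/-- Every element of `A ⊗ M` comes from some stage. -/
theorem H5Sys.L_lift (S : H5Sys A₀ A) (τ : A ⊗[A₀] M) :
    ∃ i, ∃ τ' : S.G i ⊗[A₀] M, (S.g i).toLinearMap.rTensor M τ' = τ := by
  induction τ using TensorProduct.induction_on with
  | zero => exact ⟨S.ne.some, 0, map_zero _⟩
  | tmul a m =>
    obtain ⟨i, x, rfl⟩ := S.surj a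
    exact ⟨i, x ⊗ₜ m, by simp⟩
  | add a b ha hb =>
    obtain ⟨i, a', rfl⟩ := ha
    obtain ⟨j, b', rfl⟩ := hb
    obtain ⟨k, F₁, F₂, h₁, h₂⟩ := S.lift2 i j
    refine ⟨k, F₁.toLinearMap.rTensor M a' + F₂.toLinearMap.rTensor M b', ?_⟩
    rw [map_add, ← h5_rTensor_comp, ← h5_rTensor_comp, h₁, h₂]

theorem H5Sys.L_lift_fin (S : H5Sys A₀ A) (s : Finset (A ⊗[A₀] M)) :
    ∃ i, ∀ τ ∈ s, ∃ τ' : S.G i ⊗[A₀] M, (S.g i).toLinearMap.rTensor M τ' = τ := by
  refine S.fin_unif (fun i (τ : A ⊗[A₀] M) =>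
    ∃ τ' : S.G i ⊗[A₀] M, (S.g i).toLinearMap.rTensor M τ' = τ) ?_ (S.L_lift M) s
  rintro i j F hF τ ⟨τ', rfl⟩
  exact ⟨F.toLinearMap.rTensor M τ', by rw [← h5_rTensor_comp, hF]⟩

/-- Finite killing in `G i ⊗ M`. -/
theorem H5Sys.L_kill_fin (S : H5Sys A₀ A) (i : S.ι) (s : Finset (S.G i ⊗[A₀] M))
    (hs : ∀ z ∈ s, (S.g i).toLinearMap.rTensor M z = 0) :
    ∃ j, ∃ F : S.G i →ₐ[A₀] S.G j, (S.g j).comp F = S.g i ∧
      ∀ z ∈ s, F.toLinearMap.rTensor M z = 0 := by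
  refine S.kill_fin_abs (N := fun i => S.G i ⊗[A₀] M) (fun F z => F.toLinearMap.rTensor M z)
    (fun F => map_zero _) (fun F F' z => h5_rTensor_comp M F F' z)
    (fun i z => (S.g i).toLinearMap.rTensor M z = 0) ?_ ?_ i s hs
  · intro i j F hF z hz
    show (S.g j).toLinearMap.rTensor M (F.toLinearMap.rTensor M z) = 0
    rw [← h5_rTensor_comp, hF]
    exact hz
  · intro i z hz
    exact S.tensor_kill M i z hz

end CAlg
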