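import Mathlib

/-! Conormal sequence helpers for `A → B → C` with `A → C` surjective. -/

namespace H5Conormal

open TensorProduct

universe u

/-- If `B → C` is surjective with kernel `J`, then `1 ⊗ ω = 0` in `C ⊗[B] Q` forces `ω ∈ J • ⊤`. -/
lemma mem_smul_top_of_one_tmul_eq_zero {B C : Type*} [CommRing B] [CommRing C] [Algebra B C]
    (hc : Function.Surjective (algebraMap B C)) {Q : Type*} [AddCommGroup Q] [Module B Q]
    (ω : Q) (h : (1 : C) ⊗ₜ[B] ω = 0) :
    ω ∈ (RingHom.ker (algebraMap B C)) • (⊤ : Submodule B Q) := by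
  set J : Ideal B := RingHom.ker (algebraMap B C) with hJ
  have hex : Function.Exact (Submodule.subtype J) (Algebra.linearMap B C) := by
    intro b
    constructor
    · intro hb
      exact ⟨⟨b, hb⟩, rfl⟩
    · rintro ⟨x, rfl⟩
      exact x.2
  have hex2 := rTensor_exact Q hex hc
  have h0 : (Algebra.linearMap B C).rTensor Q ((1 : B) ⊗ₜ[B] ω) = 0 := by
    simpa using h
  have h1 : (1 : B) ⊗ₜ[B] ω ∈ LinearMap.range ((Submodule.subtype J).rTensor Q) :=
    (hex2 _).mp h0
  have h2 : TensorProduct.lid B Q ((1 : B) ⊗ₜ[B] ω) ∈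
      (LinearMap.range ((Submodule.subtype J).rTensor Q)).map
        (TensorProduct.lid B Q : B ⊗[B] Q →ₗ[B] Q) :=
    Submodule.mem_map_of_mem h1
  rw [Submodule.map_range_rTensor_subtype_lid] at h2
  simpa using h2

section deriv

variable (A B C : Type u) [CommRing A] [CommRing B] [CommRing C] [Algebra A B] [Algebra B C]
  [Algebra A C] [IsScalarTower A B C]

/-- The ideal `J² + I·B`. -/
def K : Ideal B :=
  (RingHom.ker (algebraMap B C)) ^ 2 ⊔ (RingHom.ker (algebraMap A C)).map (algebraMap A B)

variable {A B C}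

lemma sub_mem_ker {a : A} {b : B} (h : algebraMap A C a = algebraMap B C b) :
    b - algebraMap A B a ∈ RingHom.ker (algebraMap B C) := by
  rw [RingHom.mem_ker, map_sub, ← IsScalarTower.algebraMap_apply, h, sub_self]

lemma mk_sub_eq {a a' : A} {b : B} (h : algebraMap A C a = algebraMap B C b)
    (h' : algebraMap A C a' = algebraMap B C b) :
    Ideal.Quotient.mk (K A B C) (b - algebraMap A B a) =
      Ideal.Quotient.mk (K A B C) (b - algebraMap A B a') := by
  rw [Ideal.Quotient.eq]
  have : b - algebraMap A B a - (b - algebraMap A B a') = algebraMap A B (a' - a) := by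
    rw [map_sub]; ring
  rw [this]
  apply Ideal.mem_sup_right
  apply Ideal.mem_map_of_mem
  rw [RingHom.mem_ker, map_sub, h, h', sub_self]

variable (hAC : Function.Surjective (algebraMap A C))

/-- The underlying function of the derivation. -/
noncomputable def dFun (b : B) : B ⧸ K A B C :=
  Ideal.Quotient.mk (K A B C) (b - algebraMap A B (Function.surjInv hAC (algebraMap B C b)))

lemma dFun_eq {a : A} {b : B} (h : algebraMap A C a = algebraMap B C b) :
    dFun hAC b = Ideal.Quotient.mk (K A B C) (b - algebraMap A B a) :=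
  mk_sub_eq (Function.surjInv_eq hAC _) h

/-- The derivation `B → B/(J² + IB)`. -/
noncomputable def d : Derivation A B (B ⧸ K A B C) :=
  Derivation.mk'
    { toFun := dFun hAC
      map_add' := fun b₁ b₂ => by
        have h₁ := Function.surjInv_eq hAC (algebraMap B C b₁)
        have h₂ := Function.surjInv_eq hAC (algebraMap B C b₂)
        rw [dFun_eq hAC h₁, dFun_eq hAC h₂, dFun_eq hAC (a := Function.surjInv hAC
          (algebraMap B C b₁) + Function.surjInv hAC (algebraMap B C b₂)) (by
            rw [map_add, map_add, h₁, h₂]), ← map_add]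
        congr 1
        rw [map_add]; ring
      map_smul' := fun a b => by
        have h₁ := Function.surjInv_eq hAC (algebraMap B C b)
        rw [dFun_eq hAC h₁, dFun_eq hAC (a := a * Function.surjInv hAC (algebraMap B C b))
          (b := a • b) (by
            rw [map_mul, h₁, Algebra.smul_def, map_mul, ← IsScalarTower.algebraMap_apply])]
        simp only [RingHom.id_apply]
        rw [Algebra.smul_def, Algebra.smul_def, IsScalarTower.algebraMap_apply A B (B ⧸ K A B C),
          Ideal.Quotient.algebraMap_eq, ← map_mul]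
        congr 1
        rw [map_mul]; ring }
    (fun b₁ b₂ => by
      have h₁ := Function.surjInv_eq hAC (algebraMap B C b₁)
      have h₂ := Function.surjInv_eq hAC (algebraMap B C b₂)
      change dFun hAC (b₁ * b₂) = b₁ • dFun hAC b₂ + b₂ • dFun hAC b₁
      rw [dFun_eq hAC h₁, dFun_eq hAC h₂, dFun_eq hAC (a := Function.surjInv hAC
          (algebraMap B C b₁) * Function.surjInv hAC (algebraMap B C b₂)) (b := b₁ * b₂) (by
            rw [map_mul, map_mul, h₁, h₂])]
      rw [Algebra.smul_def, Algebra.smul_def, Ideal.Quotient.algebraMap_eq, ← map_mul, ← map_mul,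
        ← map_add, Ideal.Quotient.eq]
      set a₁ := Function.surjInv hAC (algebraMap B C b₁)
      set a₂ := Function.surjInv hAC (algebraMap B C b₂)
      have : b₁ * b₂ - algebraMap A B (a₁ * a₂) -
          (b₁ * (b₂ - algebraMap A B a₂) + b₂ * (b₁ - algebraMap A B a₁)) =
          - ((b₁ - algebraMap A B a₁) * (b₂ - algebraMap A B a₂)) := by
        rw [map_mul]; ring
      rw [this]
      apply Ideal.mem_sup_left
      rw [pow_two]
      exact neg_mem (Ideal.mul_mem_mul (sub_mem_ker h₁) (sub_mem_ker h₂)))

lemma d_apply {a : A} {b : B} (h : algebraMap A C a = algebraMap B C b) :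
    d hAC b = Ideal.Quotient.mk (K A B C) (b - algebraMap A B a) :=
  dFun_eq hAC h

lemma d_apply_of_mem {b : B} (hb : b ∈ RingHom.ker (algebraMap B C)) :
    d hAC b = Ideal.Quotient.mk (K A B C) b := by
  rw [d_apply hAC (a := 0) (b := b) (by rw [map_zero, hb]), map_zero, sub_zero]

lemma smul_lift_eq_zero (ω : Ω[B⁄A]) {j : B} (hj : j ∈ RingHom.ker (algebraMap B C)) :
    j • (d hAC).liftKaehlerDifferential ω = 0 := by
  have hω : ω ∈ Submodule.span B (Set.range (KaehlerDifferential.D A B)) := by
    rw [KaehlerDifferential.span_range_derivation]; trivial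
  induction hω using Submodule.span_induction with
  | mem x hx =>
    obtain ⟨b, rfl⟩ := hx
    rw [Derivation.liftKaehlerDifferential_comp_D]
    have h₁ := Function.surjInv_eq hAC (algebraMap B C b)
    rw [d_apply hAC h₁, Algebra.smul_def, Ideal.Quotient.algebraMap_eq, ← map_mul,
      Ideal.Quotient.eq_zero_iff_mem]
    apply Ideal.mem_sup_left
    rw [pow_two]
    exact Ideal.mul_mem_mul hj (sub_mem_ker h₁)
  | zero => simp
  | add x y _ _ hx hy => rw [map_add, smul_add, hx, hy, add_zero]
  | smul b x _ hx => rw [map_smul, smul_comm, hx, smul_zero]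

lemma lift_eq_zero_of_mem_smul_top (ω : Ω[B⁄A])
    (hω : ω ∈ (RingHom.ker (algebraMap B C)) • (⊤ : Submodule B Ω[B⁄A])) :
    (d hAC).liftKaehlerDifferential ω = 0 := by
  induction hω using Submodule.smul_induction_on' with
  | smul j hj n _ => rw [map_smul]; exact smul_lift_eq_zero hAC n hj
  | add x _ y _ hx hy => rw [map_add, hx, hy, add_zero]

include hAC in
/-- The key consequence: if `1 ⊗ dx = 0` for `x ∈ J`, then `x ∈ J² + IB`. -/
lemma mem_K_of_tmul_D_eq_zero {x : B} (hx : x ∈ RingHom.ker (algebraMap B C))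
    (h : (1 : C) ⊗ₜ[B] KaehlerDifferential.D A B x = 0) : x ∈ K A B C := by
  have hc : Function.Surjective (algebraMap B C) := by
    intro c
    obtain ⟨a, rfl⟩ := hAC c
    exact ⟨algebraMap A B a, (IsScalarTower.algebraMap_apply A B C a).symm⟩
  have h1 := mem_smul_top_of_one_tmul_eq_zero hc _ h
  have h2 := lift_eq_zero_of_mem_smul_top hAC _ h1
  rw [Derivation.liftKaehlerDifferential_comp_D, d_apply_of_mem hAC hx,
    Ideal.Quotient.eq_zero_iff_mem] at h2
  exact h2

include hAC in
/-- Elements of `I·B` are congruent mod `J²` to images of elements of `I`. -/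
lemma exists_sub_mem_sq {v : B} (hv : v ∈ (RingHom.ker (algebraMap A C)).map (algebraMap A B)) :
    ∃ i ∈ RingHom.ker (algebraMap A C), v - algebraMap A B i ∈ (RingHom.ker (algebraMap B C)) ^ 2 := by
  have hIJ : ∀ i ∈ RingHom.ker (algebraMap A C), algebraMap A B i ∈ RingHom.ker (algebraMap B C) := by
    intro i hi
    rw [RingHom.mem_ker, ← IsScalarTower.algebraMap_apply]
    exact hi
  induction hv using Submodule.span_induction with
  | mem x hx =>
    obtain ⟨i, hi, rfl⟩ := hx
    exact ⟨i, hi, by rw [sub_self]; exact zero_mem _⟩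
  | zero => exact ⟨0, zero_mem _, by rw [map_zero, sub_zero]; exact zero_mem _⟩
  | add x y _ _ hx hy =>
    obtain ⟨i, hi, hxi⟩ := hx
    obtain ⟨i', hi', hyi⟩ := hy
    refine ⟨i + i', add_mem hi hi', ?_⟩
    have : x + y - algebraMap A B (i + i') = (x - algebraMap A B i) + (y - algebraMap A B i') := by
      rw [map_add]; ring
    rw [this]
    exact add_mem hxi hyi
  | smul b x _ hx =>
    obtain ⟨i, hi, hxi⟩ := hx
    have h₁ := Function.surjInv_eq hAC (algebraMap B C b)
    set a := Function.surjInv hAC (algebraMap B C b)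
    refine ⟨a * i, Ideal.mul_mem_left _ _ hi, ?_⟩
    have : b • x - algebraMap A B (a * i) =
        b * (x - algebraMap A B i) + (b - algebraMap A B a) * algebraMap A B i := by
      rw [map_mul, smul_eq_mul]; ring
    rw [this]
    refine add_mem (Ideal.mul_mem_left _ _ hxi) ?_
    rw [pow_two]
    exact Ideal.mul_mem_mul (sub_mem_ker h₁) (hIJ i hi)

end deriv

end H5Conormal
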