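import Mathlib
import Groth.Prelude.Def_DiffOp
universe u
open scoped TensorProduct
namespace H5Diff

variable (R S : Type u) [CommRing R] [CommRing S] [Algebra R S]
variable {M N P : Type u} [AddCommGroup M] [Module S M] [Module R M] [IsScalarTower R S M]
  [AddCommGroup N] [Module S N] [Module R N] [IsScalarTower R S N]
  [AddCommGroup P] [Module S P] [Module R P] [IsScalarTower R S P]

/-- iterated commutator -/
noncomputable def icomm (D : M →ₗ[R] N) : List S → (M →ₗ[R] N)
  | [] => D
  | b :: l => icomm (Diff16.commutator R S M N D b) l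

lemma isDiffOpLE_iff (n : ℕ) (D : M →ₗ[R] N) :
    Diff16.IsDiffOpLE R S M N n D ↔ ∀ l : List S, l.length = n + 1 → icomm R S D l = 0 := by
  induction n generalizing D with
  | zero =>
    constructor
    · intro h l hl
      obtain ⟨b, rfl⟩ := List.length_eq_one_iff.mp hl
      ext m
      simp only [icomm, Diff16.commutator, LinearMap.sub_apply, LinearMap.comp_apply,
        LinearMap.zero_apply]
      simp [h b m]
    · intro h b m
      have := LinearMap.congr_fun (h [b] rfl) m
      simp only [icomm, Diff16.commutator, LinearMap.sub_apply, LinearMap.comp_apply,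
        LinearMap.zero_apply] at this
      simpa [sub_eq_zero] using this
  | succ n ih =>
    constructor
    · intro h l hl
      match l, hl with
      | b :: l', hl' =>
        have hl'' : l'.length = n + 1 := by simpa using hl'
        exact (ih _).mp (h b) l' hl''
    · intro h b
      rw [ih]
      intro l hl
      exact h (b :: l) (by simp [hl])

lemma commutator_comp (α : N →ₗ[S] P) (D : M →ₗ[R] N) (b : S) :
    Diff16.commutator R S M P (α.restrictScalars R ∘ₗ D) b =
      α.restrictScalars R ∘ₗ Diff16.commutator R S M N D b := by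
  ext m
  simp [Diff16.commutator]

lemma icomm_comp (α : N →ₗ[S] P) (D : M →ₗ[R] N) (l : List S) :
    icomm R S (α.restrictScalars R ∘ₗ D) l = α.restrictScalars R ∘ₗ icomm R S D l := by
  induction l generalizing D with
  | nil => rfl
  | cons b l ih =>
    simp only [icomm]
    rw [commutator_comp, ih]

end H5Diff

namespace H5Diff

variable (R S : Type u) [CommRing R] [CommRing S] [Algebra R S]
variable (M : Type u) [AddCommGroup M] [Module S M] [Module R M] [IsScalarTower R S M]

/-- the kernel submodule -/
noncomputable def relK (k : ℕ) : Submodule S (S ⊗[R] M) :=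
  Submodule.span S {x | ∃ (l : List S) (m : M), l.length = k + 1 ∧
    x = icomm R S (TensorProduct.mk R S M 1) l m}

theorem universal (k : ℕ) :
    ∃ (P : Type u) (_ : AddCommGroup P) (_ : Module S P) (_ : Module R P) (_ : IsScalarTower R S P)
      (D : M →ₗ[R] P), Diff16.IsDiffOpLE R S M P k D ∧
        ∀ (N : Type u) [AddCommGroup N] [Module S N] [Module R N] [IsScalarTower R S N] (D' : M →ₗ[R] N),
          Diff16.IsDiffOpLE R S M N k D' → ∃! α : P →ₗ[S] N, α.restrictScalars R ∘ₗ D = D' := by
  let K := relK R S M k
  let D₀ : M →ₗ[R] S ⊗[R] M := TensorProduct.mk R S M 1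
  refine ⟨(S ⊗[R] M) ⧸ K, inferInstance, inferInstance, inferInstance, inferInstance,
    K.mkQ.restrictScalars R ∘ₗ D₀, ?_, ?_⟩
  · rw [isDiffOpLE_iff]
    intro l hl
    rw [icomm_comp]
    ext m
    simp only [LinearMap.comp_apply, LinearMap.restrictScalars_apply, LinearMap.zero_apply,
      Submodule.mkQ_apply, Submodule.Quotient.mk_eq_zero]
    exact Submodule.subset_span ⟨l, m, hl, rfl⟩
  · intro N _ _ _ _ D' hD'
    let α₀ : S ⊗[R] M →ₗ[S] N := LinearMap.liftBaseChange S D'
    have hα₀ : α₀.restrictScalars R ∘ₗ D₀ = D' := by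
      ext m
      simp [α₀, D₀]
    have hK : K ≤ LinearMap.ker α₀ := by
      change relK R S M k ≤ _
      rw [relK, Submodule.span_le]
      rintro x ⟨l, m, hl, rfl⟩
      rw [SetLike.mem_coe, LinearMap.mem_ker]
      have h1 := icomm_comp R S α₀ D₀ l
      rw [hα₀, (isDiffOpLE_iff R S k D').mp hD' l hl] at h1
      exact (LinearMap.congr_fun h1 m).symm
    refine ⟨K.liftQ α₀ hK, ?_, ?_⟩
    · ext m
      simp only [LinearMap.comp_apply, LinearMap.restrictScalars_apply, Submodule.mkQ_apply,
        Submodule.liftQ_apply]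
      exact LinearMap.congr_fun hα₀ m
    · intro β hβ
      apply Submodule.linearMap_qext
      rw [Submodule.liftQ_mkQ]
      apply TensorProduct.AlgebraTensorModule.ext
      intro s m
      have h1 : β (K.mkQ ((1 : S) ⊗ₜ[R] m)) = D' m := LinearMap.congr_fun hβ m
      have h2 : (s ⊗ₜ[R] m : S ⊗[R] M) = s • ((1 : S) ⊗ₜ[R] m) := by
        rw [TensorProduct.smul_tmul', smul_eq_mul, mul_one]
      simp only [LinearMap.comp_apply]
      rw [h2, map_smul, map_smul, map_smul, h1]
      simp [α₀]

end H5Diff
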