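import Mathlib
import Groth.Prelude.Def_EtGlue

universe u

open TensorProduct

namespace H5EG

variable (R R' : Type u) [CommRing R] [CommRing R'] [Algebra R R'] (f : R)

/-- the `R`-linear version of `R/f^n → R'/f^n R'`. -/
noncomputable def qmap (n : ℕ) :
    (R ⧸ (Ideal.span {f ^ n} : Ideal R)) →ₗ[R]
      (R' ⧸ Ideal.map (algebraMap R R') (Ideal.span {f ^ n})) :=
  Submodule.liftQ (Ideal.span {f ^ n} : Ideal R)
    ((Ideal.Quotient.mkₐ R (Ideal.map (algebraMap R R') (Ideal.span {f ^ n}))).toLinearMap ∘ₗ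
      Algebra.linearMap R R')
    (by
      intro x hx
      simp only [LinearMap.mem_ker, LinearMap.coe_comp, Function.comp_apply,
        Algebra.linearMap_apply, AlgHom.toLinearMap_apply, Ideal.Quotient.mkₐ_eq_mk]
      exact Ideal.Quotient.eq_zero_iff_mem.mpr (Ideal.mem_map_of_mem _ hx))

lemma qmap_eq (n : ℕ) (x : R ⧸ (Ideal.span {f ^ n} : Ideal R)) :
    qmap R R' f n x =
      Ideal.quotientMap (Ideal.map (algebraMap R R') (Ideal.span {f ^ n})) (algebraMap R R')
        Ideal.le_comap_map x := by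
  obtain ⟨r, rfl⟩ := Ideal.Quotient.mk_surjective x
  rw [Ideal.quotientMap_mk]
  rfl


lemma exists_pow_kill (C : Type u) [AddCommGroup C] [Module R C]
    (htors : ∀ c : C, ∃ n, f ^ n • c = 0) (Q : Submodule R C) (hQ : Q.FG) :
    ∃ n : ℕ, 0 < n ∧ ∀ q ∈ Q, f ^ n • q = 0 := by
  classical
  obtain ⟨s, hs⟩ := hQ
  choose nc hnc using htors
  refine ⟨s.sup nc + 1, Nat.succ_pos _, ?_⟩
  intro q hq
  rw [← hs] at hq
  induction hq using Submodule.span_induction with
  | mem x hx =>
    have hle : nc x ≤ s.sup nc + 1 := (Finset.le_sup (f := nc) hx).trans (Nat.le_succ _)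
    obtain ⟨k, hk⟩ := Nat.exists_eq_add_of_le hle
    rw [hk, pow_add, mul_comm, mul_smul, hnc, smul_zero]
  | zero => simp
  | add x y _ _ hx hy => rw [smul_add, hx, hy, add_zero]
  | smul a x _ hx => rw [smul_comm, hx, smul_zero]

theorem eq_zero_of_tmul_eq_zero (h : EtGlue.QuotPowBijective R R' f)
    (C : Type u) [AddCommGroup C] [Module R C]
    (htors : ∀ c : C, ∃ n, f ^ n • c = 0) (c : C) (hc : c ⊗ₜ[R] (1 : R') = 0) : c = 0 := by
  classical
  set P : Submodule R C := Submodule.span R {c} with hPdef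
  have hP : P.FG := Submodule.fg_span_singleton c
  have hcP : c ∈ P := Submodule.mem_span_singleton_self c
  have h0 : LinearMap.rTensor R' P.subtype ((⟨c, hcP⟩ : P) ⊗ₜ[R] (1 : R')) = 0 := by
    rw [LinearMap.rTensor_tmul]; exact hc
  obtain ⟨Q, hPQ, hQ, hQ0⟩ := TensorProduct.eq_zero_of_fg_of_subtype_eq_zero hP h0
  rw [LinearMap.rTensor_tmul] at hQ0
  obtain ⟨n, hn, hkill⟩ := exists_pow_kill R f C htors Q hQ
  -- the retraction
  have hbij := h n hn
  have hbij' : Function.Bijective (qmap R R' f n) := by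
    have : ⇑(qmap R R' f n) = ⇑(Ideal.quotientMap (Ideal.map (algebraMap R R')
        (Ideal.span {f ^ n})) (algebraMap R R') Ideal.le_comap_map) := funext (qmap_eq R R' f n)
    rw [this]; exact hbij
  let e := LinearEquiv.ofBijective (qmap R R' f n) hbij'
  let Φ : (R ⧸ (Ideal.span {f ^ n} : Ideal R)) →ₗ[R] (Q →ₗ[R] Q) :=
    Submodule.liftQ (Ideal.span {f ^ n} : Ideal R) (LinearMap.lsmul R Q) (by
      intro x hx
      obtain ⟨a, rfl⟩ := Ideal.mem_span_singleton'.mp hx
      rw [LinearMap.mem_ker]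
      ext q
      simp only [LinearMap.lsmul_apply, LinearMap.zero_apply, ZeroMemClass.coe_zero,
        Submodule.coe_smul]
      rw [mul_smul, hkill q q.2, smul_zero])
  let Ψ : R' →ₗ[R] (Q →ₗ[R] Q) :=
    Φ ∘ₗ e.symm.toLinearMap ∘ₗ
      (Ideal.Quotient.mkₐ R (Ideal.map (algebraMap R R') (Ideal.span {f ^ n}))).toLinearMap
  have hΨ1 : Ψ 1 = LinearMap.id := by
    have h1 : e.symm (Ideal.Quotient.mk _ (1 : R')) = Ideal.Quotient.mk _ (1 : R) := by
      rw [LinearEquiv.symm_apply_eq]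
      change _ = qmap R R' f n _
      rw [qmap_eq, Ideal.quotientMap_mk]
      simp only [map_one]
    change Φ (e.symm (Ideal.Quotient.mk _ (1 : R'))) = _
    rw [h1]
    ext q
    change (((1 : R) • q : Q) : C) = q
    rw [one_smul]
  let ρ : Q ⊗[R] R' →ₗ[R] Q := TensorProduct.lift Ψ.flip
  have := congrArg ρ hQ0
  rw [map_zero] at this
  change Ψ 1 (Submodule.inclusion hPQ ⟨c, hcP⟩) = 0 at this
  rw [hΨ1] at this
  exact congrArg Subtype.val this

end H5EG
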