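import Mathlib
import Groth.Prelude.Def_EtGlue
import Groth.Agent.Lib.helper5.EtGlueTors

universe u

open TensorProduct

namespace H5EG

variable (R R' : Type u) [CommRing R] [CommRing R'] [Algebra R R'] (f : R)

theorem surjective_of (h : EtGlue.QuotPowBijective R R' f) (A B : Type u)
    [CommRing A] [Algebra R A] [CommRing B] [Algebra R B] (φ : A →ₐ[R] B)
    (h1 : Function.Surjective (Localization.awayMap φ.toRingHom (algebraMap R A f)))
    (h2 : Function.Surjective (Algebra.TensorProduct.map (AlgHom.id R R') φ).toRingHom) :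
    Function.Surjective φ := by
  intro b
  set N : Submodule R B := LinearMap.range φ.toLinearMap with hN
  -- torsion
  have htors : ∀ c : B ⧸ N, ∃ n, f ^ n • c = 0 := by
    intro c
    obtain ⟨b', rfl⟩ := Submodule.Quotient.mk_surjective N c
    obtain ⟨y, hy⟩ := h1 (algebraMap B (Localization.Away (φ.toRingHom (algebraMap R A f))) b')
    obtain ⟨a, ⟨_, k, rfl⟩, rfl⟩ :=
      IsLocalization.exists_mk'_eq (Submonoid.powers (algebraMap R A f)) y
    rw [Localization.awayMap, IsLocalization.Away.map, IsLocalization.map_mk',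
      IsLocalization.mk'_eq_iff_eq_mul, ← map_mul,
      IsLocalization.eq_iff_exists (Submonoid.powers (φ.toRingHom (algebraMap R A f)))] at hy
    obtain ⟨⟨_, j, rfl⟩, hj⟩ := hy
    refine ⟨j + k, ?_⟩
    rw [← Submodule.Quotient.mk_smul, Submodule.Quotient.mk_eq_zero]
    refine ⟨(algebraMap R A f) ^ j * a, ?_⟩
    simp only [AlgHom.toRingHom_eq_coe, RingHom.coe_coe, AlgHom.commutes, map_pow] at hj
    simp only [AlgHom.toLinearMap_apply, map_mul, map_pow, AlgHom.commutes]
    rw [hj, Algebra.smul_def, map_pow, pow_add]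
    ring
  have hzero : ∀ x : R' ⊗[R] A, LinearMap.lTensor R' N.mkQ
      ((Algebra.TensorProduct.map (AlgHom.id R R') φ) x) = 0 := by
    intro x
    induction x with
    | zero => simp
    | tmul r a =>
      rw [Algebra.TensorProduct.map_tmul, LinearMap.lTensor_tmul]
      have : N.mkQ (φ a) = 0 := by
        rw [Submodule.mkQ_apply, Submodule.Quotient.mk_eq_zero]
        exact ⟨a, rfl⟩
      rw [this, tmul_zero]
    | add x y hx hy => rw [map_add, map_add, hx, hy, add_zero]
  obtain ⟨x, hx⟩ := h2 ((1 : R') ⊗ₜ[R] b)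
  have h3 : (1 : R') ⊗ₜ[R] (N.mkQ b) = 0 := by
    have := hzero x
    rw [show (Algebra.TensorProduct.map (AlgHom.id R R') φ) x = (1 : R') ⊗ₜ[R] b from hx,
      LinearMap.lTensor_tmul] at this
    exact this
  have h4 : (N.mkQ b) ⊗ₜ[R] (1 : R') = 0 := by
    have := congrArg (TensorProduct.comm R R' (B ⧸ N)) h3
    simpa using this
  have h5 := eq_zero_of_tmul_eq_zero R R' f h (B ⧸ N) htors (N.mkQ b) h4
  rw [Submodule.mkQ_apply, Submodule.Quotient.mk_eq_zero] at h5
  obtain ⟨a, ha⟩ := h5
  exact ⟨a, ha⟩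

end H5EG
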