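import Mathlib
import Groth.Prelude.Def_EtGlue
import Groth.Agent.Lib.helper5.EtGlueSurj

universe u

open TensorProduct

namespace H5EG

variable (R R' : Type u) [CommRing R] [CommRing R'] [Algebra R R'] (f : R)

/-- (i): from finite type of the localized map. -/
theorem exists_finset_pow_mul_mem (A B : Type u)
    [CommRing A] [Algebra R A] [CommRing B] [Algebra R B] (φ : A →ₐ[R] B)
    (h1 : (Localization.awayMap φ.toRingHom (algebraMap R A f)).FiniteType) :
    letI : Algebra A B := φ.toRingHom.toAlgebra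
    ∃ s₁ : Finset B, ∀ x : B, ∃ m : ℕ,
      (algebraMap R B f) ^ m * x ∈ Algebra.adjoin A (s₁ : Set B) := by
  classical
  letI algAB : Algebra A B := φ.toRingHom.toAlgebra
  set fA : A := algebraMap R A f with hfA
  have hcomp : ((Localization.awayMap φ.toRingHom fA).comp
      (algebraMap A (Localization.Away fA))).FiniteType :=
    RingHom.FiniteType.comp h1 (RingHom.finiteType_holdsForLocalizationAway _ fA)
  have hcomm : (Localization.awayMap φ.toRingHom fA).comp (algebraMap A (Localization.Away fA)) =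
      (algebraMap B (Localization.Away (φ.toRingHom fA))).comp φ.toRingHom := by
    rw [Localization.awayMap, IsLocalization.Away.map, IsLocalization.map_comp]
  rw [hcomm] at hcomp
  have hcomm2 : (algebraMap A (Localization.Away (φ.toRingHom fA))) =
      (algebraMap B (Localization.Away (φ.toRingHom fA))).comp φ.toRingHom :=
    IsScalarTower.algebraMap_eq A B (Localization.Away (φ.toRingHom fA))
  rw [← hcomm2, RingHom.finiteType_algebraMap] at hcomp
  haveI : IsLocalization ((Submonoid.powers fA).map (algebraMap A B))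
      (Localization.Away (φ.toRingHom fA)) := by
    rw [Submonoid.map_powers]
    exact (inferInstance : IsLocalization.Away (φ.toRingHom fA) (Localization.Away (φ.toRingHom fA)))
  obtain ⟨t, ht⟩ := hcomp
  refine ⟨IsLocalization.finsetIntegerMultiple ((Submonoid.powers fA).map (algebraMap A B)) t, ?_⟩
  intro x
  obtain ⟨⟨_, m, rfl⟩, hm⟩ := IsLocalization.lift_mem_adjoin_finsetIntegerMultiple
    (Submonoid.powers fA) x t (by rw [ht]; trivial)
  refine ⟨m, ?_⟩
  have : (algebraMap R B f) ^ m * x = (fA ^ m) • x := by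
    rw [Algebra.smul_def, map_pow]
    congr 2
    exact (φ.commutes f).symm
  rw [this]
  exact hm


/-- (ii): from finite type of the tensored map. -/
theorem exists_finset_subring (A B : Type u)
    [CommRing A] [Algebra R A] [CommRing B] [Algebra R B] (φ : A →ₐ[R] B)
    (h2 : (Algebra.TensorProduct.map (AlgHom.id R R') φ).toRingHom.FiniteType) :
    ∃ s₂ : Finset B, ∀ T : Subring (R' ⊗[R] B),
      (∀ y : R' ⊗[R] A, Algebra.TensorProduct.map (AlgHom.id R R') φ y ∈ T) →
      (∀ b ∈ s₂, ∀ r' : R', r' ⊗ₜ[R] b ∈ T) → ∀ x, x ∈ T := by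
  classical
  letI := (Algebra.TensorProduct.map (AlgHom.id R R') φ).toRingHom.toAlgebra
  obtain ⟨t', ht'⟩ := h2
  choose S hS using fun y : R' ⊗[R] B => TensorProduct.exists_finset y
  refine ⟨t'.biUnion (fun y => (S y).image Prod.snd), ?_⟩
  intro T hT1 hT2 x
  have hx : x ∈ Algebra.adjoin (R' ⊗[R] A) (t' : Set (R' ⊗[R] B)) := by rw [ht']; trivial
  induction hx using Algebra.adjoin_induction with
  | mem y hy =>
    rw [hS y]
    refine Subring.sum_mem _ (fun i hi => ?_)
    exact hT2 i.2 (Finset.mem_biUnion.mpr ⟨y, hy, Finset.mem_image_of_mem _ hi⟩) i.1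
  | algebraMap y => exact hT1 y
  | add x y _ _ hx hy => exact T.add_mem hx hy
  | mul x y _ _ hx hy => exact T.mul_mem hx hy


theorem finiteType_of (h : EtGlue.QuotPowBijective R R' f) (A B : Type u)
    [CommRing A] [Algebra R A] [CommRing B] [Algebra R B] (φ : A →ₐ[R] B)
    (h1 : (Localization.awayMap φ.toRingHom (algebraMap R A f)).FiniteType)
    (h2 : (Algebra.TensorProduct.map (AlgHom.id R R') φ).toRingHom.FiniteType) :
    φ.toRingHom.FiniteType := by
  classical
  obtain ⟨s₁, hs₁⟩ := exists_finset_pow_mul_mem R f A B φ h1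
  obtain ⟨s₂, hs₂⟩ := exists_finset_subring R R' A B φ h2
  letI algAB : Algebra A B := φ.toRingHom.toAlgebra
  haveI : IsScalarTower R A B := IsScalarTower.of_algebraMap_eq (fun r => (φ.commutes r).symm)
  set S : Subalgebra A B := Algebra.adjoin A ((s₁ ∪ s₂ : Finset B) : Set B) with hS
  let ψ : S →ₐ[R] B := S.val.restrictScalars R
  have hψ : Function.Surjective ψ := by
    apply surjective_of R R' f h S B ψ
    · rw [Localization.awayMap_surjective_iff]
      intro b
      obtain ⟨m, hm⟩ := hs₁ b
      refine ⟨⟨_, Algebra.adjoin_mono (by simp) hm⟩, m, ?_⟩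
      change (algebraMap R B f) ^ m * b = (ψ (algebraMap R S f)) ^ m * b
      rw [ψ.commutes]
    · intro x
      have := hs₂ (Algebra.TensorProduct.map (AlgHom.id R R') ψ).toRingHom.range ?_ ?_ x
      · exact this
      · intro y
        induction y with
        | zero => rw [map_zero]; exact Subring.zero_mem _
        | tmul r a =>
          refine ⟨r ⊗ₜ[R] (⟨φ a, S.algebraMap_mem a⟩ : S), ?_⟩
          change (Algebra.TensorProduct.map (AlgHom.id R R') ψ) _ = _
          rw [Algebra.TensorProduct.map_tmul, Algebra.TensorProduct.map_tmul]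
          rfl
        | add x y hx hy => rw [map_add]; exact Subring.add_mem _ hx hy
      · intro b hb r'
        refine ⟨r' ⊗ₜ[R] (⟨b, Algebra.subset_adjoin (by simp [hb])⟩ : S), ?_⟩
        change (Algebra.TensorProduct.map (AlgHom.id R R') ψ) _ = _
        rw [Algebra.TensorProduct.map_tmul]
        rfl
  refine ⟨s₁ ∪ s₂, ?_⟩
  rw [eq_top_iff]
  rintro x -
  obtain ⟨p, rfl⟩ := hψ x
  exact p.2


theorem finiteType_tensor (A B : Type u)
    [CommRing A] [Algebra R A] [CommRing B] [Algebra R B] (φ : A →ₐ[R] B)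
    (hφ : φ.toRingHom.FiniteType) :
    (Algebra.TensorProduct.map (AlgHom.id R R') φ).toRingHom.FiniteType := by
  classical
  letI algAB : Algebra A B := φ.toRingHom.toAlgebra
  obtain ⟨s, hs⟩ := hφ
  letI := (Algebra.TensorProduct.map (AlgHom.id R R') φ).toRingHom.toAlgebra
  refine ⟨s.image (fun b => (1 : R') ⊗ₜ[R] b), ?_⟩
  rw [eq_top_iff]
  rintro x -
  have key : ∀ b : B, (1 : R') ⊗ₜ[R] b ∈ Algebra.adjoin (R' ⊗[R] A)
      (↑(s.image fun b => (1 : R') ⊗ₜ[R] b) : Set (R' ⊗[R] B)) := by
    intro b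
    have hb : b ∈ Algebra.adjoin A (s : Set B) := by rw [hs]; trivial
    induction hb using Algebra.adjoin_induction with
    | mem x hx =>
      exact Algebra.subset_adjoin (by
        simp only [Finset.coe_image, Set.mem_image, Finset.mem_coe]; exact ⟨x, hx, rfl⟩)
    | algebraMap a =>
      have : (1 : R') ⊗ₜ[R] (algebraMap A B a) =
          algebraMap (R' ⊗[R] A) (R' ⊗[R] B) ((1 : R') ⊗ₜ[R] a) := by
        change _ = (Algebra.TensorProduct.map (AlgHom.id R R') φ) ((1 : R') ⊗ₜ[R] a)
        rw [Algebra.TensorProduct.map_tmul]; rfl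
      rw [this]; exact Subalgebra.algebraMap_mem _ _
    | add x y _ _ hx hy => rw [tmul_add]; exact add_mem hx hy
    | mul x y _ _ hx hy =>
      have : (1 : R') ⊗ₜ[R] (x * y) = ((1 : R') ⊗ₜ[R] x) * ((1 : R') ⊗ₜ[R] y) := by
        rw [Algebra.TensorProduct.tmul_mul_tmul, one_mul]
      rw [this]; exact mul_mem hx hy
  induction x with
  | zero => exact zero_mem _
  | tmul r b =>
    have : r ⊗ₜ[R] b = algebraMap (R' ⊗[R] A) (R' ⊗[R] B) (r ⊗ₜ[R] (1 : A)) *
        ((1 : R') ⊗ₜ[R] b) := by
      change _ = (Algebra.TensorProduct.map (AlgHom.id R R') φ) (r ⊗ₜ[R] (1 : A)) * _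
      rw [Algebra.TensorProduct.map_tmul, map_one, Algebra.TensorProduct.tmul_mul_tmul,
        one_mul]
      simp
    rw [this]; exact mul_mem (Subalgebra.algebraMap_mem _ _) (key b)
  | add x y hx hy => exact add_mem hx hy

end H5EG
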