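import Mathlib

/-! Étale algebras realising a finite separable extension of a "residue-like" field. -/

universe u

namespace H5EtRes

theorem etale_lift_field (R : Type u) [CommRing R] (κ : Type u) [Field κ] [Algebra R κ]
    (hfrac : ∀ x : κ, ∃ s : R, algebraMap R κ s ≠ 0 ∧ ∃ r : R,
      algebraMap R κ s * x = algebraMap R κ r)
    (L : Type u) [Field L] [Algebra κ L] [Algebra R L] [IsScalarTower R κ L] [Module.Finite κ L]
    [Algebra.IsSeparable κ L] :
    ∃ (R' : Type u) (_ : CommRing R') (_ : Algebra R R') (_ : Algebra.Etale R R')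
      (ψ : R' →ₐ[R] L), Subfield.closure (Set.range ψ) = ⊤ := by
  classical
  obtain ⟨α, hα⟩ := Field.exists_primitive_element κ L
  have hcommon : ∀ (t : Finset ℕ) (c : ℕ → κ), ∃ b : R, algebraMap R κ b ≠ 0 ∧ ∀ i ∈ t, ∃ r : R,
      algebraMap R κ b * c i = algebraMap R κ r := by
    intro t c
    induction t using Finset.induction_on with
    | empty =>
      exact ⟨1, by simp, by simp⟩
    | insert a t ha ih =>
      obtain ⟨b, hb, hbr⟩ := ih
      obtain ⟨s, hs, r, hr⟩ := hfrac (c a)
      refine ⟨b * s, by rw [map_mul]; exact mul_ne_zero hb hs, ?_⟩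
      intro i hi
      rcases Finset.mem_insert.mp hi with rfl | hi
      · exact ⟨b * r, by rw [map_mul, map_mul, mul_assoc, hr]⟩
      · obtain ⟨r', hr'⟩ := hbr i hi
        exact ⟨s * r', by
          rw [map_mul, map_mul, mul_comm (algebraMap R κ b), mul_assoc, hr']⟩
  set m := minpoly κ α with hm
  have hint : IsIntegral κ α := Algebra.IsIntegral.isIntegral α
  have hmmonic : m.Monic := minpoly.monic hint
  obtain ⟨b, hb, hbr⟩ := hcommon (Finset.range (m.natDegree)) m.coeff
  set b' : κ := algebraMap R κ b with hb'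
  have hb'0 : b' ≠ 0 := hb
  set m' := m.scaleRoots b' with hm'
  have hm'monic : m'.Monic := (Polynomial.monic_scaleRoots_iff b').mpr hmmonic
  have hm'lifts : m' ∈ Polynomial.lifts (algebraMap R κ) := by
    rw [Polynomial.lifts_iff_coeff_lifts]
    intro i
    rw [hm', Polynomial.coeff_scaleRoots]
    rcases lt_trichotomy i m.natDegree with hi | hi | hi
    · obtain ⟨r, hr⟩ := hbr i (Finset.mem_range.mpr hi)
      refine ⟨r * b ^ (m.natDegree - i - 1), ?_⟩
      rw [map_mul, map_pow, ← hr, ← hb']
      have : m.natDegree - i = (m.natDegree - i - 1) + 1 := by omega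
      rw [this, pow_succ]
      simp only [Nat.add_sub_cancel]
      ring
    · subst hi
      exact ⟨1, by simp [hmmonic.coeff_natDegree]⟩
    · exact ⟨0, by rw [Polynomial.coeff_eq_zero_of_natDegree_lt hi]; simp⟩
  obtain ⟨f, hfmap, hfdeg, hfmonic⟩ :=
    Polynomial.lifts_and_natDegree_eq_and_monic hm'lifts hm'monic
  set β : L := algebraMap κ L b' * α with hβ
  have hβroot : Polynomial.aeval β m' = 0 :=
    Polynomial.scaleRoots_aeval_eq_zero (minpoly.aeval _ _)
  have hb'L : algebraMap κ L b' ≠ 0 := by
    simpa using hb'0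
  have hβtop : IntermediateField.adjoin κ {β} = ⊤ := by
    rw [eq_top_iff, ← hα, IntermediateField.adjoin_simple_le_iff]
    have h1 : β ∈ IntermediateField.adjoin κ {β} :=
      IntermediateField.mem_adjoin_simple_self _ _
    have h2 : algebraMap κ L b' ∈ IntermediateField.adjoin κ {β} :=
      IntermediateField.algebraMap_mem _ _
    have : α = (algebraMap κ L b')⁻¹ * β := by
      rw [hβ, ← mul_assoc, inv_mul_cancel₀ hb'L, one_mul]
    rw [this]
    exact mul_mem (inv_mem h2) h1
  have hintβ : IsIntegral κ β := Algebra.IsIntegral.isIntegral β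
  have hdegβ : (minpoly κ β).natDegree = m'.natDegree := by
    rw [hm', Polynomial.natDegree_scaleRoots, ← IntermediateField.adjoin.finrank hintβ,
      ← IntermediateField.adjoin.finrank hint, hβtop, hα]
  have hm'eq : m' = minpoly κ β :=
    Polynomial.eq_of_monic_of_dvd_of_natDegree_le (minpoly.monic hintβ) hm'monic
      (minpoly.dvd _ _ hβroot) hdegβ.ge
  have hsep : m'.Separable := hm'eq ▸ Algebra.IsSeparable.isSeparable κ β
  have hder : Polynomial.aeval β (Polynomial.derivative m') ≠ 0 :=
    hsep.aeval_derivative_ne_zero hβroot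
  let P : StandardEtalePair R := ⟨f, hfmonic, Polynomial.derivative f, ⟨1, 0, 1, by simp⟩⟩
  have hmap : P.HasMap β := by
    refine ⟨?_, ?_⟩
    · change Polynomial.aeval β f = 0
      rw [← Polynomial.aeval_map_algebraMap κ, hfmap]; exact hβroot
    · change IsUnit (Polynomial.aeval β (Polynomial.derivative f))
      rw [← Polynomial.aeval_map_algebraMap κ, ← Polynomial.derivative_map, hfmap]
      exact IsUnit.mk0 _ hder
  refine ⟨P.Ring, inferInstance, inferInstance, inferInstance, P.lift β hmap, ?_⟩
  rw [eq_top_iff]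
  intro y _
  set K' := Subfield.closure (Set.range (P.lift β hmap)) with hK'
  have hR : ∀ r : R, algebraMap R L r ∈ K' := fun r =>
    Subfield.subset_closure ⟨algebraMap R P.Ring r, by simp⟩
  have hκ : ∀ x : κ, algebraMap κ L x ∈ K' := by
    intro x
    obtain ⟨s, hs, r, hr⟩ := hfrac x
    have hs0 : algebraMap R L s ≠ 0 := by
      rw [IsScalarTower.algebraMap_apply R κ L]
      intro h
      exact hs (by simpa using h)
    have : algebraMap κ L x = (algebraMap R L s)⁻¹ * algebraMap R L r := by
      rw [IsScalarTower.algebraMap_apply R κ L r, ← hr, map_mul,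
        ← IsScalarTower.algebraMap_apply, inv_mul_cancel_left₀ hs0]
    rw [this]; exact mul_mem (inv_mem (hR s)) (hR r)
  have hβK : β ∈ K' := Subfield.subset_closure ⟨P.X, P.lift_X β hmap⟩
  let K'' : IntermediateField κ L := Subfield.toIntermediateField K' hκ
  have hle : IntermediateField.adjoin κ {β} ≤ K'' := by
    rw [IntermediateField.adjoin_simple_le_iff]; exact hβK
  have hy : y ∈ IntermediateField.adjoin κ {β} := by rw [hβtop]; trivial
  exact hle hy


end H5EtRes
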