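import Mathlib

/-! A morphism whose image consists of generalizations of `x` factors through
`Spec 𝒪_{X,x}`. -/

universe u

open CategoryTheory AlgebraicGeometry

namespace H5Factor

variable {X T : Scheme.{u}}

lemma exists_factor_fromSpecStalk (h : T ⟶ X) (x : X) (hgen : ∀ t : T, h t ⤳ x) :
    ∃ u : T ⟶ Spec (X.presheaf.stalk x), u ≫ X.fromSpecStalk x = h := by
  obtain ⟨_, ⟨U, hU, rfl⟩, hxU, -⟩ :=
    X.isBasis_affineOpens.exists_subset_of_mem_open (Set.mem_univ x) isOpen_univ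
  have hU' : IsAffineOpen U := hU
  have hrange : Set.range h ⊆ Set.range hU'.fromSpec := by
    rw [hU'.range_fromSpec]
    rintro _ ⟨t, rfl⟩
    exact (hgen t).mem_open U.2 hxU
  let h' : T ⟶ Spec Γ(X, U) := IsOpenImmersion.lift hU'.fromSpec h hrange
  have hh' : h' ≫ hU'.fromSpec = h := IsOpenImmersion.lift_fac _ _ _
  let θ : Γ(X, U) ⟶ Γ(T, ⊤) := (Scheme.ΓSpecIso Γ(X, U)).inv ≫ h'.appTop
  have hθ : h' = T.toSpecΓ ≫ Spec.map θ := by
    have h1 := Scheme.toSpecΓ_naturality h'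
    have h2 := toSpecΓ_SpecMap_ΓSpecIso_inv Γ(X, U)
    calc h' = h' ≫ (Spec Γ(X, U)).toSpecΓ ≫ Spec.map (Scheme.ΓSpecIso Γ(X, U)).inv := by
          rw [h2, Category.comp_id]
      _ = T.toSpecΓ ≫ Spec.map θ := by
          rw [← Category.assoc, h1, Category.assoc, ← Spec.map_comp]
  have hunit : ∀ a : Γ(X, U), x ∈ X.basicOpen a → IsUnit (θ a) := by
    intro a hxa
    apply T.toLocallyRingedSpace.toRingedSpace.isUnit_of_isUnit_germ ⊤ (θ a)
    intro t ht
    have h3 : t ∈ T.basicOpen (θ a) := by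
      have h4 : T.basicOpen (θ a) = h' ⁻¹ᵁ (hU'.fromSpec ⁻¹ᵁ X.basicOpen a) := by
        rw [hU'.fromSpec_preimage_basicOpen', Scheme.preimage_basicOpen]
        rfl
      rw [h4]
      change hU'.fromSpec (h' t) ∈ X.basicOpen a
      rw [← Scheme.Hom.comp_apply, hh']
      exact (hgen t).mem_open (X.basicOpen a).2 hxa
    exact (Scheme.mem_basicOpen T (θ a) t ht).mp h3
  letI : Algebra Γ(X, U) (X.presheaf.stalk x) :=
    TopCat.Presheaf.algebra_section_stalk X.presheaf (⟨x, hxU⟩ : U)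
  haveI hloc : IsLocalization.AtPrime (X.presheaf.stalk x)
      (hU'.primeIdealOf ⟨x, hxU⟩).asIdeal := hU'.isLocalization_stalk ⟨x, hxU⟩
  have hunits : ∀ y : (hU'.primeIdealOf ⟨x, hxU⟩).asIdeal.primeCompl, IsUnit (θ.hom y) := by
    intro y
    apply hunit
    have h5 : IsUnit (algebraMap Γ(X, U) (X.presheaf.stalk x) y) :=
      IsLocalization.map_units (X.presheaf.stalk x) y
    exact (Scheme.mem_basicOpen X (y : Γ(X, U)) x hxU).mpr h5
  let θ' : X.presheaf.stalk x ⟶ Γ(T, ⊤) :=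
    CommRingCat.ofHom (IsLocalization.lift (M := (hU'.primeIdealOf ⟨x, hxU⟩).asIdeal.primeCompl)
      (S := X.presheaf.stalk x) (g := θ.hom) hunits)
  have hθ' : X.presheaf.germ U x hxU ≫ θ' = θ := by
    ext a
    exact IsLocalization.lift_eq (S := X.presheaf.stalk x) hunits a
  refine ⟨T.toSpecΓ ≫ Spec.map θ', ?_⟩
  rw [← hU'.fromSpecStalk_eq_fromSpecStalk hxU, IsAffineOpen.fromSpecStalk, Category.assoc,
    ← Spec.map_comp_assoc, hθ', ← Category.assoc, ← hθ, hh']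

end H5Factor
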