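import Mathlib
import Groth.Prelude.Def_FlatCA

set_option autoImplicit false
universe u v
open TensorProduct

namespace FlatCA

section G

variable {R : Type u} [CommRing R] (p : Ideal R) [p.IsPrime]
  (N : Type u) [AddCommGroup N] [Module R N]

/-- elements of the residue field are fractions -/
theorem h5_residueField_exists_smul (k : p.ResidueField) :
    ∃ t ∉ p, ∃ a : R, t • k = algebraMap R p.ResidueField a := by
  obtain ⟨r, hr, s, e⟩ := Ideal.ResidueField.exists_smul_eq_tmul_one (S := R) p
    ((1 : R) ⊗ₜ[R] k)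
  refine ⟨r, hr, s, ?_⟩
  have := congrArg (TensorProduct.lid R p.ResidueField) e
  rw [map_smul, TensorProduct.lid_tmul, TensorProduct.lid_tmul, one_smul] at this
  rw [this, Algebra.algebraMap_eq_smul_one]

theorem h5_G_exists (x : N ⊗[R] p.ResidueField) :
    ∃ t ∉ p, ∃ n : N, t • x = n ⊗ₜ[R] (1 : p.ResidueField) := by
  induction x using TensorProduct.induction_on with
  | zero => exact ⟨1, fun h => (Ideal.IsPrime.ne_top ‹_›) ((Ideal.eq_top_iff_one p).2 h), 0, by simp⟩
  | tmul n k =>
    obtain ⟨t, ht, a, e⟩ := h5_residueField_exists_smul p k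
    refine ⟨t, ht, a • n, ?_⟩
    rw [TensorProduct.smul_tmul', TensorProduct.smul_tmul, e, Algebra.algebraMap_eq_smul_one,
      ← TensorProduct.smul_tmul]
  | add x y hx hy =>
    obtain ⟨t₁, ht₁, n₁, e₁⟩ := hx
    obtain ⟨t₂, ht₂, n₂, e₂⟩ := hy
    refine ⟨t₁ * t₂, fun h => (Ideal.IsPrime.mem_or_mem ‹_› h).elim ht₁ ht₂, t₂ • n₁ + t₁ • n₂, ?_⟩
    rw [smul_add, mul_comm t₁ t₂, mul_smul, e₁, mul_comm t₂ t₁, mul_smul, e₂, TensorProduct.add_tmul,
      TensorProduct.smul_tmul', TensorProduct.smul_tmul']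

theorem h5_G_smul_eq_zero_of_mem (r : R) (hr : r ∈ p) (x : N ⊗[R] p.ResidueField) : r • x = 0 := by
  induction x using TensorProduct.induction_on with
  | zero => simp
  | tmul n k =>
    rw [TensorProduct.smul_tmul', TensorProduct.smul_tmul, Algebra.smul_def,
      (Ideal.algebraMap_residueField_eq_zero).2 hr, zero_mul, TensorProduct.tmul_zero]
  | add x y hx hy => rw [smul_add, hx, hy, add_zero]

theorem h5_G_eq_zero_of_smul (t : R) (ht : t ∉ p) (x : N ⊗[R] p.ResidueField) (h : t • x = 0) :
    x = 0 := by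
  have hne : algebraMap R p.ResidueField t ≠ 0 := by
    rw [Ne, Ideal.algebraMap_residueField_eq_zero]
    exact ht
  have key : ∀ y : N ⊗[R] p.ResidueField,
      LinearMap.lTensor N (LinearMap.mulLeft R (algebraMap R p.ResidueField t)⁻¹) (t • y) = y := by
    intro y
    induction y using TensorProduct.induction_on with
    | zero => simp
    | tmul n k =>
      rw [TensorProduct.smul_tmul', TensorProduct.smul_tmul, LinearMap.lTensor_tmul,
        LinearMap.mulLeft_apply, Algebra.smul_def, ← mul_assoc, inv_mul_cancel₀ hne, one_mul]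
    | add a b ha hb => rw [smul_add, map_add, ha, hb]
  rw [← key x, h, map_zero]

theorem h5_G_tmul_one_eq_zero (n : N) (h : n ⊗ₜ[R] (1 : p.ResidueField) = 0) :
    ∃ t ∉ p, t • n ∈ (p • ⊤ : Submodule R N) := by
  have h1 : (1 : p.ResidueField) ⊗ₜ[R] n = 0 := by
    have := congrArg (TensorProduct.comm R N p.ResidueField) h
    rwa [TensorProduct.comm_tmul, map_zero] at this
  have hloc : IsLocalizedModule (nonZeroDivisors (R ⧸ p))
      (TensorProduct.mk (R ⧸ p) p.ResidueField ((R ⧸ p) ⊗[R] N) 1) :=
    (isLocalizedModule_iff_isBaseChange (nonZeroDivisors (R ⧸ p)) p.ResidueField _).2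
      (TensorProduct.isBaseChange (R ⧸ p) ((R ⧸ p) ⊗[R] N) p.ResidueField)
  have h2 : (TensorProduct.mk (R ⧸ p) p.ResidueField ((R ⧸ p) ⊗[R] N) 1)
      ((1 : R ⧸ p) ⊗ₜ[R] n) = 0 := by
    apply (TensorProduct.AlgebraTensorModule.cancelBaseChange R (R ⧸ p) p.ResidueField
      p.ResidueField N).injective
    rw [map_zero]
    show (TensorProduct.AlgebraTensorModule.cancelBaseChange R (R ⧸ p) p.ResidueField
      p.ResidueField N) ((1 : p.ResidueField) ⊗ₜ[R ⧸ p] ((1 : R ⧸ p) ⊗ₜ[R] n)) = 0
    rw [TensorProduct.AlgebraTensorModule.cancelBaseChange_tmul, one_smul]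
    exact h1
  obtain ⟨⟨c, hc⟩, hcn⟩ := (IsLocalizedModule.eq_zero_iff (nonZeroDivisors (R ⧸ p)) _).1 h2
  obtain ⟨t, rfl⟩ := Ideal.Quotient.mk_surjective c
  have htp : t ∉ p := by
    intro htp
    exact nonZeroDivisors.ne_zero hc (Ideal.Quotient.eq_zero_iff_mem.2 htp)
  refine ⟨t, htp, ?_⟩
  have h3 : (Ideal.Quotient.mk p t) ⊗ₜ[R] n = (0 : (R ⧸ p) ⊗[R] N) := by
    have : (Ideal.Quotient.mk p t) • ((1 : R ⧸ p) ⊗ₜ[R] n) = (0 : (R ⧸ p) ⊗[R] N) := hcn
    rwa [TensorProduct.smul_tmul', smul_eq_mul, mul_one] at this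
  have h4 := congrArg (TensorProduct.quotTensorEquivQuotSMul N p) h3
  rw [TensorProduct.quotTensorEquivQuotSMul_mk_tmul, map_zero,
    Submodule.Quotient.mk_eq_zero] at h4
  exact h4

theorem h5_mem_of_smul_mem_of_flat [Module.Flat R N] (t : R) (ht : t ∉ p) (n : N)
    (h : t • n ∈ (p • ⊤ : Submodule R N)) : n ∈ (p • ⊤ : Submodule R N) := by
  have hne : Ideal.Quotient.mk p t ≠ 0 := fun h0 => ht (Ideal.Quotient.eq_zero_iff_mem.1 h0)
  have hinj : Function.Injective (LinearMap.mulLeft R (Ideal.Quotient.mk p t)) := by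
    intro a b hab
    exact mul_left_cancel₀ hne hab
  have hinj2 := Module.Flat.rTensor_preserves_injective_linearMap (M := N) _ hinj
  have h1 : (LinearMap.mulLeft R (Ideal.Quotient.mk p t)).rTensor N ((1 : R ⧸ p) ⊗ₜ[R] n) = 0 := by
    rw [LinearMap.rTensor_tmul, LinearMap.mulLeft_apply, mul_one]
    apply (TensorProduct.quotTensorEquivQuotSMul N p).injective
    rw [TensorProduct.quotTensorEquivQuotSMul_mk_tmul, map_zero,
      Submodule.Quotient.mk_eq_zero]
    exact h
  have h2 : (1 : R ⧸ p) ⊗ₜ[R] n = (0 : (R ⧸ p) ⊗[R] N) := hinj2 (by rw [h1, map_zero])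
  have h3 := congrArg (TensorProduct.quotTensorEquivQuotSMul N p) h2
  rw [TensorProduct.quotTensorEquivQuotSMul_mk_one_tmul, map_zero,
    Submodule.Quotient.mk_eq_zero] at h3
  exact h3

end G

section Theta

variable {R : Type u} [CommRing R] (p : Ideal R) [p.IsPrime] (S : Type u) [CommRing S]
  [Algebra R S] (N : Type u) [AddCommGroup N] [Module S N] [Module R N] [IsScalarTower R S N]

attribute [local instance] Algebra.TensorProduct.rightAlgebra

/-- The fibre module is `N ⊗ κ(p)`. -/
noncomputable def h5Theta : fiberMod p S N ≃ₗ[S] N ⊗[R] p.ResidueField :=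
  (TensorProduct.congr (Algebra.TensorProduct.commRight R S p.ResidueField).symm.toLinearEquiv
    (LinearEquiv.refl S N)) ≪≫ₗ
  (TensorProduct.comm S (S ⊗[R] p.ResidueField) N) ≪≫ₗ
  (TensorProduct.AlgebraTensorModule.cancelBaseChange R S S N p.ResidueField)

theorem h5Theta_toFiberMod (n : N) :
    h5Theta p S N (toFiberMod p S N n) = n ⊗ₜ[R] (1 : p.ResidueField) := by
  show (TensorProduct.AlgebraTensorModule.cancelBaseChange R S S N p.ResidueField)
    (n ⊗ₜ[S] ((1 : S) ⊗ₜ[R] (1 : p.ResidueField))) = _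
  rw [TensorProduct.AlgebraTensorModule.cancelBaseChange_tmul, one_smul]

end Theta

section Ann

variable {A : Type u} [CommRing A] {M : Type v} {M' : Type*} [AddCommGroup M] [AddCommGroup M']
  [Module A M] [Module A M']

theorem h5_ann_map_equiv (e : M ≃ₗ[A] M') (m : M) :
    (Submodule.span A {e m}).annihilator = (Submodule.span A {m}).annihilator := by
  ext s
  rw [Submodule.mem_annihilator_span_singleton, Submodule.mem_annihilator_span_singleton,
    ← map_smul, LinearEquiv.map_eq_zero_iff]

theorem h5_ass_congr {M'' : Type v} [AddCommGroup M''] [Module A M''] (e : M ≃ₗ[A] M'') :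
    ass A M = ass A M'' := by
  ext q
  constructor
  · rintro ⟨hq, m, hm⟩
    exact ⟨hq, e m, by rw [hm, h5_ann_map_equiv]⟩
  · rintro ⟨hq, m, hm⟩
    exact ⟨hq, e.symm m, by rw [hm, h5_ann_map_equiv]⟩

end Ann

section SLevel

variable {R : Type u} [CommRing R] (p : Ideal R) [p.IsPrime] (S : Type u) [CommRing S]
  [Algebra R S] (N : Type u) [AddCommGroup N] [Module S N] [Module R N] [IsScalarTower R S N]

theorem h5_mem_P_iff (n : N) :
    n ∈ (p.map (algebraMap R S)) • (⊤ : Submodule S N) ↔ n ∈ (p • ⊤ : Submodule R N) := by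
  constructor
  · intro h
    refine Submodule.smul_induction_on h ?_ ?_
    · intro b hb n' _
      have hb' : b ∈ Submodule.span S ((algebraMap R S) '' (p : Set R)) := hb
      suffices hk : ∀ n' : N, b • n' ∈ (p • ⊤ : Submodule R N) from hk n'
      refine Submodule.span_induction (p := fun b _ => ∀ n' : N, b • n' ∈ (p • ⊤ : Submodule R N))
        ?_ ?_ ?_ ?_ hb'
      · rintro _ ⟨a, ha, rfl⟩ n'
        rw [algebraMap_smul]
        exact Submodule.smul_mem_smul ha Submodule.mem_top
      · intro n'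
        rw [zero_smul]
        exact Submodule.zero_mem _
      · intro x y _ _ hx hy n'
        rw [add_smul]
        exact Submodule.add_mem _ (hx n') (hy n')
      · intro s x _ hx n'
        rw [smul_eq_mul, mul_comm, mul_smul]
        exact hx _
    · intro x y hx hy
      exact Submodule.add_mem _ hx hy
  · intro h
    refine Submodule.smul_induction_on h ?_ ?_
    · intro a ha n' _
      rw [← algebraMap_smul S a n']
      exact Submodule.smul_mem_smul (Ideal.mem_map_of_mem _ ha) Submodule.mem_top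
    · intro x y hx hy
      exact Submodule.add_mem _ hx hy

theorem h5_rho_eq_zero_of_mem (n : N) (hn : n ∈ (p • ⊤ : Submodule R N)) :
    n ⊗ₜ[R] (1 : p.ResidueField) = 0 := by
  refine Submodule.smul_induction_on hn ?_ ?_
  · intro a ha n' _
    rw [← TensorProduct.smul_tmul']
    exact h5_G_smul_eq_zero_of_mem p N a ha _
  · intro x y hx hy
    rw [TensorProduct.add_tmul, hx, hy, add_zero]

theorem h5_G_ann_exists (x : N ⊗[R] p.ResidueField) :
    ∃ n : N, (Submodule.span S {x}).annihilator =
      (Submodule.span S {n ⊗ₜ[R] (1 : p.ResidueField)}).annihilator := by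
  obtain ⟨t, ht, n, e⟩ := h5_G_exists p N x
  refine ⟨n, ?_⟩
  ext s
  rw [Submodule.mem_annihilator_span_singleton, Submodule.mem_annihilator_span_singleton, ← e]
  constructor
  · intro h
    rw [smul_comm, h, smul_zero]
  · intro h
    rw [smul_comm] at h
    exact h5_G_eq_zero_of_smul p N t ht _ h

theorem h5_ann_quot_le (n : N) :
    (Submodule.span S {(Submodule.Quotient.mk n :
      N ⧸ (p.map (algebraMap R S)) • (⊤ : Submodule S N))}).annihilator ≤
    (Submodule.span S {n ⊗ₜ[R] (1 : p.ResidueField)}).annihilator := by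
  intro s hs
  rw [Submodule.mem_annihilator_span_singleton] at hs ⊢
  rw [← Submodule.Quotient.mk_smul, Submodule.Quotient.mk_eq_zero, h5_mem_P_iff] at hs
  rw [TensorProduct.smul_tmul']
  exact h5_rho_eq_zero_of_mem p N _ hs

theorem h5_ann_rho_eq_of_liesOver (q : Ideal S) [q.IsPrime]
    (hq : q.comap (algebraMap R S) = p) (n : N)
    (hn : q = (Submodule.span S {(Submodule.Quotient.mk n :
      N ⧸ (p.map (algebraMap R S)) • (⊤ : Submodule S N))}).annihilator) :
    q = (Submodule.span S {n ⊗ₜ[R] (1 : p.ResidueField)}).annihilator := by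
  refine le_antisymm ?_ ?_
  · rw [hn]
    exact h5_ann_quot_le p S N n
  · intro s hs
    rw [Submodule.mem_annihilator_span_singleton, TensorProduct.smul_tmul'] at hs
    obtain ⟨t, ht, hts⟩ := h5_G_tmul_one_eq_zero p N _ hs
    have h1 : (algebraMap R S t * s) ∈ q := by
      rw [hn, Submodule.mem_annihilator_span_singleton, ← Submodule.Quotient.mk_smul,
        Submodule.Quotient.mk_eq_zero, h5_mem_P_iff, mul_smul, algebraMap_smul]
      exact hts
    rcases Ideal.IsPrime.mem_or_mem ‹q.IsPrime› h1 with h2 | h2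
    · exfalso
      apply ht
      rw [← hq]
      exact h2
    · exact h2

theorem h5_ann_rho_eq_of_flat [Module.Flat R N] (n : N) :
    (Submodule.span S {(Submodule.Quotient.mk n :
      N ⧸ (p.map (algebraMap R S)) • (⊤ : Submodule S N))}).annihilator =
    (Submodule.span S {n ⊗ₜ[R] (1 : p.ResidueField)}).annihilator := by
  refine le_antisymm (h5_ann_quot_le p S N n) ?_
  intro s hs
  rw [Submodule.mem_annihilator_span_singleton, TensorProduct.smul_tmul'] at hs
  obtain ⟨t, ht, hts⟩ := h5_G_tmul_one_eq_zero p N _ hs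
  have h1 := h5_mem_of_smul_mem_of_flat p N t ht _ hts
  rw [Submodule.mem_annihilator_span_singleton, ← Submodule.Quotient.mk_smul,
    Submodule.Quotient.mk_eq_zero, h5_mem_P_iff]
  exact h1

theorem h5_comap_eq_of_flat [Module.Flat R N] (q : Ideal S) [q.IsPrime] (n : N)
    (hn : q = (Submodule.span S {(Submodule.Quotient.mk n :
      N ⧸ (p.map (algebraMap R S)) • (⊤ : Submodule S N))}).annihilator) :
    q.comap (algebraMap R S) = p := by
  ext a
  rw [Ideal.mem_comap, hn, Submodule.mem_annihilator_span_singleton, ← Submodule.Quotient.mk_smul,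
    Submodule.Quotient.mk_eq_zero, h5_mem_P_iff, algebraMap_smul]
  constructor
  · intro h
    by_contra ha
    have h1 := h5_mem_of_smul_mem_of_flat p N a ha _ h
    have h2 : (1 : S) ∈ q := by
      rw [hn, Submodule.mem_annihilator_span_singleton, one_smul, Submodule.Quotient.mk_eq_zero,
        h5_mem_P_iff]
      exact h1
    exact (Ideal.IsPrime.ne_top ‹q.IsPrime›) ((Ideal.eq_top_iff_one q).2 h2)
  · intro ha
    exact Submodule.smul_mem_smul ha Submodule.mem_top

theorem h5_exists_ann_quot_eq_of_noetherian [IsNoetherianRing S] (q : Ideal S) (n₀ : N)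
    (hq : q = (Submodule.span S {n₀ ⊗ₜ[R] (1 : p.ResidueField)}).annihilator) :
    ∃ n₁ : N, q = (Submodule.span S {(Submodule.Quotient.mk n₁ :
      N ⧸ (p.map (algebraMap R S)) • (⊤ : Submodule S N))}).annihilator := by
  classical
  obtain ⟨T, hT⟩ := (isNoetherianRing_iff_ideal_fg S).1 inferInstance q
  have hmem : ∀ s : S, s ∈ q ↔ (s • n₀) ⊗ₜ[R] (1 : p.ResidueField) = 0 := by
    intro s
    rw [hq, Submodule.mem_annihilator_span_singleton, TensorProduct.smul_tmul']
  have hone : (1 : R) ∉ p := fun h =>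
    (Ideal.IsPrime.ne_top ‹p.IsPrime›) ((Ideal.eq_top_iff_one p).2 h)
  have key : ∀ F : Finset S, (∀ s ∈ F, s ∈ q) →
      ∃ t ∉ p, ∀ s ∈ F, t • (s • n₀) ∈ (p • ⊤ : Submodule R N) := by
    intro F
    induction F using Finset.induction_on with
    | empty =>
      intro _
      exact ⟨1, hone, fun s hs => absurd hs (Finset.notMem_empty s)⟩
    | insert a F ha ih =>
      intro hF
      obtain ⟨t, ht, h1⟩ := ih fun s hs => hF s (Finset.mem_insert_of_mem hs)
      obtain ⟨t', ht', h2⟩ := h5_G_tmul_one_eq_zero p N _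
        ((hmem a).1 (hF a (Finset.mem_insert_self a F)))
      refine ⟨t' * t, fun h => (Ideal.IsPrime.mem_or_mem ‹p.IsPrime› h).elim ht' ht,
        fun s hs => ?_⟩
      rcases Finset.mem_insert.1 hs with rfl | hs
      · rw [mul_comm, mul_smul]
        exact Submodule.smul_mem _ t h2
      · rw [mul_smul]
        exact Submodule.smul_mem _ t' (h1 s hs)
  obtain ⟨t, ht, h1⟩ := key T (fun s hs => by
    rw [← hT]
    exact Ideal.subset_span hs)
  refine ⟨t • n₀, le_antisymm ?_ ?_⟩
  · rw [← hT]
    refine Ideal.span_le.2 fun s hs => ?_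
    rw [SetLike.mem_coe, Submodule.mem_annihilator_span_singleton, ← Submodule.Quotient.mk_smul,
      Submodule.Quotient.mk_eq_zero, h5_mem_P_iff, smul_comm]
    exact h1 s hs
  · intro s hs
    rw [Submodule.mem_annihilator_span_singleton, ← Submodule.Quotient.mk_smul,
      Submodule.Quotient.mk_eq_zero, h5_mem_P_iff, smul_comm] at hs
    have h2 := h5_rho_eq_zero_of_mem p N _ hs
    rw [← TensorProduct.smul_tmul'] at h2
    have h3 := h5_G_eq_zero_of_smul p N t ht _ h2
    exact (hmem s).2 h3

theorem h5_ann_tmul_eq_of_flat [Module.Flat R N] {M : Type u} [AddCommGroup M] [Module R M] (m : M)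
    (hm : p = (Submodule.span R {m}).annihilator) (n : N) :
    (Submodule.span S {n ⊗ₜ[R] m}).annihilator =
      (Submodule.span S {(Submodule.Quotient.mk n :
        N ⧸ (p.map (algebraMap R S)) • (⊤ : Submodule S N))}).annihilator := by
  have hle : p ≤ LinearMap.ker (LinearMap.toSpanSingleton R M m) := by
    intro a ha
    rw [LinearMap.mem_ker, LinearMap.toSpanSingleton_apply]
    rw [hm, Submodule.mem_annihilator_span_singleton] at ha
    exact ha
  have hge : LinearMap.ker (LinearMap.toSpanSingleton R M m) ≤ p := by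
    intro a ha
    rw [LinearMap.mem_ker, LinearMap.toSpanSingleton_apply] at ha
    rw [hm, Submodule.mem_annihilator_span_singleton]
    exact ha
  let ι : (R ⧸ p) →ₗ[R] M := Submodule.liftQ p (LinearMap.toSpanSingleton R M m) hle
  have hι : Function.Injective ι :=
    LinearMap.ker_eq_bot.1 (Submodule.ker_liftQ_eq_bot p _ hle hge)
  have hinj := Module.Flat.lTensor_preserves_injective_linearMap (M := N) ι hι
  have hone : ∀ n' : N, (TensorProduct.tensorQuotEquivQuotSMul N p) (n' ⊗ₜ[R] (1 : R ⧸ p)) =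
      Submodule.Quotient.mk n' := by
    intro n'
    rw [← map_one (Ideal.Quotient.mk p), TensorProduct.tensorQuotEquivQuotSMul_tmul_mk, one_smul]
  have key : ∀ n' : N, n' ⊗ₜ[R] m = 0 ↔ n' ∈ (p • ⊤ : Submodule R N) := by
    intro n'
    have h1 : LinearMap.lTensor N ι (n' ⊗ₜ[R] (1 : R ⧸ p)) = n' ⊗ₜ[R] m := by
      rw [LinearMap.lTensor_tmul]
      congr 1
      show ι (Submodule.Quotient.mk 1) = m
      rw [Submodule.liftQ_apply, LinearMap.toSpanSingleton_apply, one_smul]
    rw [← h1]
    constructor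
    · intro h0
      have h2 : n' ⊗ₜ[R] (1 : R ⧸ p) = 0 := hinj (by rw [h0, map_zero])
      have h3 := congrArg (TensorProduct.tensorQuotEquivQuotSMul N p) h2
      rw [hone, map_zero, Submodule.Quotient.mk_eq_zero] at h3
      exact h3
    · intro h0
      have : n' ⊗ₜ[R] (1 : R ⧸ p) = 0 := by
        apply (TensorProduct.tensorQuotEquivQuotSMul N p).injective
        rw [hone, map_zero, Submodule.Quotient.mk_eq_zero]
        exact h0
      rw [this, map_zero]
  ext s
  rw [Submodule.mem_annihilator_span_singleton, Submodule.mem_annihilator_span_singleton,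
    TensorProduct.smul_tmul', key, ← Submodule.Quotient.mk_smul, Submodule.Quotient.mk_eq_zero,
    h5_mem_P_iff]

theorem h5_fiberMod_smul (s : S) (x : fiberMod p S N) : s • x =
    ((Algebra.TensorProduct.includeRight (R := R) (A := p.ResidueField) (B := S)) s) • x := by
  letI : Algebra S (p.Fiber S) := Algebra.TensorProduct.rightAlgebra
  have key : ∀ (s : S) (x : TensorProduct S (p.Fiber S) N), s • x =
      ((Algebra.TensorProduct.includeRight (R := R) (A := p.ResidueField) (B := S)) s) • x := by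
    intro s x
    rw [← algebraMap_smul (p.Fiber S) s x]
    rfl
  exact key s x

theorem h5_fiberMod_ann_comap (x : fiberMod p S N) : (Submodule.span S {x}).annihilator =
    ((Submodule.span (p.Fiber S) {x}).annihilator).comap
      (Algebra.TensorProduct.includeRight (R := R) (A := p.ResidueField) (B := S)).toRingHom := by
  ext s
  rw [Ideal.mem_comap, Submodule.mem_annihilator_span_singleton,
    Submodule.mem_annihilator_span_singleton, h5_fiberMod_smul]
  rfl

end SLevel

end FlatCA
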