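import Mathlib
import Groth.Prelude.Def_FlatCA
import Groth.Agent.Lib.helper5.FiberMod
import Groth.Agent.Lib.helper5.AssExact

set_option autoImplicit false
universe u v
open TensorProduct

namespace FlatCA

theorem h5_ass_tensor_finite {R S : Type u} [CommRing R] [CommRing S] [Algebra R S]
    (N : Type u) [AddCommGroup N] [Module S N] [Module R N] [IsScalarTower R S N]
    [IsNoetherianRing R] [Module.Flat R N]
    (M : Type u) [AddCommGroup M] [Module R M] [Module.Finite R M] :
    ∀ q : Ideal S, q ∈ FlatCA.ass S (N ⊗[R] M) →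
      q ∈ FlatCA.ass S (N ⧸ ((q.comap (algebraMap R S)).map (algebraMap R S)) •
        (⊤ : Submodule S N)) := by
  induction ‹Module.Finite R M› using
    IsNoetherianRing.induction_on_isQuotientEquivQuotientPrime R with
  | subsingleton M =>
    rintro q ⟨hqp, x, hx⟩
    exfalso
    have hall : ∀ y : N ⊗[R] M, y = 0 := by
      intro y
      induction y using TensorProduct.induction_on with
      | zero => rfl
      | tmul n m => rw [Subsingleton.elim m 0, TensorProduct.tmul_zero]
      | add a b ha hb => rw [ha, hb, add_zero]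
    have hx0 : x = 0 := hall x
    apply hqp.ne_top
    rw [hx, hx0, Ideal.eq_top_iff_one, Submodule.mem_annihilator_span_singleton, smul_zero]
  | quotient M p' e =>
    rintro q ⟨hqp, x, hx⟩
    haveI := hqp
    haveI : p'.asIdeal.IsPrime := p'.2
    let E : N ⊗[R] M ≃ₗ[S] N ⊗[R] (R ⧸ p'.asIdeal) :=
      TensorProduct.AlgebraTensorModule.congr (LinearEquiv.refl S N) e
    obtain ⟨n, hn⟩ := Submodule.Quotient.mk_surjective _
      (TensorProduct.tensorQuotEquivQuotSMul N p'.asIdeal (E x))
    have hEx : E x = n ⊗ₜ[R] (1 : R ⧸ p'.asIdeal) := by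
      have : E x = (TensorProduct.tensorQuotEquivQuotSMul N p'.asIdeal).symm
          (Submodule.Quotient.mk n) := by
        rw [hn, LinearEquiv.symm_apply_apply]
      rw [this]
      rfl
    have hm : p'.asIdeal = (Submodule.span R {(1 : R ⧸ p'.asIdeal)}).annihilator := by
      ext a
      rw [Submodule.mem_annihilator_span_singleton, ← Ideal.Quotient.eq_zero_iff_mem,
        Algebra.smul_def, mul_one]
      rfl
    have h1 : q = (Submodule.span S {(Submodule.Quotient.mk n :
        N ⧸ (p'.asIdeal.map (algebraMap R S)) • (⊤ : Submodule S N))}).annihilator := by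
      rw [hx, ← h5_ann_map_equiv E x, hEx, h5_ann_tmul_eq_of_flat p'.asIdeal S N 1 hm n]
    have h2 := h5_comap_eq_of_flat p'.asIdeal S N q n h1
    rw [h2]
    exact ⟨hqp, _, h1⟩
  | exact M₁ M₂ M₃ f g hf hg hfg h1 h3 =>
    intro q hq
    have hF : Function.Injective (TensorProduct.AlgebraTensorModule.lTensor S N f) :=
      Module.Flat.lTensor_preserves_injective_linearMap f hf
    have hFG : Function.Exact (TensorProduct.AlgebraTensorModule.lTensor S N f)
        (TensorProduct.AlgebraTensorModule.lTensor S N g) := Module.Flat.lTensor_exact N hfg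
    rcases h5_ass_of_exact _ _ hF hFG q hq with h | h
    · exact h1 q h
    · exact h3 q h

end FlatCA
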