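import Mathlib

/-! Points with algebraic residue field extension are closed in their fibre. -/

universe u

open CategoryTheory AlgebraicGeometry

namespace H5FibreClosed

variable {X S : Scheme.{u}}

lemma isIso_stalkSpecializes_of_eq (S : Scheme.{u}) {s s' : S} (p : s = s') (h : s ⤳ s') :
    IsIso (S.presheaf.stalkSpecializes h) := by
  subst p
  have h1 : S.presheaf.stalkSpecializes h = 𝟙 _ := by simp
  rw [h1]
  infer_instance

lemma residue_stalkSpecializes_eq_zero (f : X ⟶ S) {x x' : X} (h : x ⤳ x') (hf : f x = f x')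
    (halg : @Algebra.IsAlgebraic (S.residueField (f x)) (X.residueField x) _ _
      (f.residueFieldMap x).hom.toAlgebra)
    (a : X.presheaf.stalk x') (ha : a ∈ IsLocalRing.maximalIdeal (X.presheaf.stalk x')) :
    (X.residue x).hom ((X.presheaf.stalkSpecializes h).hom a) = 0 := by
  by_contra hz
  letI : Algebra (S.residueField (f x)) (X.residueField x) := (f.residueFieldMap x).hom.toAlgebra
  let sp := (X.presheaf.stalkSpecializes h).hom
  let sp₀ := (S.presheaf.stalkSpecializes (f.base.hom.map_specializes h)).hom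
  let ev : X.presheaf.stalk x' →+* X.residueField x := (X.residue x).hom.comp sp
  let ev₀ : S.presheaf.stalk (f x') →+* S.residueField (f x) := (S.residue (f x)).hom.comp sp₀
  let φ : S.presheaf.stalk (f x') →+* X.presheaf.stalk x' := (f.stalkMap x').hom
  have hcomm : ∀ b, algebraMap (S.residueField (f x)) (X.residueField x) (ev₀ b) = ev (φ b) := by
    intro b
    change (f.residueFieldMap x).hom ((S.residue (f x)).hom (sp₀ b)) =
      (X.residue x).hom (sp (φ b))
    have h1 := congr($(Scheme.residue_residueFieldMap f x) (sp₀ b))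
    have h2 := Scheme.Hom.stalkSpecializes_stalkMap_apply f x x' h b
    rw [CommRingCat.comp_apply, CommRingCat.comp_apply] at h1
    rw [h1]
    congr 1
  have hsp₀ : Function.Bijective sp₀ := by
    haveI := isIso_stalkSpecializes_of_eq S hf (f.base.hom.map_specializes h)
    exact ConcreteCategory.bijective_of_isIso (S.presheaf.stalkSpecializes _)
  have hev₀ : Function.Surjective ev₀ := (S.residue_surjective (f x)).comp hsp₀.2
  set z := ev a with hzdef
  have hzint : IsIntegral (S.residueField (f x)) z := Algebra.IsIntegral.isIntegral z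
  let p := minpoly (S.residueField (f x)) z
  have hc0 : p.coeff 0 ≠ 0 := minpoly.coeff_zero_ne_zero hzint hz
  obtain ⟨P, hP⟩ := Polynomial.map_surjective ev₀ hev₀ p
  have hg : ev (P.eval₂ φ a) = 0 := by
    rw [Polynomial.hom_eval₂]
    have h3 : ev.comp φ = (algebraMap (S.residueField (f x)) (X.residueField x)).comp ev₀ :=
      RingHom.ext fun b => (hcomm b).symm
    rw [h3, ← Polynomial.eval₂_map, hP]
    exact minpoly.aeval _ z
  have hgm : P.eval₂ φ a ∈ IsLocalRing.maximalIdeal (X.presheaf.stalk x') := by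
    by_contra hu
    have hunit : IsUnit (P.eval₂ φ a) := by
      simpa [IsLocalRing.mem_maximalIdeal, mem_nonunits_iff] using hu
    have h4 := hunit.map ev
    rw [hg] at h4
    exact not_isUnit_zero h4
  have hdiff : P.eval₂ φ a - φ (P.coeff 0) ∈ IsLocalRing.maximalIdeal (X.presheaf.stalk x') := by
    obtain ⟨Q, hQ⟩ := Polynomial.X_dvd_sub_C (p := P)
    have h5 : P.eval₂ φ a - φ (P.coeff 0) = (P - Polynomial.C (P.coeff 0)).eval₂ φ a := by
      simp [Polynomial.eval₂_sub]
    rw [h5, hQ, Polynomial.eval₂_mul, Polynomial.eval₂_X]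
    exact Ideal.mul_mem_right _ _ ha
  have hφ0 : φ (P.coeff 0) ∈ IsLocalRing.maximalIdeal (X.presheaf.stalk x') := by
    have h6 := Ideal.sub_mem _ hgm hdiff
    simpa using h6
  have hb : P.coeff 0 ∈ IsLocalRing.maximalIdeal (S.presheaf.stalk (f x')) := by
    by_contra hu
    have hunit : IsUnit (P.coeff 0) := by
      simpa [IsLocalRing.mem_maximalIdeal, mem_nonunits_iff] using hu
    exact hφ0 (hunit.map φ)
  have h7 : ev₀ (P.coeff 0) = p.coeff 0 := by rw [← hP, Polynomial.coeff_map]
  apply hc0
  rw [← h7]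
  have hsb : sp₀ (P.coeff 0) ∈ IsLocalRing.maximalIdeal (S.presheaf.stalk (f x)) := by
    by_contra hu
    have hunit : IsUnit (sp₀ (P.coeff 0)) := by
      simpa [IsLocalRing.mem_maximalIdeal, mem_nonunits_iff] using hu
    have h8 : IsUnit (P.coeff 0) :=
      (isUnit_map_iff (RingEquiv.ofBijective sp₀ hsp₀) _).mp hunit
    exact hb h8
  exact (IsLocalRing.residue_eq_zero_iff _).mpr hsb

lemma specializes_of_algebraic (f : X ⟶ S) {x x' : X} (h : x ⤳ x') (hf : f x = f x')
    (halg : @Algebra.IsAlgebraic (S.residueField (f x)) (X.residueField x) _ _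
      (f.residueFieldMap x).hom.toAlgebra) : x' ⤳ x := by
  rw [specializes_iff_forall_open]
  intro O hO hxO
  by_contra hx'O
  obtain ⟨_, ⟨W, hW, rfl⟩, hx'W, -⟩ :=
    X.isBasis_affineOpens.exists_subset_of_mem_open (Set.mem_univ x') isOpen_univ
  have hW' : IsAffineOpen W := hW
  have hxW : x ∈ W := h.mem_open W.2 hx'W
  obtain ⟨a, haO, hxa⟩ := hW'.exists_basicOpen_le (V := ⟨O, hO⟩) ⟨x, hxO⟩ hxW
  have hx'a : x' ∉ X.basicOpen a := fun hc => hx'O (haO hc)
  rw [Scheme.mem_basicOpen X a x' hx'W] at hx'a
  have hxa' : IsUnit (X.presheaf.germ W x hxW a) := (Scheme.mem_basicOpen X a x hxW).mp hxa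
  have hmem : X.presheaf.germ W x' hx'W a ∈ IsLocalRing.maximalIdeal (X.presheaf.stalk x') := by
    simpa [IsLocalRing.mem_maximalIdeal, mem_nonunits_iff] using hx'a
  have h0 := residue_stalkSpecializes_eq_zero f h hf halg _ hmem
  have h1 : (X.presheaf.stalkSpecializes h).hom (X.presheaf.germ W x' hx'W a) =
      X.presheaf.germ W x hxW a := by
    have := X.presheaf.germ_stalkSpecializes hx'W h
    exact congr($this a)
  rw [h1] at h0
  have h2 := hxa'.map (X.residue x).hom
  rw [h0] at h2
  exact not_isUnit_zero h2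

lemma eq_of_algebraic (f : X ⟶ S) {x x' : X} (h : x ⤳ x') (hf : f x = f x')
    (halg : @Algebra.IsAlgebraic (S.residueField (f x)) (X.residueField x) _ _
      (f.residueFieldMap x).hom.toAlgebra) : x' = x :=
  ((specializes_of_algebraic f h hf halg).antisymm h).eq

end H5FibreClosed
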