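import Mathlib
import Groth.Agent.Lib.helper5.FibreClosed

/-! Fibres all of whose points have algebraic residue field extension are discrete. -/

universe u

open CategoryTheory AlgebraicGeometry

namespace H5FibreClosed

lemma dim_le_zero_of_t1 (Z : Type*) [TopologicalSpace Z] [QuasiSober Z]
    (hT1 : ∀ z z' : Z, z ⤳ z' → z = z') : topologicalKrullDim Z ≤ 0 := by
  unfold topologicalKrullDim
  rw [Order.krullDim_nonpos_iff_forall_isMax]
  intro a b hab
  obtain ⟨x, hx⟩ := QuasiSober.sober a.isIrreducible' a.isClosed'
  obtain ⟨y, hy⟩ := QuasiSober.sober b.isIrreducible' b.isClosed'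
  have hxa : closure {x} = a.carrier := hx.def
  have hyb : closure {y} = b.carrier := hy.def
  have hxa' : x ∈ a.carrier := by
    rw [← hxa]
    exact subset_closure (Set.mem_singleton x)
  have hxb : x ∈ b.carrier := hab hxa'
  rw [← hyb] at hxb
  have h1 : y = x := hT1 y x (specializes_iff_mem_closure.mpr hxb)
  intro z hz
  have hz' : z ∈ b.carrier := hz
  rw [← hyb, h1, hxa] at hz'
  exact hz'

variable {X Y S : Scheme.{u}}

lemma locallyOfFiniteType_fiberToSpecResidueField (g : Y ⟶ S) [LocallyOfFiniteType g] (s : S) :
    LocallyOfFiniteType (g.fiberToSpecResidueField s) := by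
  unfold Scheme.Hom.fiberToSpecResidueField
  exact MorphismProperty.pullback_snd (P := @LocallyOfFiniteType) _ _ inferInstance

lemma discreteTopology_fiber_of_forall_algebraic (g : Y ⟶ S) [LocallyOfFiniteType g] (s : S)
    (halg : ∀ y : Y, g y = s → @Algebra.IsAlgebraic (S.residueField (g y)) (Y.residueField y) _ _
      (g.residueFieldMap y).hom.toAlgebra) : DiscreteTopology (g.fiber s) := by
  have hT1 : ∀ z z' : g.fiber s, z ⤳ z' → z = z' := by
    intro z z' hzz
    have hs : g.fiberι s z ⤳ g.fiberι s z' := hzz.map (g.fiberι _).continuous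
    have hmem : ∀ w : g.fiber s, g (g.fiberι s w) = s := by
      intro w
      have h5 : g.fiberι s w ∈ g ⁻¹' {s} := g.range_fiberι s ▸ Set.mem_range_self w
      exact h5
    have h6 := eq_of_algebraic g hs ((hmem z).trans (hmem z').symm) (halg _ (hmem z))
    exact ((g.fiberι s).isEmbedding.injective h6).symm
  haveI := locallyOfFiniteType_fiberToSpecResidueField g s
  haveI : IsLocallyNoetherian (g.fiber s) :=
    LocallyOfFiniteType.isLocallyNoetherian (g.fiberToSpecResidueField s)
  haveI : IsLocallyArtinian (g.fiber s) :=
    IsLocallyArtinian.of_topologicalKrullDim_le_zero (dim_le_zero_of_t1 _ hT1)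
  infer_instance

lemma finite_residueFieldMap_of_isClosed (f : X ⟶ S) [LocallyOfFiniteType f] (x : X)
    (hcl : IsClosed ({f.asFiber x} : Set ↑(f.fiber (f x)))) :
    (f.residueFieldMap x).hom.Finite := by
  haveI : IsClosedImmersion (f.asFiberHom x) := by
    apply IsClosedImmersion.of_isPreimmersion
    rw [f.range_asFiberHom x]
    exact hcl
  haveI := locallyOfFiniteType_fiberToSpecResidueField f (f x)
  haveI : LocallyOfFiniteType (Spec.map (f.residueFieldMap x)) := by
    rw [← f.asFiberHom_fiberToSpecResidueField x]
    infer_instance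
  have hft : (f.residueFieldMap x).hom.FiniteType :=
    (HasRingHomProperty.Spec_iff (P := @LocallyOfFiniteType)).mp inferInstance
  letI := (f.residueFieldMap x).hom.toAlgebra
  haveI : Algebra.FiniteType (S.residueField (f x)) (X.residueField x) := hft
  have := finite_of_finite_type_of_isJacobsonRing (S.residueField (f x)) (X.residueField x)
  exact this

lemma finite_residueFieldMap_of_quasiFiniteAt (f : X ⟶ S) [LocallyOfFiniteType f] (x : X)
    (hq : f.QuasiFiniteAt x) : (f.residueFieldMap x).hom.Finite :=
  finite_residueFieldMap_of_isClosed f x hq.isClopen_singleton_asFiber.1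

end H5FibreClosed
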