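import Mathlib
import Groth.Agent.Lib.helper5.FibreClosed2

/-! Residue fields of points of a fibre product: algebraicity is preserved by base change. -/

universe u

open CategoryTheory CategoryTheory.Limits AlgebraicGeometry

namespace H5FibreBC

lemma isIntegral_comp_algebraMap_residueField {k A : Type*} [Field k] [CommRing A] [Algebra k A]
    [Algebra.IsIntegral k A] (p : Ideal A) [p.IsPrime] :
    ((algebraMap A p.ResidueField).comp (algebraMap k A)).IsIntegral := by
  letI : Algebra k p.ResidueField :=
    ((algebraMap A p.ResidueField).comp (algebraMap k A)).toAlgebra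
  haveI : IsScalarTower k A p.ResidueField := IsScalarTower.of_algebraMap_eq (fun _ => rfl)
  haveI : IsScalarTower k (A ⧸ p) p.ResidueField :=
    IsScalarTower.of_algebraMap_eq (fun x => by
      rw [IsScalarTower.algebraMap_apply k A p.ResidueField,
        IsScalarTower.algebraMap_apply k A (A ⧸ p),
        ← IsScalarTower.algebraMap_apply A (A ⧸ p) p.ResidueField])
  haveI : Algebra.IsAlgebraic k p.ResidueField :=
    Algebra.IsIntegral.trans_isAlgebraic k (A ⧸ p) p.ResidueField
  intro x
  exact (Algebra.IsAlgebraic.isAlgebraic (R := k) x).isIntegral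

lemma isIntegral_of_isIso {R S : CommRingCat.{u}} (e : R ⟶ S) [IsIso e] : e.hom.IsIntegral :=
  RingHom.isIntegral_of_surjective _ (ConcreteCategory.bijective_of_isIso e).2

lemma isIntegral_pushout_inr {R S T : CommRingCat.{u}} (a : R ⟶ S) (b : R ⟶ T)
    (ha : a.hom.IsIntegral) : (pushout.inr a b).hom.IsIntegral := by
  have h1 : (pushout.inl b a).hom.IsIntegral :=
    RingHom.isIntegral_isStableUnderBaseChange.pushout_inl RingHom.isIntegral_respectsIso b a ha
  have h2 : pushout.inr a b = pushout.inl b a ≫ (pushoutSymmetry b a).hom := by simp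
  rw [h2, CommRingCat.hom_comp]
  exact h1.trans _ _ (isIntegral_of_isIso _)

open AlgebraicGeometry.Scheme.Pullback

variable {X Y S : Scheme.{u}} {f : X ⟶ S} {g : Y ⟶ S}

lemma isIntegral_tensorInr (T : Triplet f g) (hint : (f.residueFieldMap T.x).hom.IsIntegral) :
    T.tensorInr.hom.IsIntegral := by
  unfold Triplet.tensorInr
  apply isIntegral_pushout_inr
  rw [CommRingCat.hom_comp]
  exact (isIntegral_of_isIso _).trans _ _ hint

lemma isIntegral_transport {T₁ T₂ : Triplet f g} (e : T₁ = T₂) {B : CommRingCat.{u}}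
    (c : T₂.tensor ⟶ B) (h : (T₂.tensorInr ≫ c).hom.IsIntegral) :
    (T₁.tensorInr ≫ (Triplet.tensorCongr e).hom ≫ c).hom.IsIntegral := by
  subst e
  simpa using h

lemma isIntegral_residueFieldMap_snd_SpecTensorTo (T : Triplet f g) (p : Spec T.tensor)
    (hint : (f.residueFieldMap T.x).hom.IsIntegral) :
    ((pullback.snd f g).residueFieldMap (T.SpecTensorTo p)).hom.IsIntegral := by
  set t' := T.SpecTensorTo p with ht'
  have e : Triplet.ofPoint t' = T := Triplet.ofPoint_SpecTensorTo T p
  set ρ := Scheme.Hom.residueFieldMap T.SpecTensorTo p with hρ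
  have hinr := isIntegral_tensorInr T hint
  -- the identity of ring maps
  have h2 : (Triplet.tensorCongr e.symm).hom ≫ ofPointTensor t' ≫ ρ =
      CommRingCat.ofHom (algebraMap T.tensor p.asIdeal.ResidueField) ≫
        (Scheme.Spec.residueFieldIso _ p).inv := by
    have h3 := Triplet.Spec_ofPointTensor_SpecTensorTo T p
    rw [← Scheme.Spec.map_residueFieldIso_inv_eq_fromSpecResidueField, ← Spec.map_comp,
      ← Spec.map_comp, ← Spec.map_comp, Spec.map_inj] at h3
    simpa using h3
  have h1 : (Triplet.ofPoint t').tensorInr ≫ ofPointTensor t' =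
      (pullback.snd f g).residueFieldMap t' := by
    unfold Triplet.tensorInr ofPointTensor
    exact pushout.inr_desc _ _ _
  have h4 : ofPointTensor t' ≫ ρ = (Triplet.tensorCongr e).hom ≫
      CommRingCat.ofHom (algebraMap T.tensor p.asIdeal.ResidueField) ≫
        (Scheme.Spec.residueFieldIso _ p).inv := by
    have h6 := congrArg (fun c => (Triplet.tensorCongr e).hom ≫ c) h2
    simp only [Triplet.tensorCongr_trans_hom_assoc, Triplet.tensorCongr_refl, Iso.refl_hom,
      Category.id_comp] at h6
    exact h6
  have h5 : ((pullback.snd f g).residueFieldMap t' ≫ ρ).hom.IsIntegral := by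
    have h7 : (pullback.snd f g).residueFieldMap t' ≫ ρ = (Triplet.ofPoint t').tensorInr ≫
        (Triplet.tensorCongr e).hom ≫
        CommRingCat.ofHom (algebraMap T.tensor p.asIdeal.ResidueField) ≫
          (Scheme.Spec.residueFieldIso _ p).inv := by
      rw [← h1]
      exact (Category.assoc _ _ _).trans
        (congrArg (fun c => (Triplet.ofPoint t').tensorInr ≫ c) h4)
    rw [h7]
    apply isIntegral_transport
    rw [← Category.assoc, CommRingCat.hom_comp]
    refine RingHom.IsIntegral.trans _ _ ?_ (isIntegral_of_isIso _)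
    letI : Algebra (Y.residueField T.y) T.tensor := T.tensorInr.hom.toAlgebra
    haveI : Algebra.IsIntegral (Y.residueField T.y) T.tensor := ⟨hinr⟩
    exact isIntegral_comp_algebraMap_residueField p.asIdeal
  rw [CommRingCat.hom_comp] at h5
  exact RingHom.IsIntegral.tower_bot _ _ (RingHom.injective ρ.hom) h5

lemma isIntegral_residueFieldMap_comp {X Y Z : Scheme.{u}} (a : X ⟶ Y) (b : Y ⟶ Z) (h : X ⟶ Z)
    (hcomp : a ≫ b = h) (x : X)
    (hb : (b.residueFieldMap (a x)).hom.IsIntegral) (ha : (a.residueFieldMap x).hom.IsIntegral) :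
    (h.residueFieldMap x).hom.IsIntegral := by
  subst hcomp
  rw [Scheme.residueFieldMap_comp]
  exact hb.trans _ _ ha

lemma isIntegral_residueFieldMap_snd (t : ↑(pullback f g))
    (hint : (f.residueFieldMap (pullback.fst f g t)).hom.IsIntegral) :
    ((pullback.snd f g).residueFieldMap t).hom.IsIntegral := by
  have h1 := isIntegral_residueFieldMap_snd_SpecTensorTo (Triplet.ofPoint t) (SpecOfPoint t) hint
  have h2 : (Triplet.ofPoint t).SpecTensorTo (SpecOfPoint t) = t := SpecTensorTo_SpecOfPoint t
  have h3 : ∀ (t₁ t₂ : ↑(pullback f g)) (_ : t₁ = t₂),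
      ((pullback.snd f g).residueFieldMap t₁).hom.IsIntegral →
        ((pullback.snd f g).residueFieldMap t₂).hom.IsIntegral := by
    rintro _ _ rfl h
    exact h
  exact h3 _ _ h2 h1

lemma isIntegral_residueFieldMap_of_isPullback {X' S' : Scheme.{u}} {g₀ : S' ⟶ S} {g' : X' ⟶ X}
    {f' : X' ⟶ S'} (hsq : IsPullback g' f' f g₀) (x' : X')
    (hint : (f.residueFieldMap (g' x')).hom.IsIntegral) :
    (f'.residueFieldMap x').hom.IsIntegral := by
  have hfst : hsq.isoPullback.hom ≫ pullback.fst f g₀ = g' := hsq.isoPullback_hom_fst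
  have hsnd : hsq.isoPullback.hom ≫ pullback.snd f g₀ = f' := hsq.isoPullback_hom_snd
  apply isIntegral_residueFieldMap_comp hsq.isoPullback.hom (pullback.snd f g₀) f' hsnd x'
  · apply isIntegral_residueFieldMap_snd
    have hpt : pullback.fst f g₀ (hsq.isoPullback.hom x') = g' x' := by
      rw [← Scheme.Hom.comp_apply, hfst]
    have h3 : ∀ (x₁ x₂ : X) (_ : x₁ = x₂), (f.residueFieldMap x₁).hom.IsIntegral →
        (f.residueFieldMap x₂).hom.IsIntegral := by
      rintro _ _ rfl h
      exact h
    exact h3 _ _ hpt.symm hint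
  · exact isIntegral_of_isIso _

lemma isClosed_singleton_asFiber_of_isIntegral (f : X ⟶ S) (x : X)
    (hint : (f.residueFieldMap x).hom.IsIntegral) :
    IsClosed ({f.asFiber x} : Set ↑(f.fiber (f x))) := by
  apply isClosed_of_closure_subset
  intro w hw
  have hsp : f.asFiber x ⤳ w := specializes_iff_mem_closure.mpr hw
  have hs : f.fiberι (f x) (f.asFiber x) ⤳ f.fiberι (f x) w :=
    hsp.map (f.fiberι _).continuous
  rw [f.fiberι_asFiber] at hs
  have hmem : f (f.fiberι (f x) w) = f x := by
    have h5 : f.fiberι (f x) w ∈ f ⁻¹' {f x} := f.range_fiberι (f x) ▸ Set.mem_range_self w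
    exact h5
  have halg : @Algebra.IsAlgebraic (S.residueField (f x)) (X.residueField x) _ _
      (f.residueFieldMap x).hom.toAlgebra := by
    letI := (f.residueFieldMap x).hom.toAlgebra
    haveI : Algebra.IsIntegral (S.residueField (f x)) (X.residueField x) := ⟨hint⟩
    infer_instance
  have h6 := H5FibreClosed.eq_of_algebraic f hs hmem.symm halg
  rw [Set.mem_singleton_iff]
  apply (f.fiberι (f x)).isEmbedding.injective
  rw [h6, f.fiberι_asFiber]

end H5FibreBC
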