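import Mathlib

namespace H5FC

theorem exists_annihilator_of_flat_localization {A B : Type*} [CommRing A] [CommRing B]
    [Algebra A B] (q : Ideal B) [q.IsPrime] [Module.Flat A (Localization.AtPrime q)] (k : A)
    (hk : algebraMap A B k = 0) :
    ∃ s : A, algebraMap A B s ∉ q ∧ s * k = 0 := by
  classical
  obtain ⟨n, a, y, h1, h2⟩ := Module.Flat.isTrivialRelation_of_sum_smul_eq_zero (R := A)
    (M := Localization.AtPrime q) (f := fun _ : Fin 1 => k) (x := fun _ => 1) (by
      simp only [Finset.univ_unique, Finset.sum_singleton]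
      rw [Algebra.smul_def, mul_one, IsScalarTower.algebraMap_apply A B (Localization.AtPrime q),
        hk, map_zero])
  by_contra hcon
  have hall : ∀ j, algebraMap A B (a 0 j) ∈ q := by
    intro j
    by_contra hj
    apply hcon
    refine ⟨a 0 j, hj, ?_⟩
    have := h2 j
    simp only [Finset.univ_unique, Finset.sum_singleton] at this
    rw [mul_comm]
    convert this
  have h3 : (1 : Localization.AtPrime q) ∈ IsLocalRing.maximalIdeal (Localization.AtPrime q) := by
    have h10 : (1 : Localization.AtPrime q) = ∑ j, a 0 j • y j := h1 0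
    rw [h10]
    refine Ideal.sum_mem _ fun j _ => ?_
    rw [Algebra.smul_def, IsScalarTower.algebraMap_apply A B (Localization.AtPrime q)]
    refine Ideal.mul_mem_right _ _ ?_
    rw [← Localization.AtPrime.map_eq_maximalIdeal]
    exact Ideal.mem_map_of_mem _ (hall j)
  exact (Ideal.ne_top_iff_one _).mp (IsLocalRing.maximalIdeal.isMaximal _).ne_top h3

theorem exists_mul_ker_eq_zero {A B : Type*} [CommRing A] [CommRing B]
    [Algebra A B] (hfg : (RingHom.ker (algebraMap A B)).FG) (q : Ideal B) [q.IsPrime]
    [Module.Flat A (Localization.AtPrime q)] :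
    ∃ g : A, algebraMap A B g ∉ q ∧ ∀ k ∈ RingHom.ker (algebraMap A B), g * k = 0 := by
  classical
  obtain ⟨S, hS⟩ := hfg
  have hSker : ∀ k ∈ S, algebraMap A B k = 0 := fun k hk => by
    have : k ∈ RingHom.ker (algebraMap A B) := hS ▸ Ideal.subset_span hk
    exact this
  choose! s hs1 hs2 using fun k (hk : k ∈ S) =>
    exists_annihilator_of_flat_localization q k (hSker k hk)
  refine ⟨∏ k ∈ S, s k, ?_, ?_⟩
  · rw [map_prod]
    intro hmem
    obtain ⟨k, hkS, hk⟩ := (Ideal.IsPrime.prod_mem_iff).mp hmem
    exact hs1 k hkS hk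
  · intro k hk
    rw [← hS] at hk
    refine Submodule.span_induction (p := fun k _ => (∏ k ∈ S, s k) * k = 0) ?_ ?_ ?_ ?_ hk
    · intro x hx
      rw [← Finset.mul_prod_erase S s hx, mul_comm (s x), mul_assoc, hs2 x hx, mul_zero]
    · simp
    · intro x y _ _ hx hy
      rw [mul_add, hx, hy, add_zero]
    · intro a x _ hx
      rw [smul_eq_mul, mul_left_comm, hx, mul_zero]

end H5FC
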