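import Mathlib
universe u
namespace H5DV

theorem flat_of_dvr (R : Type u) [CommRing R] [IsDomain R] [IsDiscreteValuationRing R]
    (A : Type u) [CommRing A] [Algebra R A] [IsNoetherianRing A]
    (h1 : ∀ a : A, IsNilpotent a → a ∈ (IsLocalRing.maximalIdeal R).map (algebraMap R A))
    (h2 : ∀ (ϖ : R) (a : A) (n : ℕ), Irreducible ϖ → (algebraMap R A ϖ) ^ n * a = 0 →
      IsNilpotent a) : Module.Flat R A := by
  obtain ⟨ϖ, hϖ⟩ := IsDiscreteValuationRing.exists_irreducible R
  have hm : IsLocalRing.maximalIdeal R = Ideal.span {ϖ} := hϖ.maximalIdeal_eq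
  set p : A := algebraMap R A ϖ with hp
  have hmap : (IsLocalRing.maximalIdeal R).map (algebraMap R A) = Ideal.span {p} := by
    rw [hm, Ideal.map_span, Set.image_singleton]
  let T : Ideal A :=
    { carrier := {a | ∃ n : ℕ, p ^ n * a = 0}
      zero_mem' := ⟨0, by simp⟩
      add_mem' := by
        rintro a b ⟨n, hn⟩ ⟨m, hm⟩
        refine ⟨n + m, ?_⟩
        have h0 : p ^ (n + m) * (a + b) = p ^ m * (p ^ n * a) + p ^ n * (p ^ m * b) := by ring
        rw [h0, hn, hm, mul_zero, mul_zero, add_zero]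
      smul_mem' := by
        rintro c a ⟨n, hn⟩
        exact ⟨n, by rw [smul_eq_mul, mul_left_comm, hn, mul_zero]⟩ }
  have hTmem : ∀ a, a ∈ T ↔ ∃ n : ℕ, p ^ n * a = 0 := fun a => Iff.rfl
  have hle : T ≤ Ideal.span {p} • T := by
    intro a ha
    obtain ⟨n, hn⟩ := (hTmem a).mp ha
    have hnil : IsNilpotent a := h2 ϖ a n hϖ hn
    have hmem := h1 a hnil
    rw [hmap, Ideal.mem_span_singleton'] at hmem
    obtain ⟨b, hb⟩ := hmem
    have hbT : b ∈ T := (hTmem b).mpr ⟨n + 1, by rw [pow_succ, mul_assoc, mul_comm p b, hb, hn]⟩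
    rw [← hb, mul_comm]
    exact Submodule.smul_mem_smul (Ideal.mem_span_singleton_self p) hbT
  obtain ⟨r, hr1, hr2⟩ := Submodule.exists_sub_one_mem_and_smul_eq_zero_of_fg_of_le_smul
    (Ideal.span {p}) T (IsNoetherian.noetherian T) hle
  rw [Ideal.mem_span_singleton'] at hr1
  obtain ⟨c, hc⟩ := hr1
  have hT0 : ∀ t ∈ T, t = 0 := by
    intro t ht
    obtain ⟨n, hn⟩ := (hTmem t).mp ht
    have h3 : r * t = 0 := hr2 t ht
    have h4 : t = (-c) * p * t := by
      have : r = 1 + c * p := by rw [hc]; ring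
      rw [this] at h3
      linear_combination h3
    have h5 : ∀ k : ℕ, t = ((-c) * p) ^ k * t := by
      intro k
      induction k with
      | zero => simp
      | succ k ih =>
        rw [pow_succ, mul_assoc, ← h4]
        exact ih
    rw [h5 n, mul_pow, mul_assoc, hn, mul_zero]
  rw [IsDedekindDomain.flat_iff_torsion_eq_bot, eq_bot_iff]
  rintro a ⟨⟨s, hs⟩, hsa⟩
  have hs0 : s ≠ 0 := nonZeroDivisors.ne_zero hs
  obtain ⟨n, hn⟩ := IsDiscreteValuationRing.associated_pow_irreducible hs0 hϖ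
  obtain ⟨u, hu⟩ := hn.symm
  -- hu : ϖ ^ n * ↑u = s
  have hsa' : s • a = 0 := hsa
  rw [← hu, mul_smul] at hsa'
  have h6 : (u : R) • a ∈ T := by
    refine (hTmem _).mpr ⟨n, ?_⟩
    rw [hp, ← map_pow, ← Algebra.smul_def]
    exact hsa'
  have h7 := hT0 _ h6
  have h8 : a = (↑u⁻¹ : R) • ((u : R) • a) := by rw [smul_smul, Units.inv_mul, one_smul]
  rw [Submodule.mem_bot, h8, h7, smul_zero]

end H5DV

namespace H5DV
open TensorProduct

theorem nil_le_of_fiber_reduced (R A : Type u) [CommRing R] [CommRing A] [Algebra R A]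
    (𝔪 : Ideal R) [𝔪.IsMaximal] (hred : IsReduced (𝔪.Fiber A)) :
    ∀ a : A, IsNilpotent a → a ∈ 𝔪.map (algebraMap R A) := by
  intro a ha
  let e₀ : (R ⧸ 𝔪) ≃+* 𝔪.ResidueField :=
    RingEquiv.ofBijective (algebraMap (R ⧸ 𝔪) 𝔪.ResidueField)
      𝔪.bijective_algebraMap_quotient_residueField
  let q₀ : R ⧸ 𝔪 →+* A ⧸ 𝔪.map (algebraMap R A) :=
    Ideal.quotientMap _ (algebraMap R A) Ideal.le_comap_map
  let h : 𝔪.ResidueField →ₐ[R] A ⧸ 𝔪.map (algebraMap R A) :=
    { q₀.comp (e₀.symm : 𝔪.ResidueField →+* R ⧸ 𝔪) with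
      commutes' := fun r => by
        show q₀ (e₀.symm (algebraMap R 𝔪.ResidueField r)) = _
        have h1 : algebraMap R 𝔪.ResidueField r = e₀ (Ideal.Quotient.mk 𝔪 r) := by
          show _ = algebraMap (R ⧸ 𝔪) 𝔪.ResidueField (Ideal.Quotient.mk 𝔪 r)
          rw [← Ideal.Quotient.algebraMap_eq, ← IsScalarTower.algebraMap_apply]
        rw [h1, RingEquiv.symm_apply_apply]
        rfl }
  let Φ : 𝔪.Fiber A →ₐ[R] A ⧸ 𝔪.map (algebraMap R A) :=
    Algebra.TensorProduct.productMap h (Ideal.Quotient.mkₐ R (𝔪.map (algebraMap R A)))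
  have h2 : IsNilpotent ((1 : 𝔪.ResidueField) ⊗ₜ[R] a) :=
    ha.map (Algebra.TensorProduct.includeRight : A →ₐ[R] 𝔪.ResidueField ⊗[R] A)
  have h3 : (1 : 𝔪.ResidueField) ⊗ₜ[R] a = 0 := h2.eq_zero
  have h4 : Φ ((1 : 𝔪.ResidueField) ⊗ₜ[R] a) = Ideal.Quotient.mk _ a := by
    show h 1 * Ideal.Quotient.mk _ a = _
    rw [map_one, one_mul]
  rw [h3, map_zero] at h4
  exact Ideal.Quotient.eq_zero_iff_mem.mp h4.symm

end H5DV

namespace H5DV
open AlgebraicGeometry CategoryTheory Limits

theorem piece (R : Type u) [CommRing R] [IsDomain R] [IsDiscreteValuationRing R]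
    {X : Scheme.{u}} (f : X ⟶ Spec (CommRingCat.of R)) [IsLocallyNoetherian X]
    (hred : IsReduced (f.fiber (IsLocalRing.closedPoint R)))
    (hdense : Dense (f.base ⁻¹' {genericPoint (Spec (CommRingCat.of R))}))
    (A : CommRingCat.{u}) (j : Spec A ⟶ X) [IsOpenImmersion j] : Flat (j ≫ f) := by
  let ψ : CommRingCat.of R ⟶ A := Spec.preimage (j ≫ f)
  have hψ : Spec.map ψ = j ≫ f := Spec.map_preimage _
  letI : Algebra R A := ψ.hom.toAlgebra
  rw [← hψ, HasRingHomProperty.Spec_iff (P := @Flat)]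
  show Module.Flat R A
  haveI : IsNoetherianRing A := by
    haveI := isLocallyNoetherian_of_isOpenImmersion j
    exact isLocallyNoetherian_Spec.mp inferInstance
  apply flat_of_dvr R A
  · -- nilpotents lie in `𝔪 A`
    let p : Spec (CommRingCat.of R) := IsLocalRing.closedPoint R
    haveI : IsReduced ((j ≫ f).fiber p) := by
      haveI : IsReduced (f.fiber p) := hred
      let g : (j ≫ f).fiber p ⟶ f.fiber p :=
        pullback.map (j ≫ f) ((Spec (CommRingCat.of R)).fromSpecResidueField p) f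
          ((Spec (CommRingCat.of R)).fromSpecResidueField p) j (𝟙 _) (𝟙 _) (by simp) (by simp)
      haveI : IsOpenImmersion g := Scheme.pullback_map_isOpenImmersion _ _ _ _ _ _ _ _ _
      exact isReduced_of_isOpenImmersion g
    have hψ' : Spec.map (CommRingCat.ofHom (algebraMap R A)) = j ≫ f := hψ
    haveI : IsReduced ((Spec.map (CommRingCat.ofHom (algebraMap R A))).fiber p) := by
      rw [hψ']; infer_instance
    let e : (Spec.map (CommRingCat.ofHom (algebraMap R A))).fiber p ≅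
        Spec (CommRingCat.of (p.asIdeal.Fiber A)) :=
      Arrow.leftFunc.mapIso (Spec.fiberToSpecResidueFieldIso R A p)
    haveI : IsReduced (Spec (CommRingCat.of (p.asIdeal.Fiber A))) :=
      isReduced_of_isOpenImmersion e.inv
    have h5 : _root_.IsReduced (p.asIdeal.Fiber A) :=
      (affine_isReduced_iff (CommRingCat.of (p.asIdeal.Fiber A))).mp inferInstance
    haveI : p.asIdeal.IsMaximal := IsLocalRing.maximalIdeal.isMaximal R
    exact nil_le_of_fiber_reduced R A p.asIdeal h5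
  · -- torsion elements are nilpotent by density
    intro ϖ a n hϖ han
    rw [nilpotent_iff_mem_prime]
    intro q hq
    by_contra haq
    let U : Set (Spec A) := (PrimeSpectrum.basicOpen a : Set (PrimeSpectrum A))
    have hUo : IsOpen (j.base '' U) :=
      j.isOpenEmbedding.isOpenMap _ (PrimeSpectrum.basicOpen a).isOpen
    have hUne : (j.base '' U).Nonempty := ⟨j.base ⟨q, hq⟩, ⟨q, hq⟩, haq, rfl⟩
    obtain ⟨x, ⟨q', hq'U, rfl⟩, hx⟩ := hdense.inter_open_nonempty _ hUo hUne
    have h6 : (j ≫ f).base q' = genericPoint (Spec (CommRingCat.of R)) := hx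
    rw [← hψ, genericPoint_eq_bot_of_affine] at h6
    have h7 : PrimeSpectrum.comap (algebraMap R A) q' = ⊥ := h6
    have h8 : algebraMap R A ϖ ∉ q'.asIdeal := by
      intro hmem
      have : ϖ ∈ (PrimeSpectrum.comap (algebraMap R A) q').asIdeal := hmem
      rw [h7] at this
      exact hϖ.ne_zero this
    have h9 : (algebraMap R A ϖ) ^ n * a ∈ q'.asIdeal := han ▸ q'.asIdeal.zero_mem
    rcases q'.isPrime.mem_or_mem h9 with h10 | h10
    · exact h8 (q'.isPrime.mem_of_pow_mem n h10)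
    · exact hq'U h10

end H5DV

namespace H5DV
open AlgebraicGeometry CategoryTheory Limits

theorem main (R : Type u) [CommRing R] [IsDomain R] [IsDiscreteValuationRing R]
    {X : Scheme.{u}} (f : X ⟶ Spec (CommRingCat.of R)) [IsLocallyNoetherian X]
    (hred : IsReduced (f.fiber (IsLocalRing.closedPoint R)))
    (hdense : Dense (f.base ⁻¹' {genericPoint (Spec (CommRingCat.of R))})) : Flat f := by
  refine (IsZariskiLocalAtSource.iff_of_openCover (P := @Flat)
    X.affineOpenCover.openCover).mpr fun i => ?_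
  exact piece R f hred hdense (X.affineOpenCover.X i) (X.affineOpenCover.f i)

end H5DV
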