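import Mathlib
import Groth.Agent.S9613

set_option autoImplicit false
universe u

open CategoryTheory AlgebraicGeometry

namespace H5FtPts

theorem exists_notMem_forall_prime_eq {A K : Type u} [CommRing A] [Field K] (ψ : A →+* K)
    (hψ : ψ.FiniteType) :
    ∃ g : A, g ∉ RingHom.ker ψ ∧ ∀ Q : Ideal A, Q.IsPrime → RingHom.ker ψ ≤ Q → g ∉ Q →
      Q = RingHom.ker ψ := by
  classical
  have hinj : Function.Injective (RingHom.kerLift ψ) := RingHom.kerLift_injective ψ
  letI : Algebra (A ⧸ RingHom.ker ψ) K := (RingHom.kerLift ψ).toAlgebra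
  letI : Algebra A K := ψ.toAlgebra
  haveI : IsScalarTower A (A ⧸ RingHom.ker ψ) K := IsScalarTower.of_algebraMap_eq (fun a => rfl)
  haveI : Algebra.FiniteType A K := hψ
  haveI : Algebra.FiniteType (A ⧸ RingHom.ker ψ) K :=
    Algebra.FiniteType.of_restrictScalars_finiteType A (A ⧸ RingHom.ker ψ) K
  obtain ⟨f, hf0, Rf, hloc, hfield, -⟩ :=
    Groth.Agent.S9613.result (R := A ⧸ RingHom.ker ψ) (K := K) hinj
  obtain ⟨g, rfl⟩ := Ideal.Quotient.mk_surjective f
  refine ⟨g, fun hg => hf0 (Ideal.Quotient.eq_zero_iff_mem.2 hg), ?_⟩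
  intro Q hQ hpQ hgQ
  refine le_antisymm ?_ hpQ
  intro y hyQ
  by_contra hyp
  have hy0 : Ideal.Quotient.mk (RingHom.ker ψ) y ≠ 0 :=
    fun h => hyp (Ideal.Quotient.eq_zero_iff_mem.1 h)
  have hinjRf : Function.Injective (algebraMap (A ⧸ RingHom.ker ψ) Rf) := by
    intro u v huv
    apply hinj
    exact congrArg Subtype.val huv
  have hy1 : algebraMap (A ⧸ RingHom.ker ψ) Rf (Ideal.Quotient.mk (RingHom.ker ψ) y) ≠ 0 := by
    intro h
    apply hy0
    apply hinjRf
    rw [h, map_zero]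
  obtain ⟨z, hz⟩ := hfield.mul_inv_cancel hy1
  obtain ⟨⟨a, ⟨_, n, rfl⟩⟩, hza⟩ :=
    IsLocalization.surj (Submonoid.powers (Ideal.Quotient.mk (RingHom.ker ψ) g)) z
  simp only at hza
  have h2 : algebraMap (A ⧸ RingHom.ker ψ) Rf (Ideal.Quotient.mk (RingHom.ker ψ) y * a) =
      algebraMap (A ⧸ RingHom.ker ψ) Rf ((Ideal.Quotient.mk (RingHom.ker ψ) g) ^ n) := by
    rw [map_mul, ← hza, ← mul_assoc, hz, one_mul]
  have h3 := hinjRf h2
  obtain ⟨a', rfl⟩ := Ideal.Quotient.mk_surjective a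
  rw [← map_mul, ← map_pow, Ideal.Quotient.eq] at h3
  have h4 : g ^ n ∈ Q := by
    have h5 : y * a' - g ^ n ∈ Q := hpQ h3
    have h6 : y * a' ∈ Q := Q.mul_mem_right _ hyQ
    have h7 := Q.sub_mem h6 h5
    simpa using h7
  exact hgQ (hQ.mem_of_pow_mem n h4)

set_option backward.isDefEq.respectTransparency.types false in
theorem primeIdealOf_isMaximal_of_isClosed' {X : Scheme.{u}} {U : X.Opens} (hU : IsAffineOpen U)
    (x : U) (hx₀ : IsClosed ({x} : Set U)) : (hU.primeIdealOf x).asIdeal.IsMaximal := by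
  apply (hU.primeIdealOf x).isClosed_singleton_iff_isMaximal.mp
  rw [IsAffineOpen.primeIdealOf, ← Set.image_singleton]
  refine (Topology.IsClosedEmbedding.isClosed_iff_image_isClosed <|
    IsHomeomorph.isClosedEmbedding ?_).mp hx₀
  apply (TopCat.isIso_iff_isHomeomorph _).mp
  infer_instance

/-- A point closed in an affine open neighbourhood is a finite type point. -/
theorem lft_of_isClosed (S : Scheme.{u}) (s : S) (U : S.Opens) (hU : IsAffineOpen U) (hs : s ∈ U)
    (hcl : IsClosed ({(⟨s, hs⟩ : U)} : Set U)) :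
    LocallyOfFiniteType (S.fromSpecResidueField s) := by
  have hmax := primeIdealOf_isMaximal_of_isClosed' hU ⟨s, hs⟩ hcl
  have heq : S.fromSpecResidueField s =
      Spec.map (S.presheaf.germ U s hs ≫ S.residue s) ≫ hU.fromSpec := by
    rw [Scheme.fromSpecResidueField, ← hU.fromSpecStalk_eq_fromSpecStalk hs,
      IsAffineOpen.fromSpecStalk, Spec.map_comp, Category.assoc]
  rw [heq]
  haveI : LocallyOfFiniteType (Spec.map (S.presheaf.germ U s hs ≫ S.residue s)) := by
    rw [HasRingHomProperty.Spec_iff (P := @LocallyOfFiniteType)]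
    apply RingHom.FiniteType.of_surjective
    letI : Algebra Γ(S, U) (S.presheaf.stalk s) :=
      TopCat.Presheaf.algebra_section_stalk S.presheaf ⟨s, hs⟩
    haveI := hU.isLocalization_stalk ⟨s, hs⟩
    haveI := hmax
    intro y
    let e := IsLocalization.AtPrime.equivQuotMaximalIdeal
      (hU.primeIdealOf ⟨s, hs⟩).asIdeal (S.presheaf.stalk s)
    obtain ⟨a, ha⟩ := Ideal.Quotient.mk_surjective (e.symm y)
    refine ⟨a, ?_⟩
    have h1 : e (Ideal.Quotient.mk _ a) = y := by rw [ha, e.apply_symm_apply]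
    rw [← h1]
    rfl
  infer_instance

/-- The image point of a morphism locally of finite type from the spectrum of a field is closed
in some affine open neighbourhood. -/
theorem exists_isClosed_of_lft (S : Scheme.{u}) (K : Type u) [Field K]
    (φ : Spec (CommRingCat.of K) ⟶ S) [LocallyOfFiniteType φ] :
    ∃ V : S.Opens, IsAffineOpen V ∧ ∃ hs : φ.base (IsLocalRing.closedPoint K) ∈ V,
      IsClosed ({(⟨φ.base (IsLocalRing.closedPoint K), hs⟩ : V)} : Set V) := by
  obtain ⟨U, hU, hsU, -⟩ := exists_isAffineOpen_mem_and_subset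
    (x := φ.base (IsLocalRing.closedPoint K)) (U := ⊤) trivial
  have hrange : Set.range φ ⊆ Set.range hU.fromSpec := by
    rintro _ ⟨z, rfl⟩
    rw [hU.range_fromSpec]
    have hz : z = IsLocalRing.closedPoint K := Subsingleton.elim _ _
    rw [hz]; exact hsU
  have hφ' : IsOpenImmersion.lift hU.fromSpec φ hrange ≫ hU.fromSpec = φ :=
    IsOpenImmersion.lift_fac _ _ _
  obtain ⟨ψ, hψ⟩ := Spec.map_surjective (IsOpenImmersion.lift hU.fromSpec φ hrange)
  rw [← hψ] at hφ'
  haveI : LocallyOfFiniteType (Spec.map ψ ≫ hU.fromSpec) := by rw [hφ']; infer_instance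
  haveI : LocallyOfFiniteType (Spec.map ψ) := locallyOfFiniteType_of_comp (Spec.map ψ) hU.fromSpec
  have hψft : ψ.hom.FiniteType :=
    (HasRingHomProperty.Spec_iff (P := @LocallyOfFiniteType)).1 inferInstance
  obtain ⟨g, hgker, hgQ⟩ := exists_notMem_forall_prime_eq ψ.hom hψft
  have hPs : hU.fromSpec.base ((Spec.map ψ).base (IsLocalRing.closedPoint K)) =
      φ.base (IsLocalRing.closedPoint K) := by
    rw [← hφ']; rfl
  have hPideal : ((Spec.map ψ).base (IsLocalRing.closedPoint K)).asIdeal = RingHom.ker ψ.hom := by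
    ext a
    change ψ.hom a ∈ IsLocalRing.maximalIdeal K ↔ _
    rw [IsLocalRing.maximalIdeal_eq_bot, Ideal.mem_bot, RingHom.mem_ker]
  have hmemV : ∀ Q : PrimeSpectrum Γ(S, U), hU.fromSpec.base Q ∈ S.basicOpen g ↔ g ∉ Q.asIdeal := by
    intro Q
    have h1 := hU.fromSpec_preimage_basicOpen g
    have h2 : hU.fromSpec.base Q ∈ S.basicOpen g ↔ Q ∈ hU.fromSpec ⁻¹ᵁ S.basicOpen g := Iff.rfl
    rw [h2, h1]
    exact PrimeSpectrum.mem_basicOpen g Q
  have hsV : φ.base (IsLocalRing.closedPoint K) ∈ S.basicOpen g := by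
    rw [← hPs, hmemV, hPideal]; exact hgker
  refine ⟨S.basicOpen g, hU.basicOpen g, hsV, ?_⟩
  rw [← closure_subset_iff_isClosed]
  intro t ht0
  have ht1 := specializes_iff_mem_closure.2 ht0
  have ht : φ.base (IsLocalRing.closedPoint K) ⤳ t.1 := (subtype_specializes_iff _ _).1 ht1
  have htU : t.1 ∈ U := S.basicOpen_le g t.2
  have htr : t.1 ∈ Set.range hU.fromSpec := by rw [hU.range_fromSpec]; exact htU
  obtain ⟨Q, hQ⟩ := htr
  have hsp : (Spec.map ψ).base (IsLocalRing.closedPoint K) ⤳ Q := by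
    rw [← hU.fromSpec.isOpenEmbedding.isInducing.specializes_iff]
    show hU.fromSpec.base ((Spec.map ψ).base (IsLocalRing.closedPoint K)) ⤳ hU.fromSpec.base Q
    rw [hPs]
    have hQ' : hU.fromSpec.base Q = t.1 := hQ
    rw [hQ']
    exact ht
  have hle : ((Spec.map ψ).base (IsLocalRing.closedPoint K)).asIdeal ≤ Q.asIdeal :=
    (PrimeSpectrum.le_iff_specializes _ _).2 hsp
  have hgQ' : g ∉ Q.asIdeal := by
    rw [← hmemV]
    have hQ' : hU.fromSpec.base Q = t.1 := hQ
    rw [hQ']; exact t.2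
  have hQeq : Q.asIdeal = RingHom.ker ψ.hom := hgQ Q.asIdeal Q.2 (hPideal ▸ hle) hgQ'
  have hQP : Q = (Spec.map ψ).base (IsLocalRing.closedPoint K) :=
    PrimeSpectrum.ext (hQeq.trans hPideal.symm)
  refine Set.mem_singleton_iff.2 (Subtype.ext ?_)
  show t.1 = φ.base (IsLocalRing.closedPoint K)
  have hQ' : hU.fromSpec.base Q = t.1 := hQ
  rw [← hQ', hQP, hPs]

end H5FtPts
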