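import Mathlib
open TensorProduct
universe u
namespace H5Gal
variable {k K : Type u} [Field k] [Field K] [Algebra k K]

/-- the action map -/
noncomputable def actMap (σ : SeparableClosure k ≃ₐ[k] SeparableClosure k) :
    (SeparableClosure k ⊗[k] K) →ₐ[k] (SeparableClosure k ⊗[k] K) :=
  Algebra.TensorProduct.map (σ : SeparableClosure k →ₐ[k] SeparableClosure k) (AlgHom.id k K)

noncomputable scoped instance act : MulSemiringAction (SeparableClosure k ≃ₐ[k] SeparableClosure k)
    (SeparableClosure k ⊗[k] K) where
  smul σ b := actMap σ b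
  one_smul b := by
    change actMap 1 b = b
    induction b using TensorProduct.induction_on with
    | zero => simp
    | tmul a b => simp [actMap]
    | add a b ha hb => simp only [map_add, ha, hb]
  mul_smul σ τ b := by
    change actMap (σ * τ) b = actMap σ (actMap τ b)
    induction b using TensorProduct.induction_on with
    | zero => simp
    | tmul a b => simp [actMap]
    | add a b ha hb => simp only [map_add, ha, hb]
  smul_zero σ := map_zero (actMap σ)
  smul_add σ := map_add (actMap σ)
  smul_one σ := by
    change actMap σ 1 = 1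
    first | exact (actMap σ).map_one' | exact (actMap σ).toRingHom.map_one | exact AlgHom.map_one _
  smul_mul σ a b := by
    change actMap σ (a * b) = actMap σ a * actMap σ b
    exact map_mul _ _ _

lemma smul_def' (σ : SeparableClosure k ≃ₐ[k] SeparableClosure k) (b : SeparableClosure k ⊗[k] K) :
    σ • b = Algebra.TensorProduct.map (σ : SeparableClosure k →ₐ[k] SeparableClosure k)
      (AlgHom.id k K) b := rfl

lemma smul_tmul' (σ : SeparableClosure k ≃ₐ[k] SeparableClosure k) (a : SeparableClosure k) (x : K) :
    σ • (a ⊗ₜ[k] x) = (σ a) ⊗ₜ[k] x := by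
  rw [smul_def']; simp

attribute [local instance] Algebra.TensorProduct.rightAlgebra

instance : SMulCommClass (SeparableClosure k ≃ₐ[k] SeparableClosure k) K
    (SeparableClosure k ⊗[k] K) where
  smul_comm σ c b := by
    rw [Algebra.smul_def, Algebra.smul_def]
    change actMap σ (_ * _) = _ * actMap σ b
    rw [map_mul]
    congr 1
    change σ • ((1 : SeparableClosure k) ⊗ₜ[k] c) = 1 ⊗ₜ[k] c
    rw [smul_tmul', map_one]

end H5Gal

namespace H5Gal
variable {k K : Type u} [Field k] [Field K] [Algebra k K]
attribute [local instance] Algebra.TensorProduct.rightAlgebra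

lemma repr_smul {ι : Type*} (bs : Module.Basis ι k K)
    (σ : SeparableClosure k ≃ₐ[k] SeparableClosure k) (b : SeparableClosure k ⊗[k] K) (i : ι) :
    (Algebra.TensorProduct.basis (SeparableClosure k) bs).repr (σ • b) i =
      σ ((Algebra.TensorProduct.basis (SeparableClosure k) bs).repr b i) := by
  induction b using TensorProduct.induction_on with
  | zero => simp
  | tmul a x =>
    rw [smul_tmul', Algebra.TensorProduct.basis_repr_tmul, Algebra.TensorProduct.basis_repr_tmul]
    simp
  | add a b ha hb => simp only [smul_add, map_add, Finsupp.add_apply, ha, hb]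

instance : Algebra.IsInvariant K (SeparableClosure k ⊗[k] K)
    (SeparableClosure k ≃ₐ[k] SeparableClosure k) where
  isInvariant b hb := by
    classical
    let bs := Module.Basis.ofVectorSpace k K
    let B' := Algebra.TensorProduct.basis (SeparableClosure k) bs
    have h1 : ∀ i, ∃ d : k, algebraMap k (SeparableClosure k) d = B'.repr b i := by
      intro i
      have : B'.repr b i ∈ Set.range (algebraMap k (SeparableClosure k)) := by
        rw [InfiniteGalois.mem_range_algebraMap_iff_fixed]
        intro σ
        rw [← repr_smul]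
        exact congrArg (fun t => (B'.repr t) i) (hb σ)
      exact this
    choose d hd using h1
    refine ⟨∑ i ∈ (B'.repr b).support, d i • bs i, ?_⟩
    conv_rhs => rw [← B'.linearCombination_repr b, Finsupp.linearCombination_apply, Finsupp.sum]
    rw [map_sum]
    refine Finset.sum_congr rfl fun i _ => ?_
    rw [← hd i, Algebra.TensorProduct.basis_apply]
    change (1 : SeparableClosure k) ⊗ₜ[k] (d i • bs i) = _
    rw [TensorProduct.tmul_smul, algebraMap_smul]

lemma stab_open (b : SeparableClosure k ⊗[k] K) :
    IsOpen (MulAction.stabilizer (SeparableClosure k ≃ₐ[k] SeparableClosure k) b :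
      Set (SeparableClosure k ≃ₐ[k] SeparableClosure k)) := by
  induction b using TensorProduct.induction_on with
  | zero =>
    have : MulAction.stabilizer (SeparableClosure k ≃ₐ[k] SeparableClosure k)
        (0 : SeparableClosure k ⊗[k] K) = ⊤ := by
      ext σ; simp
    rw [this]; exact isOpen_univ
  | tmul a x =>
    refine Subgroup.isOpen_mono (H₁ := MulAction.stabilizer _ a) ?_
      (stabilizer_isOpen_of_isIntegral a)
    intro σ hσ
    rw [MulAction.mem_stabilizer_iff] at hσ ⊢
    rw [smul_tmul']
    congr 1
  | add a b ha hb =>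
    refine Subgroup.isOpen_mono (H₁ := MulAction.stabilizer _ a ⊓ MulAction.stabilizer _ b) ?_
      (ha.inter hb)
    intro σ hσ
    rw [Subgroup.mem_inf, MulAction.mem_stabilizer_iff, MulAction.mem_stabilizer_iff] at hσ
    rw [MulAction.mem_stabilizer_iff, smul_add, hσ.1, hσ.2]

set_option backward.isDefEq.respectTransparency false in
theorem main (P Q : Ideal (SeparableClosure k ⊗[k] K)) [P.IsPrime] [Q.IsPrime] :
    ∃ σ : SeparableClosure k ≃ₐ[k] SeparableClosure k, Q = P.comap (Algebra.TensorProduct.map (σ : SeparableClosure k →ₐ[k] SeparableClosure k) (AlgHom.id k K)) := by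
  letI : TopologicalSpace (SeparableClosure k ⊗[k] K) := ⊥
  haveI : DiscreteTopology (SeparableClosure k ⊗[k] K) := ⟨rfl⟩
  haveI : ContinuousSMul (SeparableClosure k ≃ₐ[k] SeparableClosure k)
      (SeparableClosure k ⊗[k] K) :=
    continuousSMul_iff_stabilizer_isOpen.mpr stab_open
  have hPQ : P.under K = Q.under K := by
    have h1 : P.under K = ⊥ := (Ideal.eq_bot_or_top _).resolve_right (Ideal.IsPrime.ne_top inferInstance)
    have h2 : Q.under K = ⊥ := (Ideal.eq_bot_or_top _).resolve_right (Ideal.IsPrime.ne_top inferInstance)
    rw [h1, h2]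
  have : SMulCommClass (SeparableClosure k ≃ₐ[k] SeparableClosure k) K (SeparableClosure k ⊗[k] K) := inferInstance
  obtain ⟨g, hg⟩ := Algebra.IsInvariant.exists_smul_of_under_eq_of_profinite (A := K)
    (B := SeparableClosure k ⊗[k] K)
    (G := SeparableClosure k ≃ₐ[k] SeparableClosure k) P Q hPQ
  refine ⟨g⁻¹, ?_⟩
  rw [hg]
  ext x
  rw [Ideal.mem_pointwise_smul_iff_inv_smul_mem, Ideal.mem_comap, smul_def']

end H5Gal
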