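import Mathlib

/-! Generic finiteness (algebra). -/

universe u

namespace H5GenFinite

open Polynomial

lemma exists_ne_zero_isIntegral_smul {B₀ A₀ k K : Type*} [CommRing B₀] [IsDomain B₀]
    [CommRing A₀] [Field k] [Field K] [Algebra B₀ A₀] [Algebra B₀ k] [Algebra k K] [Algebra A₀ K]
    [Algebra B₀ K] [IsScalarTower B₀ k K] [IsScalarTower B₀ A₀ K] [IsFractionRing B₀ k]
    [Algebra.IsAlgebraic k K] (hinj : Function.Injective (algebraMap A₀ K)) (a : A₀) :
    ∃ s : B₀, s ≠ 0 ∧ IsIntegral B₀ (s • a) := by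
  have h1 : IsAlgebraic k (algebraMap A₀ K a) := Algebra.IsAlgebraic.isAlgebraic _
  have h2 : IsAlgebraic B₀ (algebraMap A₀ K a) := (IsFractionRing.isAlgebraic_iff B₀ k K).mpr h1
  have h3 : IsAlgebraic B₀ a := (isAlgebraic_algebraMap_iff hinj).mp h2
  exact h3.exists_integral_multiple

lemma finite_away_map {B₀ A₀ Bb Ab : Type u} [CommRing B₀] [CommRing A₀] [CommRing Bb]
    [CommRing Ab] [Algebra B₀ A₀] (b : B₀) [Algebra B₀ Bb] [IsLocalization.Away b Bb]
    [Algebra A₀ Ab] [IsLocalization.Away (algebraMap B₀ A₀ b) Ab]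
    (t : Finset A₀) (ht : Algebra.adjoin B₀ (t : Set A₀) = ⊤)
    (hs : ∀ a ∈ t, ∃ s : B₀, s ∣ b ∧ IsIntegral B₀ (s • a)) :
    (IsLocalization.Away.map Bb Ab (algebraMap B₀ A₀) b).Finite := by
  set φ' := IsLocalization.Away.map Bb Ab (algebraMap B₀ A₀) b with hφ'
  have hft : (algebraMap B₀ A₀).FiniteType := by
    rw [RingHom.finiteType_algebraMap]
    exact ⟨⟨t, ht⟩⟩
  have hft' : φ'.FiniteType :=
    RingHom.localization_away_map_finiteType B₀ A₀ Bb Ab (algebraMap B₀ A₀) b hft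
  refine RingHom.IsIntegral.to_finite ?_ hft'
  letI : Algebra Bb Ab := φ'.toAlgebra
  letI : Algebra B₀ Ab := ((algebraMap A₀ Ab).comp (algebraMap B₀ A₀)).toAlgebra
  haveI : IsScalarTower B₀ A₀ Ab := IsScalarTower.of_algebraMap_eq (fun _ => rfl)
  have hcomm : ∀ r : B₀, φ' (algebraMap B₀ Bb r) = algebraMap A₀ Ab (algebraMap B₀ A₀ r) := by
    intro r
    exact IsLocalization.map_eq _ r
  haveI : IsScalarTower B₀ Bb Ab := IsScalarTower.of_algebraMap_eq (fun r => (hcomm r).symm)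
  -- images of elements of `A₀` are integral over `Bb`
  have hA : ∀ a : A₀, IsIntegral Bb (algebraMap A₀ Ab a) := by
    intro a
    have ha : a ∈ Algebra.adjoin B₀ (t : Set A₀) := by rw [ht]; trivial
    induction ha using Algebra.adjoin_induction with
    | mem x hx =>
      obtain ⟨s, hsb, hsx⟩ := hs x hx
      have h1 : IsIntegral B₀ (algebraMap A₀ Ab (s • x)) := hsx.algebraMap
      have h2 : IsIntegral Bb (algebraMap A₀ Ab (s • x)) := h1.tower_top
      have hunit : IsUnit (algebraMap B₀ Bb s) :=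
        isUnit_of_dvd_unit (map_dvd (algebraMap B₀ Bb) hsb)
          (IsLocalization.Away.algebraMap_isUnit b)
      obtain ⟨u, hu⟩ := hunit
      have h3 : algebraMap A₀ Ab x = algebraMap Bb Ab (↑u⁻¹ : Bb) * algebraMap A₀ Ab (s • x) := by
        rw [Algebra.smul_def, map_mul, ← mul_assoc]
        have h4 : algebraMap A₀ Ab (algebraMap B₀ A₀ s) = algebraMap Bb Ab (algebraMap B₀ Bb s) :=
          (hcomm s).symm
        rw [h4, ← hu, ← map_mul, Units.inv_mul, map_one, one_mul]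
      rw [h3]
      exact IsIntegral.mul isIntegral_algebraMap h2
    | algebraMap r =>
      have h5 : algebraMap A₀ Ab (algebraMap B₀ A₀ r) = algebraMap Bb Ab (algebraMap B₀ Bb r) :=
        (hcomm r).symm
      rw [h5]
      exact isIntegral_algebraMap
    | add x y _ _ hx hy =>
      rw [map_add]
      exact hx.add hy
    | mul x y _ _ hx hy =>
      rw [map_mul]
      exact hx.mul hy
  intro z
  obtain ⟨⟨a, ⟨_, n, rfl⟩⟩, hz⟩ := IsLocalization.surj (Submonoid.powers (algebraMap B₀ A₀ b)) z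
  -- z * (φ b)^n = a
  have hbunit : IsUnit (algebraMap B₀ Bb b) := IsLocalization.Away.algebraMap_isUnit b
  obtain ⟨u, hu⟩ := hbunit
  have h6 : z = algebraMap Bb Ab ((↑u⁻¹ : Bb) ^ n) * algebraMap A₀ Ab a := by
    have h7 : algebraMap A₀ Ab ((algebraMap B₀ A₀ b) ^ n) = algebraMap Bb Ab ((u : Bb) ^ n) := by
      rw [map_pow, map_pow, hu]
      congr 1
      exact (hcomm b).symm
    simp only at hz
    rw [← hz, h7, mul_comm z, ← mul_assoc, ← map_mul, ← mul_pow, Units.inv_mul, one_pow, map_one,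
      one_mul]
  change IsIntegral Bb z
  rw [h6]
  exact IsIntegral.mul isIntegral_algebraMap (hA a)

lemma exists_dvd_finite {B₀ A₀ k K : Type u} [CommRing B₀] [IsDomain B₀]
    [CommRing A₀] [Field k] [Field K] [Algebra B₀ A₀] [Algebra B₀ k] [Algebra k K] [Algebra A₀ K]
    [Algebra B₀ K] [IsScalarTower B₀ k K] [IsScalarTower B₀ A₀ K] [IsFractionRing B₀ k]
    [Algebra.IsAlgebraic k K] [Algebra.FiniteType B₀ A₀]
    (hinj : Function.Injective (algebraMap A₀ K)) :
    ∃ b₀ : B₀, b₀ ≠ 0 ∧ ∀ b : B₀, b₀ ∣ b → ∀ (Bb Ab : Type u) [CommRing Bb] [CommRing Ab]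
      [Algebra B₀ Bb] [IsLocalization.Away b Bb] [Algebra A₀ Ab]
      [IsLocalization.Away (algebraMap B₀ A₀ b) Ab],
      (IsLocalization.Away.map Bb Ab (algebraMap B₀ A₀) b).Finite := by
  classical
  obtain ⟨t, ht⟩ := (Algebra.FiniteType.out : (⊤ : Subalgebra B₀ A₀).FG)
  choose s hs0 hsint using fun a : A₀ => exists_ne_zero_isIntegral_smul (B₀ := B₀) (k := k) hinj a
  refine ⟨∏ a ∈ t, s a, Finset.prod_ne_zero_iff.mpr (fun a _ => hs0 a), ?_⟩
  intro b hb Bb Ab _ _ _ _ _ _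
  exact finite_away_map b t ht (fun a ha =>
    ⟨s a, (Finset.dvd_prod_of_mem s ha).trans hb, hsint a⟩)

end H5GenFinite
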