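import Mathlib

/-! For a quasi-compact morphism, points in the closure of the image of a closed set are
specializations of points in the image. -/

universe u

open CategoryTheory AlgebraicGeometry

namespace H5QC

lemma aux {A B : Type*} [CommRing A] [CommRing B] (φ : B →+* A) (T : Set (PrimeSpectrum A))
    (hT : IsClosed T) (η : PrimeSpectrum B) (hη : η ∈ closure (PrimeSpectrum.comap φ '' T)) :
    ∃ p ∈ T, PrimeSpectrum.comap φ p ⤳ η := by
  let I := PrimeSpectrum.vanishingIdeal T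
  have hTI : PrimeSpectrum.zeroLocus (I : Set A) = T := by
    rw [PrimeSpectrum.zeroLocus_vanishingIdeal_eq_closure, hT.closure_eq]
  rw [← hTI, PrimeSpectrum.closure_image_comap_zeroLocus] at hη
  have hle : I.comap φ ≤ η.asIdeal := hη
  obtain ⟨q, hq₁, hq₂⟩ := Ideal.exists_minimalPrimes_le hle
  obtain ⟨p', hp', hp'', hpq⟩ := Ideal.exists_comap_eq_of_mem_minimalPrimes φ _ hq₁
  refine ⟨⟨p', hp'⟩, ?_, ?_⟩
  · rw [← hTI]
    exact hp''
  · rw [← PrimeSpectrum.le_iff_specializes]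
    change Ideal.comap φ p' ≤ η.asIdeal
    rw [hpq]
    exact hq₂

variable {X Y : Scheme.{u}}

lemma exists_specializes_of_mem_closure_image (f : X ⟶ Y) [QuasiCompact f] (T : Set X)
    (hT : IsClosed T) (η : Y) (hη : η ∈ closure (f '' T)) : ∃ t ∈ T, f t ⤳ η := by
  obtain ⟨_, ⟨V, hV, rfl⟩, hηV, -⟩ :=
    Y.isBasis_affineOpens.exists_subset_of_mem_open (Set.mem_univ η) isOpen_univ
  have hV' : IsAffineOpen V := hV
  have hcomp : IsCompact ((f ⁻¹ᵁ V : X.Opens) : Set X) := f.isCompact_preimage hV'.isCompact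
  obtain ⟨R, g, hg⟩ := isCompact_iff_exists.mp hcomp
  have hrange : Set.range (g ≫ f) ⊆ Set.range hV'.fromSpec := by
    rw [hV'.range_fromSpec]
    rintro _ ⟨r, rfl⟩
    have h1 : g r ∈ ((f ⁻¹ᵁ V : X.Opens) : Set X) := hg ▸ Set.mem_range_self r
    rw [Scheme.Hom.comp_apply]
    exact h1
  obtain ⟨k, hk⟩ : ∃ k : Spec R ⟶ Spec Γ(Y, V), k ≫ hV'.fromSpec = g ≫ f :=
    ⟨IsOpenImmersion.lift hV'.fromSpec (g ≫ f) hrange, IsOpenImmersion.lift_fac _ _ _⟩
  obtain ⟨φ, rfl⟩ := Spec.homEquiv.symm.surjective k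
  obtain ⟨η', hη'⟩ : ∃ η' : Spec Γ(Y, V), hV'.fromSpec η' = η := by
    have h1 : η ∈ Set.range hV'.fromSpec := by rw [hV'.range_fromSpec]; exact hηV
    exact h1
  let T'' : Set (Spec R) := g ⁻¹' T
  have hT'' : IsClosed T'' := hT.preimage g.continuous
  have hcl : η' ∈ closure ((Spec.homEquiv.symm φ) '' T'') := by
    rw [mem_closure_iff]
    intro O hO hηO
    have hO' : IsOpen (hV'.fromSpec '' O) := hV'.fromSpec.isOpenEmbedding.isOpenMap O hO
    have hηO' : η ∈ hV'.fromSpec '' O := ⟨η', hηO, hη'⟩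
    obtain ⟨_, ⟨o, ho, ho'⟩, ⟨t, ht, rfl⟩⟩ := mem_closure_iff.mp hη _ hO' hηO'
    have htV : t ∈ ((f ⁻¹ᵁ V : X.Opens) : Set X) := by
      change f t ∈ V
      rw [← ho']
      have h2 : hV'.fromSpec o ∈ Set.range hV'.fromSpec := Set.mem_range_self o
      rw [hV'.range_fromSpec] at h2
      exact h2
    rw [← hg] at htV
    obtain ⟨r, rfl⟩ := htV
    refine ⟨(Spec.homEquiv.symm φ) r, ?_, ⟨r, ht, rfl⟩⟩
    have h3 : hV'.fromSpec ((Spec.homEquiv.symm φ) r) = hV'.fromSpec o := by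
      rw [← Scheme.Hom.comp_apply, hk, Scheme.Hom.comp_apply, ho']
    rw [hV'.fromSpec.isOpenEmbedding.injective h3]
    exact ho
  obtain ⟨p, hpT, hp⟩ := aux φ.hom T'' hT'' η' hcl
  refine ⟨g p, hpT, ?_⟩
  have h1 : f (g p) = hV'.fromSpec ((Spec.homEquiv.symm φ) p) := by
    rw [← Scheme.Hom.comp_apply, ← Scheme.Hom.comp_apply, hk]
  rw [h1, ← hη']
  exact Specializes.map hp hV'.fromSpec.continuous

end H5QC
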