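import Mathlib
import Groth.Agent.Lib.helper5.FibreClosed2
import Groth.Agent.Lib.helper5.GenFiniteAlg
import Groth.Agent.Lib.helper5.QCClosure

/-! Generic finiteness (schemes). -/

universe u

open CategoryTheory AlgebraicGeometry

namespace H5GenFinite

variable {X Y : Scheme.{u}}

lemma map_genericPoint_of_isDominant [IrreducibleSpace X] [IrreducibleSpace Y] (f : X ⟶ Y)
    [IsDominant f] : f (genericPoint X) = genericPoint Y := by
  have h1 : IsGenericPoint (f (genericPoint X)) (closure (f '' Set.univ)) :=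
    (genericPoint_spec X).image f.continuous
  rw [Set.image_univ, f.denseRange.closure_range] at h1
  exact h1.eq (genericPoint_spec Y)

lemma mem_of_ne_bot [IrreducibleSpace X] (W : X.Opens) (hW : W ≠ ⊥) : genericPoint X ∈ W := by
  have h1 : (W : Set X).Nonempty := by
    rw [Set.nonempty_iff_ne_empty]
    intro h
    exact hW (TopologicalSpace.Opens.ext h)
  exact ((genericPoint_spec X).mem_open_set_iff W.2).mpr (by simpa using h1)

lemma finite_of_isIso {R S : CommRingCat.{u}} (e : R ⟶ S) [IsIso e] : e.hom.Finite :=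
  RingHom.Finite.of_surjective _ (ConcreteCategory.bijective_of_isIso e).2

lemma finite_residueFieldMap_of_isFinite {U' V' : Scheme.{u}} (f : X ⟶ Y) (i : U' ⟶ X)
    (j : V' ⟶ Y) [IsOpenImmersion i] [IsOpenImmersion j] (g : U' ⟶ V') [IsFinite g]
    (h : g ≫ j = i ≫ f) (u : U') : (f.residueFieldMap (i u)).hom.Finite := by
  have hg : (g.residueFieldMap u).hom.Finite :=
    H5FibreClosed.finite_residueFieldMap_of_quasiFiniteAt g u (g.quasiFiniteAt u)
  have h1 := Scheme.Hom.residueFieldMap_congr h u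
  rw [Scheme.residueFieldMap_comp, Scheme.residueFieldMap_comp] at h1
  have hpt : j (g u) = f (i u) := by
    rw [← Scheme.Hom.comp_apply, ← Scheme.Hom.comp_apply, h]
  have h2 : f.residueFieldMap (i u) = (Y.residueFieldCongr hpt).inv ≫
      j.residueFieldMap (g u) ≫ g.residueFieldMap u ≫ inv (i.residueFieldMap u) := by
    rw [← Category.assoc (j.residueFieldMap _), h1]
    simp
  rw [h2]
  simp only [CommRingCat.hom_comp]
  exact ((finite_of_isIso _).comp (hg.comp (finite_of_isIso _))).comp (finite_of_isIso _)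

lemma isFinite_resLE_of_finite_appLE (f : X ⟶ Y) {U : X.Opens} {V : Y.Opens}
    (hU : IsAffineOpen U) (hV : IsAffineOpen V) (e : U ≤ f ⁻¹ᵁ V)
    (hfin : (f.appLE V U e).hom.Finite) : IsFinite (f.resLE V U e) := by
  have h1 : f.resLE V U e = hU.isoSpec.hom ≫ Spec.map (f.appLE V U e) ≫ hV.isoSpec.inv := by
    rw [← cancel_mono V.ι]
    simp only [Category.assoc]
    rw [Scheme.Hom.resLE_comp_ι]
    have h2 : hV.isoSpec.inv ≫ V.ι = hV.fromSpec := rfl
    rw [h2, IsAffineOpen.SpecMap_appLE_fromSpec f hV hU e]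
    have h3 : hU.isoSpec.hom ≫ hU.fromSpec = U.ι := by
      rw [IsAffineOpen.fromSpec, Iso.hom_inv_id_assoc]
    rw [← Category.assoc, h3]
  rw [h1]
  haveI : IsFinite (Spec.map (f.appLE V U e)) := (IsFinite.SpecMap_iff _).mpr hfin
  infer_instance

lemma residue_bijective_genericPoint [IsIntegral Y] :
    Function.Bijective (Y.residue (genericPoint Y)).hom := by
  constructor
  · exact RingHom.injective (Y.residue (genericPoint Y)).hom
  · exact Y.residue_surjective _

lemma evaluation_injective [IsIntegral X] (U : X.Opens) (hξ : genericPoint X ∈ U) :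
    Function.Injective (X.evaluation U (genericPoint X) hξ).hom := by
  have h1 : Function.Injective (X.presheaf.germ U (genericPoint X) hξ).hom :=
    germ_injective_of_isIntegral X _ hξ
  have h2 := (residue_bijective_genericPoint (Y := X)).1
  rw [← Scheme.germ_residue, CommRingCat.hom_comp]
  exact h2.comp h1

lemma isFractionRing_residueField [IsIntegral Y] {V : Y.Opens} (hV : IsAffineOpen V)
    (hyV : genericPoint Y ∈ V) :
    @IsFractionRing Γ(Y, V) _ (Y.residueField (genericPoint Y)) _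
      (Y.evaluation V (genericPoint Y) hyV).hom.toAlgebra := by
  haveI : Nonempty V := ⟨⟨_, hyV⟩⟩
  have h1 := functionField_isFractionRing_of_isAffineOpen Y V hV
  letI := (Y.evaluation V (genericPoint Y) hyV).hom.toAlgebra
  let e : Y.functionField ≃ₐ[Γ(Y, V)] Y.residueField (genericPoint Y) :=
    { RingEquiv.ofBijective _ (residue_bijective_genericPoint (Y := Y)) with
      commutes' := fun r => rfl }
  exact IsLocalization.isLocalization_of_algEquiv _ e

lemma appLE_evaluation (f : X ⟶ Y) {U : X.Opens} {V : Y.Opens} (e : U ≤ f ⁻¹ᵁ V) (x : X)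
    (hx : x ∈ U) :
    f.appLE V U e ≫ X.evaluation U x hx =
      Y.evaluation V (f x) (e hx) ≫ f.residueFieldMap x := by
  rw [Scheme.evaluation_naturality, Scheme.Hom.appLE, Category.assoc]
  congr 1
  rw [← Scheme.germ_residue, ← Scheme.germ_residue, ← Category.assoc]
  congr 1
  exact X.presheaf.germ_res (homOfLE e) x hx

lemma isFractionRing_residueField' [IsIntegral Y] {V : Y.Opens} (hV : IsAffineOpen V) (y : Y)
    (hy : y = genericPoint Y) (hyV : y ∈ V) :
    @IsFractionRing Γ(Y, V) _ (Y.residueField y) _ (Y.evaluation V y hyV).hom.toAlgebra := by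
  subst hy
  exact isFractionRing_residueField hV hyV

lemma exists_finite_appLE_basicOpen [IsIntegral X] [IsIntegral Y] (f : X ⟶ Y) [IsDominant f]
    [LocallyOfFiniteType f]
    (hA : (f.residueFieldMap (genericPoint X)).hom.Finite)
    {U : X.Opens} {V : Y.Opens} (hU : IsAffineOpen U) (hV : IsAffineOpen V) (e : U ≤ f ⁻¹ᵁ V)
    (hξ : genericPoint X ∈ U) :
    ∃ b₀ : Γ(Y, V), b₀ ≠ 0 ∧ ∀ b : Γ(Y, V), b₀ ∣ b →
      (f.appLE (Y.basicOpen b) (X.basicOpen (f.appLE V U e b))
        (by simp [Scheme.Hom.appLE])).hom.Finite := by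
  set ξ := genericPoint X with hξdef
  haveI : Nonempty V := ⟨⟨f ξ, e hξ⟩⟩
  letI i1 : Algebra Γ(Y, V) Γ(X, U) := (f.appLE V U e).hom.toAlgebra
  letI i2 : Algebra Γ(Y, V) (Y.residueField (f ξ)) :=
    (Y.evaluation V (f ξ) (e hξ)).hom.toAlgebra
  letI i3 : Algebra (Y.residueField (f ξ)) (X.residueField ξ) :=
    (f.residueFieldMap ξ).hom.toAlgebra
  letI i4 : Algebra Γ(X, U) (X.residueField ξ) := (X.evaluation U ξ hξ).hom.toAlgebra
  letI i5 : Algebra Γ(Y, V) (X.residueField ξ) :=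
    ((algebraMap (Y.residueField (f ξ)) (X.residueField ξ)).comp
      (algebraMap Γ(Y, V) (Y.residueField (f ξ)))).toAlgebra
  haveI t1 : IsScalarTower Γ(Y, V) (Y.residueField (f ξ)) (X.residueField ξ) :=
    IsScalarTower.of_algebraMap_eq (fun _ => rfl)
  haveI t2 : IsScalarTower Γ(Y, V) Γ(X, U) (X.residueField ξ) :=
    IsScalarTower.of_algebraMap_eq (fun r => by
      have h := appLE_evaluation f e ξ hξ
      exact (ConcreteCategory.congr_hom h r).symm)
  haveI : IsFractionRing Γ(Y, V) (Y.residueField (f ξ)) :=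
    isFractionRing_residueField' hV (f ξ) (map_genericPoint_of_isDominant f) (e hξ)
  haveI : Module.Finite (Y.residueField (f ξ)) (X.residueField ξ) := hA
  haveI : Algebra.IsAlgebraic (Y.residueField (f ξ)) (X.residueField ξ) :=
    Algebra.IsAlgebraic.of_finite _ _
  haveI : Algebra.FiniteType Γ(Y, V) Γ(X, U) :=
    LocallyOfFiniteType.finiteType_appLE f hV hU e
  have hinj : Function.Injective (algebraMap Γ(X, U) (X.residueField ξ)) :=
    evaluation_injective U hξ
  obtain ⟨b₀, hb₀, H⟩ := exists_dvd_finite (B₀ := Γ(Y, V)) (A₀ := Γ(X, U))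
    (k := Y.residueField (f ξ)) (K := X.residueField ξ) hinj
  refine ⟨b₀, hb₀, fun b hb => ?_⟩
  haveI := hV.isLocalization_basicOpen b
  haveI := hU.isLocalization_basicOpen (f.appLE V U e b)
  have h1 := H b hb Γ(Y, Y.basicOpen b) Γ(X, X.basicOpen (f.appLE V U e b))
  rw [hV.appLE_eq_away_map f hU e b]
  exact h1

lemma genericPoint_mem_basicOpen [IsIntegral Y] {V : Y.Opens} (b : Γ(Y, V)) (hb : b ≠ 0) :
    genericPoint Y ∈ Y.basicOpen b := by
  apply mem_of_ne_bot
  intro h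
  exact hb ((basicOpen_eq_bot_iff b).mp h)

lemma isFinite_morphismRestrict_of_resLE (f : X ⟶ Y) (V' : Y.Opens) (U' : X.Opens)
    (h : U' = f ⁻¹ᵁ V') (e' : U' ≤ f ⁻¹ᵁ V') (hfin : IsFinite (f.resLE V' U' e')) :
    IsFinite (f ∣_ V') := by
  subst h
  have h1 : f.resLE V' (f ⁻¹ᵁ V') e' = f ∣_ V' := by simp [Scheme.Hom.resLE]
  rwa [h1] at hfin

lemma preimage_le_of_isFinite_resLE [IrreducibleSpace X] (f : X ⟶ Y) [IsSeparated f]
    (V' : Y.Opens) (U' : X.Opens) (e' : U' ≤ f ⁻¹ᵁ V') (hne : (U' : Set X).Nonempty)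
    (hfin : IsFinite (f.resLE V' U' e')) : f ⁻¹ᵁ V' ≤ U' := by
  let j : U'.toScheme ⟶ (f ⁻¹ᵁ V').toScheme := X.homOfLE e'
  have hj : j ≫ (f ∣_ V') = f.resLE V' U' e' := rfl
  haveI : IsSeparated (f ∣_ V') := IsZariskiLocalAtTarget.restrict (P := @IsSeparated) ‹IsSeparated f› V'
  haveI : IsProper (j ≫ (f ∣_ V')) := by rw [hj]; infer_instance
  haveI : IsProper j := IsProper.of_comp j (f ∣_ V')
  have hclosed : IsClosed (Set.range j) := j.isClosedMap.isClosed_range
  have hrs : (f ⁻¹ᵁ V').ι '' Set.range j = (U' : Set X) := by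
    rw [← Set.range_comp]
    have h1 : ((f ⁻¹ᵁ V').ι : _ → X) ∘ (j : _ → _) = (U'.ι : _ → X) := by
      funext z
      change (j ≫ (f ⁻¹ᵁ V').ι) z = U'.ι z
      rw [X.homOfLE_ι]
    rw [h1, Scheme.Opens.range_ι]
  have hUd : Dense (U' : Set X) := U'.2.dense hne
  intro x' hx'
  have hz : (⟨x', hx'⟩ : (f ⁻¹ᵁ V').toScheme) ∈ closure (Set.range j) := by
    rw [(f ⁻¹ᵁ V').ι.isOpenEmbedding.isEmbedding.closure_eq_preimage_closure_image, hrs,
      hUd.closure_eq]
    trivial
  rw [hclosed.closure_eq] at hz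
  have h2 : (f ⁻¹ᵁ V').ι ⟨x', hx'⟩ ∈ (f ⁻¹ᵁ V').ι '' Set.range j := ⟨_, hz, rfl⟩
  rw [hrs] at h2
  exact h2

lemma exists_basicOpen_preimage_le [IsIntegral X] [IsIntegral Y] (f : X ⟶ Y) [QuasiCompact f]
    (hC : ∀ x : X, f x = genericPoint Y → x = genericPoint X)
    {U : X.Opens} {V : Y.Opens} (hV : IsAffineOpen V) (hξ : genericPoint X ∈ U)
    (hη : genericPoint Y ∈ V) :
    ∃ b₁ : Γ(Y, V), genericPoint Y ∈ Y.basicOpen b₁ ∧ f ⁻¹ᵁ (Y.basicOpen b₁) ≤ U := by
  set T : Set X := (U : Set X)ᶜ with hT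
  have hTc : IsClosed T := U.2.isClosed_compl
  have hnot : genericPoint Y ∉ closure (f '' T) := by
    intro hcl
    obtain ⟨t, htT, hts⟩ := H5QC.exists_specializes_of_mem_closure_image f T hTc _ hcl
    have h1 : f t = genericPoint Y :=
      (hts.antisymm (genericPoint_specializes (f t))).eq
    have h2 := hC t h1
    exact htT (h2 ▸ hξ)
  let W : Y.Opens := ⟨(closure (f '' T))ᶜ, isClosed_closure.isOpen_compl⟩
  have hηW : genericPoint Y ∈ W ⊓ V := ⟨hnot, hη⟩
  obtain ⟨b₁, hb₁, hηb⟩ := hV.exists_basicOpen_le (V := W ⊓ V) ⟨genericPoint Y, hηW⟩ hη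
  refine ⟨b₁, hηb, ?_⟩
  intro x hx
  by_contra hxU
  have h3 : f x ∈ W := (hb₁ hx).1
  exact h3 (subset_closure ⟨x, hxU, rfl⟩)

lemma core [IsIntegral X] [IsIntegral Y] (f : X ⟶ Y) [IsDominant f] [LocallyOfFiniteType f]
    (hA : (f.residueFieldMap (genericPoint X)).hom.Finite) :
    ∃ (U : X.Opens) (V : Y.Opens) (e : U ≤ f ⁻¹ᵁ V), IsAffineOpen U ∧ IsAffineOpen V ∧
      genericPoint X ∈ U ∧ ∃ b₀ : Γ(Y, V), b₀ ≠ 0 ∧ ∀ b : Γ(Y, V), b₀ ∣ b →
        IsFinite (f.resLE (Y.basicOpen b) (X.basicOpen (f.appLE V U e b))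
          (by simp [Scheme.Hom.appLE])) := by
  obtain ⟨_, ⟨V, hV, rfl⟩, hηV, -⟩ :=
    Y.isBasis_affineOpens.exists_subset_of_mem_open (Set.mem_univ (f (genericPoint X)))
      isOpen_univ
  have hV' : IsAffineOpen V := hV
  obtain ⟨_, ⟨U, hU, rfl⟩, hξU, hUV⟩ :=
    X.isBasis_affineOpens.exists_subset_of_mem_open (show genericPoint X ∈ (f ⁻¹ᵁ V : Set X)
      from hηV) (f ⁻¹ᵁ V).2
  have hU' : IsAffineOpen U := hU
  have e : U ≤ f ⁻¹ᵁ V := hUV
  obtain ⟨b₀, hb₀, H⟩ := exists_finite_appLE_basicOpen f hA hU' hV' e hξU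
  refine ⟨U, V, e, hU', hV', hξU, b₀, hb₀, fun b hb => ?_⟩
  exact isFinite_resLE_of_finite_appLE f (hU'.basicOpen _) (hV'.basicOpen _) _ (H b hb)

end H5GenFinite
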