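import Groth.Agent.Lib.helper5.Branches
import Mathlib
universe u
namespace H5GB

lemma field_lemma (κ L : Type u) [Field κ] [Field L] [Algebra κ L] [Algebra.IsAlgebraic κ L] :
    Nonempty (L →ₐ[κ] AlgebraicClosure κ) ∧
    (Subsingleton (L →ₐ[κ] AlgebraicClosure κ) ↔
      ∀ x : L, ∃ n : ℕ, x ^ (ringExpChar L) ^ n ∈ (algebraMap κ L).range) := by
  refine ⟨⟨IsAlgClosed.lift⟩, ?_⟩
  haveI := ringExpChar.expChar κ
  haveI : ExpChar L (ringExpChar κ) := expChar_of_injective_ringHom (algebraMap κ L).injective _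
  rw [ringExpChar.eq L (ringExpChar κ), ← isPurelyInseparable_iff_pow_mem κ (ringExpChar κ),
    isPurelyInseparable_iff_subsingleton_emb]
  exact (Field.embEquivOfIsAlgClosed κ L (AlgebraicClosure κ)).subsingleton_congr.symm

section
variable (A : Type u) [CommRing A] [IsLocalRing A] (m' : MaximalSpectrum (CAlg2.normRed A))

set_option backward.isDefEq.respectTransparency false in
lemma toResidue_isIntegral : (Brnch.toResidue A m').IsIntegral := by
  unfold Brnch.toResidue
  refine @RingHom.IsIntegral.trans A (CAlg2.normRed A) (CAlg2.normRed A ⧸ m'.asIdeal) _ _ _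
    ((algebraMap (CAlg2.red A) (CAlg2.normRed A)).comp (Ideal.Quotient.mk (nilradical A)))
    (Ideal.Quotient.mk m'.asIdeal) ?_ ?_
  · refine RingHom.IsIntegral.trans (Ideal.Quotient.mk (nilradical A))
      (algebraMap (CAlg2.red A) (CAlg2.normRed A)) ?_ ?_
    · exact RingHom.isIntegral_of_surjective _ Ideal.Quotient.mk_surjective
    · exact algebraMap_isIntegral_iff.mpr inferInstance
  · exact RingHom.isIntegral_of_surjective _ Ideal.Quotient.mk_surjective

lemma toResidue_eq_zero (a : A) (ha : a ∈ IsLocalRing.maximalIdeal A) :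
    Brnch.toResidue A m' a = 0 := by
  haveI := m'.isMaximal
  letI : Field (CAlg2.normRed A ⧸ m'.asIdeal) := Ideal.Quotient.field _
  haveI : (⊥ : Ideal (CAlg2.normRed A ⧸ m'.asIdeal)).IsMaximal := Ideal.bot_isMaximal
  have h1 := Ideal.isMaximal_comap_of_isIntegral_of_isMaximal' (Brnch.toResidue A m')
    (toResidue_isIntegral A m') ⊥
  have h2 : (⊥ : Ideal (CAlg2.normRed A ⧸ m'.asIdeal)).comap (Brnch.toResidue A m') =
      IsLocalRing.maximalIdeal A := IsLocalRing.eq_maximalIdeal h1
  have h3 : a ∈ (⊥ : Ideal (CAlg2.normRed A ⧸ m'.asIdeal)).comap (Brnch.toResidue A m') :=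
    h2 ▸ ha
  exact h3

end

end H5GB

namespace H5GB

section
variable (A : Type u) [CommRing A] [IsLocalRing A] (m' : MaximalSpectrum (CAlg2.normRed A))

set_option backward.isDefEq.respectTransparency false in
lemma emb_facts : Nonempty (Brnch.Emb A m') ∧
    (Subsingleton (Brnch.Emb A m') ↔
      ∀ x : CAlg2.normRed A ⧸ m'.asIdeal, ∃ n : ℕ,
        x ^ (ringExpChar (CAlg2.normRed A ⧸ m'.asIdeal)) ^ n ∈ (Brnch.toResidue A m').range) := by
  haveI := m'.isMaximal
  letI : Field (CAlg2.normRed A ⧸ m'.asIdeal) := Ideal.Quotient.field _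
  let fbar : IsLocalRing.ResidueField A →+* (CAlg2.normRed A ⧸ m'.asIdeal) :=
    Ideal.Quotient.lift (IsLocalRing.maximalIdeal A) (Brnch.toResidue A m')
      (toResidue_eq_zero A m')
  have hfbar : ∀ a, fbar (IsLocalRing.residue A a) = Brnch.toResidue A m' a := fun a => rfl
  letI : Algebra (IsLocalRing.ResidueField A) (CAlg2.normRed A ⧸ m'.asIdeal) := fbar.toAlgebra
  haveI : Algebra.IsIntegral (IsLocalRing.ResidueField A) (CAlg2.normRed A ⧸ m'.asIdeal) :=
    ⟨RingHom.IsIntegral.tower_top (IsLocalRing.residue A) fbar (by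
      have : fbar.comp (IsLocalRing.residue A) = Brnch.toResidue A m' := RingHom.ext hfbar
      rw [this]; exact toResidue_isIntegral A m')⟩
  haveI : Algebra.IsAlgebraic (IsLocalRing.ResidueField A) (CAlg2.normRed A ⧸ m'.asIdeal) :=
    Algebra.IsIntegral.isAlgebraic
  let E : Brnch.Emb A m' ≃ ((CAlg2.normRed A ⧸ m'.asIdeal) →ₐ[IsLocalRing.ResidueField A]
      AlgebraicClosure (IsLocalRing.ResidueField A)) :=
    { toFun := fun σ =>
        { toRingHom := σ.1
          commutes' := fun c => by
            obtain ⟨a, rfl⟩ := IsLocalRing.residue_surjective c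
            show σ.1 (fbar (IsLocalRing.residue A a)) = _
            rw [hfbar]
            exact congrArg (fun F => F a) σ.2 }
      invFun := fun τ => ⟨τ.toRingHom, RingHom.ext fun a => by
          show τ (Brnch.toResidue A m' a) = _
          rw [← hfbar]
          exact τ.commutes (IsLocalRing.residue A a)⟩
      left_inv := fun σ => Subtype.ext rfl
      right_inv := fun τ => by ext; rfl }
  obtain ⟨h1, h2⟩ := field_lemma (IsLocalRing.ResidueField A) (CAlg2.normRed A ⧸ m'.asIdeal)
  refine ⟨h1.map E.symm, ?_⟩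
  rw [E.subsingleton_congr, h2]
  have hrange : (algebraMap (IsLocalRing.ResidueField A) (CAlg2.normRed A ⧸ m'.asIdeal)).range =
      (Brnch.toResidue A m').range := by
    ext y
    constructor
    · rintro ⟨c, rfl⟩
      obtain ⟨a, rfl⟩ := IsLocalRing.residue_surjective c
      exact ⟨a, (hfbar a).symm⟩
    · rintro ⟨a, rfl⟩
      exact ⟨IsLocalRing.residue A a, hfbar a⟩
  rw [hrange]

end

end H5GB

namespace H5GB

section
variable (A : Type u) [CommRing A] [IsLocalRing A]

theorem main : Brnch.numGeomBranches A = 1 ↔ CAlg2.IsGeomUnibranch A := by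
  classical
  constructor
  · intro h
    unfold Brnch.numGeomBranches at h
    by_cases hfin : (minimalPrimes A).Finite
    · rw [if_pos hfin, ENat.card_eq_one_iff_unique] at h
      obtain ⟨huniq⟩ := h
      have hsub : ∀ m₁ m₂ : MaximalSpectrum (CAlg2.normRed A), m₁ = m₂ := by
        intro m₁ m₂
        obtain ⟨σ₁⟩ := (emb_facts A m₁).1
        obtain ⟨σ₂⟩ := (emb_facts A m₂).1
        have := (huniq.uniq ⟨m₁, σ₁⟩).trans (huniq.uniq ⟨m₂, σ₂⟩).symm
        exact congrArg Sigma.fst this
      have hloc : IsLocalRing (CAlg2.normRed A) := by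
        apply IsLocalRing.of_unique_max_ideal
        refine ⟨huniq.default.1.asIdeal, huniq.default.1.isMaximal, ?_⟩
        intro I hI
        exact congrArg MaximalSpectrum.asIdeal (hsub ⟨I, hI⟩ huniq.default.1)
      refine ⟨⟨H5BR.isDomain_red_of_local A hfin hloc, hloc⟩, ?_⟩
      intro m' hm'
      have hss : Subsingleton (Brnch.Emb A ⟨m', hm'⟩) := by
        constructor
        intro σ₁ σ₂
        have := (huniq.uniq ⟨⟨m', hm'⟩, σ₁⟩).trans (huniq.uniq ⟨⟨m', hm'⟩, σ₂⟩).symm
        exact eq_of_heq (Sigma.mk.inj this).2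
      exact (emb_facts A ⟨m', hm'⟩).2.mp hss
    · rw [if_neg hfin] at h
      exact absurd h (by simp)
  · rintro ⟨⟨hdom, hloc⟩, hpi⟩
    have hprime : (nilradical A).IsPrime := (Ideal.Quotient.isDomain_iff_prime _).mp hdom
    have hfin : (minimalPrimes A).Finite := by
      apply Set.Finite.subset (Set.finite_singleton (nilradical A))
      intro p hp
      rw [Set.mem_singleton_iff]
      haveI := hp.1.1
      exact le_antisymm (hp.2 ⟨hprime, bot_le⟩ (nilradical_le_prime p)) (nilradical_le_prime p)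
    unfold Brnch.numGeomBranches
    rw [if_pos hfin, ENat.card_eq_one_iff_unique]
    let m₀ : MaximalSpectrum (CAlg2.normRed A) :=
      ⟨IsLocalRing.maximalIdeal _, IsLocalRing.maximalIdeal.isMaximal _⟩
    have hm₀ : ∀ m : MaximalSpectrum (CAlg2.normRed A), m = m₀ :=
      fun m => MaximalSpectrum.ext (IsLocalRing.eq_maximalIdeal m.isMaximal)
    obtain ⟨σ₀⟩ := (emb_facts A m₀).1
    have hss : Subsingleton (Brnch.Emb A m₀) :=
      (emb_facts A m₀).2.mpr (@hpi m₀.asIdeal m₀.isMaximal)
    exact ⟨{ default := ⟨m₀, σ₀⟩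
             uniq := fun ⟨m, σ⟩ => by
               obtain rfl := hm₀ m
               exact congrArg _ (Subsingleton.elim σ σ₀) }⟩

end

end H5GB
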