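import Mathlib

open CategoryTheory CategoryTheory.Limits AlgebraicGeometry

namespace H5Geom

universe u

theorem geometrically_of_isPullback {P : ObjectProperty Scheme.{u}}
    (hP : ∀ {Z W : Scheme.{u}} (p : Z ⟶ W) [Flat p] [Surjective p], P Z → P W)
    {F F' S S' : Scheme.{u}} [IsIntegral S] [Subsingleton S] [IsIntegral S'] [Subsingleton S']
    (a : F ⟶ S) (b : S' ⟶ S) (a' : F' ⟶ S') (b' : F' ⟶ F) (h : IsPullback b' a' a b)
    (ha' : geometrically P a') : geometrically P a := by
  rw [geometrically_eq_universally] at ha' ⊢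
  intro Z T i₁ i₂ f' hZ hT1 hT2
  obtain ⟨x₀⟩ := (inferInstance : Nonempty S')
  obtain ⟨y₀⟩ := (inferInstance : Nonempty T)
  obtain ⟨t, -, -⟩ := Scheme.Pullback.exists_preimage_pullback (f := b) (g := i₂) x₀ y₀
    (Subsingleton.elim _ _)
  let c := (pullback b i₂).fromSpecResidueField t
  let c₁ := c ≫ pullback.fst b i₂
  let c₂ := c ≫ pullback.snd b i₂
  have hc : c₁ ≫ b = c₂ ≫ i₂ := by
    simp only [c₁, c₂, Category.assoc, pullback.condition]
  haveI : Surjective c₂ := ⟨fun y => ⟨default, Subsingleton.elim _ _⟩⟩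
  let p := pullback.fst f' c₂
  let sndW := pullback.snd f' c₂
  have hW : IsPullback p sndW f' c₂ := IsPullback.of_hasPullback f' c₂
  have hbig : IsPullback sndW (p ≫ i₁) (c₂ ≫ i₂) a := hW.flip.paste_vert hZ
  have hcomm : (p ≫ i₁) ≫ a = (sndW ≫ c₁) ≫ b := by
    rw [Category.assoc, Category.assoc, ← hZ.w, ← Category.assoc, hW.w, Category.assoc, hc]
  let w₁ : pullback f' c₂ ⟶ F' := h.lift (p ≫ i₁) (sndW ≫ c₁) hcomm
  have hw₁ : w₁ ≫ b' = p ≫ i₁ := h.lift_fst _ _ _
  have hw₂ : w₁ ≫ a' = sndW ≫ c₁ := h.lift_snd _ _ _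
  have hsq : IsPullback sndW w₁ c₁ a' := by
    refine IsPullback.of_bot ?_ hw₂.symm h.flip
    rw [hw₁, hc]
    exact hbig
  have hPW : P (pullback f' c₂) := ha' w₁ c₁ sndW hsq inferInstance inferInstance
  exact hP p hPW


theorem isReduced_of_flat_surjective {Z W : Scheme.{u}} (p : Z ⟶ W) [Flat p] [Surjective p]
    (h : IsReduced Z) : IsReduced W := by
  haveI : ∀ w : W, _root_.IsReduced (W.presheaf.stalk w) := by
    intro w
    obtain ⟨z, rfl⟩ := p.surjective w
    have hflat := Flat.stalkMap p z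
    algebraize [(p.stalkMap z).hom]
    haveI : IsLocalHom (algebraMap (W.presheaf.stalk (p z)) (Z.presheaf.stalk z)) :=
      inferInstanceAs (IsLocalHom (p.stalkMap z).hom)
    haveI : Module.FaithfullyFlat (W.presheaf.stalk (p z)) (Z.presheaf.stalk z) :=
      Module.FaithfullyFlat.of_flat_of_isLocalHom
    exact isReduced_of_injective (algebraMap (W.presheaf.stalk (p z)) (Z.presheaf.stalk z))
      (FaithfulSMul.algebraMap_injective _ _)
  exact isReduced_of_isReduced_stalk W

theorem irreducibleSpace_of_surjective {Z W : Scheme.{u}} (p : Z ⟶ W) [Surjective p]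
    (h : IrreducibleSpace Z) : IrreducibleSpace W :=
  p.surjective.irreducibleSpace p.continuous

theorem connectedSpace_of_surjective {Z W : Scheme.{u}} (p : Z ⟶ W) [Surjective p]
    (h : ConnectedSpace Z) : ConnectedSpace W :=
  p.surjective.connectedSpace p.continuous

/-- the fibre-locus statement, generic form -/
theorem fibre_locus_baseChange {P : ObjectProperty Scheme.{u}}
    (hP : ∀ {Z W : Scheme.{u}} (p : Z ⟶ W) [Flat p] [Surjective p], P Z → P W)
    {X Y X' Y' : Scheme.{u}} (f : X ⟶ Y) (g : Y' ⟶ Y) (f' : X' ⟶ Y') (g' : X' ⟶ X)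
    (hc : IsPullback g' f' f g) (y' : Y') :
    geometrically P (f'.fiberToSpecResidueField y') ↔
      geometrically P (f.fiberToSpecResidueField (g y')) := by
  have hsq := isPullback_fiberToSpecResidueField_of_isPullback hc y'
  constructor
  · intro h
    exact geometrically_of_isPullback hP _ _ _ _ hsq h
  · intro h
    exact MorphismProperty.of_isPullback hsq h

end H5Geom
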