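import Mathlib
universe u
open TensorProduct
namespace H5GI

lemma isPrime_nilradical_of_injective {A B : Type*} [CommRing A] [CommRing B] (f : A →+* B)
    (hf : Function.Injective f) (h : (nilradical B).IsPrime) : (nilradical A).IsPrime := by
  constructor
  · intro htop
    have h1 : (1 : A) ∈ nilradical A := htop ▸ Submodule.mem_top
    have h2 : (1 : B) ∈ nilradical B := by
      rw [mem_nilradical] at h1 ⊢
      simpa using h1.map f
    exact h.ne_top ((Ideal.eq_top_iff_one _).mpr h2)
  · intro a b hab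
    rw [mem_nilradical] at hab
    have h1 : f a * f b ∈ nilradical B := by
      rw [mem_nilradical, ← map_mul]
      exact hab.map f
    rcases h.mem_or_mem h1 with h2 | h2
    · left
      rw [mem_nilradical] at h2 ⊢
      exact (IsNilpotent.map_iff hf).mp h2
    · right
      rw [mem_nilradical] at h2 ⊢
      exact (IsNilpotent.map_iff hf).mp h2

lemma irreducibleSpace_of_injective {A B : Type*} [CommRing A] [CommRing B] (f : A →+* B)
    (hf : Function.Injective f) (h : IrreducibleSpace (PrimeSpectrum B)) :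
    IrreducibleSpace (PrimeSpectrum A) := by
  rw [PrimeSpectrum.irreducibleSpace_iff_isPrime_nilradical] at h ⊢
  exact isPrime_nilradical_of_injective f hf h

end H5GI
namespace H5GI

/-- every maximal ideal of a finite type algebra over an algebraically closed field is the kernel
of a `K`-point -/
lemma exists_algHom_ker_eq {K A : Type*} [Field K] [IsAlgClosed K] [CommRing A] [Algebra K A]
    [Algebra.FiniteType K A] (m : Ideal A) [m.IsMaximal] :
    ∃ φ : A →ₐ[K] K, ∀ a, φ a = 0 ↔ a ∈ m := by
  letI : Field (A ⧸ m) := Ideal.Quotient.field m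
  haveI : Algebra.FiniteType K (A ⧸ m) := inferInstance
  haveI : Module.Finite K (A ⧸ m) := finite_of_finite_type_of_isJacobsonRing K (A ⧸ m)
  have hbij : Function.Bijective (algebraMap K (A ⧸ m)) :=
    IsAlgClosed.algebraMap_bijective_of_isIntegral
  let e : K ≃ₐ[K] (A ⧸ m) := AlgEquiv.ofBijective (Algebra.ofId K (A ⧸ m)) hbij
  refine ⟨(e.symm : (A ⧸ m) →ₐ[K] K).comp (Ideal.Quotient.mkₐ K m), fun a => ?_⟩
  simp only [AlgHom.comp_apply, AlgHom.coe_coe, Ideal.Quotient.mkₐ_eq_mk]
  change e.symm (Ideal.Quotient.mk m a) = 0 ↔ _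
  rw [map_eq_zero_iff _ e.symm.injective, Ideal.Quotient.eq_zero_iff_mem]

end H5GI

namespace H5GI

section fg
variable {K A B : Type*} [Field K] [IsAlgClosed K] [CommRing A] [CommRing B]
  [Algebra K A] [Algebra K B]

/-- evaluation at a `K`-point -/
noncomputable def evalAt (φ : A →ₐ[K] K) : A ⊗[K] B →ₐ[K] B :=
  (Algebra.TensorProduct.lid K B : K ⊗[K] B →ₐ[K] B).comp
    (Algebra.TensorProduct.map φ (AlgHom.id K B))

lemma evalAt_tmul (φ : A →ₐ[K] K) (a : A) (b : B) : evalAt φ (a ⊗ₜ[K] b) = φ a • b := by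
  simp [evalAt]

lemma evalAt_eq_sum {ι : Type*} (e : Module.Basis ι K B) (φ : A →ₐ[K] K) (z : A ⊗[K] B) :
    evalAt φ z = ∑ i ∈ ((Algebra.TensorProduct.basis A e).repr z).support,
      φ ((Algebra.TensorProduct.basis A e).repr z i) • e i := by
  conv_lhs => rw [← (Algebra.TensorProduct.basis A e).linearCombination_repr z,
    Finsupp.linearCombination_apply, Finsupp.sum]
  rw [map_sum]
  refine Finset.sum_congr rfl fun i _ => ?_
  rw [Algebra.TensorProduct.basis_apply, TensorProduct.smul_tmul', smul_eq_mul, mul_one,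
    evalAt_tmul]

lemma evalAt_eq_zero_iff {ι : Type*} (e : Module.Basis ι K B) (φ : A →ₐ[K] K) (z : A ⊗[K] B) :
    evalAt φ z = 0 ↔ ∀ i, φ ((Algebra.TensorProduct.basis A e).repr z i) = 0 := by
  rw [evalAt_eq_sum e]
  constructor
  · intro h i
    by_cases hi : i ∈ ((Algebra.TensorProduct.basis A e).repr z).support
    · have := (linearIndependent_iff'.mp e.linearIndependent) _
        (fun i => φ ((Algebra.TensorProduct.basis A e).repr z i)) h i hi
      exact this
    · rw [Finsupp.notMem_support_iff] at hi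
      rw [hi, map_zero]
  · intro h
    exact Finset.sum_eq_zero fun i _ => by rw [h i, zero_smul]

end fg

end H5GI

namespace H5GI

section fg2
variable {K A B : Type*} [Field K] [IsAlgClosed K] [CommRing A] [CommRing B]
  [Algebra K A] [Algebra K B]

theorem eq_zero_or_eq_zero_fg [Algebra.FiniteType K A] [IsDomain A] [IsDomain B]
    (x y : A ⊗[K] B) (hxy : x * y = 0) : x = 0 ∨ y = 0 := by
  classical
  let e := Module.Basis.ofVectorSpace K B
  let E := Algebra.TensorProduct.basis A e
  haveI : IsJacobsonRing A := isJacobsonRing_of_finiteType (A := K) (B := A)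
  have hJ : (⊥ : Ideal A).jacobson = ⊥ :=
    IsJacobsonRing.out' _ (Ideal.IsPrime.isRadical Ideal.isPrime_bot)
  have key : ∀ i j, E.repr x i * E.repr y j = 0 := by
    intro i j
    have hmem : E.repr x i * E.repr y j ∈ (⊥ : Ideal A).jacobson := by
      rw [Ideal.jacobson, Ideal.mem_sInf]
      rintro m ⟨-, hm⟩
      haveI := hm
      obtain ⟨φ, hφ⟩ := exists_algHom_ker_eq (K := K) m
      have h1 : evalAt φ x * evalAt φ y = 0 := by rw [← map_mul, hxy, map_zero]
      rcases mul_eq_zero.mp h1 with h2 | h2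
      · exact m.mul_mem_right _ ((hφ _).mp ((evalAt_eq_zero_iff e φ x).mp h2 i))
      · exact m.mul_mem_left _ ((hφ _).mp ((evalAt_eq_zero_iff e φ y).mp h2 j))
    rwa [hJ, Ideal.mem_bot] at hmem
  by_cases hx : x = 0
  · exact Or.inl hx
  · right
    have h1 : E.repr x ≠ 0 := fun h => hx (E.repr.map_eq_zero_iff.mp h)
    obtain ⟨i, hi⟩ := Finsupp.ne_iff.mp h1
    apply E.repr.map_eq_zero_iff.mp
    ext j
    have := key i j
    rcases mul_eq_zero.mp this with h2 | h2
    · exact absurd h2 hi
    · exact h2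

end fg2

end H5GI

namespace H5GI

section gen
variable {K A B : Type*} [Field K] [IsAlgClosed K] [CommRing A] [CommRing B]
  [Algebra K A] [Algebra K B]

theorem eq_zero_or_eq_zero [IsDomain A] [IsDomain B]
    (x y : A ⊗[K] B) (hxy : x * y = 0) : x = 0 ∨ y = 0 := by
  classical
  let e := Module.Basis.ofVectorSpace K B
  let E := Algebra.TensorProduct.basis A e
  let T : Finset A := (E.repr x).support.image (E.repr x) ∪ (E.repr y).support.image (E.repr y)
  let D : Subalgebra K A := Algebra.adjoin K (T : Set A)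
  haveI : Algebra.FiniteType K D := Algebra.FiniteType.adjoin_of_finite T.finite_toSet
  have hxD : ∀ i ∈ (E.repr x).support, E.repr x i ∈ D := fun i hi =>
    Algebra.subset_adjoin (Finset.mem_coe.mpr (Finset.mem_union_left _ (Finset.mem_image_of_mem _ hi)))
  have hyD : ∀ i ∈ (E.repr y).support, E.repr y i ∈ D := fun i hi =>
    Algebra.subset_adjoin (Finset.mem_coe.mpr (Finset.mem_union_right _ (Finset.mem_image_of_mem _ hi)))
  let ι : D ⊗[K] B →ₐ[K] A ⊗[K] B := Algebra.TensorProduct.map D.val (AlgHom.id K B)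
  have hι : Function.Injective ι :=
    Module.Flat.rTensor_preserves_injective_linearMap (M := B) D.val.toLinearMap
      Subtype.val_injective
  let x' : D ⊗[K] B := ∑ i ∈ (E.repr x).support.attach, (⟨E.repr x i, hxD i i.2⟩ : D) ⊗ₜ[K] e i
  let y' : D ⊗[K] B := ∑ i ∈ (E.repr y).support.attach, (⟨E.repr y i, hyD i i.2⟩ : D) ⊗ₜ[K] e i
  have hrepr : ∀ z : A ⊗[K] B, z = ∑ i ∈ (E.repr z).support, (E.repr z i) ⊗ₜ[K] e i := by
    intro z
    conv_lhs => rw [← E.linearCombination_repr z, Finsupp.linearCombination_apply, Finsupp.sum]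
    refine Finset.sum_congr rfl fun i _ => ?_
    rw [Algebra.TensorProduct.basis_apply, TensorProduct.smul_tmul', smul_eq_mul, mul_one]
  have hx' : ι x' = x := by
    calc ι x' = ∑ i ∈ (E.repr x).support.attach, (E.repr x i) ⊗ₜ[K] e i := by
          simp only [x', map_sum]
          exact Finset.sum_congr rfl (fun i _ => by simp [ι])
      _ = ∑ i ∈ (E.repr x).support, (E.repr x i) ⊗ₜ[K] e i :=
          Finset.sum_attach _ (fun i => E.repr x i ⊗ₜ[K] e i)
      _ = x := (hrepr x).symm
  have hy' : ι y' = y := by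
    calc ι y' = ∑ i ∈ (E.repr y).support.attach, (E.repr y i) ⊗ₜ[K] e i := by
          simp only [y', map_sum]
          exact Finset.sum_congr rfl (fun i _ => by simp [ι])
      _ = ∑ i ∈ (E.repr y).support, (E.repr y i) ⊗ₜ[K] e i :=
          Finset.sum_attach _ (fun i => E.repr y i ⊗ₜ[K] e i)
      _ = y := (hrepr y).symm
  have h0 : x' * y' = 0 := by
    apply hι
    rw [map_mul, hx', hy', hxy, map_zero]
  rcases eq_zero_or_eq_zero_fg x' y' h0 with h | h
  · left; rw [← hx', h, map_zero]
  · right; rw [← hy', h, map_zero]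

theorem isDomain_tensor [IsDomain A] [IsDomain B] : IsDomain (A ⊗[K] B) := by
  haveI : Nontrivial (A ⊗[K] B) :=
    (Algebra.TensorProduct.includeLeft_injective (S := K) (A := A) (B := B)
      (algebraMap K B).injective).nontrivial
  haveI : NoZeroDivisors (A ⊗[K] B) := ⟨fun {x y} h => eq_zero_or_eq_zero x y h⟩
  exact NoZeroDivisors.to_isDomain _

end gen

end H5GI

namespace H5GI

section key
variable {K Ω S : Type*} [Field K] [IsAlgClosed K] [CommRing Ω] [IsDomain Ω] [CommRing S]
  [Algebra K Ω] [Algebra K S]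

theorem isPrime_nilradical_tensor (h : (nilradical S).IsPrime) :
    (nilradical (Ω ⊗[K] S)).IsPrime := by
  haveI := h
  let π : Ω ⊗[K] S →ₐ[K] Ω ⊗[K] (S ⧸ nilradical S) :=
    Algebra.TensorProduct.map (AlgHom.id K Ω) (Ideal.Quotient.mkₐ K (nilradical S))
  haveI : IsDomain (Ω ⊗[K] (S ⧸ nilradical S)) := isDomain_tensor
  have hker : RingHom.ker π = nilradical (Ω ⊗[K] S) := by
    apply le_antisymm
    · have h1 := Algebra.TensorProduct.lTensor_ker (A := Ω)
        (Ideal.Quotient.mkₐ K (nilradical S)) (Ideal.Quotient.mkₐ_surjective K _)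
      change RingHom.ker π = _ at h1
      rw [h1, Ideal.map_le_iff_le_comap]
      intro n hn
      rw [RingHom.mem_ker, Ideal.Quotient.mkₐ_eq_mk, Ideal.Quotient.eq_zero_iff_mem] at hn
      rw [Ideal.mem_comap, mem_nilradical]
      exact (mem_nilradical.mp hn).map _
    · intro x hx
      rw [RingHom.mem_ker]
      have : IsNilpotent (π x) := (mem_nilradical.mp hx).map π
      exact this.eq_zero
  rw [← hker]
  exact RingHom.ker_isPrime π.toRingHom

end key

end H5GI

namespace H5GI

section four_one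
variable {k R : Type u} [Field k] [CommRing R] [Algebra k R]

theorem four_to_one
    (h4 : IrreducibleSpace (PrimeSpectrum (AlgebraicClosure k ⊗[k] R)))
    (k' : Type u) [Field k'] [Algebra k k'] : IrreducibleSpace (PrimeSpectrum (k' ⊗[k] R)) := by
  let lift : AlgebraicClosure k →ₐ[k] AlgebraicClosure k' := IsAlgClosed.lift
  letI : Algebra (AlgebraicClosure k) (AlgebraicClosure k') := lift.toRingHom.toAlgebra
  haveI : IsScalarTower k (AlgebraicClosure k) (AlgebraicClosure k') :=
    IsScalarTower.of_algebraMap_eq (fun x => (lift.commutes x).symm)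
  have h1 : (nilradical (AlgebraicClosure k' ⊗[AlgebraicClosure k] (AlgebraicClosure k ⊗[k] R))).IsPrime :=
    isPrime_nilradical_tensor (PrimeSpectrum.irreducibleSpace_iff_isPrime_nilradical.mp h4)
  let e := Algebra.TensorProduct.cancelBaseChange k (AlgebraicClosure k) (AlgebraicClosure k')
    (AlgebraicClosure k') R
  have h2 : IrreducibleSpace (PrimeSpectrum (AlgebraicClosure k' ⊗[k] R)) := by
    rw [PrimeSpectrum.irreducibleSpace_iff_isPrime_nilradical]
    exact isPrime_nilradical_of_injective (e.symm : _ →+* _) e.symm.injective h1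
  let ι : k' ⊗[k] R →ₐ[k] AlgebraicClosure k' ⊗[k] R :=
    Algebra.TensorProduct.map (IsScalarTower.toAlgHom k k' (AlgebraicClosure k')) (AlgHom.id k R)
  have hι : Function.Injective ι :=
    Module.Flat.rTensor_preserves_injective_linearMap (M := R)
      (IsScalarTower.toAlgHom k k' (AlgebraicClosure k')).toLinearMap
      (algebraMap k' (AlgebraicClosure k')).injective
  exact irreducibleSpace_of_injective ι.toRingHom hι h2

end four_one

end H5GI

namespace H5GI

section three_four
variable {k R : Type u} [Field k] [CommRing R] [Algebra k R]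

theorem three_to_four
    (h3 : IrreducibleSpace (PrimeSpectrum (SeparableClosure k ⊗[k] R))) :
    IrreducibleSpace (PrimeSpectrum (AlgebraicClosure k ⊗[k] R)) := by
  haveI : IsPurelyInseparable (SeparableClosure k) (AlgebraicClosure k) :=
    separableClosure.isPurelyInseparable k (AlgebraicClosure k)
  have h := PrimeSpectrum.isHomeomorph_comap_tensorProductMap_of_isPurelyInseparable
    (K := SeparableClosure k) (R := k) (S := R) (AlgebraicClosure k)
  exact ((IsHomeomorph.homeomorph _ h).irreducibleSpace_iff).mpr h3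

end three_four

end H5GI

namespace H5GI

section two_three
variable {k R L : Type u} [Field k] [CommRing R] [Algebra k R] [Field L] [Algebra k L]

/-- the comparison map for a field mapping to `L` -/
noncomputable def incl (R : Type u) [CommRing R] [Algebra k R]
    {F : Type u} [Field F] [Algebra k F] (j : F →ₐ[k] L) :
    F ⊗[k] R →ₐ[k] L ⊗[k] R :=
  Algebra.TensorProduct.map j (AlgHom.id k R)

section abstract
variable {F F₁ : Type u} [Field F] [Algebra k F] [Field F₁] [Algebra k F₁]

lemma incl_injective (j : F →ₐ[k] L) : Function.Injective (incl R j) :=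
  Module.Flat.rTensor_preserves_injective_linearMap (M := R) j.toLinearMap j.injective

lemma incl_comp (j : F →ₐ[k] L) (i : F₁ →ₐ[k] F) (x : F₁ ⊗[k] R) :
    incl R j (Algebra.TensorProduct.map i (AlgHom.id k R) x) = incl R (j.comp i) x := by
  induction x using TensorProduct.induction_on with
  | zero => simp
  | tmul a b => simp [incl]
  | add a b ha hb => simp only [map_add, ha, hb]

lemma incl_add (j : F →ₐ[k] L) (x y : F ⊗[k] R) : incl R j (x + y) = incl R j x + incl R j y :=
  map_add _ _ _

lemma incl_zero (j : F →ₐ[k] L) : incl R j 0 = 0 := map_zero _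

lemma incl_tmul (j : F →ₐ[k] L) (a : F) (r : R) : incl R j (a ⊗ₜ[k] r) = j a ⊗ₜ[k] r := by
  simp [incl]

lemma not_isNilpotent_one (j : F →ₐ[k] L) (h : (nilradical (F ⊗[k] R)).IsPrime) :
    ¬ IsNilpotent (1 : L ⊗[k] R) := by
  intro h1
  apply h.ne_top
  rw [Ideal.eq_top_iff_one, mem_nilradical]
  have h5 : IsNilpotent (incl R j 1) := by rwa [map_one]
  exact (IsNilpotent.map_iff (incl_injective j)).mp h5

lemma isNilpotent_or (j : F →ₐ[k] L) (h : (nilradical (F ⊗[k] R)).IsPrime) (a' b' : F ⊗[k] R)
    (hab : IsNilpotent (incl R j a' * incl R j b')) :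
    IsNilpotent (incl R j a') ∨ IsNilpotent (incl R j b') := by
  have h3 : a' * b' ∈ nilradical (F ⊗[k] R) := by
    rw [mem_nilradical]
    have h5 : IsNilpotent (incl R j (a' * b')) := by rwa [map_mul]
    exact (IsNilpotent.map_iff (incl_injective j)).mp h5
  rcases h.mem_or_mem h3 with h | h
  · left
    exact (mem_nilradical.mp h).map _
  · right
    exact (mem_nilradical.mp h).map _

end abstract

lemma exists_finite_mem_range [Algebra.IsAlgebraic k L] (a : L ⊗[k] R) :
    ∃ F : IntermediateField k L, FiniteDimensional k F ∧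
      ∃ a' : F ⊗[k] R, incl R F.val a' = a := by
  have mono : ∀ {F₁ F₂ : IntermediateField k L} (h : F₁ ≤ F₂) (x : F₁ ⊗[k] R),
      ∃ y : F₂ ⊗[k] R, incl R F₂.val y = incl R F₁.val x := by
    intro F₁ F₂ h x
    refine ⟨Algebra.TensorProduct.map (IntermediateField.inclusion h) (AlgHom.id k R) x, ?_⟩
    rw [incl_comp]
    rfl
  induction a using TensorProduct.induction_on with
  | zero => exact ⟨⊥, inferInstance, 0, incl_zero _⟩
  | tmul x r =>
    exact ⟨IntermediateField.adjoin k {x},
      IntermediateField.adjoin.finiteDimensional (Algebra.IsIntegral.isIntegral x),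
      (⟨x, IntermediateField.mem_adjoin_simple_self k x⟩ : IntermediateField.adjoin k {x}) ⊗ₜ[k] r,
      incl_tmul _ _ _⟩
  | add a b ha hb =>
    obtain ⟨F₁, h₁, a', ha⟩ := ha
    obtain ⟨F₂, h₂, b', hb⟩ := hb
    obtain ⟨a'', ha''⟩ := mono (le_sup_left : F₁ ≤ F₁ ⊔ F₂) a'
    obtain ⟨b'', hb''⟩ := mono (le_sup_right : F₂ ≤ F₁ ⊔ F₂) b'
    refine ⟨F₁ ⊔ F₂, inferInstance, a'' + b'', ?_⟩
    rw [incl_add, ha'', hb'', ha, hb]

lemma exists_finite_mem_range₂ [Algebra.IsAlgebraic k L] (a b : L ⊗[k] R) :
    ∃ F : IntermediateField k L, FiniteDimensional k F ∧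
      ∃ a' b' : F ⊗[k] R, incl R F.val a' = a ∧ incl R F.val b' = b := by
  obtain ⟨F₁, h₁, a', ha⟩ := exists_finite_mem_range a
  obtain ⟨F₂, h₂, b', hb⟩ := exists_finite_mem_range b
  refine ⟨F₁ ⊔ F₂, inferInstance,
    Algebra.TensorProduct.map (IntermediateField.inclusion (le_sup_left : F₁ ≤ F₁ ⊔ F₂))
      (AlgHom.id k R) a',
    Algebra.TensorProduct.map (IntermediateField.inclusion (le_sup_right : F₂ ≤ F₁ ⊔ F₂))
      (AlgHom.id k R) b', ?_, ?_⟩
  · rw [incl_comp, ← ha]; rfl
  · rw [incl_comp, ← hb]; rfl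

theorem two_to_three_aux [Algebra.IsSeparable k L]
    (h2 : ∀ (k' : Type u) [Field k'] [Algebra k k'] [Module.Finite k k'] [Algebra.IsSeparable k k'],
      IrreducibleSpace (PrimeSpectrum (k' ⊗[k] R))) :
    IrreducibleSpace (PrimeSpectrum (L ⊗[k] R)) := by
  rw [PrimeSpectrum.irreducibleSpace_iff_isPrime_nilradical]
  have hF : ∀ F : IntermediateField k L, FiniteDimensional k F →
      (nilradical (F ⊗[k] R)).IsPrime := fun F hF =>
    PrimeSpectrum.irreducibleSpace_iff_isPrime_nilradical.mp (h2 F)
  constructor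
  · intro htop
    have h1 : (1 : L ⊗[k] R) ∈ nilradical _ := htop ▸ Submodule.mem_top
    exact not_isNilpotent_one (⊥ : IntermediateField k L).val (hF ⊥ inferInstance)
      (mem_nilradical.mp h1)
  · intro a b hab
    obtain ⟨F, hFin, a', b', rfl, rfl⟩ := exists_finite_mem_range₂ a b
    rcases isNilpotent_or F.val (hF F hFin) a' b' (mem_nilradical.mp hab) with h | h
    · exact Or.inl (mem_nilradical.mpr h)
    · exact Or.inr (mem_nilradical.mpr h)

theorem two_to_three
    (h2 : ∀ (k' : Type u) [Field k'] [Algebra k k'] [Module.Finite k k'] [Algebra.IsSeparable k k'],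
      IrreducibleSpace (PrimeSpectrum (k' ⊗[k] R))) :
    IrreducibleSpace (PrimeSpectrum (SeparableClosure k ⊗[k] R)) :=
  two_to_three_aux h2

end two_three

end H5GI

namespace H5GI

theorem tfae {k R : Type u} [Field k] [CommRing R] [Algebra k R] :
    [∀ (k' : Type u) [Field k'] [Algebra k k'], IrreducibleSpace (PrimeSpectrum (k' ⊗[k] R)),
      ∀ (k' : Type u) [Field k'] [Algebra k k'] [Module.Finite k k'] [Algebra.IsSeparable k k'], IrreducibleSpace (PrimeSpectrum (k' ⊗[k] R)),
      IrreducibleSpace (PrimeSpectrum (SeparableClosure k ⊗[k] R)),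
      IrreducibleSpace (PrimeSpectrum (AlgebraicClosure k ⊗[k] R))].TFAE := by
  tfae_have 1 → 2 := fun h k' _ _ _ _ => h k'
  tfae_have 2 → 3 := two_to_three
  tfae_have 3 → 4 := three_to_four
  tfae_have 4 → 1 := fun h k' _ _ => four_to_one h k'
  tfae_finish

end H5GI
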