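import Mathlib
import Groth.Prelude.Def_CAlg2
universe u
namespace H5GU

theorem main (A : Type u) [CommRing A] [IsLocalRing A]
    [IsDomain A] [IsIntegrallyClosed A] : CAlg2.IsGeomUnibranch A := by
  have hnil : nilradical A = ⊥ := nilradical_eq_zero A
  have hbij : Function.Bijective (Ideal.Quotient.mk (nilradical A)) := by
    refine ⟨?_, Ideal.Quotient.mk_surjective⟩
    rw [injective_iff_map_eq_zero]
    intro a ha
    rw [Ideal.Quotient.eq_zero_iff_mem, hnil] at ha
    exact ha
  let e : A ≃+* CAlg2.red A := RingEquiv.ofBijective _ hbij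
  haveI : IsDomain (CAlg2.red A) := e.isDomain_iff.mp inferInstance
  haveI : IsIntegrallyClosed (CAlg2.red A) := IsIntegrallyClosed.of_equiv e
  have hsurj : Function.Surjective (algebraMap (CAlg2.red A) (CAlg2.normRed A)) := by
    intro x
    have hx0 : ∀ y : FractionRing (CAlg2.red A),
        y ∈ integralClosure (CAlg2.red A) (FractionRing (CAlg2.red A)) →
          ∃ r, algebraMap (CAlg2.red A) (FractionRing (CAlg2.red A)) r = y := by
      intro y hy
      rw [IsIntegrallyClosed.integralClosure_eq_bot, Algebra.mem_bot] at hy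
      exact hy
    obtain ⟨r, hr⟩ := hx0 x.1 x.2
    exact ⟨r, Subtype.ext hr⟩
  have hloc : IsLocalRing (CAlg2.normRed A) := by
    haveI : IsLocalRing (CAlg2.red A) := e.isLocalRing
    haveI : Nontrivial (CAlg2.normRed A) := inferInstance
    exact IsLocalRing.of_surjective' (algebraMap (CAlg2.red A) (CAlg2.normRed A)) hsurj
  refine ⟨⟨inferInstance, hloc⟩, ?_⟩
  intro m' _ x
  refine ⟨0, ?_⟩
  rw [pow_zero, pow_one]
  obtain ⟨y, rfl⟩ := Ideal.Quotient.mk_surjective x
  obtain ⟨r, rfl⟩ := hsurj y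
  obtain ⟨a, rfl⟩ := Ideal.Quotient.mk_surjective r
  exact ⟨a, rfl⟩

end H5GU
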