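import Mathlib
import Groth.Prelude.Def_AlgSpGpd

set_option autoImplicit false
universe u
open CategoryTheory CategoryTheory.Limits AlgebraicGeometry Opposite

namespace AlgSp
namespace GroupoidSp

variable {S : Scheme.{u}} {B : Sp S} (G : GroupoidSp B)

/-- Composition of `T`-valued arrows. -/
noncomputable def h5comp {T : Sp S} (α β : T ⟶ G.R) (h : α ≫ G.s = β ≫ G.t) : T ⟶ G.R :=
  pullback.lift α β h ≫ G.c

theorem h5comp_congr {T : Sp S} {α α' β β' : T ⟶ G.R} (hα : α = α') (hβ : β = β')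
    (h : α ≫ G.s = β ≫ G.t) :
    G.h5comp α β h = G.h5comp α' β' (by rw [← hα, ← hβ]; exact h) := by
  subst hα hβ
  rfl

@[simp] theorem h5comp_s {T : Sp S} (α β : T ⟶ G.R) (h : α ≫ G.s = β ≫ G.t) :
    G.h5comp α β h ≫ G.s = β ≫ G.s := G.comp_s α β h

@[simp] theorem h5comp_t {T : Sp S} (α β : T ⟶ G.R) (h : α ≫ G.s = β ≫ G.t) :
    G.h5comp α β h ≫ G.t = α ≫ G.t := G.comp_t α β h

theorem h5comp_assoc {T : Sp S} (α β γ : T ⟶ G.R) (h₁ : α ≫ G.s = β ≫ G.t)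
    (h₂ : β ≫ G.s = γ ≫ G.t) :
    G.h5comp (G.h5comp α β h₁) γ ((G.h5comp_s α β h₁).trans h₂) =
      G.h5comp α (G.h5comp β γ h₂) (h₁.trans (G.h5comp_t β γ h₂).symm) :=
  G.assoc α β γ h₁ h₂

theorem h5_precomp {T T' : Sp S} (f : T' ⟶ T) (α β : T ⟶ G.R) (h : α ≫ G.s = β ≫ G.t) :
    f ≫ G.h5comp α β h = G.h5comp (f ≫ α) (f ≫ β) (by
      rw [Category.assoc, Category.assoc, h]) := by
  unfold h5comp
  rw [← Category.assoc]
  congr 1
  apply pullback.hom_ext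
  · rw [Category.assoc, pullback.lift_fst, pullback.lift_fst]
  · rw [Category.assoc, pullback.lift_snd, pullback.lift_snd]

/-- Right unit: `α ∘ e = α` when `ε = e(s α)`. -/
theorem h5comp_e {T : Sp S} (α ε : T ⟶ G.R) (hε : ε = α ≫ G.s ≫ G.e)
    (h : α ≫ G.s = ε ≫ G.t) : G.h5comp α ε h = α := by
  subst hε
  exact G.comp_e α

/-- Left unit. -/
theorem h5e_comp {T : Sp S} (α ε : T ⟶ G.R) (hε : ε = α ≫ G.t ≫ G.e)
    (h : ε ≫ G.s = α ≫ G.t) : G.h5comp ε α h = α := by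
  subst hε
  exact G.e_comp α

theorem h5comp_i {T : Sp S} (α ι : T ⟶ G.R) (hι : ι = α ≫ G.i)
    (h : α ≫ G.s = ι ≫ G.t) : G.h5comp α ι h = α ≫ G.t ≫ G.e := by
  subst hι
  exact G.comp_i α

theorem h5i_comp {T : Sp S} (α ι : T ⟶ G.R) (hι : ι = α ≫ G.i)
    (h : ι ≫ G.s = α ≫ G.t) : G.h5comp ι α h = α ≫ G.s ≫ G.e := by
  subst hι
  exact G.i_comp α

/-- `(α ∘ β) ∘ β⁻¹ = α`. -/
theorem h5comp_comp_i {T : Sp S} (α β : T ⟶ G.R) (h : α ≫ G.s = β ≫ G.t) :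
    G.h5comp (G.h5comp α β h) (β ≫ G.i)
      (by rw [h5comp_s, Category.assoc, G.i_t]) = α := by
  rw [G.h5comp_assoc α β (β ≫ G.i) h (by rw [Category.assoc, G.i_t])]
  refine G.h5comp_e α _ ?_ _
  rw [G.h5comp_i β (β ≫ G.i) rfl, ← Category.assoc, ← h, Category.assoc]

/-- `(α ∘ β⁻¹) ∘ β = α` when `s α = s β`. -/
theorem h5comp_i_comp {T : Sp S} (α β : T ⟶ G.R) (h : α ≫ G.s = β ≫ G.s) :
    G.h5comp (G.h5comp α (β ≫ G.i) (by rw [Category.assoc, G.i_t, h])) β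
      (by rw [h5comp_s, Category.assoc, G.i_s]) = α := by
  rw [G.h5comp_assoc α (β ≫ G.i) β (by rw [Category.assoc, G.i_t, h])
    (by rw [Category.assoc, G.i_s])]
  refine G.h5comp_e α _ ?_ _
  rw [G.h5i_comp β (β ≫ G.i) rfl, ← Category.assoc, ← h, Category.assoc]

/-- `α⁻¹ ∘ (α ∘ β) = β`. -/
theorem h5i_comp_comp {T : Sp S} (α β : T ⟶ G.R) (h : α ≫ G.s = β ≫ G.t) :
    G.h5comp (α ≫ G.i) (G.h5comp α β h)
      (by rw [h5comp_t, Category.assoc, G.i_s]) = β := by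
  rw [← G.h5comp_assoc (α ≫ G.i) α β (by rw [Category.assoc, G.i_s]) h]
  refine G.h5e_comp β _ ?_ _
  rw [G.h5i_comp α (α ≫ G.i) rfl, ← Category.assoc, h, Category.assoc]

/-- `α ∘ (α⁻¹ ∘ β) = β` when `t α = t β`. -/
theorem h5comp_i_comp' {T : Sp S} (α β : T ⟶ G.R) (h : α ≫ G.t = β ≫ G.t) :
    G.h5comp α (G.h5comp (α ≫ G.i) β (by rw [Category.assoc, G.i_s, h]))
      (by rw [h5comp_t, Category.assoc, G.i_t]) = β := by
  rw [← G.h5comp_assoc α (α ≫ G.i) β (by rw [Category.assoc, G.i_t])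
    (by rw [Category.assoc, G.i_s, h])]
  refine G.h5e_comp β _ ?_ _
  rw [G.h5comp_i α (α ≫ G.i) rfl, ← Category.assoc, h, Category.assoc]

end GroupoidSp
end AlgSp
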