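import Mathlib
set_option autoImplicit false
universe v u
open CategoryTheory CategoryTheory.Limits MonoidalCategory CartesianMonoidalCategory MonObj
open scoped MonObj

namespace H5GrpAct

theorem h5_act_mul {C : Type u} [Category.{v} C] [CartesianMonoidalCategory C] {G X : C} [GrpObj G]
    (act : G ⊗ X ⟶ X)
    (mul_act : (μ[G] ▷ X) ≫ act = (α_ G G X).hom ≫ (G ◁ act) ≫ act)
    {T : C} (g h : T ⟶ G) (x : T ⟶ X) :
    lift (g * h) x ≫ act = lift g (lift h x ≫ act) ≫ act := by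
  have h1 : lift (g * h) x = lift (lift g h) x ≫ (μ[G] ▷ X) := by
    rw [Hom.mul_def]
    simp
  rw [h1, Category.assoc, mul_act]
  simp

theorem h5_act_one {C : Type u} [Category.{v} C] [CartesianMonoidalCategory C] {G X : C} [GrpObj G]
    (act : G ⊗ X ⟶ X)
    (one_act : (η[G] ▷ X) ≫ act = (λ_ X).hom)
    {T : C} (x : T ⟶ X) :
    lift (1 : T ⟶ G) x ≫ act = x := by
  have h1 : lift (1 : T ⟶ G) x = lift (toUnit T) x ≫ (η[G] ▷ X) := by
    rw [Hom.one_def]
    simp
  rw [h1, Category.assoc, one_act]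
  simp

theorem h5_act_cancel {C : Type u} [Category.{v} C] [CartesianMonoidalCategory C] {G X : C}
    [GrpObj G] (act : G ⊗ X ⟶ X) (one_act : (η[G] ▷ X) ≫ act = (λ_ X).hom)
    (mul_act : (μ[G] ▷ X) ≫ act = (α_ G G X).hom ≫ (G ◁ act) ≫ act)
    {T : C} (g1 g2 : T ⟶ G) (x : T ⟶ X) (h : lift g1 x ≫ act = lift g2 x ≫ act) :
    lift (g1⁻¹ * g2) x ≫ act = x := by
  rw [h5_act_mul act mul_act, ← h, ← h5_act_mul act mul_act, inv_mul_cancel,
    h5_act_one act one_act]

/-- If only the unit fixes a point, then acting is injective in the group variable. -/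
theorem h5_act_injective {C : Type u} [Category.{v} C] [CartesianMonoidalCategory C] {G X : C}
    [GrpObj G] (act : G ⊗ X ⟶ X) (one_act : (η[G] ▷ X) ≫ act = (λ_ X).hom)
    (mul_act : (μ[G] ▷ X) ≫ act = (α_ G G X).hom ≫ (G ◁ act) ≫ act)
    {T : C} (hfree : ∀ (g : T ⟶ G) (x : T ⟶ X), lift g x ≫ act = x → g = toUnit _ ≫ η[G])
    (g1 g2 : T ⟶ G) (x : T ⟶ X) (h : lift g1 x ≫ act = lift g2 x ≫ act) : g1 = g2 := by
  have h1 := hfree _ x (h5_act_cancel act one_act mul_act g1 g2 x h)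
  rw [← Hom.one_def] at h1
  exact inv_mul_eq_one.1 h1

end H5GrpAct
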