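import Mathlib
import Groth.Prelude.Def_AlgSpInf

set_option autoImplicit false
universe u
open CategoryTheory CategoryTheory.Limits AlgebraicGeometry Opposite

namespace AlgSp

variable {S : Scheme.{u}} {F G : Sp S} {f : F ⟶ G}

/-- Same thickening, other maps. -/
noncomputable abbrev InfSq.h5with (sq : InfSq f) {F' G' : Sp S} (f' : F' ⟶ G')
    (top' : (yon S).obj sq.ptT ⟶ F') (bot' : (yon S).obj sq.ptT' ⟶ G')
    (comm' : top' ≫ f' = (yon S).map sq.j ≫ bot') : InfSq f' :=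
  { A := sq.A, I := sq.I, sq_zero := sq.sq_zero, str := sq.str, top := top', bot := bot',
    comm := comm' }

theorem h5_hasUniqLift_iff (sq : InfSq f) : sq.HasUniqLift ↔ sq.HasLift ∧ sq.HasUniq := by
  constructor
  · rintro ⟨l, ⟨h1, h2⟩, hu⟩
    refine ⟨⟨l, h1, h2⟩, fun l1 l2 a1 a2 b1 b2 => ?_⟩
    rw [hu l1 ⟨a1, a2⟩, hu l2 ⟨b1, b2⟩]
  · rintro ⟨⟨l, h1, h2⟩, hu⟩
    exact ⟨l, ⟨h1, h2⟩, fun l' ⟨a1, a2⟩ => hu l' l a1 a2 h1 h2⟩

theorem h5_formallyEtale_iff {F G : Sp S} (f : F ⟶ G) :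
    IsFormallyEtaleMor f ↔ IsFormallySmoothMor f ∧ IsFormallyUnramifiedMor f := by
  constructor
  · intro h
    exact ⟨fun sq => ((h5_hasUniqLift_iff sq).1 (h sq)).1,
      fun sq => ((h5_hasUniqLift_iff sq).1 (h sq)).2⟩
  · rintro ⟨h1, h2⟩ sq
    exact (h5_hasUniqLift_iff sq).2 ⟨h1 sq, h2 sq⟩

theorem h5_smooth_comp {F G H : Sp S} (a : F ⟶ G) (b : G ⟶ H)
    (ha : IsFormallySmoothMor a) (hb : IsFormallySmoothMor b) : IsFormallySmoothMor (a ≫ b) := by
  intro sq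
  obtain ⟨l1, h1, h1'⟩ := hb (sq.h5with b (sq.top ≫ a) sq.bot (by
    rw [Category.assoc]; exact sq.comm))
  obtain ⟨l2, h2, h2'⟩ := ha (sq.h5with a sq.top l1 h1.symm)
  have h2'' : l2 ≫ a = l1 := h2'
  have h1'' : l1 ≫ b = sq.bot := h1'
  exact ⟨l2, h2, by rw [← Category.assoc, h2'']; exact h1''⟩

theorem h5_unram_comp {F G H : Sp S} (a : F ⟶ G) (b : G ⟶ H)
    (ha : IsFormallyUnramifiedMor a) (hb : IsFormallyUnramifiedMor b) :
    IsFormallyUnramifiedMor (a ≫ b) := by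
  intro sq l l' h1 h2 h3 h4
  have hG : l ≫ a = l' ≫ a := by
    apply hb (sq.h5with b (sq.top ≫ a) sq.bot (by rw [Category.assoc]; exact sq.comm))
    · show (yon S).map sq.j ≫ l ≫ a = sq.top ≫ a
      rw [← Category.assoc, h1]
    · exact (Category.assoc _ _ _).trans h2
    · show (yon S).map sq.j ≫ l' ≫ a = sq.top ≫ a
      rw [← Category.assoc, h3]
    · exact (Category.assoc _ _ _).trans h4
  exact ha (sq.h5with a sq.top (l ≫ a) (by rw [← Category.assoc, h1])) l l' h1 rfl h3 hG.symm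

theorem h5_unram_of_comp {F G H : Sp S} (a : F ⟶ G) (b : G ⟶ H)
    (hab : IsFormallyUnramifiedMor (a ≫ b)) : IsFormallyUnramifiedMor a := by
  intro sq l l' h1 h2 h3 h4
  apply hab (sq.h5with (a ≫ b) sq.top (sq.bot ≫ b) (by
    rw [← Category.assoc, sq.comm, Category.assoc])) l l' h1 _ h3 _
  · show l ≫ a ≫ b = sq.bot ≫ b
    rw [← Category.assoc, h2]
  · show l' ≫ a ≫ b = sq.bot ≫ b
    rw [← Category.assoc, h4]

theorem h5_smooth_of_comp {F G H : Sp S} (a : F ⟶ G) (b : G ⟶ H)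
    (hb : IsFormallyUnramifiedMor b)
    (hab : IsFormallySmoothMor (a ≫ b)) : IsFormallySmoothMor a := by
  intro sq
  obtain ⟨l, h1, h2⟩ := hab (sq.h5with (a ≫ b) sq.top (sq.bot ≫ b) (by
    rw [← Category.assoc, sq.comm, Category.assoc]))
  refine ⟨l, h1, ?_⟩
  apply hb (sq.h5with b (sq.top ≫ a) (sq.bot ≫ b) (by
    rw [Category.assoc, ← Category.assoc, sq.comm, Category.assoc]))
  · show (yon S).map sq.j ≫ l ≫ a = sq.top ≫ a
    rw [← Category.assoc]
    congr 1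
  · exact (Category.assoc _ _ _).trans h2
  · exact sq.comm.symm
  · rfl

theorem h5_smooth_baseChange {F G H P : Sp S} {a : F ⟶ G} {b : H ⟶ G}
    {b' : P ⟶ F} {a' : P ⟶ H} (hP : IsPullback b' a' a b)
    (ha : IsFormallySmoothMor a) : IsFormallySmoothMor a' := by
  intro sq
  obtain ⟨l, h1, h2⟩ := ha (sq.h5with a (sq.top ≫ b') (sq.bot ≫ b) (by
    rw [Category.assoc, hP.w, ← Category.assoc, sq.comm, Category.assoc]))
  refine ⟨hP.lift l sq.bot h2, ?_, hP.lift_snd _ _ _⟩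
  apply hP.hom_ext
  · rw [Category.assoc, hP.lift_fst]
    exact h1
  · rw [Category.assoc, hP.lift_snd]
    exact sq.comm.symm

theorem h5_unram_baseChange {F G H P : Sp S} {a : F ⟶ G} {b : H ⟶ G}
    {b' : P ⟶ F} {a' : P ⟶ H} (hP : IsPullback b' a' a b)
    (ha : IsFormallyUnramifiedMor a) : IsFormallyUnramifiedMor a' := by
  intro sq l l' h1 h2 h3 h4
  apply hP.hom_ext
  · apply ha (sq.h5with a (sq.top ≫ b') (sq.bot ≫ b) (by
      rw [Category.assoc, hP.w, ← Category.assoc, sq.comm, Category.assoc]))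
    · show (yon S).map sq.j ≫ l ≫ b' = sq.top ≫ b'
      rw [← Category.assoc, h1]
    · show (l ≫ b') ≫ a = sq.bot ≫ b
      rw [Category.assoc, hP.w, ← Category.assoc, h2]
    · show (yon S).map sq.j ≫ l' ≫ b' = sq.top ≫ b'
      rw [← Category.assoc, h3]
    · show (l' ≫ b') ≫ a = sq.bot ≫ b
      rw [Category.assoc, hP.w, ← Category.assoc, h4]
  · rw [h2, h4]

end AlgSp
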