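import Mathlib

set_option autoImplicit false
universe u v

namespace Groth.Agent.Lib.helper5

theorem h5_ringKrullDim_eq_of_isIntegral {R : Type u} {S : Type v} [CommRing R] [CommRing S]
    [Algebra R S] [Algebra.IsIntegral R S] (hinj : Function.Injective (algebraMap R S)) :
    ringKrullDim S = ringKrullDim R := by
  apply le_antisymm
  · apply Order.krullDim_le_of_strictMono (PrimeSpectrum.comap (algebraMap R S))
    intro P Q hPQ
    haveI := P.2
    exact Ideal.IsIntegral.comap_lt_comap (R := R) hPQ
  · unfold ringKrullDim Order.krullDim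
    apply iSup_le
    intro l
    obtain ⟨Q, -, hQ, hQl⟩ := Ideal.exists_ideal_over_prime_of_isIntegral (S := S)
      l.head.asIdeal (⊥ : Ideal S) (by
        rw [← RingHom.ker_eq_comap_bot, (RingHom.injective_iff_ker_eq_bot _).1 hinj]
        exact bot_le)
    haveI := hQ
    haveI : Q.LiesOver l.head.asIdeal := ⟨hQl.symm⟩
    obtain ⟨L, hlen, -, -⟩ := Ideal.exists_ltSeries_of_hasGoingUp l Q
    rw [← hlen]
    exact Order.LTSeries.length_le_krullDim L

theorem h5_dim_of_finite_injective (k : Type u) (A : Type v) [Field k] [CommRing A] [Algebra k A]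
    (s : ℕ) (g : MvPolynomial (Fin s) k →ₐ[k] A) (hfin : g.toRingHom.Finite)
    (hinj : Function.Injective g) : ringKrullDim A = (s : WithBot ℕ∞) := by
  letI : Algebra (MvPolynomial (Fin s) k) A := g.toRingHom.toAlgebra
  haveI : Module.Finite (MvPolynomial (Fin s) k) A := hfin
  haveI : Algebra.IsIntegral (MvPolynomial (Fin s) k) A := Algebra.IsIntegral.of_finite _ _
  have hinj' : Function.Injective (algebraMap (MvPolynomial (Fin s) k) A) := hinj
  rw [h5_ringKrullDim_eq_of_isIntegral hinj', MvPolynomial.ringKrullDim_of_isNoetherianRing,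
    ringKrullDim_eq_zero_of_field, zero_add, Nat.card_eq_fintype_card, Fintype.card_fin]

end Groth.Agent.Lib.helper5
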