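import Mathlib
import Groth.Prelude.Def_Found

set_option autoImplicit false
universe u v

namespace CAlg

theorem h5_fg_integralClosure_of_isLocalization {R : Type u} [CommRing R] (M : Submonoid R)
    (S : Type u) [CommRing S] [Algebra R S] [IsLocalization M S] (L : Type v) [CommRing L]
    [Algebra R L] [Algebra S L] [IsScalarTower R S L]
    (h : Module.Finite R (integralClosure R L)) : Module.Finite S (integralClosure S L) := by
  have h' : (integralClosure R L).toSubmodule.FG := Module.Finite.iff_fg.1 h
  obtain ⟨T, hT⟩ := h'
  have key : Submodule.span S (T : Set L) = (integralClosure S L).toSubmodule := by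
    refine le_antisymm ?_ ?_
    · refine Submodule.span_le.2 fun t ht => ?_
      have h1 : t ∈ (integralClosure R L).toSubmodule := hT ▸ Submodule.subset_span ht
      have h2 : IsIntegral R t := h1
      exact IsIntegral.tower_top h2
    · intro x hx
      have hx' : IsIntegral S x := hx
      obtain ⟨m, hm⟩ := IsIntegral.exists_multiple_integral_of_isLocalization M x hx'
      have h1 : m • x ∈ Submodule.span R (T : Set L) := by
        rw [hT]
        exact hm
      have h2 : m • x ∈ Submodule.span S (T : Set L) :=
        Submodule.span_le_restrictScalars R S _ h1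
      obtain ⟨u, hu⟩ := IsLocalization.map_units S m
      have h3 : x = (↑u⁻¹ : S) • (m • x) := by
        rw [Submonoid.smul_def, ← algebraMap_smul S (m : R) x, ← hu, smul_smul, Units.inv_mul,
          one_smul]
      rw [h3]
      exact Submodule.smul_mem _ _ h2
  exact Module.Finite.iff_fg.2 ⟨T, key⟩

section Loc

theorem h5_isUnit_algebraMap_fractionRing (R : Type u) [CommRing R] [IsDomain R] (M : Submonoid R)
    (S : Type u) [CommRing S] [IsDomain S] [Algebra R S] [IsLocalization M S] (m : M) :
    IsUnit (algebraMap R (FractionRing R) m) := by
  have hm : (m : R) ≠ 0 := by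
    intro h0
    have h1 := IsLocalization.map_units S m
    rw [h0, map_zero] at h1
    exact not_isUnit_zero h1
  rw [isUnit_iff_ne_zero]
  intro h0
  exact hm ((IsFractionRing.injective R (FractionRing R)) (by rw [h0, map_zero]))

theorem h5_isN1_of_isLocalization (R : Type u) [CommRing R] [IsDomain R] (M : Submonoid R)
    (S : Type u) [CommRing S] [IsDomain S] [Algebra R S] [IsLocalization M S]
    (h : IsN1 R) : IsN1 S := by
  have hM : ∀ m : M, IsUnit (algebraMap R (FractionRing R) m) :=
    h5_isUnit_algebraMap_fractionRing R M S
  letI : Algebra S (FractionRing R) := (IsLocalization.lift (M := M) hM).toAlgebra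
  haveI : IsScalarTower R S (FractionRing R) :=
    IsScalarTower.of_algebraMap_eq fun r => (IsLocalization.lift_eq hM r).symm
  haveI : IsFractionRing S (FractionRing R) :=
    IsFractionRing.isFractionRing_of_isDomain_of_isLocalization M S (FractionRing R)
  let e : FractionRing S ≃ₐ[S] FractionRing R := FractionRing.algEquiv S (FractionRing R)
  have h1 : Module.Finite S (integralClosure S (FractionRing R)) :=
    h5_fg_integralClosure_of_isLocalization M S (FractionRing R) h
  exact Module.Finite.equiv e.mapIntegralClosure.symm.toLinearEquiv

theorem h5_isN2_of_isLocalization (R : Type u) [CommRing R] [IsDomain R] (M : Submonoid R)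
    (S : Type u) [CommRing S] [IsDomain S] [Algebra R S] [IsLocalization M S]
    (h : IsN2 R) : IsN2 S := by
  intro L _ _ _ _ hfd
  have hM : ∀ m : M, IsUnit (algebraMap R (FractionRing R) m) :=
    h5_isUnit_algebraMap_fractionRing R M S
  letI : Algebra S (FractionRing R) := (IsLocalization.lift (M := M) hM).toAlgebra
  haveI : IsScalarTower R S (FractionRing R) :=
    IsScalarTower.of_algebraMap_eq fun r => (IsLocalization.lift_eq hM r).symm
  haveI : IsFractionRing S (FractionRing R) :=
    IsFractionRing.isFractionRing_of_isDomain_of_isLocalization M S (FractionRing R)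
  let e : FractionRing S ≃ₐ[S] FractionRing R := FractionRing.algEquiv S (FractionRing R)
  letI : Algebra R L := ((algebraMap S L).comp (algebraMap R S)).toAlgebra
  haveI : IsScalarTower R S L := IsScalarTower.of_algebraMap_eq fun _ => rfl
  letI : Algebra (FractionRing R) L :=
    ((algebraMap (FractionRing S) L).comp (e.symm : FractionRing R →+* FractionRing S)).toAlgebra
  haveI : IsScalarTower R (FractionRing R) L := IsScalarTower.of_algebraMap_eq fun r => by
    show algebraMap S L (algebraMap R S r) =
      algebraMap (FractionRing S) L (e.symm (algebraMap R (FractionRing R) r))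
    rw [IsScalarTower.algebraMap_apply R S (FractionRing R), e.symm.commutes,
      ← IsScalarTower.algebraMap_apply S (FractionRing S) L]
  letI : Algebra (FractionRing R) (FractionRing S) :=
    (e.symm : FractionRing R →+* FractionRing S).toAlgebra
  haveI : IsScalarTower (FractionRing R) (FractionRing S) L :=
    IsScalarTower.of_algebraMap_eq fun _ => rfl
  haveI : Module.Finite (FractionRing R) (FractionRing S) :=
    Module.Finite.of_surjective (Algebra.linearMap (FractionRing R) (FractionRing S))
      e.symm.surjective
  haveI : FiniteDimensional (FractionRing R) L := Module.Finite.trans (FractionRing S) L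
  have h1 := h L inferInstance
  exact h5_fg_integralClosure_of_isLocalization M S L h1

end Loc

end CAlg
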