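import Mathlib
import Groth.Prelude.Def_Found
import Groth.Agent.Lib.helper5.Japanese

set_option autoImplicit false
universe u v w

namespace CAlg

theorem h5_fg_of_cover {R : Type u} [CommRing R] {L : Type v} [AddCommGroup L] [Module R L]
    {ι : Type w} [Finite ι] (f : ι → R) (hf : Ideal.span (Set.range f) = ⊤) (C : Submodule R L)
    (h : ∀ i, ∃ T : Finset L, (↑T ⊆ (C : Set L)) ∧
      ∀ x ∈ C, ∃ N : ℕ, f i ^ N • x ∈ Submodule.span R (T : Set L)) : C.FG := by
  classical
  haveI : Fintype ι := Fintype.ofFinite ι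
  choose T hT1 hT2 using h
  refine ⟨Finset.univ.biUnion T, le_antisymm ?_ ?_⟩
  · refine Submodule.span_le.2 fun t ht => ?_
    rw [Finset.mem_coe, Finset.mem_biUnion] at ht
    obtain ⟨i, -, hti⟩ := ht
    exact hT1 i hti
  · intro x hx
    choose N hN using fun i => hT2 i x hx
    let K := Finset.univ.sup N
    have hK : ∀ i, f i ^ K • x ∈ Submodule.span R ((Finset.univ.biUnion T : Finset L) : Set L) := by
      intro i
      have hle : N i ≤ K := Finset.le_sup (Finset.mem_univ i)
      have h1 : f i ^ K • x = f i ^ (K - N i) • (f i ^ N i • x) := by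
        rw [smul_smul, ← pow_add, Nat.sub_add_cancel hle]
      rw [h1]
      refine Submodule.smul_mem _ _ (Submodule.span_mono ?_ (hN i))
      intro t ht
      rw [Finset.mem_coe] at ht ⊢
      exact Finset.mem_biUnion.2 ⟨i, Finset.mem_univ i, ht⟩
    have htop : Ideal.span (Set.range fun i => f i ^ K) = ⊤ := by
      have := Ideal.span_pow_eq_top (Set.range f) hf K
      rw [← Set.range_comp] at this
      exact this
    obtain ⟨c, hc⟩ := Ideal.mem_span_range_iff_exists_fun.1
      (show (1 : R) ∈ Ideal.span (Set.range fun i => f i ^ K) by rw [htop]; trivial)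
    have hx1 : x = ∑ i, c i • (f i ^ K • x) := by
      simp_rw [smul_smul]
      rw [← Finset.sum_smul, hc, one_smul]
    rw [hx1]
    exact Submodule.sum_mem _ fun i _ => Submodule.smul_mem _ _ (hK i)

theorem h5_finite_integralClosure_of_cover {R : Type u} [CommRing R] {L : Type v} [CommRing L]
    [Algebra R L] {ι : Type w} [Finite ι] (f : ι → R) (hf : Ideal.span (Set.range f) = ⊤)
    (Rf : ι → Type u) [∀ i, CommRing (Rf i)] [∀ i, Algebra R (Rf i)]
    [∀ i, IsLocalization.Away (f i) (Rf i)] [∀ i, Algebra (Rf i) L]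
    [∀ i, IsScalarTower R (Rf i) L]
    (h : ∀ i, Module.Finite (Rf i) (integralClosure (Rf i) L)) :
    Module.Finite R (integralClosure R L) := by
  classical
  refine Module.Finite.iff_fg.2 (h5_fg_of_cover f hf (integralClosure R L).toSubmodule ?_)
  intro i
  obtain ⟨Y, hY⟩ : (integralClosure (Rf i) L).toSubmodule.FG := Module.Finite.iff_fg.1 (h i)
  have hex : ∀ y : L, ∃ k : ℕ, y ∈ Y → IsIntegral R (f i ^ k • y) := by
    intro y
    by_cases hy : y ∈ Y
    · have h1 : y ∈ (integralClosure (Rf i) L).toSubmodule := hY ▸ Submodule.subset_span hy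
      have h2 : IsIntegral (Rf i) y := h1
      obtain ⟨⟨m, k, hk⟩, hm⟩ :=
        IsIntegral.exists_multiple_integral_of_isLocalization (Submonoid.powers (f i)) y h2
      refine ⟨k, fun _ => ?_⟩
      have : (⟨m, k, hk⟩ : Submonoid.powers (f i)) • y = f i ^ k • y := by
        rw [Submonoid.smul_def]
        show m • y = _
        rw [← hk]
      rw [← this]
      exact hm
    · exact ⟨0, fun h => absurd h hy⟩
  choose n hn using hex
  let K := Y.sup n
  have hKmem : ∀ y ∈ Y, IsIntegral R (f i ^ K • y) := by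
    intro y hy
    have hle : n y ≤ K := Finset.le_sup hy
    have h1 : f i ^ K • y = f i ^ (K - n y) • (f i ^ n y • y) := by
      rw [smul_smul, ← pow_add, Nat.sub_add_cancel hle]
    rw [h1]
    exact (integralClosure R L).smul_mem (hn y hy) _
  refine ⟨Y.image (fun y => f i ^ K • y), ?_, ?_⟩
  · intro t ht
    rw [Finset.mem_coe, Finset.mem_image] at ht
    obtain ⟨y, hy, rfl⟩ := ht
    exact hKmem y hy
  · intro x hx
    have hx1 : IsIntegral R x := hx
    have hx2 : x ∈ Submodule.span (Rf i) (Y : Set L) := by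
      rw [hY]
      exact (IsIntegral.tower_top hx1 : IsIntegral (Rf i) x)
    obtain ⟨⟨m, k, hk⟩, hm⟩ := multiple_mem_span_of_mem_localization_span
      (Submonoid.powers (f i)) (Rf i) (Y : Set L) x hx2
    have hm' : f i ^ k • x ∈ Submodule.span R (Y : Set L) := by
      have : (⟨m, k, hk⟩ : Submonoid.powers (f i)) • x = f i ^ k • x := by
        rw [Submonoid.smul_def]
        show m • x = _
        rw [← hk]
      rw [← this]
      exact hm
    refine ⟨K + k, ?_⟩
    have h1 : f i ^ (K + k) • x = (LinearMap.lsmul R L (f i ^ K)) (f i ^ k • x) := by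
      rw [LinearMap.lsmul_apply, smul_smul, ← pow_add]
    rw [h1, Finset.coe_image]
    have h2 : (fun y => f i ^ K • y) '' (Y : Set L) = (LinearMap.lsmul R L (f i ^ K)) '' (Y : Set L) := rfl
    rw [h2, ← Submodule.map_span]
    exact Submodule.mem_map_of_mem hm'

end CAlg
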