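import Mathlib
import Groth.Prelude.Def_Found
import Groth.Agent.Lib.helper5.Japanese2

set_option autoImplicit false
universe u v w

namespace CAlg

theorem h5_isN2_of_cover (R : Type u) [CommRing R] [IsDomain R] {ι : Type w} [Finite ι]
    (f : ι → R) (hf : Ideal.span (Set.range f) = ⊤) (Rf : ι → Type u) [∀ i, CommRing (Rf i)]
    [∀ i, IsDomain (Rf i)] [∀ i, Algebra R (Rf i)] [∀ i, IsLocalization.Away (f i) (Rf i)]
    (h : ∀ i, IsN2 (Rf i)) : IsN2 R := by
  intro L _ _ _ _ hfd
  have hM : ∀ i (m : Submonoid.powers (f i)), IsUnit (algebraMap R (FractionRing R) m) :=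
    fun i => h5_isUnit_algebraMap_fractionRing R (Submonoid.powers (f i)) (Rf i)
  letI a1 : ∀ i, Algebra (Rf i) (FractionRing R) := fun i =>
    (IsLocalization.lift (M := Submonoid.powers (f i)) (hM i)).toAlgebra
  haveI t1 : ∀ i, IsScalarTower R (Rf i) (FractionRing R) := fun i =>
    IsScalarTower.of_algebraMap_eq fun r => (IsLocalization.lift_eq (hM i) r).symm
  haveI fr : ∀ i, IsFractionRing (Rf i) (FractionRing R) := fun i =>
    IsFractionRing.isFractionRing_of_isDomain_of_isLocalization (Submonoid.powers (f i)) (Rf i)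
      (FractionRing R)
  let e : ∀ i, FractionRing (Rf i) ≃ₐ[Rf i] FractionRing R := fun i =>
    FractionRing.algEquiv (Rf i) (FractionRing R)
  letI a2 : ∀ i, Algebra (Rf i) L := fun i =>
    ((algebraMap (FractionRing R) L).comp (algebraMap (Rf i) (FractionRing R))).toAlgebra
  haveI t2 : ∀ i, IsScalarTower R (Rf i) L := fun i => IsScalarTower.of_algebraMap_eq fun r => by
    show algebraMap R L r = algebraMap (FractionRing R) L
      (algebraMap (Rf i) (FractionRing R) (algebraMap R (Rf i) r))
    rw [← IsScalarTower.algebraMap_apply R (Rf i) (FractionRing R),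
      ← IsScalarTower.algebraMap_apply R (FractionRing R) L]
  refine h5_finite_integralClosure_of_cover f hf Rf (fun i => ?_)
  letI a3 : Algebra (FractionRing (Rf i)) L :=
    ((algebraMap (FractionRing R) L).comp
      ((e i) : FractionRing (Rf i) →+* FractionRing R)).toAlgebra
  haveI : IsScalarTower (Rf i) (FractionRing (Rf i)) L :=
    IsScalarTower.of_algebraMap_eq fun r => by
      show algebraMap (FractionRing R) L (algebraMap (Rf i) (FractionRing R) r) =
        algebraMap (FractionRing R) L ((e i) (algebraMap (Rf i) (FractionRing (Rf i)) r))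
      rw [(e i).commutes]
  letI a4 : Algebra (FractionRing (Rf i)) (FractionRing R) :=
    ((e i) : FractionRing (Rf i) →+* FractionRing R).toAlgebra
  haveI : IsScalarTower (FractionRing (Rf i)) (FractionRing R) L :=
    IsScalarTower.of_algebraMap_eq fun _ => rfl
  haveI : Module.Finite (FractionRing (Rf i)) (FractionRing R) :=
    Module.Finite.of_surjective (Algebra.linearMap _ _) (e i).surjective
  haveI : FiniteDimensional (FractionRing (Rf i)) L := Module.Finite.trans (FractionRing R) L
  exact h i L inferInstance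

theorem h5_isN1_of_cover (R : Type u) [CommRing R] [IsDomain R] {ι : Type w} [Finite ι]
    (f : ι → R) (hf : Ideal.span (Set.range f) = ⊤) (Rf : ι → Type u) [∀ i, CommRing (Rf i)]
    [∀ i, IsDomain (Rf i)] [∀ i, Algebra R (Rf i)] [∀ i, IsLocalization.Away (f i) (Rf i)]
    (h : ∀ i, IsN1 (Rf i)) : IsN1 R := by
  have hM : ∀ i (m : Submonoid.powers (f i)), IsUnit (algebraMap R (FractionRing R) m) :=
    fun i => h5_isUnit_algebraMap_fractionRing R (Submonoid.powers (f i)) (Rf i)
  letI a1 : ∀ i, Algebra (Rf i) (FractionRing R) := fun i =>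
    (IsLocalization.lift (M := Submonoid.powers (f i)) (hM i)).toAlgebra
  haveI t1 : ∀ i, IsScalarTower R (Rf i) (FractionRing R) := fun i =>
    IsScalarTower.of_algebraMap_eq fun r => (IsLocalization.lift_eq (hM i) r).symm
  haveI fr : ∀ i, IsFractionRing (Rf i) (FractionRing R) := fun i =>
    IsFractionRing.isFractionRing_of_isDomain_of_isLocalization (Submonoid.powers (f i)) (Rf i)
      (FractionRing R)
  let e : ∀ i, FractionRing (Rf i) ≃ₐ[Rf i] FractionRing R := fun i =>
    FractionRing.algEquiv (Rf i) (FractionRing R)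
  refine h5_finite_integralClosure_of_cover (L := FractionRing R) f hf Rf (fun i => ?_)
  haveI : Module.Finite (Rf i) (integralClosure (Rf i) (FractionRing (Rf i))) := h i
  exact Module.Finite.equiv (e i).mapIntegralClosure.toLinearEquiv

end CAlg
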