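import Mathlib
import Groth.Prelude.Def_Found
import Groth.Agent.Lib.helper5.Japanese3
import Groth.Agent.S9398
import Groth.Agent.S9399
import Groth.Agent.S9400

set_option autoImplicit false
universe u

namespace CAlg
open AlgebraicGeometry

/-- A localization of a Nagata ring is Nagata. -/
theorem h5_isNagata_of_isLocalization (R : Type u) [CommRing R] (M : Submonoid R) (S : Type u)
    [CommRing S] [Algebra R S] [IsLocalization M S] (h : IsNagata R) : IsNagata S := by
  refine ⟨IsLocalization.isNoetherianRing M S h.1, ?_⟩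
  intro q hq
  have hp : (q.comap (algebraMap R S)).IsPrime := Ideal.comap_isPrime _ q
  have key : ∀ (q' : Ideal S), q' = (q.comap (algebraMap R S)).map (algebraMap R S) →
      ∀ [q'.IsPrime], IsN2 (S ⧸ q') := by
    intro q' hq'
    subst hq'
    intro _
    exact h5_isN2_of_isLocalization (R ⧸ q.comap (algebraMap R S))
      (Algebra.algebraMapSubmonoid (R ⧸ q.comap (algebraMap R S)) M)
      (S ⧸ (q.comap (algebraMap R S)).map (algebraMap R S)) (h.2 _)
  exact key q (IsLocalization.map_comap M S q).symm

theorem h5_isLocalization_of_ringEquiv {R S : Type u} [CommRing R] [CommRing S] (e : R ≃+* S) :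
    letI : Algebra R S := e.toRingHom.toAlgebra
    IsLocalization (IsUnit.submonoid R) S := by
  letI : Algebra R S := e.toRingHom.toAlgebra
  refine IsLocalization.of_le_isUnit_of_bijective ?_ e.bijective
  rintro _ ⟨x, hx, rfl⟩
  exact (hx : IsUnit x).map e

theorem h5_isN2_of_ringEquiv {R S : Type u} [CommRing R] [IsDomain R] [CommRing S] [IsDomain S]
    (e : R ≃+* S) (h : IsN2 R) : IsN2 S := by
  letI : Algebra R S := e.toRingHom.toAlgebra
  haveI := h5_isLocalization_of_ringEquiv e
  exact h5_isN2_of_isLocalization R (IsUnit.submonoid R) S h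

theorem h5_isNagata_of_ringEquiv {R S : Type u} [CommRing R] [CommRing S]
    (e : R ≃+* S) (h : IsNagata R) : IsNagata S := by
  letI : Algebra R S := e.toRingHom.toAlgebra
  haveI := h5_isLocalization_of_ringEquiv e
  exact h5_isNagata_of_isLocalization R (IsUnit.submonoid R) S h

theorem h5_isUJ_of_isLocalization (R : Type u) [CommRing R] (M : Submonoid R) (S : Type u)
    [CommRing S] [Algebra R S] [IsLocalization M S] (h : IsUniversallyJapanese R) :
    IsUniversallyJapanese S := by
  haveI : Algebra.EssFiniteType R S := Algebra.EssFiniteType.of_isLocalization S M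
  exact Groth.Agent.S9398.result R h S

theorem h5_isUJ_of_ringEquiv {R S : Type u} [CommRing R] [CommRing S]
    (e : R ≃+* S) (h : IsUniversallyJapanese R) : IsUniversallyJapanese S := by
  letI : Algebra R S := e.toRingHom.toAlgebra
  haveI := h5_isLocalization_of_ringEquiv e
  exact h5_isUJ_of_isLocalization R (IsUnit.submonoid R) S h

theorem h5_isNagata_of_cover' (R : Type u) [CommRing R] {ι : Type u} [Finite ι] (f : ι → R)
    (hf : Ideal.span (Set.range f) = ⊤) (Rf : ι → Type u) [∀ i, CommRing (Rf i)]
    [∀ i, Algebra R (Rf i)] [∀ i, IsLocalization.Away (f i) (Rf i)]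
    (h : ∀ i, IsNagata (Rf i)) : IsNagata R :=
  Groth.Agent.S9400.result R f hf (fun i => h5_isNagata_of_ringEquiv
    (IsLocalization.algEquiv (Submonoid.powers (f i)) (Rf i)
      (Localization.Away (f i))).toRingEquiv (h i))

theorem h5_isUJ_of_cover' (R : Type u) [CommRing R] {ι : Type u} [Finite ι] (f : ι → R)
    (hf : Ideal.span (Set.range f) = ⊤) (Rf : ι → Type u) [∀ i, CommRing (Rf i)]
    [∀ i, Algebra R (Rf i)] [∀ i, IsLocalization.Away (f i) (Rf i)]
    (h : ∀ i, IsUniversallyJapanese (Rf i)) : IsUniversallyJapanese R :=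
  Groth.Agent.S9399.result R f hf (fun i => h5_isUJ_of_ringEquiv
    (IsLocalization.algEquiv (Submonoid.powers (f i)) (Rf i)
      (Localization.Away (f i))).toRingEquiv (h i))

/-- Affine-cover induction for ring properties local for principal localizations. -/
theorem h5_affine_cover_induction (P : ∀ (R : Type u) [CommRing R], Prop)
    (hloc : ∀ (R S : Type u) [CommRing R] [CommRing S] [Algebra R S] (f : R)
      [IsLocalization.Away f S], P R → P S)
    (hcov : ∀ (R : Type u) [CommRing R] (s : Finset R) (_ : Ideal.span (s : Set R) = ⊤)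
      (Rf : s → Type u) [∀ i, CommRing (Rf i)] [∀ i, Algebra R (Rf i)]
      [∀ i : s, IsLocalization.Away (i : R) (Rf i)], (∀ i, P (Rf i)) → P R)
    (X : Scheme.{u}) {ι : Type u} (U : ι → X.Opens) (hU : iSup U = ⊤)
    (haff : ∀ i, IsAffineOpen (U i)) (hP : ∀ i, P Γ(X, U i)) (V : X.Opens)
    (hV : IsAffineOpen V) : P Γ(X, V) := by
  refine of_affine_open_cover (P := fun W => P Γ(X, W.1)) (fun i => ⟨U i, haff i⟩)
    (by simpa using hU) ⟨V, hV⟩ ?_ ?_ hP
  · intro W f hW
    haveI := W.2.isLocalization_basicOpen f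
    exact hloc Γ(X, W.1) Γ(X, X.basicOpen f) f hW
  · intro W s hs hW
    haveI : ∀ i : s, IsLocalization.Away (i : Γ(X, W.1)) Γ(X, X.basicOpen i.1) :=
      fun i => W.2.isLocalization_basicOpen i.1
    exact hcov Γ(X, W.1) s hs (fun i => Γ(X, X.basicOpen i.1)) hW

end CAlg
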