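import Mathlib
set_option autoImplicit false
universe u
open CategoryTheory CategoryTheory.Limits AlgebraicGeometry

namespace H5LimPB

variable {I : Type u} [SmallCategory I] (D : I ⥤ Scheme.{u}) (c : Cone D)
  (i : I) {T : Scheme.{u}} (a : T ⟶ D.obj i)

/-- the diagram `j ↦ D_j ×_{D_i} T` on `Over i`. -/
noncomputable def F : Over i ⥤ Scheme.{u} := Over.post D ⋙ Over.pullback a ⋙ Over.forget _

lemma F_obj (j : Over i) : (F D i a).obj j = pullback (D.map j.hom) a := rfl

noncomputable def cF : Cone (F D i a) :=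
  (Over.pullback a ⋙ Over.forget _).mapCone ((Over.conePost _ _).obj c)

lemma cF_pt : (cF D c i a).pt = pullback (c.π.app i) a := rfl

@[reassoc]
lemma F_map_snd {j j' : Over i} (φ : j ⟶ j') :
    (F D i a).map φ ≫ pullback.snd (D.map j'.hom) a = pullback.snd (D.map j.hom) a := by
  change pullback.lift _ _ _ ≫ _ = _
  exact pullback.lift_snd _ _ _

@[reassoc]
lemma F_map_fst {j j' : Over i} (φ : j ⟶ j') :
    (F D i a).map φ ≫ pullback.fst (D.map j'.hom) a =
      pullback.fst (D.map j.hom) a ≫ D.map φ.left := by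
  change pullback.lift _ _ _ ≫ _ = _
  exact pullback.lift_fst _ _ _

@[reassoc]
lemma cF_π_snd (j : Over i) :
    (cF D c i a).π.app j ≫ pullback.snd (D.map j.hom) a = pullback.snd (c.π.app i) a := by
  change pullback.lift _ _ _ ≫ _ = _
  exact pullback.lift_snd _ _ _

@[reassoc]
lemma cF_π_fst (j : Over i) :
    (cF D c i a).π.app j ≫ pullback.fst (D.map j.hom) a =
      pullback.fst (c.π.app i) a ≫ c.π.app j.left := by
  change pullback.lift _ _ _ ≫ _ = _
  exact pullback.lift_fst _ _ _

noncomputable def hcF [IsCofiltered I] (hc : IsLimit c) : IsLimit (cF D c i a) := by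
  haveI := IsCofiltered.isConnected (Over i)
  exact isLimitOfPreserves (Over.pullback a ⋙ Over.forget _) (Over.isLimitConePost _ hc)

/-- structure maps to `T`. -/
noncomputable def tT : F D i a ⟶ (Functor.const (Over i)).obj T where
  app j := pullback.snd (D.map j.hom) a
  naturality j j' φ := by
    simp only [Functor.const_obj_obj, Functor.const_obj_map, Category.comp_id]
    exact F_map_snd D i a φ

lemma tT_app (j : Over i) : (tT D i a).app j = pullback.snd (D.map j.hom) a := rfl

/-- structure maps to `D_i`. -/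
noncomputable def tS : F D i a ⟶ (Functor.const (Over i)).obj (D.obj i) where
  app j := pullback.snd (D.map j.hom) a ≫ a
  naturality j j' φ := by
    simp only [Functor.const_obj_obj, Functor.const_obj_map, Category.comp_id]
    exact F_map_snd_assoc D i a φ _

lemma tS_app (j : Over i) : (tS D i a).app j = pullback.snd (D.map j.hom) a ≫ a := rfl

lemma isAffineHom_aux {A A' B C : Scheme.{u}} (p : A ⟶ C) (p' : A' ⟶ C) (a : B ⟶ C) [IsAffineHom p]
    [IsAffineHom p'] (φ : pullback p a ⟶ pullback p' a)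
    (h : φ ≫ pullback.snd p' a = pullback.snd p a) : IsAffineHom φ := by
  have : IsAffineHom (pullback.snd p a) := MorphismProperty.pullback_snd _ _ inferInstance
  have : IsAffineHom (pullback.snd p' a) := MorphismProperty.pullback_snd _ _ inferInstance
  have : IsAffineHom (φ ≫ pullback.snd p' a) := by
    rw [h]
    infer_instance
  exact IsAffineHom.of_comp _ (pullback.snd p' a)

lemma compactSpace_aux {A B C : Scheme.{u}} (p : A ⟶ C) (a : B ⟶ C) [IsAffineHom p] [CompactSpace B] :
    CompactSpace ↥(pullback p a) := by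
  have : IsAffineHom (pullback.snd p a) := MorphismProperty.pullback_snd _ _ inferInstance
  exact QuasiCompact.compactSpace_of_compactSpace (pullback.snd p a)

lemma quasiSeparatedSpace_aux {A B C : Scheme.{u}} (p : A ⟶ C) (a : B ⟶ C) [IsAffineHom p]
    [QuasiSeparatedSpace B] : QuasiSeparatedSpace ↥(pullback p a) := by
  have : IsAffineHom (pullback.snd p a) := MorphismProperty.pullback_snd _ _ inferInstance
  exact quasiSeparatedSpace_of_quasiSeparated (pullback.snd p a)

instance isAffineHom_F_map [∀ (j j' : I) (f : j ⟶ j'), IsAffineHom (D.map f)]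
    {j j' : Over i} (φ : j ⟶ j') : IsAffineHom ((F D i a).map φ) :=
  isAffineHom_aux (D.map j.hom) (D.map j'.hom) a ((F D i a).map φ) (F_map_snd D i a φ)

instance compactSpace_F_obj [∀ (j j' : I) (f : j ⟶ j'), IsAffineHom (D.map f)] [CompactSpace T]
    (j : Over i) : CompactSpace ((F D i a).obj j) :=
  compactSpace_aux (D.map j.hom) a

instance quasiSeparatedSpace_F_obj [∀ (j j' : I) (f : j ⟶ j'), IsAffineHom (D.map f)]
    [QuasiSeparatedSpace T] (j : Over i) : QuasiSeparatedSpace ((F D i a).obj j) :=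
  quasiSeparatedSpace_aux (D.map j.hom) a

@[reassoc]
lemma cF_π_tS (j : Over i) :
    (cF D c i a).π.app j ≫ (tS D i a).app j = pullback.snd (c.π.app i) a ≫ a := by
  rw [tS_app]
  exact cF_π_snd_assoc D c i a j a

/-- the canonical projection from the limit pullback to the stage-`j` pullback. -/
noncomputable def proj {j : I} (φ : j ⟶ i) : pullback (c.π.app i) a ⟶ pullback (D.map φ) a :=
  pullback.lift (pullback.fst (c.π.app i) a ≫ c.π.app j) (pullback.snd (c.π.app i) a)
    (by rw [Category.assoc, c.w, pullback.condition])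

@[reassoc (attr := simp)]
lemma proj_fst {j : I} (φ : j ⟶ i) :
    proj D c i a φ ≫ pullback.fst (D.map φ) a = pullback.fst (c.π.app i) a ≫ c.π.app j :=
  pullback.lift_fst _ _ _

@[reassoc (attr := simp)]
lemma proj_snd {j : I} (φ : j ⟶ i) :
    proj D c i a φ ≫ pullback.snd (D.map φ) a = pullback.snd (c.π.app i) a :=
  pullback.lift_snd _ _ _

/-- transition between stage pullbacks. -/
noncomputable def trans {j k : I} (φ : j ⟶ i) (ψ : k ⟶ j) :
    pullback (D.map (ψ ≫ φ)) a ⟶ pullback (D.map φ) a :=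
  pullback.lift (pullback.fst (D.map (ψ ≫ φ)) a ≫ D.map ψ) (pullback.snd (D.map (ψ ≫ φ)) a)
    (by rw [Category.assoc, ← D.map_comp, pullback.condition])

@[reassoc (attr := simp)]
lemma trans_fst {j k : I} (φ : j ⟶ i) (ψ : k ⟶ j) :
    trans D i a φ ψ ≫ pullback.fst (D.map φ) a = pullback.fst (D.map (ψ ≫ φ)) a ≫ D.map ψ :=
  pullback.lift_fst _ _ _

@[reassoc (attr := simp)]
lemma trans_snd {j k : I} (φ : j ⟶ i) (ψ : k ⟶ j) :
    trans D i a φ ψ ≫ pullback.snd (D.map φ) a = pullback.snd (D.map (ψ ≫ φ)) a :=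
  pullback.lift_snd _ _ _

@[reassoc (attr := simp)]
lemma proj_trans {j k : I} (φ : j ⟶ i) (ψ : k ⟶ j) :
    proj D c i a (ψ ≫ φ) ≫ trans D i a φ ψ = proj D c i a φ := by
  apply pullback.hom_ext
  · simp
  · simp

/-- Fullness: a morphism from the limit pullback to a locally finitely presented `D_i`-scheme
factors through a finite stage. -/
lemma exists_factor [IsCofiltered I] (hc : IsLimit c)
    [∀ (j j' : I) (f : j ⟶ j'), IsAffineHom (D.map f)] [CompactSpace T] [QuasiSeparatedSpace T]
    {Y : Scheme.{u}} (y : Y ⟶ D.obj i) [LocallyOfFinitePresentation y]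
    (b : pullback (c.π.app i) a ⟶ Y) (hb : b ≫ y = pullback.snd (c.π.app i) a ≫ a) :
    ∃ (j : I) (φ : j ⟶ i) (g : pullback (D.map φ) a ⟶ Y),
      g ≫ y = pullback.snd (D.map φ) a ≫ a ∧ proj D c i a φ ≫ g = b := by
  have ha : (cF D c i a).π ≫ tS D i a = (Functor.const _).map (b ≫ y) := by
    ext j : 2
    rw [NatTrans.comp_app, cF_π_tS, hb]
    rfl
  obtain ⟨k, g, hg1, hg2⟩ := Scheme.exists_π_app_comp_eq_of_locallyOfFinitePresentation (F D i a)
    (tS D i a) y (cF D c i a) (hcF D c i a hc) b ha
  exact ⟨k.left, k.hom, g, hg2, hg1⟩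

/-- Faithfulness: two morphisms from a stage pullback to a locally finite type `D_i`-scheme
agreeing on the limit pullback agree at a later stage. -/
lemma exists_eq [IsCofiltered I] (hc : IsLimit c)
    [∀ (j j' : I) (f : j ⟶ j'), IsAffineHom (D.map f)] [CompactSpace T]
    {Y : Scheme.{u}} (y : Y ⟶ D.obj i) [LocallyOfFiniteType y] {j : I} (φ : j ⟶ i)
    (g g' : pullback (D.map φ) a ⟶ Y) (hg : g ≫ y = pullback.snd (D.map φ) a ≫ a)
    (hg' : g' ≫ y = pullback.snd (D.map φ) a ≫ a)
    (h : proj D c i a φ ≫ g = proj D c i a φ ≫ g') :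
    ∃ (k : I) (ψ : k ⟶ j), trans D i a φ ψ ≫ g = trans D i a φ ψ ≫ g' := by
  obtain ⟨k, hik, hk⟩ := Scheme.exists_hom_comp_eq_comp_of_locallyOfFiniteType (F D i a)
    (tS D i a) y (cF D c i a) (hcF D c i a hc) (i := Over.mk φ) g g' hg.symm hg'.symm h
  refine ⟨k.left, hik.left, ?_⟩
  have hw : hik.left ≫ φ = k.hom := Over.w hik
  have key : ∀ (χ : k.left ⟶ i) (hχ : hik.left ≫ φ = χ),
      (pullback.lift (pullback.fst (D.map χ) a ≫ D.map hik.left) (pullback.snd (D.map χ) a)
        (by rw [Category.assoc, ← D.map_comp, hχ, pullback.condition]) :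
        pullback (D.map χ) a ⟶ pullback (D.map φ) a) ≫ g =
      pullback.lift (pullback.fst (D.map χ) a ≫ D.map hik.left) (pullback.snd (D.map χ) a)
        (by rw [Category.assoc, ← D.map_comp, hχ, pullback.condition]) ≫ g' → 
      trans D i a φ hik.left ≫ g = trans D i a φ hik.left ≫ g' := by
    intro χ hχ
    subst hχ
    exact id
  exact key k.hom hw hk

end H5LimPB
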