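import Mathlib
import Groth.Prelude.Def_W4stk3formalspacesTaut

set_option autoImplicit false
universe u v w
open Filter Topology

namespace LinTop

section Basic

variable {B : Type v} [CommRing B] [TopologicalSpace B] [IsTopologicalRing B]

theorem h5_closure_mono {K L : Ideal B} (h : K ≤ L) : K.closure ≤ L.closure := by
  intro x hx
  rw [← SetLike.mem_coe, Ideal.coe_closure] at hx ⊢
  exact closure_mono (SetLike.coe_subset_coe.2 h) hx

theorem h5_le_closure (K : Ideal B) : K ≤ K.closure := fun x hx => by
  rw [← SetLike.mem_coe, Ideal.coe_closure]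
  exact subset_closure hx

theorem h5_isClosed_closure (K : Ideal B) : IsClosed (K.closure : Set B) := by
  rw [Ideal.coe_closure]
  exact isClosed_closure

theorem h5_closure_le_of_isClosed {K L : Ideal B} (h : K ≤ L) (hL : IsClosed (L : Set B)) :
    K.closure ≤ L := by
  intro x hx
  rw [← SetLike.mem_coe, Ideal.coe_closure] at hx
  exact closure_minimal (SetLike.coe_subset_coe.2 h) hL hx

theorem h5_isClosed_of_isOpen (K : Ideal B) (h : IsOpen (K : Set B)) : IsClosed (K : Set B) :=
  K.toAddSubgroup.isClosed_of_isOpen h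

theorem h5_closure_eq_of_isOpen (K : Ideal B) (h : IsOpen (K : Set B)) :
    closure (K : Set B) = K :=
  (h5_isClosed_of_isOpen K h).closure_eq

theorem h5_isOpen_closure_of_le {K L : Ideal B} (h : K ≤ L) (hK : IsOpen (closure (K : Set B))) :
    IsOpen (closure (L : Set B)) := by
  rw [← Ideal.coe_closure] at hK ⊢
  exact Ideal.isOpen_of_isOpen_subideal (h5_closure_mono h) hK

theorem h5_closure_mul_le (K L : Ideal B) : K.closure * L.closure ≤ (K * L).closure := by
  rw [Ideal.mul_le]
  intro x hx y hy
  rw [← SetLike.mem_coe, Ideal.coe_closure] at hx hy ⊢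
  exact map_mem_closure₂ (f := fun a b : B => a * b) continuous_mul hx hy
    (fun a ha b hb => Ideal.mul_mem_mul ha hb)

theorem h5_closure_pow_le (K : Ideal B) (n : ℕ) : K.closure ^ n ≤ (K ^ n).closure := by
  induction n with
  | zero =>
    simp only [pow_zero]
    exact h5_le_closure _
  | succ n ih =>
    rw [pow_succ, pow_succ]
    exact (Ideal.mul_mono ih le_rfl).trans (h5_closure_mul_le _ _)

theorem h5_isTopologicallyNilpotent_iff [IsLinearTopology B B] (g : B) :
    IsTopologicallyNilpotent g ↔ ∀ J : Ideal B, IsOpen (J : Set B) → ∃ n : ℕ, g ^ n ∈ J := by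
  unfold IsTopologicallyNilpotent
  rw [IsLinearTopology.hasBasis_open_ideal.tendsto_right_iff]
  constructor
  · intro h J hJ
    exact (h J hJ).exists
  · intro h J hJ
    obtain ⟨n, hn⟩ := h J hJ
    filter_upwards [eventually_ge_atTop n] with m hm
    obtain ⟨k, rfl⟩ := Nat.exists_eq_add_of_le hm
    rw [pow_add]
    exact J.mul_mem_right _ hn

theorem h5_isClosed_topologicalNilradical [IsLinearTopology B B] :
    IsClosed ((topologicalNilradical B : Ideal B) : Set B) := by
  have : ((topologicalNilradical B : Ideal B) : Set B) =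
      ⋂ (J : Ideal B) (_ : IsOpen (J : Set B)), ((J.radical : Ideal B) : Set B) := by
    ext g
    simp only [SetLike.mem_coe, IsTopologicallyNilpotent.mem_topologicalNilradical_iff,
      Set.mem_iInter, h5_isTopologicallyNilpotent_iff]
    rfl
  rw [this]
  refine isClosed_iInter fun J => isClosed_iInter fun hJ => ?_
  exact h5_isClosed_of_isOpen _ (Ideal.isOpen_of_isOpen_subideal Ideal.le_radical hJ)

theorem h5_isTopologicallyNilpotent_of_mem_closure_map {A : Type u} [CommRing A]
    [TopologicalSpace A] [IsLinearTopology B B]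
    (φ : A →+* B) (hφ : Continuous φ) (I : Ideal A) (hI : ∀ f ∈ I, IsTopologicallyNilpotent f) :
    ∀ g ∈ (I.map φ).closure, IsTopologicallyNilpotent g := by
  intro g hg
  have h1 : I.map φ ≤ topologicalNilradical B := by
    rw [Ideal.map_le_iff_le_comap]
    intro f hf
    rw [Ideal.mem_comap, IsTopologicallyNilpotent.mem_topologicalNilradical_iff]
    exact (hI f hf).map hφ
  have h2 := h5_closure_le_of_isClosed h1 h5_isClosed_topologicalNilradical
  exact IsTopologicallyNilpotent.mem_topologicalNilradical_iff.1 (h2 hg)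

theorem h5_isIdealOfDefinition_of_isAdic {J : Ideal B} (h : IsAdic J) :
    IsIdealOfDefinition B J := by
  rw [isAdic_iff] at h
  refine ⟨by simpa using h.1 1, fun U hU => ?_⟩
  obtain ⟨n, hn⟩ := h.2 U hU
  exact ⟨n + 1, Nat.succ_pos n,
    (SetLike.coe_subset_coe.2 (Ideal.pow_le_pow_right (Nat.le_succ n))).trans hn⟩

theorem h5_isAdic_of_pow_le {K L : Ideal B} (hK : IsAdic K) (n m : ℕ) (h1 : K ^ n ≤ L)
    (h2 : L ^ m ≤ K) : IsAdic L := by
  rw [isAdic_iff] at hK ⊢
  refine ⟨fun k => ?_, fun s hs => ?_⟩
  · refine Ideal.isOpen_of_isOpen_subideal ?_ (hK.1 (n * k))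
    rw [pow_mul]
    exact Ideal.pow_right_mono h1 k
  · obtain ⟨k, hk⟩ := hK.2 s hs
    refine ⟨m * k, (SetLike.coe_subset_coe.2 ?_).trans hk⟩
    rw [pow_mul]
    exact Ideal.pow_right_mono h2 k

/-- In a linearly topologized ring every neighbourhood of zero contains an open ideal. -/
theorem h5_exists_open_ideal_subset [IsLinearTopology B B] {U : Set B} (hU : U ∈ nhds (0 : B)) :
    ∃ J : Ideal B, IsOpen (J : Set B) ∧ (J : Set B) ⊆ U := by
  obtain ⟨J, hJ, hJU⟩ := IsLinearTopology.hasBasis_open_ideal.mem_iff.1 hU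
  exact ⟨J, hJ, hJU⟩

end Basic

section Taut

variable {A : Type u} [CommRing A] [TopologicalSpace A]
variable {B : Type v} [CommRing B] [TopologicalSpace B] [IsTopologicalRing B]

/-- For a taut faithfully flat situation, the preimage of the closure of `φ(I)B` is `I`. -/
theorem h5_comap_closure_map_eq (φ : A →+* B) (hφ : IsTautFFlat φ) (I : Ideal A)
    (hI : IsOpen (I : Set A)) : (I.map φ).closure.comap φ = I := by
  apply le_antisymm
  · intro a ha
    have hinj := (hφ.2 I hI).injective
    have h0 : descentMap φ I (Ideal.Quotient.mk I a) = 0 := by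
      unfold descentMap
      rw [Ideal.quotientMap_mk]
      exact Ideal.Quotient.eq_zero_iff_mem.2 ha
    have := hinj (h0.trans (map_zero _).symm)
    exact Ideal.Quotient.eq_zero_iff_mem.1 this
  · exact Ideal.le_comap_map.trans (Ideal.comap_mono (h5_le_closure _))

theorem h5_le_of_map_le_closure (φ : A →+* B) (hφ : IsTautFFlat φ) (K I : Ideal A)
    (hI : IsOpen (I : Set A)) (h : K.map φ ≤ (I.map φ).closure) : K ≤ I := by
  rw [← h5_comap_closure_map_eq φ hφ I hI]
  exact Ideal.map_le_iff_le_comap.1 h

end Taut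

end LinTop
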