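import Mathlib
import Groth.Prelude.Def_W4stk3formalspacesTaut
import Groth.Agent.Lib.helper5.LinTopBasic

set_option autoImplicit false
universe u v w
open Filter Topology

namespace LinTop

section Basic

variable {A : Type u} [CommRing A] [TopologicalSpace A] [IsTopologicalRing A]

theorem h5_isPreadmissible_of_isWeaklyPreadic (h : IsWeaklyPreadic A) : IsPreadmissible A := by
  obtain ⟨hlin, I, hIo, hIb⟩ := h
  refine ⟨hlin, I.closure, ?_, fun U hU => ?_⟩
  · rw [Ideal.coe_closure]
    simpa using hIo 1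
  · obtain ⟨n, hn⟩ := hIb U hU
    refine ⟨n + 1, Nat.succ_pos n, ?_⟩
    intro x hx
    have h1 : x ∈ I.closure ^ n := Ideal.pow_le_pow_right (Nat.le_succ n) hx
    have h2 := h5_closure_pow_le I n h1
    rw [← SetLike.mem_coe, Ideal.coe_closure] at h2
    exact hn h2

theorem h5_isOpen_closure_pow_of_isWeaklyPreadic (h : IsWeaklyPreadic A) (I' : Ideal A)
    (hI' : IsIdealOfDefinition A I') (n : ℕ) :
    IsOpen (closure ((I' ^ n : Ideal A) : Set A)) := by
  obtain ⟨hlin, I, hIo, hIb⟩ := h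
  obtain ⟨k, hk⟩ := hIb I' (hI'.1.mem_nhds I'.zero_mem)
  have hle : I ^ k ≤ I' := fun x hx => hk (subset_closure hx)
  have hle2 : I ^ (k * n) ≤ I' ^ n := by
    rw [pow_mul]
    exact Ideal.pow_right_mono hle n
  exact h5_isOpen_closure_of_le hle2 (hIo _)

theorem h5_mem_closure_ideal_iff [IsLinearTopology A A] (K : Ideal A) (x : A) :
    x ∈ closure (K : Set A) ↔ ∀ L : Ideal A, IsOpen (L : Set A) → x ∈ K ⊔ L := by
  constructor
  · intro hx L hL
    have hcl : IsClosed ((K ⊔ L : Ideal A) : Set A) :=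
      h5_isClosed_of_isOpen _ (Ideal.isOpen_of_isOpen_subideal le_sup_right hL)
    exact closure_minimal (SetLike.coe_subset_coe.2 (le_sup_left : K ≤ K ⊔ L)) hcl hx
  · intro h
    have hx : (nhds x).HasBasis (fun L : Ideal A => IsOpen (L : Set A))
        (fun L => (fun y => x + y) '' (L : Set A)) := by
      rw [← map_add_left_nhds_zero x]
      exact IsLinearTopology.hasBasis_open_ideal.map _
    rw [mem_closure_iff_nhds_basis hx]
    intro L hL
    obtain ⟨k, hk, l, hl, hkl⟩ := Submodule.mem_sup.1 (h L hL)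
    refine ⟨k, hk, -l, L.neg_mem hl, ?_⟩
    show x + -l = k
    rw [← hkl]
    abel

theorem h5_closure_subset_of_isIdealOfDefinition [IsLinearTopology A A] (I : Ideal A)
    (hI : IsIdealOfDefinition A I) {U : Set A} (hU : U ∈ nhds (0 : A)) :
    ∃ n : ℕ, 0 < n ∧ closure ((I ^ n : Ideal A) : Set A) ⊆ U := by
  obtain ⟨L, hL, hLU⟩ := h5_exists_open_ideal_subset hU
  obtain ⟨n, hn, hnL⟩ := hI.2 L (hL.mem_nhds L.zero_mem)
  exact ⟨n, hn, (closure_minimal hnL (h5_isClosed_of_isOpen L hL)).trans hLU⟩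

end Basic

section Taut

variable {A : Type u} [CommRing A] [TopologicalSpace A] [IsTopologicalRing A]
  [IsLinearTopology A A]
variable {B : Type v} [CommRing B] [TopologicalSpace B] [IsTopologicalRing B]
  [IsLinearTopology B B]

theorem h5_isIdealOfDefinition_of_tautFFlat (φ : A →+* B) (hφ : IsTautFFlat φ)
    (J₀ : Ideal B) (hJ₀ : IsIdealOfDefinition B J₀) (I : Ideal A) (hI : IsOpen (I : Set A))
    (hIJ : closure ((I.map φ : Ideal B) : Set B) ⊆ J₀) : IsIdealOfDefinition A I := by
  have hφ' := hφ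
  obtain ⟨⟨hc, h2, h3⟩, _⟩ := hφ
  obtain ⟨hJ₀o, hJ₀p⟩ := hJ₀
  refine ⟨hI, fun U hU => ?_⟩
  obtain ⟨K, hK, hKU⟩ := h5_exists_open_ideal_subset hU
  have hKB : closure ((K.map φ : Ideal B) : Set B) ∈ nhds (0 : B) :=
    (h2 K hK).mem_nhds (subset_closure (Ideal.zero_mem _))
  obtain ⟨n, hn, hnJ⟩ := hJ₀p _ hKB
  refine ⟨n, hn, (SetLike.coe_subset_coe.2 ?_).trans hKU⟩
  refine h5_le_of_map_le_closure φ hφ' (I ^ n) K hK ?_
  rw [Ideal.map_pow]
  intro b hb
  rw [← SetLike.mem_coe, Ideal.coe_closure]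
  refine hnJ ?_
  have hle : I.map φ ≤ J₀ := fun y hy => hIJ (subset_closure hy)
  exact Ideal.pow_right_mono hle n hb

end Taut

section AdicCopy

/-- A copy of the ring `A` carrying the `I`-adic topology. -/
def H5AdicCopy {A : Type u} [CommRing A] (_I : Ideal A) : Type u := A

variable {A : Type u} [CommRing A] (I : Ideal A)

instance : CommRing (H5AdicCopy I) := inferInstanceAs (CommRing A)

instance : TopologicalSpace (H5AdicCopy I) := (I.adicTopology : TopologicalSpace A)

instance : IsTopologicalRing (H5AdicCopy I) :=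
  @NonarchimedeanRing.toIsTopologicalRing A _ I.adicTopology I.nonarchimedean

/-- The identity as a ring homomorphism from the adic copy. -/
def h5AdicCopyHom : H5AdicCopy I →+* A := RingHom.id A

/-- The ideal `I` in the adic copy. -/
def h5AdicCopyIdeal : Ideal (H5AdicCopy I) := (I : Ideal A)

theorem h5_isAdic_adicCopy : IsAdic (h5AdicCopyIdeal I) := rfl

end AdicCopy

end LinTop
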