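import Mathlib
import Groth.Prelude.Def_W4stk3formalspacesTaut
import Groth.Agent.Lib.helper5.LinTopBasic
import Groth.Agent.Lib.helper5.LinTopBasic2

set_option autoImplicit false
universe u v w
open Filter Topology

namespace LinTop

section

variable {A : Type u} [CommRing A] [UniformSpace A] [IsUniformAddGroup A] [IsTopologicalRing A]
  [IsLinearTopology A A]

theorem h5_nonarchimedeanAddGroup : NonarchimedeanAddGroup A where
  is_nonarchimedean := by
    intro U hU
    obtain ⟨L, hL, hLU⟩ := h5_exists_open_ideal_subset hU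
    exact ⟨⟨L.toAddSubgroup, hL⟩, hLU⟩

/-- Approximation step. -/
theorem h5_approx_step (I : Ideal A) (hopen : ∀ n : ℕ, IsOpen (closure ((I ^ n : Ideal A) : Set A)))
    (n : ℕ) {s : ℕ} (g : Fin s → A) (hg : Ideal.span (Set.range g) = I ^ n) (j : ℕ) (y : A)
    (hy : y ∈ closure ((I ^ (n + j) : Ideal A) : Set A)) :
    ∃ a : Fin s → A, (∀ i, a i ∈ I ^ j) ∧
      y - ∑ i, a i * g i ∈ closure ((I ^ (n + j + 1) : Ideal A) : Set A) := by
  have h1 := (h5_mem_closure_ideal_iff (I ^ (n + j)) y).1 hy (I ^ (n + j + 1)).closure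
    (by rw [Ideal.coe_closure]; exact hopen _)
  obtain ⟨z, hz, w, hw, hzw⟩ := Submodule.mem_sup.1 h1
  have hz' : z ∈ I ^ j • Submodule.span A (Set.range g) := by
    have : I ^ j • Submodule.span A (Set.range g) = I ^ (n + j) := by
      show I ^ j • Ideal.span (Set.range g) = I ^ (n + j)
      rw [hg, smul_eq_mul, ← pow_add, add_comm]
    rw [this]
    exact hz
  obtain ⟨a, ha, hsum⟩ := (Submodule.mem_ideal_smul_span_iff_exists_sum (I ^ j) g z).1 hz'
  refine ⟨fun i => a i, ha, ?_⟩
  have hz2 : ∑ i, a i * g i = z := by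
    rw [← hsum, Finsupp.sum_fintype _ _ (fun i => by simp)]
    rfl
  rw [hz2, ← hzw, add_sub_cancel_left, ← Ideal.coe_closure]
  exact hw

theorem h5_closure_pow_subset (I : Ideal A) [T2Space A] [CompleteSpace A] (hfg : I.FG)
    (hopen : ∀ n : ℕ, IsOpen (closure ((I ^ n : Ideal A) : Set A)))
    (hbasis : ∀ U ∈ nhds (0 : A), ∃ n : ℕ, closure ((I ^ n : Ideal A) : Set A) ⊆ U) (n : ℕ) :
    closure ((I ^ n : Ideal A) : Set A) ⊆ (I ^ n : Ideal A) := by
  haveI : NonarchimedeanAddGroup A := h5_nonarchimedeanAddGroup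
  obtain ⟨s, g, hg⟩ := Submodule.fg_iff_exists_fin_generating_family.1 (hfg.pow (n := n))
  have step := h5_approx_step I hopen n g hg
  choose! a ha1 ha2 using step
  intro x hx
  let xs : ℕ → A := fun j => Nat.rec x (fun j y => y - ∑ i, a j y i * g i) j
  have hxs : ∀ j, xs j ∈ closure ((I ^ (n + j) : Ideal A) : Set A) := by
    intro j
    induction j with
    | zero => exact hx
    | succ j ih => exact ha2 j (xs j) ih
  let c : ℕ → Fin s → A := fun j i => a j (xs j) i
  have hc : ∀ j i, c j i ∈ I ^ j := fun j i => ha1 j (xs j) (hxs j) i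
  have hrec : ∀ j, xs (j + 1) = xs j - ∑ i, c j i * g i := fun j => rfl
  have htel : ∀ N, x - xs N = ∑ i, (∑ j ∈ Finset.range N, c j i) * g i := by
    intro N
    induction N with
    | zero =>
      simp only [Finset.range_zero, Finset.sum_empty, zero_mul, Finset.sum_const_zero]
      exact sub_self x
    | succ N ih =>
      rw [hrec, ← sub_add, ih, ← Finset.sum_add_distrib]
      refine Finset.sum_congr rfl fun i _ => ?_
      rw [Finset.sum_range_succ, add_mul]
  -- the anti-tone behaviour of the closures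
  have hmono : ∀ {m k : ℕ}, m ≤ k → closure ((I ^ k : Ideal A) : Set A) ⊆
      closure ((I ^ m : Ideal A) : Set A) := fun h =>
    closure_mono (SetLike.coe_subset_coe.2 (Ideal.pow_le_pow_right h))
  -- summability
  have hsummable : ∀ i, Summable (fun j => c j i) := by
    intro i
    refine NonarchimedeanAddGroup.summable_of_tendsto_cofinite_zero ?_
    rw [Nat.cofinite_eq_atTop]
    intro U hU
    obtain ⟨m, hm⟩ := hbasis U hU
    refine Filter.mem_map.2 ?_
    filter_upwards [eventually_ge_atTop m] with j hj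
    exact hm (hmono hj (subset_closure (hc j i)))
  have hlim1 : Tendsto (fun N => ∑ i, (∑ j ∈ Finset.range N, c j i) * g i) atTop
      (nhds (∑ i, (∑' j, c j i) * g i)) := by
    refine tendsto_finset_sum _ fun i _ => ?_
    exact ((hsummable i).hasSum.tendsto_sum_nat).mul_const (g i)
  have hlim2 : Tendsto (fun N => x - xs N) atTop (nhds x) := by
    have h0 : Tendsto xs atTop (nhds 0) := by
      intro U hU
      obtain ⟨m, hm⟩ := hbasis U hU
      refine Filter.mem_map.2 ?_
      filter_upwards [eventually_ge_atTop m] with j hj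
      exact hm (hmono (le_trans hj (Nat.le_add_left j n)) (hxs j))
    have := (tendsto_const_nhds (x := x)).sub h0
    simpa using this
  have heq : x = ∑ i, (∑' j, c j i) * g i := by
    refine tendsto_nhds_unique hlim2 ?_
    simpa only [htel] using hlim1
  rw [heq, SetLike.mem_coe, ← hg]
  exact Ideal.sum_mem _ fun i _ => Ideal.mul_mem_left _ _ (Ideal.subset_span ⟨i, rfl⟩)

theorem h5_isAdic_of_fg (I : Ideal A) [T2Space A] [CompleteSpace A] (hfg : I.FG)
    (hopen : ∀ n : ℕ, IsOpen (closure ((I ^ n : Ideal A) : Set A)))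
    (hbasis : ∀ U ∈ nhds (0 : A), ∃ n : ℕ, closure ((I ^ n : Ideal A) : Set A) ⊆ U) :
    IsAdic I := by
  have heq : ∀ n : ℕ, closure ((I ^ n : Ideal A) : Set A) = (I ^ n : Ideal A) := fun n =>
    Set.Subset.antisymm (h5_closure_pow_subset I hfg hopen hbasis n) subset_closure
  rw [isAdic_iff]
  refine ⟨fun n => ?_, fun U hU => ?_⟩
  · rw [← heq n]
    exact hopen n
  · obtain ⟨n, hn⟩ := hbasis U hU
    exact ⟨n, subset_closure.trans hn⟩

end

end LinTop
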