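import Mathlib
import Groth.Prelude.Def_W4stk3formalspacesTaut
import Groth.Agent.Lib.helper5.LinTopBasic
import Groth.Agent.Lib.helper5.LinTopBasic2
import Groth.Agent.Lib.helper5.LinTopAdic

set_option autoImplicit false
universe u v w
open Filter Topology

namespace LinTop

section

variable {A : Type u} [CommRing A] [TopologicalSpace A] [IsTopologicalRing A]
  [IsLinearTopology A A]
variable {B : Type v} [CommRing B] [TopologicalSpace B] [IsTopologicalRing B]

theorem h5_comap_closure_map_le_closure (φ : A →+* B) (hφ : IsTautFFlat φ) (K : Ideal A) :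
    ((K.map φ).closure).comap φ ≤ K.closure := by
  intro x hx
  rw [← SetLike.mem_coe, Ideal.coe_closure, h5_mem_closure_ideal_iff]
  intro L hL
  have hopen : IsOpen ((K ⊔ L : Ideal A) : Set A) :=
    Ideal.isOpen_of_isOpen_subideal le_sup_right hL
  rw [← h5_comap_closure_map_eq φ hφ _ hopen]
  exact Ideal.comap_mono (h5_closure_mono (Ideal.map_mono le_sup_left)) hx

omit [TopologicalSpace A] [IsTopologicalRing A] [IsLinearTopology A A] [TopologicalSpace B]
  [IsTopologicalRing B] in
theorem h5_exists_fg_le_of_mem_map (φ : A →+* B) (I : Ideal A) (z : B) (hz : z ∈ I.map φ) :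
    ∃ I' : Ideal A, I' ≤ I ∧ I'.FG ∧ z ∈ I'.map φ := by
  classical
  rw [Ideal.map] at hz
  obtain ⟨T, hT, hzT⟩ := Submodule.mem_span_finite_of_mem_span hz
  obtain ⟨s', hs', rfl⟩ := Finset.subset_set_image_iff.1 hT
  refine ⟨Ideal.span (s' : Set A), Ideal.span_le.2 hs', ⟨s', rfl⟩, ?_⟩
  rw [Ideal.map_span]
  simpa using hzT

omit [TopologicalSpace A] [IsTopologicalRing A] [IsLinearTopology A A] in
theorem h5_isLinearTopology_of_isAdic {J : Ideal B} (h : IsAdic J) : IsLinearTopology B B := by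
  rw [isLinearTopology_iff_hasBasis_ideal]
  refine ⟨fun U => ⟨fun hU => ?_, ?_⟩⟩
  · obtain ⟨n, -, hn⟩ := h.hasBasis_nhds_zero.mem_iff.1 hU
    exact ⟨J ^ n, ((isAdic_iff.1 h).1 n).mem_nhds (Ideal.zero_mem _), hn⟩
  · rintro ⟨I, hI, hIU⟩
    exact Filter.mem_of_superset hI hIU

end

end LinTop
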