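import Mathlib
import Groth.Prelude.Def_W4stk3formalspacesTaut
import Groth.Agent.Lib.helper5.LinTopBasic

set_option autoImplicit false
universe u v w
open Filter Topology UniformSpace

namespace LinTop

section WP

variable {A : Type u} [CommRing A] [TopologicalSpace A] [IsTopologicalRing A]
variable {B : Type v} [CommRing B] [TopologicalSpace B] [IsTopologicalRing B]
  [IsLinearTopology B B]

theorem h5_isWeaklyPreadic_of_isTaut (φ : A →+* B) (hφ : IsTaut φ) (hA : IsWeaklyPreadic A) :
    IsWeaklyPreadic B := by
  obtain ⟨_, I, hIo, hIb⟩ := hA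
  obtain ⟨hc, h2, h3⟩ := hφ
  refine ⟨inferInstance, I.map φ, fun n => ?_, fun U hU => ?_⟩
  · have hopen := h2 (I ^ n).closure (by rw [Ideal.coe_closure]; exact hIo n)
    have hle : ((I ^ n).closure.map φ) ≤ ((I.map φ) ^ n).closure := by
      rw [Ideal.map_le_iff_le_comap]
      intro a ha
      rw [Ideal.mem_comap, ← SetLike.mem_coe, Ideal.coe_closure]
      rw [← SetLike.mem_coe, Ideal.coe_closure] at ha
      refine map_mem_closure hc ha (fun b hb => ?_)
      rw [← Ideal.map_pow]
      exact Ideal.mem_map_of_mem φ hb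
    rw [← Ideal.coe_closure] at hopen ⊢
    refine Ideal.isOpen_of_isOpen_subideal ?_ hopen
    exact h5_closure_le_of_isClosed hle (h5_isClosed_closure _)
  · obtain ⟨K, hK, hKU⟩ := h3 U hU
    obtain ⟨n, hn⟩ := hIb K (hK.mem_nhds K.zero_mem)
    refine ⟨n, (closure_mono (SetLike.coe_subset_coe.2 ?_)).trans hKU⟩
    rw [← Ideal.map_pow]
    exact Ideal.map_mono (fun a ha => hn (subset_closure ha))

end WP

section Compl

variable {A : Type u} [CommRing A] [UniformSpace A] [IsUniformAddGroup A] [IsTopologicalRing A]

theorem h5_compl_mul_mem (I : Ideal A) (x y : Completion A)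
    (hy : y ∈ closure ((fun a : A => (a : Completion A)) '' (I : Set A))) :
    x * y ∈ closure ((fun a : A => (a : Completion A)) '' (I : Set A)) := by
  have hx : x ∈ closure (Set.range (fun a : A => (a : Completion A))) :=
    Completion.denseRange_coe x
  refine map_mem_closure₂ (f := fun a b : Completion A => a * b) continuous_mul hx hy ?_
  rintro _ ⟨a, rfl⟩ _ ⟨b, hb, rfl⟩
  exact ⟨a * b, I.mul_mem_left a hb, Completion.coe_mul a b⟩

theorem h5_compl_map_le (I : Ideal A) :
    ((I.map (Completion.coeRingHom : A →+* Completion A) : Ideal (Completion A)) :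
        Set (Completion A)) ⊆
      closure ((fun a : A => (a : Completion A)) '' (I : Set A)) := by
  intro z hz
  rw [SetLike.mem_coe, Ideal.map] at hz
  refine Submodule.span_induction ?_ ?_ ?_ ?_ hz
  · rintro _ ⟨a, ha, rfl⟩
    exact subset_closure ⟨a, ha, rfl⟩
  · exact subset_closure ⟨0, I.zero_mem, Completion.coe_zero⟩
  · intro x y _ _ hx hy
    refine map_mem_closure₂ (f := fun a b : Completion A => a + b) continuous_add hx hy ?_
    rintro _ ⟨a, ha, rfl⟩ _ ⟨b, hb, rfl⟩
    exact ⟨a + b, I.add_mem ha hb, Completion.coe_add a b⟩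
  · intro a x _ hx
    exact h5_compl_mul_mem I a x hx

theorem h5_compl_isOpen_closure_map (I : Ideal A) (hI : IsOpen (I : Set A)) :
    IsOpen (closure ((I.map (Completion.coeRingHom : A →+* Completion A) :
      Ideal (Completion A)) : Set (Completion A))) := by
  have h1 : closure ((fun a : A => (a : Completion A)) '' (I : Set A)) ∈
      nhds ((0 : A) : Completion A) :=
    Completion.isDenseInducing_coe.closure_image_mem_nhds (hI.mem_nhds I.zero_mem)
  rw [Completion.coe_zero] at h1
  have h2 : closure (((I.map (Completion.coeRingHom : A →+* Completion A) :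
      Ideal (Completion A)) : Set (Completion A))) ∈ nhds (0 : Completion A) := by
    refine Filter.mem_of_superset h1 (closure_mono ?_)
    rintro _ ⟨a, ha, rfl⟩
    exact Ideal.mem_map_of_mem (Completion.coeRingHom : A →+* Completion A) ha
  rw [← Ideal.coe_closure] at h2 ⊢
  exact AddSubgroup.isOpen_of_mem_nhds
    ((I.map (Completion.coeRingHom : A →+* Completion A)).closure.toAddSubgroup) h2

theorem h5_compl_exists_open [IsLinearTopology A A] (U : Set (Completion A))
    (hU : U ∈ nhds (0 : Completion A)) :
    ∃ I : Ideal A, IsOpen (I : Set A) ∧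
      closure ((I.map (Completion.coeRingHom : A →+* Completion A) :
        Ideal (Completion A)) : Set (Completion A)) ⊆ U := by
  obtain ⟨V, hV, hVc, hVU⟩ := exists_mem_nhds_isClosed_subset hU
  have hpre : (fun a : A => (a : Completion A)) ⁻¹' V ∈ nhds (0 : A) := by
    refine (Completion.continuous_coe A).continuousAt.preimage_mem_nhds ?_
    rw [Completion.coe_zero]
    exact hV
  obtain ⟨I, hI, hIV⟩ := h5_exists_open_ideal_subset hpre
  refine ⟨I, hI, ?_⟩
  refine (closure_minimal ((h5_compl_map_le I).trans (closure_minimal ?_ hVc)) hVc).trans hVU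
  rintro _ ⟨a, ha, rfl⟩
  exact hIV ha

theorem h5_compl_isTaut [IsLinearTopology A A] :
    IsTaut (Completion.coeRingHom : A →+* Completion A) :=
  ⟨Completion.continuous_coeRingHom, h5_compl_isOpen_closure_map,
    fun U hU => h5_compl_exists_open U hU⟩

theorem h5_compl_isLinearTopology [IsLinearTopology A A] :
    IsLinearTopology (Completion A) (Completion A) := by
  rw [isLinearTopology_iff_hasBasis_ideal]
  refine ⟨fun U => ⟨fun hU => ?_, ?_⟩⟩
  · obtain ⟨I, hI, hIU⟩ := h5_compl_exists_open U hU
    refine ⟨(I.map (Completion.coeRingHom : A →+* Completion A)).closure, ?_, ?_⟩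
    · rw [Ideal.coe_closure]
      exact (h5_compl_isOpen_closure_map I hI).mem_nhds (subset_closure (Ideal.zero_mem _))
    · rw [Ideal.coe_closure]
      exact hIU
  · rintro ⟨I, hI, hIU⟩
    exact Filter.mem_of_superset hI hIU

end Compl

end LinTop
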