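import Mathlib

set_option autoImplicit false
universe u v w
open Filter Topology UniformSpace

namespace LinTop

section Compl

variable {G : Type u} [AddCommGroup G] [UniformSpace G] [IsUniformAddGroup G]

/-- Closures of images of a basis of neighbourhoods of zero form a basis in the completion. -/
theorem h5_compl_hasBasis {ι : Type w} (B : ι → Set G)
    (hB : (nhds (0 : G)).HasBasis (fun _ => True) B) :
    (nhds (0 : Completion G)).HasBasis (fun _ => True)
      (fun k => closure ((fun g : G => (g : Completion G)) '' B k)) := by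
  refine ⟨fun U => ⟨fun hU => ?_, ?_⟩⟩
  · obtain ⟨V, hV, hVc, hVU⟩ := exists_mem_nhds_isClosed_subset hU
    have hpre : (fun g : G => (g : Completion G)) ⁻¹' V ∈ nhds (0 : G) := by
      refine (Completion.continuous_coe G).continuousAt.preimage_mem_nhds ?_
      rw [Completion.coe_zero]
      exact hV
    obtain ⟨k, -, hk⟩ := hB.mem_iff.1 hpre
    refine ⟨k, trivial, (closure_minimal ?_ hVc).trans hVU⟩
    rintro _ ⟨g, hg, rfl⟩
    exact hk hg
  · rintro ⟨k, -, hk⟩
    have h1 : closure ((fun g : G => (g : Completion G)) '' B k) ∈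
        nhds ((0 : G) : Completion G) :=
      Completion.isDenseInducing_coe.closure_image_mem_nhds (hB.mem_of_mem trivial)
    rw [Completion.coe_zero] at h1
    exact Filter.mem_of_superset h1 hk

end Compl

section Approx

variable {G : Type u} [AddCommGroup G] [UniformSpace G] [IsUniformAddGroup G] [CompleteSpace G]
variable {H : Type v} [AddCommGroup H] [TopologicalSpace H] [IsTopologicalAddGroup H] [T2Space H]

theorem h5_lift_of_approx (f : G →+ H) (hf : Continuous f) (P : ℕ → AddSubgroup G)
    (hPo : ∀ k, IsOpen (P k : Set G)) (hPanti : Antitone P)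
    (hPb : ∀ U ∈ nhds (0 : G), ∃ k, (P k : Set G) ⊆ U)
    (Qs : ℕ → AddSubgroup H) (hQanti : Antitone Qs)
    (hQb : ∀ U ∈ nhds (0 : H), ∃ k, (Qs k : Set H) ⊆ U)
    (happ : ∀ (k : ℕ) (q : H), q ∈ Qs k → ∃ p ∈ P k, q - f p ∈ Qs (k + 1)) :
    ∀ (n : ℕ) (b : H), b ∈ Qs n → ∃ a ∈ P n, f a = b := by
  haveI : NonarchimedeanAddGroup G :=
    { is_nonarchimedean := fun U hU => by
        obtain ⟨k, hk⟩ := hPb U hU
        exact ⟨⟨P k, hPo k⟩, hk⟩ }
  intro n b hb
  have step : ∀ (k : ℕ) (y : H), y ∈ Qs (n + k) → ∃ a ∈ P (n + k), y - f a ∈ Qs (n + k + 1) :=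
    fun k y hy => happ (n + k) y hy
  choose! a ha1 ha2 using step
  let bs : ℕ → H := fun k => Nat.rec b (fun k y => y - f (a k y)) k
  have hbs : ∀ k, bs k ∈ Qs (n + k) := by
    intro k
    induction k with
    | zero => exact hb
    | succ k ih => exact ha2 k (bs k) ih
  let av : ℕ → G := fun k => a k (bs k)
  have hav : ∀ k, av k ∈ P (n + k) := fun k => ha1 k (bs k) (hbs k)
  have hrec : ∀ k, bs (k + 1) = bs k - f (av k) := fun k => rfl
  have htel : ∀ N, b - bs N = f (∑ k ∈ Finset.range N, av k) := by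
    intro N
    induction N with
    | zero =>
      simp only [Finset.range_zero, Finset.sum_empty, map_zero]
      exact sub_self b
    | succ N ih =>
      rw [hrec, Finset.sum_range_succ, map_add, ← ih]
      abel
  have hsummable : Summable av := by
    refine NonarchimedeanAddGroup.summable_of_tendsto_cofinite_zero ?_
    rw [Nat.cofinite_eq_atTop]
    intro U hU
    obtain ⟨m, hm⟩ := hPb U hU
    refine Filter.mem_map.2 ?_
    filter_upwards [eventually_ge_atTop m] with k hk
    exact hm (hPanti (le_trans hk (Nat.le_add_left k n)) (hav k))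
  refine ⟨∑' k, av k, ?_, ?_⟩
  · have hclosed : IsClosed ((P n : AddSubgroup G) : Set G) :=
      AddSubgroup.isClosed_of_isOpen _ (hPo n)
    refine hclosed.mem_of_tendsto hsummable.hasSum.tendsto_sum_nat
      (Filter.Eventually.of_forall fun N => ?_)
    exact AddSubgroup.sum_mem _ fun k _ => hPanti (Nat.le_add_right n k) (hav k)
  · have hlim1 : Tendsto (fun N => f (∑ k ∈ Finset.range N, av k)) atTop
        (nhds (f (∑' k, av k))) :=
      (hf.tendsto _).comp hsummable.hasSum.tendsto_sum_nat
    have hlim2 : Tendsto (fun N => b - bs N) atTop (nhds b) := by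
      have h0 : Tendsto bs atTop (nhds 0) := by
        intro U hU
        obtain ⟨m, hm⟩ := hQb U hU
        refine Filter.mem_map.2 ?_
        filter_upwards [eventually_ge_atTop m] with k hk
        exact hm (hQanti (le_trans hk (Nat.le_add_left k n)) (hbs k))
      simpa using (tendsto_const_nhds (x := b)).sub h0
    refine tendsto_nhds_unique hlim1 ?_
    simpa only [htel] using hlim2

end Approx

section OpenMap

variable {G : Type u} [AddCommGroup G] [TopologicalSpace G] [IsTopologicalAddGroup G]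
variable {H : Type v} [AddCommGroup H] [TopologicalSpace H] [IsTopologicalAddGroup H]

theorem h5_isOpenMap_of_lift (f : G →+ H) (P : ℕ → AddSubgroup G)
    (hPb : ∀ U ∈ nhds (0 : G), ∃ k, (P k : Set G) ⊆ U)
    (Qs : ℕ → AddSubgroup H) (hQn : ∀ k, (Qs k : Set H) ∈ nhds (0 : H))
    (hlift : ∀ (n : ℕ) (b : H), b ∈ Qs n → ∃ a ∈ P n, f a = b) : IsOpenMap f := by
  refine isOpenMap_iff_nhds_le.2 fun a => ?_
  intro V hV
  rw [Filter.mem_map] at hV
  have h0 : (fun y => a + y) ⁻¹' (f ⁻¹' V) ∈ nhds (0 : G) := by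
    have : Tendsto (fun y => a + y) (nhds 0) (nhds a) := by
      have := (continuous_add_left a).tendsto 0
      simpa using this
    exact this hV
  obtain ⟨n, hn⟩ := hPb _ h0
  have hsub : (fun y => f a + y) '' (Qs n : Set H) ⊆ V := by
    rintro _ ⟨y, hy, rfl⟩
    obtain ⟨a', ha', rfl⟩ := hlift n y hy
    have : f (a + a') ∈ V := hn ha'
    rw [map_add] at this
    exact this
  refine Filter.mem_of_superset ?_ hsub
  rw [← map_add_left_nhds_zero (f a)]
  exact Filter.image_mem_map (hQn n)

theorem h5_surjective_of_lift (f : G →+ H) (hd : DenseRange f) (P : ℕ → AddSubgroup G)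
    (Qs : ℕ → AddSubgroup H) (hQn : ∀ k, (Qs k : Set H) ∈ nhds (0 : H))
    (hlift : ∀ (n : ℕ) (b : H), b ∈ Qs n → ∃ a ∈ P n, f a = b) : Function.Surjective f := by
  intro b
  have hnb : (fun y => b + y) '' (Qs 0 : Set H) ∈ nhds b := by
    rw [← map_add_left_nhds_zero b]
    exact Filter.image_mem_map (hQn 0)
  obtain ⟨a, y, hy, hya⟩ := hd.mem_nhds hnb
  have hya' : b + y = f a := hya
  obtain ⟨a', -, ha'⟩ := hlift 0 (-y) ((Qs 0).neg_mem hy)
  refine ⟨a + a', ?_⟩
  rw [map_add, ha', ← hya']
  abel

end OpenMap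

end LinTop
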