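import Mathlib
import Groth.Agent.Lib.helper5.LinTopGrp

set_option autoImplicit false
universe u v
open Filter Topology UniformSpace

namespace LinTop

section ModAdic

variable {R : Type u} [CommRing R] {M : Type v} [AddCommGroup M] [Module R M] [UniformSpace M]
  [IsUniformAddGroup M] [UniformContinuousConstSMul R M]

/-- The canonical map to the completion as a linear map. -/
noncomputable def h5ιlin : M →ₗ[R] Completion M where
  toFun := fun m => (m : Completion M)
  map_add' := fun a b => Completion.coe_add a b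
  map_smul' := fun r m => Completion.coe_smul r m

theorem h5ιlin_apply (m : M) : (h5ιlin (R := R) m) = (m : Completion M) := rfl

/-- closure of the image of a submodule -/
noncomputable def h5Cl (P : Submodule R M) : Submodule R (Completion M) :=
  (P.map (h5ιlin (R := R))).topologicalClosure

theorem h5Cl_coe (P : Submodule R M) :
    ((h5Cl P : Submodule R (Completion M)) : Set (Completion M)) =
      closure ((fun m : M => (m : Completion M)) '' (P : Set M)) := by
  rw [h5Cl, Submodule.topologicalClosure_coe, Submodule.map_coe]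
  rfl

theorem h5Cl_mono {P Q : Submodule R M} (h : P ≤ Q) : h5Cl P ≤ h5Cl Q :=
  Submodule.topologicalClosure_mono (Submodule.map_mono h)

theorem h5_coe_mem_cl {P : Submodule R M} {m : M} (h : m ∈ P) :
    (m : Completion M) ∈ h5Cl P :=
  Submodule.le_topologicalClosure _ ⟨m, h, rfl⟩

theorem h5_isClosed_cl (P : Submodule R M) :
    IsClosed ((h5Cl P : Submodule R (Completion M)) : Set (Completion M)) :=
  Submodule.isClosed_topologicalClosure _

theorem h5_smul_cl_le (J : Ideal R) (P : Submodule R M) : J • h5Cl P ≤ h5Cl (J • P) := by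
  refine Submodule.smul_le.2 fun a ha x hx => ?_
  have hx' : x ∈ closure ((fun m : M => (m : Completion M)) '' (P : Set M)) := by
    rw [← h5Cl_coe]
    exact hx
  have h1 : a • x ∈ closure ((fun m : M => (m : Completion M)) '' ((J • P : Submodule R M) : Set M)) := by
    refine map_mem_closure (continuous_const_smul a) hx' ?_
    rintro _ ⟨p, hp, rfl⟩
    refine ⟨a • p, Submodule.smul_mem_smul ha hp, ?_⟩
    exact Completion.coe_smul a p
  rw [← h5Cl_coe] at h1
  exact h1

theorem h5_exists_sum_of_mem_smul {s : ℕ} (g : Fin s → R) (N : Submodule R M) (w : M)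
    (hw : w ∈ Ideal.span (Set.range g) • N) :
    ∃ c : Fin s → M, (∀ i, c i ∈ N) ∧ w = ∑ i, g i • c i := by
  refine Submodule.smul_induction_on hw ?_ ?_
  · intro r hr m hm
    obtain ⟨f, hf⟩ := Ideal.mem_span_range_iff_exists_fun.1 hr
    refine ⟨fun i => f i • m, fun i => N.smul_mem _ hm, ?_⟩
    rw [← hf, Finset.sum_smul]
    refine Finset.sum_congr rfl fun i _ => ?_
    rw [smul_smul, mul_comm]
  · rintro x y ⟨c, hc, rfl⟩ ⟨d, hd, rfl⟩
    refine ⟨fun i => c i + d i, fun i => N.add_mem (hc i) (hd i), ?_⟩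
    rw [← Finset.sum_add_distrib]
    exact Finset.sum_congr rfl fun i _ => (smul_add _ _ _).symm

theorem h5_exists_sub_mem (C : Submodule R (Completion M))
    (hC : IsOpen (C : Set (Completion M))) (x : Completion M) :
    ∃ m : M, x - (m : Completion M) ∈ C := by
  have hopen : IsOpen ((fun y : Completion M => x - y) ⁻¹' (C : Set (Completion M))) :=
    hC.preimage (continuous_const.sub continuous_id)
  have hne : ((fun y : Completion M => x - y) ⁻¹' (C : Set (Completion M))).Nonempty :=
    ⟨x, by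
      show x - x ∈ C
      rw [sub_self]
      exact C.zero_mem⟩
  obtain ⟨m, hm⟩ := Completion.denseRange_coe.exists_mem_open hopen hne
  exact ⟨m, hm⟩

theorem h5_exists_sub_mem_of_mem_cl (C : Submodule R (Completion M))
    (hC : IsOpen (C : Set (Completion M))) (P : Submodule R M) (x : Completion M)
    (hx : x ∈ h5Cl P) :
    ∃ m ∈ P, x - (m : Completion M) ∈ C := by
  have hopen : IsOpen ((fun y : Completion M => x - y) ⁻¹' (C : Set (Completion M))) :=
    hC.preimage (continuous_const.sub continuous_id)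
  have hxm : x ∈ (fun y : Completion M => x - y) ⁻¹' (C : Set (Completion M)) := by
    show x - x ∈ C
    rw [sub_self]
    exact C.zero_mem
  have hx' : x ∈ closure ((fun m : M => (m : Completion M)) '' (P : Set M)) := by
    rw [← h5Cl_coe]
    exact hx
  obtain ⟨_, hy1, ⟨m, hm, rfl⟩⟩ := mem_closure_iff.1 hx' _ hopen hxm
  exact ⟨m, hm, hy1⟩

theorem h5_coe_mem_cl_iff (P : Submodule R M) (hP : IsOpen (P : Set M)) (m : M) :
    (m : Completion M) ∈ h5Cl (R := R) P ↔ m ∈ P := by
  constructor
  · intro h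
    have h1 : (m : Completion M) ∈ closure ((fun m : M => (m : Completion M)) '' (P : Set M)) := by
      rw [← h5Cl_coe]
      exact h
    have h2 : m ∈ closure (P : Set M) := by
      rw [(Completion.isUniformInducing_coe M).isInducing.closure_eq_preimage_closure_image]
      exact h1
    have hclosed : IsClosed (P : Set M) := AddSubgroup.isClosed_of_isOpen P.toAddSubgroup hP
    rwa [hclosed.closure_eq] at h2
  · intro h
    exact h5_coe_mem_cl h

section Main

variable (I : Ideal R) (M' : Submodule R M)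

theorem h5_cl_isOpen (hopen : ∀ n : ℕ, IsOpen ((I ^ n • M' : Submodule R M) : Set M))
    (hbasis : ∀ U ∈ nhds (0 : M), ∃ n : ℕ, ((I ^ n • M' : Submodule R M) : Set M) ⊆ U) (k : ℕ) :
    IsOpen ((h5Cl (I ^ k • M') : Submodule R (Completion M)) : Set (Completion M)) := by
  have hB : (nhds (0 : M)).HasBasis (fun _ : ℕ => True)
      (fun n => ((I ^ n • M' : Submodule R M) : Set M)) :=
    ⟨fun U => ⟨fun hU => by
      obtain ⟨n, hn⟩ := hbasis U hU
      exact ⟨n, trivial, hn⟩, fun ⟨n, _, hn⟩ =>
      Filter.mem_of_superset ((hopen n).mem_nhds (Submodule.zero_mem _)) hn⟩⟩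
  have h1 := (h5_compl_hasBasis _ hB).mem_of_mem (i := k) trivial
  have h2 : ((h5Cl (I ^ k • M') : Submodule R (Completion M)).toAddSubgroup : Set (Completion M)) ∈
      nhds (0 : Completion M) := by
    show ((h5Cl (I ^ k • M') : Submodule R (Completion M)) : Set (Completion M)) ∈ _
    rw [h5Cl_coe]
    exact h1
  exact AddSubgroup.isOpen_of_mem_nhds _ h2

theorem h5_cl_basis (hopen : ∀ n : ℕ, IsOpen ((I ^ n • M' : Submodule R M) : Set M))
    (hbasis : ∀ U ∈ nhds (0 : M), ∃ n : ℕ, ((I ^ n • M' : Submodule R M) : Set M) ⊆ U) :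
    ∀ U ∈ nhds (0 : Completion M), ∃ k : ℕ,
      ((h5Cl (I ^ k • M') : Submodule R (Completion M)) : Set (Completion M)) ⊆ U := by
  have hB : (nhds (0 : M)).HasBasis (fun _ : ℕ => True)
      (fun n => ((I ^ n • M' : Submodule R M) : Set M)) :=
    ⟨fun U => ⟨fun hU => by
      obtain ⟨n, hn⟩ := hbasis U hU
      exact ⟨n, trivial, hn⟩, fun ⟨n, _, hn⟩ =>
      Filter.mem_of_superset ((hopen n).mem_nhds (Submodule.zero_mem _)) hn⟩⟩
  intro U hU
  obtain ⟨k, -, hk⟩ := (h5_compl_hasBasis _ hB).mem_iff.1 hU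
  refine ⟨k, ?_⟩
  rw [h5Cl_coe]
  exact hk

theorem h5_mod_approx_step
    (hCopen : ∀ k, IsOpen ((h5Cl (I ^ k • M') : Submodule R (Completion M)) : Set (Completion M)))
    (n : ℕ) {s : ℕ} (g : Fin s → R) (hg : Ideal.span (Set.range g) = I ^ n) (j : ℕ)
    (y : Completion M) (hy : y ∈ h5Cl (I ^ (n + j) • M')) :
    ∃ c : Fin s → M, (∀ i, c i ∈ I ^ j • M') ∧
      y - ∑ i, g i • ((c i : M) : Completion M) ∈ h5Cl (I ^ (n + j + 1) • M') := by
  obtain ⟨z, hz, hyz⟩ := h5_exists_sub_mem_of_mem_cl _ (hCopen (n + j + 1)) _ y hy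
  have hz' : z ∈ Ideal.span (Set.range g) • (I ^ j • M') := by
    rw [hg, ← Submodule.mul_smul, ← pow_add]
    exact hz
  obtain ⟨c, hc, hzc⟩ := h5_exists_sum_of_mem_smul g _ z hz'
  refine ⟨c, hc, ?_⟩
  have : ((z : M) : Completion M) = ∑ i, g i • ((c i : M) : Completion M) := by
    rw [hzc]
    have := map_sum (h5ιlin (R := R) (M := M)) (fun i => g i • c i) Finset.univ
    rw [h5ιlin_apply] at this
    rw [this]
    refine Finset.sum_congr rfl fun i _ => ?_
    exact Completion.coe_smul (g i) (c i)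
  rw [← this]
  exact hyz

theorem h5_cl_le_smul (hI : I.FG)
    (hCopen : ∀ k, IsOpen ((h5Cl (I ^ k • M') : Submodule R (Completion M)) : Set (Completion M)))
    (hCbasis : ∀ U ∈ nhds (0 : Completion M), ∃ k : ℕ,
      ((h5Cl (I ^ k • M') : Submodule R (Completion M)) : Set (Completion M)) ⊆ U) (n : ℕ) :
    h5Cl (I ^ n • M') ≤ I ^ n • h5Cl (I ^ 0 • M') := by
  haveI : NonarchimedeanAddGroup (Completion M) :=
    { is_nonarchimedean := fun U hU => by
        obtain ⟨k, hk⟩ := hCbasis U hU
        exact ⟨⟨(h5Cl (I ^ k • M')).toAddSubgroup, hCopen k⟩, hk⟩ }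
  obtain ⟨s, g, hg⟩ := Submodule.fg_iff_exists_fin_generating_family.1 (hI.pow (n := n))
  have step := h5_mod_approx_step I M' hCopen n g hg
  choose! a ha1 ha2 using step
  intro x hx
  let xs : ℕ → Completion M :=
    fun j => Nat.rec x (fun j y => y - ∑ i, g i • ((a j y i : M) : Completion M)) j
  have hxs : ∀ j, xs j ∈ h5Cl (I ^ (n + j) • M') := by
    intro j
    induction j with
    | zero => exact hx
    | succ j ih => exact ha2 j (xs j) ih
  let c : ℕ → Fin s → M := fun j i => a j (xs j) i
  have hc : ∀ j i, c j i ∈ I ^ j • M' := fun j i => ha1 j (xs j) (hxs j) i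
  have hrec : ∀ j, xs (j + 1) = xs j - ∑ i, g i • ((c j i : M) : Completion M) := fun j => rfl
  have htel : ∀ N, x - xs N =
      ∑ i, g i • (∑ j ∈ Finset.range N, ((c j i : M) : Completion M)) := by
    intro N
    induction N with
    | zero =>
      simp only [Finset.range_zero, Finset.sum_empty, smul_zero, Finset.sum_const_zero]
      exact sub_self x
    | succ N ih =>
      rw [hrec, ← sub_add, ih, ← Finset.sum_add_distrib]
      refine Finset.sum_congr rfl fun i _ => ?_
      rw [Finset.sum_range_succ, smul_add]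
  have hmono : ∀ {m k : ℕ}, m ≤ k → h5Cl (I ^ k • M') ≤ h5Cl (I ^ m • M') := fun h =>
    h5Cl_mono (Submodule.smul_mono_left (Ideal.pow_le_pow_right h))
  have hsummable : ∀ i, Summable (fun j => ((c j i : M) : Completion M)) := by
    intro i
    refine NonarchimedeanAddGroup.summable_of_tendsto_cofinite_zero ?_
    rw [Nat.cofinite_eq_atTop]
    intro U hU
    obtain ⟨m, hm⟩ := hCbasis U hU
    refine Filter.mem_map.2 ?_
    filter_upwards [eventually_ge_atTop m] with j hj
    exact hm (hmono hj (h5_coe_mem_cl (hc j i)))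
  have hlim1 : Tendsto (fun N => ∑ i, g i • (∑ j ∈ Finset.range N, ((c j i : M) : Completion M)))
      atTop (nhds (∑ i, g i • (∑' j, ((c j i : M) : Completion M)))) := by
    refine tendsto_finset_sum _ fun i _ => ?_
    exact ((hsummable i).hasSum.tendsto_sum_nat).const_smul (g i)
  have hlim2 : Tendsto (fun N => x - xs N) atTop (nhds x) := by
    have h0 : Tendsto xs atTop (nhds 0) := by
      intro U hU
      obtain ⟨m, hm⟩ := hCbasis U hU
      refine Filter.mem_map.2 ?_
      filter_upwards [eventually_ge_atTop m] with j hj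
      exact hm (hmono (le_trans hj (Nat.le_add_left j n)) (hxs j))
    have := (tendsto_const_nhds (x := x)).sub h0
    simpa using this
  have heq : x = ∑ i, g i • (∑' j, ((c j i : M) : Completion M)) := by
    refine tendsto_nhds_unique hlim2 ?_
    simpa only [htel] using hlim1
  have hmem : ∀ i, (∑' j, ((c j i : M) : Completion M)) ∈ h5Cl (I ^ 0 • M') := by
    intro i
    refine (h5_isClosed_cl (I ^ 0 • M')).mem_of_tendsto (hsummable i).hasSum.tendsto_sum_nat
      (Filter.Eventually.of_forall fun N => ?_)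
    exact Submodule.sum_mem _ fun j _ => hmono (Nat.zero_le j) (h5_coe_mem_cl (hc j i))
  rw [heq]
  refine Submodule.sum_mem _ fun i _ => Submodule.smul_mem_smul ?_ (hmem i)
  rw [← hg]
  exact Ideal.subset_span ⟨i, rfl⟩

theorem h5_pow_zero_smul : (I ^ 0 • M' : Submodule R M) = M' := by
  rw [pow_zero, Ideal.one_eq_top, Submodule.top_smul]

theorem h5_smul_cl_eq (hI : I.FG)
    (hopen : ∀ n : ℕ, IsOpen ((I ^ n • M' : Submodule R M) : Set M))
    (hbasis : ∀ U ∈ nhds (0 : M), ∃ n : ℕ, ((I ^ n • M' : Submodule R M) : Set M) ⊆ U) (n : ℕ) :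
    I ^ n • h5Cl M' = h5Cl (I ^ n • M') := by
  refine le_antisymm (h5_smul_cl_le _ _) ?_
  have := h5_cl_le_smul I M' hI (h5_cl_isOpen I M' hopen hbasis) (h5_cl_basis I M' hopen hbasis) n
  rw [h5_pow_zero_smul] at this
  exact this

theorem h5_mem_smul_top_decomp
    (hC0 : IsOpen ((h5Cl M' : Submodule R (Completion M)) : Set (Completion M))) (n : ℕ)
    (t : Completion M) (ht : t ∈ (I ^ n • ⊤ : Submodule R (Completion M))) :
    ∃ m₀ ∈ (I ^ n • ⊤ : Submodule R M), t - (m₀ : Completion M) ∈ h5Cl (I ^ n • M') := by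
  refine Submodule.smul_induction_on ht ?_ ?_
  · intro a ha x _
    obtain ⟨m₁, hm₁⟩ := h5_exists_sub_mem _ hC0 x
    refine ⟨a • m₁, Submodule.smul_mem_smul ha Submodule.mem_top, ?_⟩
    have : a • x - ((a • m₁ : M) : Completion M) = a • (x - (m₁ : Completion M)) := by
      rw [smul_sub, Completion.coe_smul]
    rw [this]
    exact h5_smul_cl_le _ _ (Submodule.smul_mem_smul ha hm₁)
  · rintro x y ⟨m₁, hm₁, h1⟩ ⟨m₂, hm₂, h2⟩
    refine ⟨m₁ + m₂, Submodule.add_mem _ hm₁ hm₂, ?_⟩
    have : x + y - ((m₁ + m₂ : M) : Completion M) =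
        (x - (m₁ : Completion M)) + (y - (m₂ : Completion M)) := by
      rw [Completion.coe_add]
      abel
    rw [this]
    exact Submodule.add_mem _ h1 h2

theorem h5_coe_mem_smul_top_iff
    (hopen : ∀ n : ℕ, IsOpen ((I ^ n • M' : Submodule R M) : Set M))
    (hC0 : IsOpen ((h5Cl M' : Submodule R (Completion M)) : Set (Completion M))) (n : ℕ) (m : M) :
    (m : Completion M) ∈ (I ^ n • ⊤ : Submodule R (Completion M)) ↔
      m ∈ (I ^ n • ⊤ : Submodule R M) := by
  constructor
  · intro h
    obtain ⟨m₀, hm₀, h1⟩ := h5_mem_smul_top_decomp I M' hC0 n _ h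
    have h2 : ((m - m₀ : M) : Completion M) ∈ h5Cl (I ^ n • M') := by
      rw [Completion.coe_sub]
      exact h1
    have h3 := (h5_coe_mem_cl_iff _ (hopen n) _).1 h2
    have h4 : m - m₀ ∈ (I ^ n • ⊤ : Submodule R M) :=
      Submodule.smul_mono (le_refl _) le_top h3
    have := Submodule.add_mem _ h4 hm₀
    rwa [sub_add_cancel] at this
  · intro h
    refine Submodule.smul_induction_on h ?_ ?_
    · intro a ha x _
      rw [Completion.coe_smul]
      exact Submodule.smul_mem_smul ha Submodule.mem_top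
    · intro x y hx hy
      rw [Completion.coe_add]
      exact Submodule.add_mem _ hx hy

end Main

end ModAdic

end LinTop
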