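import Mathlib
import Groth.Agent.Lib.helper5.Conormal

/-! Nakayama for localized spans. -/

namespace H5LocSpan

open Submodule

lemma localized_sup_smul_eq_top_iff {P : Type*} [CommRing P] (𝔮 : Ideal P) [𝔮.IsPrime]
    {M : Type*} [AddCommGroup M] [Module P M] [Module.Finite P M] (G : Set M) (I : Ideal P)
    (hI : I ≤ 𝔮) :
    (span P G ⊔ I • (⊤ : Submodule P M)).localized' (Localization.AtPrime 𝔮) 𝔮.primeCompl
        (LocalizedModule.mkLinearMap 𝔮.primeCompl M) = ⊤ ↔
      span (Localization.AtPrime 𝔮) ((LocalizedModule.mkLinearMap 𝔮.primeCompl M) '' G) = ⊤ := by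
  set f := LocalizedModule.mkLinearMap 𝔮.primeCompl M with hf
  have hsup := (Submodule.localized'gi (Localization.AtPrime 𝔮) 𝔮.primeCompl f).gc.l_sup
    (a₁ := span P G) (a₂ := I • (⊤ : Submodule P M))
  rw [hsup, Submodule.localized'_span]
  constructor
  · intro h
    rw [eq_top_iff]
    have hfin : (⊤ : Submodule (Localization.AtPrime 𝔮) (LocalizedModule 𝔮.primeCompl M)).FG :=
      Module.Finite.fg_top
    refine Submodule.le_of_le_smul_of_le_jacobson_bot
      (I := IsLocalRing.maximalIdeal (Localization.AtPrime 𝔮)) hfin ?_ ?_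
    · exact IsLocalRing.maximalIdeal_le_jacobson _
    · refine le_trans (le_of_eq h.symm) ?_
      refine sup_le_sup_left ?_ _
      rw [Submodule.localized'_eq_span, Submodule.span_le]
      rintro _ ⟨m, hm, rfl⟩
      induction hm using Submodule.smul_induction_on' with
      | smul i hi m' _ =>
        rw [map_smul, ← algebraMap_smul (Localization.AtPrime 𝔮) i (f m')]
        refine Submodule.smul_mem_smul ?_ trivial
        rw [IsLocalization.AtPrime.to_map_mem_maximal_iff (Localization.AtPrime 𝔮) 𝔮]
        exact hI hi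
      | add x _ y _ hx hy =>
        rw [map_add]
        exact add_mem hx hy
  · intro h
    rw [h, top_sup_eq]

lemma subsingleton_localized_iff {P B : Type*} [CommRing P] [CommRing B] [Algebra P B]
    (hsurj : Function.Surjective (algebraMap P B)) (q : Ideal B) [q.IsPrime]
    {M N : Type*} [AddCommGroup M] [Module P M] [AddCommGroup N] [Module B N] [Module P N]
    [IsScalarTower P B N] (g : M →ₗ[P] N) (hg : Function.Surjective g) :
    Subsingleton (LocalizedModule q.primeCompl N) ↔
      (LinearMap.ker g).localized' (Localization.AtPrime (q.comap (algebraMap P B)))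
        (q.comap (algebraMap P B)).primeCompl
        (LocalizedModule.mkLinearMap (q.comap (algebraMap P B)).primeCompl M) = ⊤ := by
  set 𝔮 : Ideal P := q.comap (algebraMap P B) with h𝔮
  set f := LocalizedModule.mkLinearMap 𝔮.primeCompl M with hf
  rw [LocalizedModule.subsingleton_iff, eq_top_iff]
  constructor
  · intro h x _
    obtain ⟨⟨m, s⟩, rfl⟩ := IsLocalizedModule.mk'_surjective 𝔮.primeCompl f x
    obtain ⟨t, ht, htm⟩ := h (g m)
    obtain ⟨s', rfl⟩ := hsurj t
    have hs' : s' ∈ 𝔮.primeCompl := ht
    refine ⟨s' • m, ?_, ⟨s', hs'⟩ * s, ?_⟩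
    · rw [LinearMap.mem_ker, map_smul, ← algebraMap_smul B s' (g m)]
      exact htm
    · exact IsLocalizedModule.mk'_cancel_left f m ⟨s', hs'⟩ s
  · intro h n
    obtain ⟨m, rfl⟩ := hg n
    obtain ⟨w, hw, s, hws⟩ := h (trivial : IsLocalizedModule.mk' f m (1 : 𝔮.primeCompl) ∈ ⊤)
    rw [IsLocalizedModule.mk'_eq_mk'_iff] at hws
    obtain ⟨u, hu⟩ := hws
    refine ⟨algebraMap P B ((u : P) * (s : P)), ?_, ?_⟩
    · exact (u * s).2
    · have hu' : (u : P) • (s : P) • m = (u : P) • ((1 : 𝔮.primeCompl) : P) • w := hu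
      have h1 : g ((u : P) • (s : P) • m) = 0 := by
        rw [hu', map_smul, map_smul, LinearMap.mem_ker.mp hw, smul_zero, smul_zero]
      rw [map_smul, map_smul] at h1
      rw [algebraMap_smul, mul_smul]
      exact h1

open TensorProduct in
/-- Kernel of `Ω[P⁄A] → Ω[B⁄A]` for a surjection `P → B` with kernel `I`:
it is `span {dg | g ∈ I} + I • Ω`. -/
lemma ker_map_eq {A P B : Type*} [CommRing A] [CommRing P] [CommRing B] [Algebra A P]
    [Algebra A B] [Algebra P B] [IsScalarTower A P B]
    (hsurj : Function.Surjective (algebraMap P B)) :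
    LinearMap.ker (KaehlerDifferential.map A A P B) =
      Submodule.span P ((KaehlerDifferential.D A P) '' (RingHom.ker (algebraMap P B) : Set P)) ⊔
        (RingHom.ker (algebraMap P B)) • (⊤ : Submodule P Ω[P⁄A]) := by
  apply le_antisymm
  · intro ω hω
    have hex := KaehlerDifferential.exact_kerCotangentToTensor_mapBaseChange A P B hsurj
    have h0 : KaehlerDifferential.mapBaseChange A P B ((1 : B) ⊗ₜ[P] ω) = 0 := by
      rw [KaehlerDifferential.mapBaseChange_tmul, one_smul]
      exact hω
    obtain ⟨z, hz⟩ := (hex _).mp h0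
    obtain ⟨g, rfl⟩ := Ideal.toCotangent_surjective _ z
    rw [KaehlerDifferential.kerCotangentToTensor_toCotangent] at hz
    have h1 : (1 : B) ⊗ₜ[P] (ω - KaehlerDifferential.D A P (g : P)) = 0 := by
      rw [TensorProduct.tmul_sub, hz, sub_self]
    have h2 := H5Conormal.mem_smul_top_of_one_tmul_eq_zero hsurj _ h1
    have : ω = KaehlerDifferential.D A P (g : P) + (ω - KaehlerDifferential.D A P (g : P)) := by
      abel
    rw [this]
    exact add_mem (Submodule.mem_sup_left (Submodule.subset_span ⟨g, g.2, rfl⟩))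
      (Submodule.mem_sup_right h2)
  · refine sup_le ?_ ?_
    · rw [Submodule.span_le]
      rintro _ ⟨g, hg, rfl⟩
      rw [SetLike.mem_coe, LinearMap.mem_ker, KaehlerDifferential.map_D]
      rw [show algebraMap P B g = 0 from hg, map_zero]
    · rw [Submodule.smul_le]
      intro i hi m _
      rw [LinearMap.mem_ker, map_smul, ← algebraMap_smul B i, show algebraMap P B i = 0 from hi,
        zero_smul]

end H5LocSpan
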