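import Mathlib

/-! `universally P` is local at the source for a base-change-stable precoverage (helper5). -/

set_option autoImplicit false
universe u
open CategoryTheory CategoryTheory.Limits AlgebraicGeometry Opposite MorphismProperty

namespace Groth.Agent.Lib.helper5

theorem h5_universally_isLocalAtSource (P : MorphismProperty Scheme.{u}) (K : Precoverage Scheme.{u})
    [K.IsStableUnderBaseChange] [P.IsLocalAtSource K] : P.universally.IsLocalAtSource K := by
  refine .mk_of_iff_of_zeroHypercover ?_
  intro X Y f 𝒰
  refine ⟨fun hf i ↦ ?_, fun hf ↦ ?_⟩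
  · apply MorphismProperty.universally_mk'
    intro T g _
    rw [← P.cancel_left_of_respectsIso (pullbackLeftPullbackSndIso g f _).hom,
      pullbackLeftPullbackSndIso_hom_fst]
    exact IsLocalAtSource.comp (𝒰.pullback₁ (pullback.snd g f)).mem₀ _ ⟨i⟩
      (hf _ _ _ (IsPullback.of_hasPullback ..))
  · apply MorphismProperty.universally_mk'
    intro T g _
    rw [IsLocalAtSource.iff_of_zeroHypercover (P := P) (𝒰.pullback₁ <| pullback.snd g f)]
    intro i
    show P (pullback.fst (pullback.snd g f) (𝒰.f i) ≫ pullback.fst g f)
    rw [← pullbackLeftPullbackSndIso_hom_fst, P.cancel_left_of_respectsIso]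
    exact hf i _ _ _ (IsPullback.of_hasPullback ..)

end Groth.Agent.Lib.helper5
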