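import Mathlib
universe u
open TensorProduct IsLocalRing
namespace H5LT

variable (A : Type u) [CommRing A] [IsLocalRing A] (B : Type u) [CommRing B] [IsLocalRing B]
  [Algebra A B] [IsLocalHom (algebraMap A B)] (C : Type u) [CommRing C] [IsLocalRing C]
  [Algebra A C] [IsLocalHom (algebraMap A C)] [Algebra.IsIntegral A C]

lemma comap_left_eq (n : Ideal (B ⊗[A] C)) [n.IsMaximal] :
    n.comap (Algebra.TensorProduct.includeLeft : B →ₐ[A] B ⊗[A] C).toRingHom = maximalIdeal B := by
  haveI : (n.comap (algebraMap B (B ⊗[A] C))).IsMaximal :=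
    Ideal.isMaximal_comap_of_isIntegral_of_isMaximal n
  exact IsLocalRing.eq_maximalIdeal this

lemma comap_right_eq (n : Ideal (B ⊗[A] C)) [n.IsMaximal] :
    n.comap (Algebra.TensorProduct.includeRight : C →ₐ[A] B ⊗[A] C).toRingHom = maximalIdeal C := by
  set p := n.comap (Algebra.TensorProduct.includeRight : C →ₐ[A] B ⊗[A] C).toRingHom with hp
  haveI : p.IsPrime := Ideal.comap_isPrime _ _
  have h1 : p.comap (algebraMap A C) = maximalIdeal A := by
    have h2 : p.comap (algebraMap A C) =
        (n.comap (Algebra.TensorProduct.includeLeft : B →ₐ[A] B ⊗[A] C).toRingHom).comap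
          (algebraMap A B) := by
      rw [hp, Ideal.comap_comap, Ideal.comap_comap]
      congr 1
      ext a
      simp only [AlgHom.toRingHom_eq_coe, RingHom.coe_comp, RingHom.coe_coe, Function.comp_apply,
        Algebra.TensorProduct.includeLeft_apply, Algebra.TensorProduct.includeRight_apply]
      rw [Algebra.algebraMap_eq_smul_one, Algebra.algebraMap_eq_smul_one, TensorProduct.tmul_smul,
        TensorProduct.smul_tmul']
    rw [h2, comap_left_eq]
    exact ((IsLocalRing.local_hom_TFAE (algebraMap A B)).out 0 4).mp ‹IsLocalHom (algebraMap A B)›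
  have h3 : (p.comap (algebraMap A C)).IsMaximal := by rw [h1]; infer_instance
  haveI : p.IsMaximal := Ideal.isMaximal_of_isIntegral_of_isMaximal_comap p h3
  exact IsLocalRing.eq_maximalIdeal this

end H5LT

namespace H5LT

variable (A : Type u) [CommRing A] [IsLocalRing A] (B : Type u) [CommRing B] [IsLocalRing B]
  [Algebra A B] [IsLocalHom (algebraMap A B)] (C : Type u) [CommRing C] [IsLocalRing C]
  [Algebra A C] [IsLocalHom (algebraMap A C)]

instance compat : TensorProduct.CompatibleSMul A (ResidueField A) (ResidueField B)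
    (ResidueField C) where
  smul_tmul r m n := by
    obtain ⟨a, rfl⟩ := IsLocalRing.residue_surjective r
    have h1 : residue A a • m = a • m := algebraMap_smul (ResidueField A) a m
    have h2 : residue A a • n = a • n := algebraMap_smul (ResidueField A) a n
    rw [h1, h2, TensorProduct.smul_tmul]

/-- the quotient map to the tensor product of residue fields -/
noncomputable def phi : B ⊗[A] C →ₐ[A] ResidueField B ⊗[A] ResidueField C :=
  Algebra.TensorProduct.map (IsScalarTower.toAlgHom A B (ResidueField B))
    (IsScalarTower.toAlgHom A C (ResidueField C))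

lemma phi_surjective : Function.Surjective (phi A B C) :=
  Algebra.TensorProduct.map_surjective _ _ IsLocalRing.residue_surjective
    IsLocalRing.residue_surjective

lemma ker_phi : RingHom.ker (phi A B C) =
    (maximalIdeal B).map (Algebra.TensorProduct.includeLeft : B →ₐ[A] B ⊗[A] C) ⊔
      (maximalIdeal C).map (Algebra.TensorProduct.includeRight : C →ₐ[A] B ⊗[A] C) := by
  have h := Algebra.TensorProduct.map_ker (IsScalarTower.toAlgHom A B (ResidueField B))
    (IsScalarTower.toAlgHom A C (ResidueField C)) IsLocalRing.residue_surjective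
    IsLocalRing.residue_surjective
  have hB : RingHom.ker (IsScalarTower.toAlgHom A B (ResidueField B)) = maximalIdeal B :=
    IsLocalRing.ker_residue (R := B)
  have hC : RingHom.ker (IsScalarTower.toAlgHom A C (ResidueField C)) = maximalIdeal C :=
    IsLocalRing.ker_residue (R := C)
  rw [hB, hC] at h
  exact h

lemma subsingleton_of_surjective {R₁ R₂ : Type*} [CommRing R₁] [CommRing R₂] (ρ : R₁ →+* R₂)
    (hρ : Function.Surjective ρ) [Subsingleton (PrimeSpectrum R₁)] :
    Subsingleton (PrimeSpectrum R₂) :=
  (PrimeSpectrum.comap_injective_of_surjective ρ hρ).subsingleton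

lemma subsingleton_spec
    (h : IsPurelyInseparable (ResidueField A) (ResidueField C) ∨
      IsPurelyInseparable (ResidueField A) (ResidueField B)) :
    Subsingleton (PrimeSpectrum (ResidueField B ⊗[ResidueField A] ResidueField C)) := by
  rcases h with h | h
  · have := PrimeSpectrum.isHomeomorph_comap_of_isPurelyInseparable (ResidueField A)
      (ResidueField C) (ResidueField B)
    exact this.injective.subsingleton
  · have := PrimeSpectrum.isHomeomorph_comap_of_isPurelyInseparable (ResidueField A)
      (ResidueField B) (ResidueField C)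
    haveI : Subsingleton (PrimeSpectrum (ResidueField C ⊗[ResidueField A] ResidueField B)) :=
      this.injective.subsingleton
    exact subsingleton_of_surjective
      (Algebra.TensorProduct.comm (ResidueField A) (ResidueField C) (ResidueField B)).toAlgHom.toRingHom
      (Algebra.TensorProduct.comm (ResidueField A) (ResidueField C) (ResidueField B)).surjective

end H5LT

namespace H5LT

variable (A : Type u) [CommRing A] [IsLocalRing A] (B : Type u) [CommRing B] [IsLocalRing B]
  [Algebra A B] [IsLocalHom (algebraMap A B)] (C : Type u) [CommRing C] [IsLocalRing C]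
  [Algebra A C] [IsLocalHom (algebraMap A C)] [Algebra.IsIntegral A C]

theorem main
    (h : IsPurelyInseparable (ResidueField A) (ResidueField C) ∨
      IsPurelyInseparable (ResidueField A) (ResidueField B)) :
    IsLocalRing (B ⊗[A] C) ∧
      IsLocalHom (Algebra.TensorProduct.includeLeft : B →ₐ[A] B ⊗[A] C).toRingHom ∧
      IsLocalHom (Algebra.TensorProduct.includeRight : C →ₐ[A] B ⊗[A] C).toRingHom := by
  -- the residue tensor product
  let e := Algebra.TensorProduct.equivOfCompatibleSMul A (ResidueField A) A (ResidueField B)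
    (ResidueField C)
  haveI : Subsingleton (PrimeSpectrum (ResidueField B ⊗[ResidueField A] ResidueField C)) :=
    subsingleton_spec A B C h
  haveI : Subsingleton (PrimeSpectrum (ResidueField B ⊗[A] ResidueField C)) :=
    subsingleton_of_surjective e.toAlgHom.toRingHom e.surjective
  haveI : Nontrivial (ResidueField B ⊗[A] ResidueField C) := e.injective.nontrivial
  haveI : Nontrivial (B ⊗[A] C) := (phi_surjective A B C).nontrivial
  -- every maximal ideal contains the kernel
  have hker : ∀ n : Ideal (B ⊗[A] C), n.IsMaximal → RingHom.ker (phi A B C) ≤ n := by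
    intro n hn
    rw [ker_phi]
    refine sup_le ?_ ?_
    · rw [Ideal.map_le_iff_le_comap]
      exact (comap_left_eq A B C n).ge
    · rw [Ideal.map_le_iff_le_comap]
      exact (comap_right_eq A B C n).ge
  have huniq : ∀ n₁ n₂ : Ideal (B ⊗[A] C), n₁.IsMaximal → n₂.IsMaximal → n₁ = n₂ := by
    intro n₁ n₂ h₁ h₂
    have hp₁ : (n₁.map (phi A B C)).IsPrime :=
      Ideal.map_isPrime_of_surjective (phi_surjective A B C) (hker n₁ h₁)
    have hp₂ : (n₂.map (phi A B C)).IsPrime :=
      Ideal.map_isPrime_of_surjective (phi_surjective A B C) (hker n₂ h₂)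
    have heq : n₁.map (phi A B C) = n₂.map (phi A B C) :=
      congrArg PrimeSpectrum.asIdeal (Subsingleton.elim (⟨_, hp₁⟩ : PrimeSpectrum _) ⟨_, hp₂⟩)
    have hc : ∀ n : Ideal (B ⊗[A] C), n.IsMaximal → (n.map (phi A B C)).comap (phi A B C) = n := by
      intro n hn
      rw [Ideal.comap_map_of_surjective _ (phi_surjective A B C)]
      exact sup_eq_left.mpr (hker n hn)
    rw [← hc n₁ h₁, ← hc n₂ h₂, heq]
  obtain ⟨n₀, hn₀⟩ := Ideal.exists_maximal (B ⊗[A] C)
  have hloc : IsLocalRing (B ⊗[A] C) :=
    IsLocalRing.of_unique_max_ideal ⟨n₀, hn₀, fun n hn => huniq n n₀ hn hn₀⟩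
  haveI := hloc
  have hmax : maximalIdeal (B ⊗[A] C) = n₀ := (IsLocalRing.eq_maximalIdeal hn₀).symm
  refine ⟨hloc, ⟨fun b hb => ?_⟩, ⟨fun c hc => ?_⟩⟩
  · by_contra hb'
    have h1 : b ∈ maximalIdeal B := (IsLocalRing.mem_maximalIdeal b).mpr hb'
    rw [← comap_left_eq A B C n₀, Ideal.mem_comap] at h1
    exact hn₀.ne_top (Ideal.eq_top_of_isUnit_mem _ h1 hb)
  · by_contra hc'
    have h1 : c ∈ maximalIdeal C := (IsLocalRing.mem_maximalIdeal c).mpr hc'
    rw [← comap_right_eq A B C n₀, Ideal.mem_comap] at h1
    exact hn₀.ne_top (Ideal.eq_top_of_isUnit_mem _ h1 hc)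

end H5LT
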