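import Mathlib
import Groth.Prelude.Def_CAlgX
universe u
namespace H5MC
open Matrix

variable {R : Type u} [CommRing R] {m n : ℕ} (M : Matrix (Fin n) (Fin m) R)

/-- every `m × m` minor kills every vector in the kernel -/
lemma det_mul_eq_zero (v : Fin m → R) (hv : M *ᵥ v = 0) (f : Fin m → Fin n) (g : Fin m → Fin m)
    (k : Fin m) : det (M.submatrix f g) * v k = 0 := by
  by_cases hg : Function.Injective g
  · have hbij : Function.Bijective g := Finite.injective_iff_bijective.mp hg
    let σ : Fin m ≃ Fin m := Equiv.ofBijective g hbij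
    have h1 : (M.submatrix f g) *ᵥ (v ∘ g) = 0 := by
      ext i
      simp only [mulVec, dotProduct, submatrix_apply, Function.comp_apply, Pi.zero_apply]
      have h2 : ∑ j, M (f i) (g j) * v (g j) = ∑ k, M (f i) k * v k :=
        Equiv.sum_comp σ (fun k => M (f i) k * v k)
      rw [h2]
      have h3 := congrFun hv (f i)
      simpa [mulVec, dotProduct] using h3
    have h4 : (adjugate (M.submatrix f g)) *ᵥ ((M.submatrix f g) *ᵥ (v ∘ g)) = 0 := by
      rw [h1, mulVec_zero]
    rw [mulVec_mulVec, adjugate_mul, smul_mulVec, one_mulVec] at h4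
    obtain ⟨j, rfl⟩ := hbij.2 k
    have h5 := congrFun h4 j
    simpa using h5
  · have : ∃ i j, i ≠ j ∧ g i = g j := by
      by_contra hcon
      apply hg
      intro i j hij
      by_contra hne
      exact hcon ⟨i, j, hne, hij⟩
    obtain ⟨i, j, hne, hij⟩ := this
    rw [det_zero_of_column_eq hne (fun k => by simp [submatrix_apply, hij]), zero_mul]

/-- minors of size bigger than the number of columns vanish -/
lemma minorIdeal_eq_bot_of_lt (r : ℕ) (hr : m < r) : CAlgX.minorIdeal M r = ⊥ := by
  unfold CAlgX.minorIdeal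
  rw [Ideal.span_eq_bot]
  rintro _ ⟨⟨f, g⟩, rfl⟩
  obtain ⟨i, j, hne, hij⟩ := Fintype.exists_ne_map_eq_of_card_lt g (by simpa using hr)
  exact det_zero_of_column_eq hne (fun k => by simp [submatrix_apply, hij])

end H5MC

namespace H5MC
open Matrix

variable {R : Type u} [CommRing R] {m n : ℕ} (M : Matrix (Fin n) (Fin m) R)

/-- McCoy: injective ⇒ no nonzero `a` kills all `m × m` minors -/
lemma mccoy (hinj : Function.Injective (Matrix.mulVecLin M)) (a : R)
    (ha : ∀ (f : Fin m → Fin n) (g : Fin m → Fin m), a * det (M.submatrix f g) = 0) : a = 0 := by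
  classical
  by_contra ha0
  let P : ℕ → Prop := fun s =>
    ∃ (f : Fin s → Fin n) (g : Fin s → Fin m), a * det (M.submatrix f g) ≠ 0
  have hP0 : P 0 := ⟨Fin.elim0, Fin.elim0, by simpa using ha0⟩
  have hPm : ¬ P m := by
    rintro ⟨f, g, h⟩
    exact h (ha f g)
  have hex : ∃ s, ¬ P s := ⟨m, hPm⟩
  have hs : ¬ P (Nat.find hex) := Nat.find_spec hex
  have hs0 : Nat.find hex ≠ 0 := fun h => hs (h ▸ hP0)
  obtain ⟨r, hr⟩ := Nat.exists_eq_succ_of_ne_zero hs0
  have hPr : P r := by
    by_contra h
    exact Nat.find_min hex (by omega : r < Nat.find hex) h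
  have hsm : Nat.find hex ≤ m := Nat.find_min' hex hPm
  rw [hr] at hs
  obtain ⟨f, g, hfg⟩ := hPr
  have hginj : Function.Injective g := by
    by_contra hg
    have : ∃ i j, i ≠ j ∧ g i = g j := by
      by_contra hcon
      apply hg
      intro i j hij
      by_contra hne
      exact hcon ⟨i, j, hne, hij⟩
    obtain ⟨i, j, hne, hij⟩ := this
    apply hfg
    rw [det_zero_of_column_eq hne (fun k => by simp [submatrix_apply, hij]), mul_zero]
  have hcex : ∃ c : Fin m, c ∉ Set.range g := by
    by_contra hcon
    push Not at hcon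
    have hsurj : Function.Surjective g := hcon
    have := Fintype.card_le_of_surjective g hsurj
    simp at this
    omega
  obtain ⟨c, hc⟩ := hcex
  let g' : Fin (r + 1) → Fin m := Fin.cons c g
  have hg'0 : g' 0 = c := rfl
  have hg'succ : ∀ j : Fin r, g' j.succ = g j := fun j => rfl
  have hg'inj : Function.Injective g' := Fin.cons_injective_of_injective hc hginj
  let D : Fin (r + 1) → R := fun j => det (M.submatrix f (g' ∘ j.succAbove))
  let v : Fin m → R := fun k =>
    ∑ j : Fin (r + 1), if g' j = k then a * ((-1) ^ (j : ℕ) * D j) else 0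
  have hMv : M *ᵥ v = 0 := by
    ext i
    have h1 : (M *ᵥ v) i = a * det (M.submatrix (Fin.cons i f : Fin (r + 1) → Fin n) g') := by
      rw [det_succ_row_zero]
      simp only [mulVec, dotProduct, v]
      simp_rw [Finset.mul_sum]
      rw [Finset.sum_comm]
      refine Finset.sum_congr rfl fun j _ => ?_
      simp only [mul_ite, mul_zero, Finset.sum_ite_eq, Finset.mem_univ, if_true]
      have h2 : (M.submatrix (Fin.cons i f : Fin (r + 1) → Fin n) g').submatrix Fin.succ
          j.succAbove = M.submatrix f (g' ∘ j.succAbove) := by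
        ext x y
        simp [submatrix_apply]
      rw [h2]
      simp only [submatrix_apply, Fin.cons_zero, D]
      ring
    rw [h1]
    by_contra hne
    exact hs ⟨Fin.cons i f, g', hne⟩
  have hv0 : v = 0 := by
    apply hinj
    rw [map_zero]
    exact hMv
  have hvc : v c = a * det (M.submatrix f g) := by
    simp only [v]
    rw [Finset.sum_eq_single (0 : Fin (r + 1))]
    · rw [if_pos hg'0]
      have h3 : g' ∘ Fin.succ = g := by
        ext x
        simp [g']
      simp [D, h3]
    · intro j _ hj
      rw [if_neg]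
      intro h
      exact hj (hg'inj (h.trans hg'0.symm))
    · simp
  rw [hv0] at hvc
  exact hfg hvc.symm

end H5MC

namespace H5MC
open Matrix

variable {R : Type u} [CommRing R] {m n : ℕ} (M : Matrix (Fin n) (Fin m) R)

lemma matrixRank_eq (h : CAlgX.minorIdeal M m ≠ ⊥) : CAlgX.matrixRank M = m := by
  unfold CAlgX.matrixRank
  apply IsGreatest.csSup_eq
  refine ⟨h, fun r hr => ?_⟩
  by_contra hlt
  push Not at hlt
  exact hr (minorIdeal_eq_bot_of_lt M r hlt)

lemma mem_annihilator_minorIdeal_iff (r : ℕ) (a : R) :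
    a ∈ (CAlgX.minorIdeal M r).annihilator ↔
      ∀ (f : Fin r → Fin n) (g : Fin r → Fin m), a * det (M.submatrix f g) = 0 := by
  unfold CAlgX.minorIdeal
  rw [Submodule.mem_annihilator_span]
  constructor
  · intro h f g
    exact h ⟨_, ⟨(f, g), rfl⟩⟩
  · rintro h ⟨_, ⟨⟨f, g⟩, rfl⟩⟩
    exact h f g

lemma annihilator_eq_bot_of_injective (hinj : Function.Injective (Matrix.mulVecLin M)) :
    (CAlgX.minorIdeal M m).annihilator = ⊥ := by
  rw [eq_bot_iff]
  intro a ha
  rw [mem_annihilator_minorIdeal_iff] at ha
  exact mccoy M hinj a ha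

lemma injective_of_annihilator_eq_bot (h : (CAlgX.minorIdeal M m).annihilator = ⊥) :
    Function.Injective (Matrix.mulVecLin M) := by
  rw [injective_iff_map_eq_zero]
  intro v hv
  have hv' : M *ᵥ v = 0 := hv
  ext k
  have : v k ∈ (CAlgX.minorIdeal M m).annihilator := by
    rw [mem_annihilator_minorIdeal_iff]
    intro f g
    rw [mul_comm]
    exact det_mul_eq_zero M v hv' f g k
  rw [h] at this
  exact this

theorem main277 [Nontrivial R] :
    Function.Injective (Matrix.mulVecLin M) ↔
      CAlgX.matrixRank M = m ∧ (CAlgX.detIdeal M).annihilator = ⊥ := by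
  constructor
  · intro hinj
    have h1 := annihilator_eq_bot_of_injective M hinj
    have h2 : CAlgX.minorIdeal M m ≠ ⊥ := by
      intro h0
      rw [h0] at h1
      have : (1 : R) ∈ (⊥ : Ideal R).annihilator := by
        rw [Submodule.mem_annihilator]
        intro x hx
        rw [(Submodule.mem_bot R).mp hx, smul_zero]
      rw [h1] at this
      exact one_ne_zero this
    have h3 := matrixRank_eq M h2
    refine ⟨h3, ?_⟩
    unfold CAlgX.detIdeal
    rw [h3]
    exact h1
  · rintro ⟨h3, h1⟩
    unfold CAlgX.detIdeal at h1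
    rw [h3] at h1
    exact injective_of_annihilator_eq_bot M h1

end H5MC
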