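import Groth.Agent.Lib.helper5.McCoy
import Mathlib
universe u
namespace H5MC
open Matrix

lemma annihilator_eq_bot_iff {R : Type u} [CommRing R] [IsNoetherianRing R] [Nontrivial R]
    (I : Ideal R) : I.annihilator = ⊥ ↔ (I = ⊤ ∨ ∃ a ∈ I, IsRegular a) := by
  constructor
  · intro hann
    right
    by_contra hcon
    push Not at hcon
    have hsub : (I : Set R) ⊆ ⋃ p ∈ associatedPrimes R R, (p : Set R) := by
      rw [biUnion_associatedPrimes_eq_compl_nonZeroDivisors]
      intro a ha hreg
      exact hcon a ha (isRegular_iff_mem_nonZeroDivisors.mpr hreg)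
    have hfin : (associatedPrimes R R).Finite := associatedPrimes.finite R R
    have hsub' : (I : Set R) ⊆ ⋃ p ∈ (↑hfin.toFinset : Set (Ideal R)), ((id p : Ideal R) : Set R) := by
      simpa using hsub
    obtain ⟨p, hp, hIp⟩ := (Ideal.subset_union_prime (f := id) ⊥ ⊥ (fun i hi _ _ => by
      have : i ∈ associatedPrimes R R := by simpa using hi
      exact this.isPrime)).mp hsub'
    have hpass : p ∈ associatedPrimes R R := by simpa using hp
    obtain ⟨hprime, x, hx⟩ := (Submodule.isAssociatedPrime_iff (N := (⊥ : Submodule R R))).mp hpass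
    have hxann : x ∈ I.annihilator := by
      rw [Submodule.mem_annihilator]
      intro a ha
      have h1 : a ∈ p := hIp ha
      rw [hx, Submodule.mem_colon_singleton] at h1
      have h2 : a * x = 0 := by simpa using h1
      rw [smul_eq_mul, mul_comm]
      exact h2
    rw [hann] at hxann
    have hx0 : x = 0 := hxann
    apply hprime.ne_top
    rw [hx, hx0]
    ext r
    simp [Submodule.mem_colon_singleton]
  · rintro (rfl | ⟨a, ha, hreg⟩)
    · rw [eq_bot_iff]
      intro x hx
      rw [Submodule.mem_annihilator] at hx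
      have := hx 1 Submodule.mem_top
      simpa using this
    · rw [eq_bot_iff]
      intro x hx
      rw [Submodule.mem_annihilator] at hx
      have h1 := hx a ha
      rw [smul_eq_mul] at h1
      exact hreg.right.eq_iff.mp (by rw [h1, zero_mul])

theorem main278 {R : Type u} [CommRing R] [IsNoetherianRing R] [Nontrivial R] {m n : ℕ}
    (M : Matrix (Fin n) (Fin m) R) :
    Function.Injective (Matrix.mulVecLin M) ↔
      CAlgX.matrixRank M = m ∧ (CAlgX.detIdeal M = ⊤ ∨ ∃ a ∈ CAlgX.detIdeal M, IsRegular a) := by
  rw [main277 M, annihilator_eq_bot_iff]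

end H5MC
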