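import Mathlib

/-! Surjectivity modulo a locally nilpotent ideal (helper5). -/

set_option autoImplicit false
universe u

namespace Groth.Agent.Lib.helper5

/-- An element of the extension of an ideal `I` lies in the extension of a finitely generated
subideal. -/
theorem h5_exists_fg_le_of_mem_map {R S' : Type u} [CommRing R] [CommRing S'] [Algebra R S']
    (I : Ideal R) (y : S') (hy : y ∈ I.map (algebraMap R S')) :
    ∃ J : Ideal R, J.FG ∧ J ≤ I ∧ y ∈ J.map (algebraMap R S') := by
  classical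
  rw [Ideal.map] at hy
  obtain ⟨T, hT, hyT⟩ := Submodule.mem_span_finite_of_mem_span hy
  obtain ⟨T', hT', rfl⟩ := Finset.subset_set_image_iff.mp hT
  refine ⟨Ideal.span (T' : Set R), ⟨T', rfl⟩, Ideal.span_le.mpr hT', ?_⟩
  rw [Ideal.map_span]
  convert hyT using 2
  simp

/-- Let `I` be a locally nilpotent ideal of `R` and `S → S'` a map of `R`-algebras with `S'` of
finite type over `R`. If `S → S'/IS'` is surjective then so is `S → S'`. -/
theorem h5_surjective_of_surjective_mod_nil (R S S' : Type u) [CommRing R] [CommRing S]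
    [CommRing S'] [Algebra R S] [Algebra R S'] [Algebra.FiniteType R S'] (I : Ideal R)
    (hI : ∀ x ∈ I, IsNilpotent x) (f : S →ₐ[R] S')
    (hf : Function.Surjective ((Ideal.Quotient.mk (I.map (algebraMap R S'))).comp f.toRingHom)) :
    Function.Surjective f := by
  classical
  obtain ⟨G, hG⟩ := (Algebra.FiniteType.out : (⊤ : Subalgebra R S').FG)
  have h2 : ∀ x : S', ∃ J : Ideal R, J.FG ∧ J ≤ I ∧ ∃ s : S, x - f s ∈ J.map (algebraMap R S') := by
    intro x
    obtain ⟨s, hs⟩ := hf (Ideal.Quotient.mk _ x)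
    have hxs : x - f s ∈ I.map (algebraMap R S') := by
      rw [← Ideal.Quotient.eq]; exact hs.symm
    obtain ⟨J, hJ, hJI, hmem⟩ := h5_exists_fg_le_of_mem_map I _ hxs
    exact ⟨J, hJ, hJI, s, hmem⟩
  choose J hJfg hJI s hs using h2
  set J₀ : Ideal R := ⨆ x ∈ G, J x with hJ₀
  have hJ₀fg : J₀.FG := Submodule.fg_biSup G J fun x _ => hJfg x
  have hJ₀I : J₀ ≤ I := iSup₂_le fun x _ => hJI x
  have hnil : IsNilpotent J₀ := by
    rw [hJ₀fg.isNilpotent_iff_le_nilradical]
    intro a ha
    exact hI a (hJ₀I ha)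
  obtain ⟨N, hN⟩ := hnil
  set P : Submodule R S' := f.range.toSubmodule with hP
  set Jm : Ideal S' := J₀.map (algebraMap R S') with hJm
  set Q : Submodule R S' := P ⊔ Jm.restrictScalars R with hQ
  have hone : (1 : S') ∈ Q := Submodule.mem_sup_left (f.range.one_mem)
  have hmul : ∀ x y, x ∈ Q → y ∈ Q → x * y ∈ Q := by
    intro x y hx hy
    obtain ⟨t, ht, j, hj, rfl⟩ := Submodule.mem_sup.mp hx
    obtain ⟨t', ht', j', hj', rfl⟩ := Submodule.mem_sup.mp hy
    have e : (t + j) * (t' + j') = t * t' + (t * j' + j * t' + j * j') := by ring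
    rw [e]
    refine Submodule.add_mem_sup (f.range.mul_mem ht ht') ?_
    show t * j' + j * t' + j * j' ∈ Jm
    exact add_mem (add_mem (Jm.mul_mem_left _ hj') (Jm.mul_mem_right _ hj)) (Jm.mul_mem_right _ hj)
  let B : Subalgebra R S' := Submodule.toSubalgebra Q hone hmul
  have hGB : (G : Set S') ⊆ B := by
    intro x hx
    show x ∈ Q
    have hx' : x = f (s x) + (x - f (s x)) := by ring
    rw [hx']
    refine Submodule.add_mem_sup ⟨s x, rfl⟩ ?_
    show x - f (s x) ∈ Jm
    exact Ideal.map_mono (le_biSup J hx) (hs x)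
  have hB : B = ⊤ := top_le_iff.mp (hG ▸ Algebra.adjoin_le hGB)
  have hQtop : Q = ⊤ := by
    rw [eq_top_iff]
    intro y _
    have : y ∈ B := by rw [hB]; trivial
    exact this
  have hJmeq : Jm.restrictScalars R = J₀ • (⊤ : Submodule R S') := (Ideal.smul_top_eq_map J₀).symm
  rw [hJmeq] at hQ
  have hstep : ∀ n : ℕ, (⊤ : Submodule R S') = P ⊔ J₀ ^ n • (⊤ : Submodule R S') := by
    intro n
    induction n with
    | zero =>
      rw [pow_zero, Ideal.one_eq_top, Submodule.top_smul, sup_top_eq]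
    | succ n ih =>
      apply le_antisymm _ le_top
      calc (⊤ : Submodule R S') = P ⊔ J₀ ^ n • (⊤ : Submodule R S') := ih
        _ = P ⊔ J₀ ^ n • (P ⊔ J₀ • (⊤ : Submodule R S')) := by rw [← hQ, hQtop]
        _ = P ⊔ (J₀ ^ n • P ⊔ J₀ ^ n • J₀ • (⊤ : Submodule R S')) := by rw [Submodule.smul_sup]
        _ ≤ P ⊔ (P ⊔ J₀ ^ (n + 1) • (⊤ : Submodule R S')) := by
            refine sup_le_sup_left (sup_le_sup Submodule.smul_le_right ?_) _
            rw [← Submodule.mul_smul, ← pow_succ]
        _ = P ⊔ J₀ ^ (n + 1) • (⊤ : Submodule R S') := by rw [← sup_assoc, sup_idem]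
  have hPtop : P = ⊤ := by
    have := hstep N
    rw [hN, Ideal.zero_eq_bot, Submodule.bot_smul, sup_bot_eq] at this
    exact this.symm
  intro y
  have : y ∈ P := by rw [hPtop]; trivial
  obtain ⟨x, hx⟩ := this
  exact ⟨x, hx⟩

end Groth.Agent.Lib.helper5
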