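import Mathlib
import Groth.Prelude.Def_EGA4b
universe u
open TensorProduct
namespace H5Norm

/-- normality passes to localizations -/
theorem isNormalRing_of_isLocalization {T T' : Type u} [CommRing T] [CommRing T'] [Algebra T T']
    (M : Submonoid T) [IsLocalization M T'] (h : EGA4.IsNormalRing T) : EGA4.IsNormalRing T' := by
  intro q hq
  haveI : (q.comap (algebraMap T T')).IsPrime := Ideal.comap_isPrime _ _
  obtain ⟨h1, h2⟩ := h (q.comap (algebraMap T T'))
  haveI : IsLocalization.AtPrime (Localization.AtPrime q) (q.comap (algebraMap T T')) :=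
    IsLocalization.isLocalization_isLocalization_atPrime_isLocalization M _ q
  let e : Localization.AtPrime (q.comap (algebraMap T T')) ≃ₐ[T] Localization.AtPrime q :=
    IsLocalization.algEquiv (q.comap (algebraMap T T')).primeCompl _ _
  exact ⟨e.toRingEquiv.toMulEquiv.isDomain_iff.mp h1, IsIntegrallyClosed.of_equiv e.toRingEquiv⟩

/-- normality is invariant under ring isomorphism -/
theorem isNormalRing_of_ringEquiv {T T' : Type u} [CommRing T] [CommRing T'] (e : T ≃+* T')
    (h : EGA4.IsNormalRing T) : EGA4.IsNormalRing T' := by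
  letI : Algebra T T' := e.toRingHom.toAlgebra
  haveI : IsLocalization (⊥ : Submonoid T) T := IsLocalization.self bot_le
  haveI : IsLocalization (⊥ : Submonoid T) T' :=
    IsLocalization.isLocalization_of_algEquiv ⊥ (AlgEquiv.ofRingEquiv (f := e) (fun x => rfl))
  exact isNormalRing_of_isLocalization ⊥ h

end H5Norm

namespace H5Norm

theorem isLocalization_tensor (k A B k' : Type u) [CommRing k] [CommRing A] [Algebra k A]
    (M : Submonoid A) [CommRing B] [Algebra A B] [IsLocalization M B] [Algebra k B]
    [IsScalarTower k A B] [CommRing k'] [Algebra k k'] :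
    letI : Algebra (A ⊗[k] k') (B ⊗[k] k') :=
      (Algebra.TensorProduct.map (IsScalarTower.toAlgHom k A B) (AlgHom.id k k')).toRingHom.toAlgebra
    IsLocalization (Algebra.algebraMapSubmonoid (A ⊗[k] k') M) (B ⊗[k] k') := by
  letI : Algebra (A ⊗[k] k') (B ⊗[k] k') :=
      (Algebra.TensorProduct.map (IsScalarTower.toAlgHom k A B) (AlgHom.id k k')).toRingHom.toAlgebra
  haveI : IsScalarTower A (A ⊗[k] k') (B ⊗[k] k') := IsScalarTower.of_algebraMap_eq (fun a => by
    simp [RingHom.algebraMap_toAlgebra, Algebra.TensorProduct.algebraMap_apply])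
  have hp : Algebra.IsPushout A B (A ⊗[k] k') (B ⊗[k] k') :=
    Algebra.IsPushout.tensorProduct_tensorProduct k k' A B (by
      ext x
      simp [RingHom.algebraMap_toAlgebra])
  exact (Algebra.isLocalization_iff_isPushout M B).mpr hp.symm

end H5Norm

namespace H5Norm

theorem geomNormal_localization (k : Type u) [Field k] (A : Type u) [CommRing A]
    [Algebra k A] (M : Submonoid A) (B : Type u) [CommRing B] [Algebra A B] [IsLocalization M B]
    [Algebra k B] [IsScalarTower k A B] (h : EGA4.IsGeomNormal k A) :
    EGA4.IsGeomNormal k B := by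
  intro k' _ _ hfin
  have h1 : EGA4.IsNormalRing (k' ⊗[k] A) := h k' hfin
  have h2 : EGA4.IsNormalRing (A ⊗[k] k') :=
    isNormalRing_of_ringEquiv (Algebra.TensorProduct.comm k k' A).toRingEquiv h1
  letI : Algebra (A ⊗[k] k') (B ⊗[k] k') :=
      (Algebra.TensorProduct.map (IsScalarTower.toAlgHom k A B) (AlgHom.id k k')).toRingHom.toAlgebra
  haveI := isLocalization_tensor k A B k' M
  have h3 : EGA4.IsNormalRing (B ⊗[k] k') :=
    isNormalRing_of_isLocalization (Algebra.algebraMapSubmonoid (A ⊗[k] k') M) h2
  exact isNormalRing_of_ringEquiv (Algebra.TensorProduct.comm k B k').toRingEquiv h3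

end H5Norm
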