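import Mathlib

set_option autoImplicit false
universe u
open CategoryTheory AlgebraicGeometry Topology

namespace Groth.Agent.Lib.helper5

/-- A ring map inducing an open map on spectra satisfies going-down (lifting of generalizations). -/
theorem h5_generalizingMap_comap_of_isOpenMap {B A : Type u} [CommRing B] [CommRing A]
    (φ : B →+* A) (hopen : IsOpenMap (PrimeSpectrum.comap φ)) :
    GeneralizingMap (PrimeSpectrum.comap φ) := by
  intro p q' hq'
  let A' := Localization.AtPrime p.asIdeal
  let g : B →+* A' := (algebraMap A A').comp φ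
  have hkey : (q'.asIdeal.map g).comap g = q'.asIdeal := by
    apply le_antisymm _ Ideal.le_comap_map
    intro b hb
    have hb' : g b ∈ Ideal.map (algebraMap A A') (q'.asIdeal.map φ) := by
      rw [Ideal.map_map]
      exact hb
    obtain ⟨⟨⟨a, ha⟩, s⟩, hs⟩ :=
      (IsLocalization.mem_map_algebraMap_iff p.asIdeal.primeCompl A').1 hb'
    have hs' : algebraMap A A' (φ b * s) = algebraMap A A' a := by
      rw [map_mul]
      exact hs
    obtain ⟨t, ht⟩ := (IsLocalization.eq_iff_exists p.asIdeal.primeCompl A').1 hs'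
    let c : A := (t : A) * (s : A)
    have hc : c ∉ p.asIdeal := (t * s).2
    have hcb : c * φ b ∈ q'.asIdeal.map φ := by
      have : c * φ b = (t : A) * a := by
        rw [← ht]
        ring
      rw [this]
      exact Ideal.mul_mem_left _ _ ha
    have hpD : p ∈ (PrimeSpectrum.basicOpen c : Set (PrimeSpectrum A)) := hc
    have himg : IsOpen (PrimeSpectrum.comap φ '' (PrimeSpectrum.basicOpen c : Set _)) :=
      hopen _ (PrimeSpectrum.basicOpen c).2
    have hq'img : q' ∈ PrimeSpectrum.comap φ '' (PrimeSpectrum.basicOpen c : Set _) :=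
      hq'.mem_open himg ⟨p, hpD, rfl⟩
    obtain ⟨P, hPc, hPq⟩ := hq'img
    have hle : q'.asIdeal.map φ ≤ P.asIdeal := by
      rw [Ideal.map_le_iff_le_comap]
      have : (PrimeSpectrum.comap φ P).asIdeal = q'.asIdeal := by rw [hPq]
      exact this.ge
    have hmem : c * φ b ∈ P.asIdeal := hle hcb
    rcases P.2.mem_or_mem hmem with h | h
    · exact absurd h hPc
    · have : b ∈ (PrimeSpectrum.comap φ P).asIdeal := h
      rw [hPq] at this
      exact this
  obtain ⟨P', hP', hcomap⟩ := (Ideal.comap_map_eq_self_iff_of_isPrime q'.asIdeal).1 hkey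
  refine ⟨⟨P'.comap (algebraMap A A'), inferInstance⟩, ?_, ?_⟩
  · refine (PrimeSpectrum.le_iff_specializes _ _).1 ?_
    show P'.comap (algebraMap A A') ≤ p.asIdeal
    have h1 : P' ≤ IsLocalRing.maximalIdeal A' := IsLocalRing.le_maximalIdeal hP'.ne_top
    have h2 := Ideal.comap_mono (f := algebraMap A A') h1
    have h3 : (IsLocalRing.maximalIdeal A').comap (algebraMap A A') = p.asIdeal :=
      IsLocalization.AtPrime.under_maximalIdeal A' p.asIdeal
    rw [h3] at h2
    exact h2
  · apply PrimeSpectrum.ext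
    show (P'.comap (algebraMap A A')).comap φ = q'.asIdeal
    rw [Ideal.comap_comap]
    exact hcomap

/-- An open morphism of schemes lifts generalizations. -/
theorem h5_generalizingMap_of_isOpenMap {X Y : Scheme.{u}} (f : X ⟶ Y) (hf : IsOpenMap f.base) :
    GeneralizingMap f.base := by
  intro x y' hy'
  obtain ⟨_, ⟨V, hV, rfl⟩, hxV, -⟩ :=
    Y.isBasis_affineOpens.exists_subset_of_mem_open (Set.mem_univ (f x)) isOpen_univ
  obtain ⟨_, ⟨U, hU, rfl⟩, hxU, hUV⟩ :=
    X.isBasis_affineOpens.exists_subset_of_mem_open hxV (V.2.preimage f.continuous)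
  have hy'V : y' ∈ V := hy'.mem_open V.2 hxV
  let φ := f.appLE V U hUV
  have hsq : Spec.map φ ≫ hV.fromSpec = hU.fromSpec ≫ f :=
    IsAffineOpen.SpecMap_appLE_fromSpec f hV hU hUV
  have hopen : IsOpenMap (Spec.map φ) := by
    rw [hV.fromSpec.isOpenEmbedding.isOpenMap_iff]
    have : (hV.fromSpec : _ → _) ∘ (Spec.map φ : _ → _) = (f : _ → _) ∘ (hU.fromSpec : _ → _) := by
      ext z
      simp only [Function.comp_apply]
      rw [← Scheme.Hom.comp_apply, ← Scheme.Hom.comp_apply, hsq]
    rw [this]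
    exact hf.comp hU.fromSpec.isOpenEmbedding.isOpenMap
  have hgen : GeneralizingMap (PrimeSpectrum.comap φ.hom) :=
    h5_generalizingMap_comap_of_isOpenMap φ.hom hopen
  let p : Spec Γ(X, U) := hU.primeIdealOf ⟨x, hxU⟩
  let q' : Spec Γ(Y, V) := hV.primeIdealOf ⟨y', hy'V⟩
  have hp : hU.fromSpec p = x := hU.fromSpec_primeIdealOf ⟨x, hxU⟩
  have hq' : hV.fromSpec q' = y' := hV.fromSpec_primeIdealOf ⟨y', hy'V⟩
  have hspec : q' ⤳ (Spec.map φ) p := by
    have h1 : hV.fromSpec q' ⤳ hV.fromSpec ((Spec.map φ) p) := by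
      rw [hq', ← Scheme.Hom.comp_apply, hsq, Scheme.Hom.comp_apply, hp]
      exact hy'
    exact (hV.fromSpec.isOpenEmbedding.isInducing.specializes_iff).1 h1
  obtain ⟨p', hp'p, hp'q⟩ := hgen hspec
  refine ⟨hU.fromSpec p', ?_, ?_⟩
  · rw [← hp]
    exact hp'p.map hU.fromSpec.continuous
  · have : (Spec.map φ) p' = q' := hp'q
    rw [← Scheme.Hom.comp_apply, ← hsq, Scheme.Hom.comp_apply, this, hq']

end Groth.Agent.Lib.helper5
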