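import Mathlib
import Groth.Prelude.Def_CohB1

universe u
open CategoryTheory CategoryTheory.Limits AlgebraicGeometry

namespace H5PS

theorem surj (n : ℕ) (R : Type u) [CommRing R] :
    Function.Surjective (algebraMap R (CohB1.polyGrading n R 0)) := by
  rintro ⟨p, hp⟩
  have hp' : p.IsHomogeneous 0 := (MvPolynomial.mem_homogeneousSubmodule _ _).mp hp
  have h0 : p.totalDegree = 0 := Nat.le_zero.mp hp'.totalDegree_le
  refine ⟨p.coeff 0, Subtype.ext ?_⟩
  exact ((MvPolynomial.totalDegree_eq_zero_iff_eq_C).mp h0).symm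

instance isProper_toSpec (n : ℕ) (R : Type u) [CommRing R] :
    IsProper (CohB1.ProjSpace.toSpec n R) := by
  haveI : IsScalarTower R (CohB1.polyGrading n R 0) (MvPolynomial (Fin (n + 1)) R) :=
    IsScalarTower.of_algebraMap_eq (R := R) (S := ↥(CohB1.polyGrading n R 0))
      (A := MvPolynomial (Fin (n + 1)) R) (fun r => rfl)
  haveI : Algebra.FiniteType (CohB1.polyGrading n R 0) (MvPolynomial (Fin (n + 1)) R) :=
    Algebra.FiniteType.of_restrictScalars_finiteType R _ _
  haveI : IsClosedImmersion
      (Spec.map (CommRingCat.ofHom (algebraMap R (CohB1.polyGrading n R 0)))) :=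
    IsClosedImmersion.spec_of_surjective _ (surj n R)
  have h1 : IsProper (Proj.toSpecZero (CohB1.polyGrading n R)) := inferInstance
  have h2 : IsProper (Spec.map (CommRingCat.ofHom (algebraMap R (CohB1.polyGrading n R 0)))) :=
    inferInstance
  unfold CohB1.ProjSpace.toSpec
  exact MorphismProperty.comp_mem (W := @IsProper) _ _ h1 h2

instance isProper_toBase (n : ℕ) (S : Scheme.{u}) :
    IsProper (CohB1.ProjSpaceOver.toBase n S) := by
  unfold CohB1.ProjSpaceOver.toBase
  exact MorphismProperty.pullback_snd (P := @IsProper) _ _ inferInstance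

end H5PS
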