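import Mathlib
import Groth.Prelude.Def_AlgSpRep

set_option autoImplicit false
universe u
open CategoryTheory CategoryTheory.Limits AlgebraicGeometry Opposite Topology

namespace AlgSp

variable {S : Scheme.{u}}

/-- If the target of a map of presheaves is a sheaf and all its fibres over representables are
sheaves, the source is a sheaf. -/
theorem h5_isSheaf_of_fibres {F G : PSp S} (a : F ⟶ G) (hG : Presheaf.IsSheaf (J S) G)
    (h : ∀ ⦃T : Over S⦄ (ξ : (pyon S).obj T ⟶ G), Presheaf.IsSheaf (J S) (pullback a ξ)) :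
    Presheaf.IsSheaf (J S) F := by
  rw [isSheaf_iff_isSheaf_of_type] at hG ⊢
  intro T R hR x hx
  obtain ⟨y, hy, hyuniq⟩ := hG R hR (x.map a) (hx.map a)
  let ξ : (pyon S).obj T ⟶ G := uliftYonedaEquiv.symm y
  have hF' := h ξ
  rw [isSheaf_iff_isSheaf_of_type] at hF'
  have sq := IsPullback.of_hasPullback a ξ
  have sqT : ∀ T' : Over S, IsPullback ((pullback.fst a ξ).app (op T'))
      ((pullback.snd a ξ).app (op T')) (a.app (op T')) (ξ.app (op T')) := fun T' =>
    sq.map ((evaluation (Over S)ᵒᵖ (Type (u + 1))).obj (op T'))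
  have hξ : ∀ {T' : Over S} (φ : T' ⟶ T), ξ.app (op T') ⟨φ⟩ = G.map φ.op y := fun φ => rfl
  have hex : ∀ {T' : Over S} (φ : T' ⟶ T) (hφ : R.arrows φ),
      ∃ z : (pullback a ξ).obj (op T'), (pullback.fst a ξ).app (op T') z = x φ hφ ∧
        (pullback.snd a ξ).app (op T') z = ⟨φ⟩ := by
    intro T' φ hφ
    refine Limits.Types.exists_of_isPullback (sqT T') (x φ hφ) ⟨φ⟩ ?_
    rw [hξ]
    exact (hy φ hφ).symm
  choose z hz1 hz2 using @hex
  let zfam : Presieve.FamilyOfElements (pullback a ξ) R.arrows := fun T' φ hφ => z φ hφ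
  have hzc : zfam.Compatible := by
    intro Y₁ Y₂ Z g₁ g₂ f₁ f₂ h₁ h₂ hcomm
    apply Limits.Types.ext_of_isPullback (sqT Z)
    · have n1 := NatTrans.naturality_apply (pullback.fst a ξ) g₁.op (zfam f₁ h₁)
      have n2 := NatTrans.naturality_apply (pullback.fst a ξ) g₂.op (zfam f₂ h₂)
      rw [n1, n2]
      show F.map g₁.op ((pullback.fst a ξ).app (op Y₁) (z f₁ h₁)) =
        F.map g₂.op ((pullback.fst a ξ).app (op Y₂) (z f₂ h₂))
      rw [hz1, hz1]
      exact hx g₁ g₂ h₁ h₂ hcomm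
    · have n1 := NatTrans.naturality_apply (pullback.snd a ξ) g₁.op (zfam f₁ h₁)
      have n2 := NatTrans.naturality_apply (pullback.snd a ξ) g₂.op (zfam f₂ h₂)
      rw [n1, n2]
      show ((pyon S).obj T).map g₁.op ((pullback.snd a ξ).app (op Y₁) (z f₁ h₁)) =
        ((pyon S).obj T).map g₂.op ((pullback.snd a ξ).app (op Y₂) (z f₂ h₂))
      rw [hz2, hz2]
      show (⟨g₁ ≫ f₁⟩ : ULift (Z ⟶ T)) = ⟨g₂ ≫ f₂⟩
      rw [hcomm]
  obtain ⟨w, hw, hwuniq⟩ := hF' R hR zfam hzc
  refine ⟨(pullback.fst a ξ).app (op T) w, ?_, ?_⟩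
  · intro T' φ hφ
    have n1 := NatTrans.naturality_apply (pullback.fst a ξ) φ.op w
    rw [← n1, hw φ hφ]
    exact hz1 φ hφ
  · intro x' hx'
    have hax' : a.app (op T) x' = y := hyuniq _ (hx'.map a)
    obtain ⟨w', hw'1, hw'2⟩ := Limits.Types.exists_of_isPullback (sqT T) x' ⟨𝟙 T⟩ (by
      rw [hξ, hax']
      simp)
    have hw'am : zfam.IsAmalgamation w' := by
      intro T' φ hφ
      apply Limits.Types.ext_of_isPullback (sqT T')
      · have n1 := NatTrans.naturality_apply (pullback.fst a ξ) φ.op w'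
        rw [n1, hw'1]
        show F.map φ.op x' = (pullback.fst a ξ).app (op T') (z φ hφ)
        rw [hz1]
        exact hx' φ hφ
      · have n1 := NatTrans.naturality_apply (pullback.snd a ξ) φ.op w'
        rw [n1, hw'2]
        show ((pyon S).obj T).map φ.op ⟨𝟙 T⟩ = (pullback.snd a ξ).app (op T') (z φ hφ)
        rw [hz2]
        show (⟨φ ≫ 𝟙 T⟩ : ULift (T' ⟶ T)) = ⟨φ⟩
        rw [Category.comp_id]
    rw [← hw'1, hwuniq w' hw'am]

end AlgSp
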