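import Mathlib
import Groth.Prelude.Def_Coh
universe u
open AlgebraicGeometry CategoryTheory Limits

namespace H5QC

theorem qcoh_colimit (R : CommRingCat.{u}) {J : Type u} [SmallCategory J]
    (F : J ⥤ (Spec R).Modules) (hF : ∀ j, Coh.IsQCoh (F.obj j)) :
    Coh.IsQCoh (colimit F) := by
  have hiso : ∀ j, IsIso (Scheme.Modules.fromTildeΓ (F.obj j)) := fun j =>
    (isQuasicoherent_iff_isIso_fromTildeΓ (F.obj j)).mp (hF j)
  let e : (F ⋙ moduleSpecΓFunctor (R := R)) ⋙ tilde.functor R ≅ F :=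
    NatIso.ofComponents (fun j => @asIso _ _ _ _ (Scheme.Modules.fromTildeΓ (F.obj j)) (hiso j))
      (fun {i j} f => (Scheme.Modules.fromTildeΓNatTrans (R := R)).naturality (F.map f))
  let i1 : colimit F ≅ colimit ((F ⋙ moduleSpecΓFunctor (R := R)) ⋙ tilde.functor R) :=
    HasColimit.isoOfNatIso e.symm
  let i2 : colimit ((F ⋙ moduleSpecΓFunctor (R := R)) ⋙ tilde.functor R) ≅
      (tilde.functor R).obj (colimit (F ⋙ moduleSpecΓFunctor (R := R))) :=
    (preservesColimitIso (tilde.functor R) (F ⋙ moduleSpecΓFunctor (R := R))).symm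
  exact (SheafOfModules.isQuasicoherent (Spec R).ringCatSheaf).prop_of_iso (i1 ≪≫ i2).symm
    (inferInstance : ((tilde.functor R).obj
      (colimit (F ⋙ moduleSpecΓFunctor (R := R)))).IsQuasicoherent)

end H5QC
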