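import Mathlib
set_option autoImplicit false
universe u
open CategoryTheory CategoryTheory.Limits AlgebraicGeometry

namespace H5QFBC

variable {X S : Scheme.{u}}

/-- a point of the scheme-theoretic fibre that is open gives a quasi-finite point. -/
lemma quasiFiniteAt_of_isOpen_singleton_fiber (f : X ⟶ S) [LocallyOfFiniteType f] (x : X)
    (s : S) (hs : f x = s) (q : ↑(f.fiber s)) (hq : (f.fiberι s) q = x)
    (ho : IsOpen ({q} : Set ↑(f.fiber s))) : f.QuasiFiniteAt x := by
  subst hs
  have h1 : q = f.asFiber x := by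
    apply (f.fiberι (f x)).isEmbedding.injective
    rw [hq, Scheme.Hom.fiberι_asFiber]
  rw [Scheme.Hom.quasiFiniteAt_iff_isOpen_singleton_asFiber, ← h1]
  exact ho

/-- descent of quasi-finiteness at a point along base change. -/
lemma quasiFiniteAt_of_isPullback {P X Y Z : Scheme.{u}} {fst : P ⟶ X}
    {snd : P ⟶ Y} {f : X ⟶ Z} {g : Y ⟶ Z} (h : IsPullback fst snd f g) [LocallyOfFiniteType f]
    (p : P) (hp : snd.QuasiFiniteAt p) : f.QuasiFiniteAt (fst p) := by
  haveI : LocallyOfFiniteType snd := MorphismProperty.of_isPullback h inferInstance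
  let y := snd p
  have hsq := isPullback_fiberToSpecResidueField_of_isPullback h y
  let φ : snd.fiber y ⟶ f.fiber (g y) :=
    pullback.map _ _ _ _ fst (Spec.map (g.residueFieldMap y)) g h.w.symm (by simp)
  haveI : UniversallyOpen (Spec.map (g.residueFieldMap y)) := inferInstance
  haveI : UniversallyOpen φ := MorphismProperty.of_isPullback hsq.flip inferInstance
  have ho : IsOpen ({snd.asFiber p} : Set ↑(snd.fiber y)) :=
    Scheme.Hom.quasiFiniteAt_iff_isOpen_singleton_asFiber.mp hp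
  have ho' : IsOpen (φ '' {snd.asFiber p}) := φ.isOpenMap _ ho
  rw [Set.image_singleton] at ho'
  refine quasiFiniteAt_of_isOpen_singleton_fiber f (fst p) (g y) ?_ (φ (snd.asFiber p)) ?_ ho'
  · exact congrArg (fun ψ : P ⟶ Z => ψ p) h.w
  · have h1 : φ ≫ f.fiberι (g y) = snd.fiberι y ≫ fst := pullback.lift_fst _ _ _
    have h2 := congrArg (fun ψ : snd.fiber y ⟶ X => ψ (snd.asFiber p)) h1
    have h3 : (snd.fiberι y) (snd.asFiber p) = p := snd.fiberι_asFiber p
    change (f.fiberι (g y)) (φ (snd.asFiber p)) = fst ((snd.fiberι y) (snd.asFiber p)) at h2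
    rw [h3] at h2
    exact h2

/-- base change of quasi-finiteness at a point. -/
lemma quasiFiniteAt_snd_of_isPullback {P X Y Z : Scheme.{u}} {fst : P ⟶ X}
    {snd : P ⟶ Y} {f : X ⟶ Z} {g : Y ⟶ Z} (h : IsPullback fst snd f g) [LocallyOfFiniteType f]
    (p : P) (hp : f.QuasiFiniteAt (fst p)) : snd.QuasiFiniteAt p := by
  let U₀ : X.Opens := f.quasiFiniteLocus
  let W : P.Opens := fst ⁻¹ᵁ U₀
  have hpW : p ∈ W := hp
  have hA : IsPullback (fst ∣_ U₀) W.ι U₀.ι fst := isPullback_morphismRestrict fst U₀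
  have hB : IsPullback (fst ∣_ U₀) (W.ι ≫ snd) (U₀.ι ≫ f) g := hA.paste_vert h
  haveI : LocallyQuasiFinite (U₀.ι ≫ f) := inferInstance
  haveI : LocallyQuasiFinite (W.ι ≫ snd) := MorphismProperty.of_isPullback hB inferInstance
  have h1 : (W.ι ≫ snd).QuasiFiniteAt (⟨p, hpW⟩ : W) := Scheme.Hom.quasiFiniteAt _ _
  exact Scheme.Hom.quasiFiniteAt_comp_iff_of_isOpenImmersion.mp h1

end H5QFBC
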