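import Mathlib

/-! Quasi-separatedness in terms of affine opens (helper5). -/

set_option autoImplicit false
universe u

open AlgebraicGeometry CategoryTheory TopologicalSpace

namespace Groth.Agent.Lib.helper5

/-- A subset of a scheme is quasi-separated as soon as affine opens inside it have compact
pairwise intersections. -/
theorem h5_isQuasiSeparated_of_affine_inter {X : Scheme.{u}} (s : Set X)
    (H : ∀ U V : X.affineOpens, (U : Set X) ⊆ s → (V : Set X) ⊆ s →
      IsCompact ((U : Set X) ∩ (V : Set X))) :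
    IsQuasiSeparated s := by
  intro U V hUs hUo hUc hVs hVo hVc
  obtain ⟨A, hA, rfl⟩ := isCompact_and_isOpen_iff_finite_and_eq_biUnion_affineOpens.mp ⟨hUc, hUo⟩
  obtain ⟨B, hB, rfl⟩ := isCompact_and_isOpen_iff_finite_and_eq_biUnion_affineOpens.mp ⟨hVc, hVo⟩
  rw [Set.iUnion₂_inter]
  refine hA.isCompact_biUnion fun i hi => ?_
  rw [Set.inter_iUnion₂]
  refine hB.isCompact_biUnion fun j hj => ?_
  exact H i j ((Set.subset_biUnion_of_mem (u := fun i : X.affineOpens => ((i : X.Opens) : Set X)) hi).trans hUs)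
    ((Set.subset_biUnion_of_mem (u := fun i : X.affineOpens => ((i : X.Opens) : Set X)) hj).trans hVs)

/-- A morphism is quasi-separated iff preimages of the members of an affine open cover are
quasi-separated subsets. -/
theorem h5_quasiSeparated_of_iSup_eq_top {X S : Scheme.{u}} (f : X ⟶ S) {ι : Type*}
    (W : ι → S.affineOpens) (hW : ⨆ i, (W i : S.Opens) = ⊤)
    (H : ∀ i, IsQuasiSeparated ((f ⁻¹ᵁ (W i : S.Opens) : X.Opens) : Set X)) :
    QuasiSeparated f := by
  apply HasAffineProperty.of_iSup_eq_top (P := @QuasiSeparated) W hW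
  intro i
  show QuasiSeparatedSpace ↥(f ⁻¹ᵁ (W i : S.Opens))
  exact (isQuasiSeparated_iff_quasiSeparatedSpace _ (f ⁻¹ᵁ (W i : S.Opens)).2).mp (H i)

/-- An open subset of a scheme covered by affine opens with compact pairwise intersections is
quasi-separated. -/
theorem h5_isQuasiSeparated_of_cover {X : Scheme.{u}} (s : X.Opens) {κ : Type*}
    (V : κ → X.affineOpens) (hV : ⨆ j, (V j : X.Opens) = s)
    (hVV : ∀ j j', IsCompact ((V j : Set X) ∩ (V j' : Set X))) :
    IsQuasiSeparated (s : Set X) := by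
  refine (isQuasiSeparated_iff_quasiSeparatedSpace (s : Set X) s.2).mpr ?_
  have hle : ∀ j, (V j : X.Opens) ≤ s := fun j => hV ▸ le_iSup (fun j => (V j : X.Opens)) j
  refine Scheme.quasiSeparatedSpace_of_isOpenCover (X := s.toScheme)
    (fun j => s.ι ⁻¹ᵁ (V j : X.Opens)) ?_ ?_ ?_
  · rw [IsOpenCover, ← Scheme.Hom.preimage_iSup, hV, Scheme.Opens.ι_preimage_self]
  · intro j
    exact (V j).2.preimage_of_isOpenImmersion s.ι (by rw [Scheme.Opens.opensRange_ι]; exact hle j)
  · intro j j'
    have hemb := s.ι.isOpenEmbedding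
    rw [hemb.isInducing.isCompact_iff]
    have : s.ι '' (((s.ι ⁻¹ᵁ (V j : X.Opens) : s.toScheme.Opens) : Set s.toScheme) ∩
        ((s.ι ⁻¹ᵁ (V j' : X.Opens) : s.toScheme.Opens) : Set s.toScheme)) =
        (V j : Set X) ∩ (V j' : Set X) := by
      ext x
      constructor
      · rintro ⟨y, ⟨h1, h2⟩, rfl⟩
        exact ⟨h1, h2⟩
      · rintro ⟨h1, h2⟩
        have hx : x ∈ Set.range s.ι := by
          rw [Scheme.Opens.range_ι]; exact hle j h1
        obtain ⟨y, rfl⟩ := hx
        exact ⟨y, ⟨h1, h2⟩, rfl⟩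
    rw [this]
    exact hVV j j'

end Groth.Agent.Lib.helper5
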