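import Mathlib

/-!
Closure of the image of a quasi-compact morphism of schemes consists of specializations
of points of the image.
-/

set_option autoImplicit false
universe u

open AlgebraicGeometry CategoryTheory

namespace Groth.Agent.Lib.helper5

/-- Affine case: a point in the closure of the range of `Spec φ` is a specialization of a
point of the range. -/
theorem h5_exists_specializes_of_mem_closure_range_comap {A R : Type*} [CommRing A] [CommRing R]
    (φ : A →+* R) (p : PrimeSpectrum A)
    (hp : p ∈ closure (Set.range (PrimeSpectrum.comap φ))) :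
    ∃ q : PrimeSpectrum R, PrimeSpectrum.comap φ q ⤳ p := by
  rw [PrimeSpectrum.closure_range_comap] at hp
  have hle : (⊥ : Ideal R).comap φ ≤ p.asIdeal := by
    rw [← RingHom.ker_eq_comap_bot]; exact hp
  obtain ⟨q, -, hq, hqle⟩ := p.asIdeal.exists_ideal_comap_le_prime (⊥ : Ideal R) hle
  exact ⟨⟨q, hq⟩, (PrimeSpectrum.le_iff_specializes ⟨q.comap φ, inferInstance⟩ p).mp hqle⟩

/-- For a quasi-compact morphism `f : X ⟶ S`, every point of the closure of the image is a
specialization of a point of the image. -/
theorem h5_exists_specializes_of_mem_closure_range {X S : Scheme.{u}} (f : X ⟶ S)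
    [QuasiCompact f] (y : S) (hy : y ∈ closure (Set.range f)) :
    ∃ x : X, f x ⤳ y := by
  have key : ∀ (A : CommRingCat.{u}) (g : Spec A ⟶ S) (_ : IsOpenImmersion g) (y' : Spec A),
      g y' ∈ closure (Set.range f) → ∃ x : X, f x ⤳ g y' := by
    intro A g _ y' hy'
    have hqc : QuasiCompact (Limits.pullback.snd f g) := MorphismProperty.pullback_snd _ _ ‹_›
    obtain ⟨R, h, hh⟩ := compactSpace_iff_exists.mp
      (QuasiCompact.compactSpace_of_compactSpace (Limits.pullback.snd f g))
    have hrange : Set.range (h ≫ Limits.pullback.snd f g) = g ⁻¹' Set.range f := by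
      rw [Scheme.Hom.comp_base, TopCat.coe_comp, Set.range_comp, hh.range_eq, Set.image_univ,
        Scheme.Pullback.range_snd]
    have hmem : y' ∈ g ⁻¹' closure (Set.range f) := hy'
    rw [g.isOpenEmbedding.isOpenMap.preimage_closure_eq_closure_preimage g.continuous,
      ← hrange] at hmem
    obtain ⟨φ, hφ⟩ := Spec.homEquiv.symm.surjective (h ≫ Limits.pullback.snd f g)
    rw [← hφ] at hmem hrange
    obtain ⟨q, hq⟩ := h5_exists_specializes_of_mem_closure_range_comap φ.hom y' hmem
    have hq' : PrimeSpectrum.comap φ.hom q ∈ g ⁻¹' Set.range f := by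
      rw [← hrange]; exact ⟨q, rfl⟩
    obtain ⟨x, hx⟩ := hq'
    exact ⟨x, hx ▸ hq.map g.continuous⟩
  obtain ⟨y', hy'⟩ := S.affineOpenCover.covers y
  have hmem : (S.affineOpenCover.f (S.affineOpenCover.idx y)) y' ∈ closure (Set.range f) := by
    rw [hy']; exact hy
  obtain ⟨x, hx⟩ := key _ (S.affineOpenCover.f (S.affineOpenCover.idx y)) inferInstance y' hmem
  rw [hy'] at hx
  exact ⟨x, hx⟩

end Groth.Agent.Lib.helper5
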