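import Groth.Agent.Lib.helper5.GeomIrr
import Mathlib
universe u
open TensorProduct Polynomial
namespace H5RF

variable {k K : Type u} [Field k] [Field K] [Algebra k K]
  (kt Kt : Type u) [Field kt] [Field Kt] [Algebra (Polynomial k) kt] [IsFractionRing (Polynomial k) kt]
  [Algebra (Polynomial K) Kt] [IsFractionRing (Polynomial K) Kt] [Algebra kt Kt]

/-- constants of `K` inside `K(t)` -/
noncomputable def cst (c : K) : Kt := algebraMap (Polynomial K) Kt (C c)

variable {kt Kt}

/-- a `k`-basis of `K` stays `k(t)`-linearly independent in `K(t)` -/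
theorem linearIndependent_cst
    (hcompat : ∀ p : Polynomial k, algebraMap kt Kt (algebraMap (Polynomial k) kt p) =
      algebraMap (Polynomial K) Kt (Polynomial.map (algebraMap k K) p))
    {ι : Type*} (b : Module.Basis ι k K) :
    LinearIndependent kt (fun i => cst (K := K) Kt (b i)) := by
  classical
  rw [linearIndependent_iff']
  intro s g hg i hi
  obtain ⟨q, hq⟩ := IsLocalization.exist_integer_multiples (nonZeroDivisors (Polynomial k)) s g
  choose! P hP using hq
  -- the relation in K[X]
  have hrel : ∑ j ∈ s, Polynomial.map (algebraMap k K) (P j) * C (b j) = 0 := by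
    apply IsFractionRing.injective (Polynomial K) Kt
    rw [map_sum, map_zero]
    have h1 : algebraMap kt Kt (algebraMap (Polynomial k) kt (q : Polynomial k)) *
        ∑ j ∈ s, g j • cst (K := K) Kt (b j) = 0 := by rw [hg, mul_zero]
    rw [Finset.mul_sum] at h1
    rw [← h1]
    refine Finset.sum_congr rfl fun j hj => ?_
    rw [map_mul, ← hcompat, hP j hj, Algebra.smul_def, Algebra.smul_def, map_mul]
    rw [cst]
    ring
  -- coefficientwise
  have hPz : ∀ j ∈ s, P j = 0 := by
    intro j hj
    ext n
    have h2 := congrArg (fun p => Polynomial.coeff p n) hrel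
    simp only [Polynomial.finset_sum_coeff, Polynomial.coeff_mul_C, Polynomial.coeff_map,
      Polynomial.coeff_zero] at h2
    have h3 : ∑ x ∈ s, (P x).coeff n • b x = 0 := by
      rw [← h2]
      exact Finset.sum_congr rfl fun x _ => by rw [Algebra.smul_def]
    exact (linearIndependent_iff'.mp b.linearIndependent) s (fun x => (P x).coeff n) h3 j hj
  have h4 := hP i hi
  rw [hPz i hi, map_zero] at h4
  have hq0 : algebraMap (Polynomial k) kt (q : Polynomial k) ≠ 0 := by
    intro h0
    exact (nonZeroDivisors.ne_zero q.2) (IsFractionRing.injective (Polynomial k) kt (h0.trans (map_zero _).symm))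
  rw [Algebra.smul_def] at h4
  exact (mul_eq_zero.mp h4.symm).resolve_left hq0

end H5RF

namespace H5RF

section theta
variable {k K : Type u} [Field k] [Field K] [Algebra k K]
  {kt Kt : Type u} [Field kt] [Field Kt] [Algebra (Polynomial k) kt] [IsFractionRing (Polynomial k) kt]
  [Algebra (Polynomial K) Kt] [IsFractionRing (Polynomial K) Kt] [Algebra kt Kt]
  (hcompat : ∀ p : Polynomial k, algebraMap kt Kt (algebraMap (Polynomial k) kt p) =
      algebraMap (Polynomial K) Kt (Polynomial.map (algebraMap k K) p))
  (L : Type u) [Field L] [Algebra kt L] [Algebra k L]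
  (hL : ∀ c : k, algebraMap k L c = algebraMap kt L (algebraMap (Polynomial k) kt (C c)))

/-- constants into the tensor product -/
noncomputable def gHom : K →ₐ[k] L ⊗[kt] Kt where
  toRingHom := (Algebra.TensorProduct.includeRight : Kt →ₐ[kt] L ⊗[kt] Kt).toRingHom.comp
    ((algebraMap (Polynomial K) Kt).comp C)
  commutes' c := by
    simp only [AlgHom.toRingHom_eq_coe, RingHom.toMonoidHom_eq_coe, OneHom.toFun_eq_coe,
      MonoidHom.toOneHom_coe, MonoidHom.coe_coe, RingHom.coe_comp, RingHom.coe_coe,
      Function.comp_apply, Algebra.TensorProduct.includeRight_apply]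
    rw [Algebra.TensorProduct.algebraMap_apply, hL c]
    have h1 : algebraMap (Polynomial K) Kt (C (algebraMap k K c)) =
        algebraMap kt Kt (algebraMap (Polynomial k) kt (C c)) := by
      rw [hcompat, Polynomial.map_C]
    rw [h1, Algebra.algebraMap_eq_smul_one (A := Kt), TensorProduct.tmul_smul,
      Algebra.algebraMap_eq_smul_one (A := L), TensorProduct.smul_tmul']

include hcompat hL in
lemma gHom_apply (c : K) : gHom hcompat L hL c = (1 : L) ⊗ₜ[kt] cst (K := K) Kt c := rfl

/-- the comparison map -/
noncomputable def theta : L ⊗[k] K →ₐ[L] L ⊗[kt] Kt :=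
  Algebra.TensorProduct.lift (Algebra.ofId L (L ⊗[kt] Kt)) (gHom hcompat L hL)
    (fun _ _ => Commute.all _ _)

lemma theta_tmul (l : L) (c : K) :
    theta hcompat L hL (l ⊗ₜ[k] c) = l ⊗ₜ[kt] cst (K := K) Kt c := by
  rw [theta, Algebra.TensorProduct.lift_tmul, gHom_apply]
  simp [Algebra.ofId_apply, Algebra.TensorProduct.algebraMap_apply,
    Algebra.TensorProduct.tmul_mul_tmul]

end theta

end H5RF

namespace H5RF

section inj
variable {kt : Type u} [Field kt] {V : Type u} [AddCommGroup V] [Module kt V]
  (L : Type u) [Field L] [Algebra kt L]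

lemma linearIndependent_one_tmul {ι : Type*} (w : ι → V) (hw : LinearIndependent kt w) :
    LinearIndependent L (fun j => (1 : L) ⊗ₜ[kt] w j) := by
  classical
  rw [LinearIndependent]
  let φ : (ι →₀ kt) →ₗ[kt] V := Finsupp.linearCombination kt w
  have hφ : Function.Injective φ := hw
  have h1 : Function.Injective (φ.lTensor L) :=
    Module.Flat.lTensor_preserves_injective_linearMap φ hφ
  let e : L ⊗[kt] (ι →₀ kt) ≃ₗ[kt] (ι →₀ L) := TensorProduct.finsuppScalarRight kt kt L ι
  have h2 : ⇑(Finsupp.linearCombination L (fun j => (1 : L) ⊗ₜ[kt] w j)) =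
      ⇑(φ.lTensor L) ∘ ⇑e.symm := by
    ext x
    induction x using Finsupp.induction_linear with
    | zero => simp
    | add f g hf hg =>
      simp only [map_add, Function.comp_apply] at hf hg ⊢
      rw [hf, hg]
    | single j l =>
      simp only [Finsupp.linearCombination_single, Function.comp_apply, e,
        TensorProduct.finsuppScalarRight_symm_apply_single, LinearMap.lTensor_tmul, φ,
        one_smul, TensorProduct.smul_tmul', smul_eq_mul, mul_one]
  rw [h2]
  exact h1.comp e.symm.injective

end inj

end H5RF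

namespace H5RF

section theta2
variable {k K : Type u} [Field k] [Field K] [Algebra k K]
  {kt Kt : Type u} [Field kt] [Field Kt] [Algebra (Polynomial k) kt] [IsFractionRing (Polynomial k) kt]
  [Algebra (Polynomial K) Kt] [IsFractionRing (Polynomial K) Kt] [Algebra kt Kt]
  (hcompat : ∀ p : Polynomial k, algebraMap kt Kt (algebraMap (Polynomial k) kt p) =
      algebraMap (Polynomial K) Kt (Polynomial.map (algebraMap k K) p))
  (L : Type u) [Field L] [Algebra kt L] [Algebra k L]
  (hL : ∀ c : k, algebraMap k L c = algebraMap kt L (algebraMap (Polynomial k) kt (C c)))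

theorem theta_injective : Function.Injective (theta hcompat L hL) := by
  classical
  let b := Module.Basis.ofVectorSpace k K
  let E := Algebra.TensorProduct.basis L b
  have hli : LinearIndependent L (fun i => (1 : L) ⊗ₜ[kt] cst (K := K) Kt (b i)) :=
    linearIndependent_one_tmul L _ (linearIndependent_cst hcompat b)
  rw [injective_iff_map_eq_zero]
  intro x hx
  have h1 : (theta hcompat L hL).toLinearMap (Finsupp.linearCombination L E (E.repr x)) = 0 := by
    rw [E.linearCombination_repr]; exact hx
  rw [Finsupp.apply_linearCombination] at h1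
  have h2 : (⇑(theta hcompat L hL).toLinearMap ∘ ⇑E) =
      fun i => (1 : L) ⊗ₜ[kt] cst (K := K) Kt (b i) := by
    ext i
    simp only [Function.comp_apply, AlgHom.toLinearMap_apply, E,
      Algebra.TensorProduct.basis_apply, theta_tmul]
  rw [h2] at h1
  have h3 := linearIndependent_iff.mp hli _ h1
  exact E.repr.map_eq_zero_iff.mp h3

end theta2

end H5RF

namespace H5RF

section backward
variable {k K : Type u} [Field k] [Field K] [Algebra k K]
  {kt Kt : Type u} [Field kt] [Field Kt] [Algebra (Polynomial k) kt] [IsFractionRing (Polynomial k) kt]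
  [Algebra (Polynomial K) Kt] [IsFractionRing (Polynomial K) Kt] [Algebra kt Kt]
  (hcompat : ∀ p : Polynomial k, algebraMap kt Kt (algebraMap (Polynomial k) kt p) =
      algebraMap (Polynomial K) Kt (Polynomial.map (algebraMap k K) p))

include hcompat in
theorem backward
    (h : ∀ (L : Type u) [Field L] [Algebra kt L], IrreducibleSpace (PrimeSpectrum (L ⊗[kt] Kt)))
    (k' : Type u) [Field k'] [Algebra k k'] : IrreducibleSpace (PrimeSpectrum (k' ⊗[k] K)) := by
  let L := FractionRing (Polynomial k')
  let g : Polynomial k →+* L :=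
    (algebraMap (Polynomial k') L).comp (Polynomial.mapRingHom (algebraMap k k'))
  have hg : Function.Injective g :=
    (IsFractionRing.injective (Polynomial k') L).comp
      (Polynomial.map_injective _ (algebraMap k k').injective)
  letI : Algebra kt L := (IsFractionRing.lift hg).toAlgebra
  have hL : ∀ c : k, algebraMap k L c = algebraMap kt L (algebraMap (Polynomial k) kt (C c)) := by
    intro c
    change _ = IsFractionRing.lift hg (algebraMap (Polynomial k) kt (C c))
    rw [IsFractionRing.lift_algebraMap]
    simp only [g, RingHom.comp_apply, Polynomial.coe_mapRingHom, Polynomial.map_C]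
    rw [IsScalarTower.algebraMap_apply k (Polynomial k') L, Polynomial.algebraMap_apply]
  have h1 := h L
  have h2 : IrreducibleSpace (PrimeSpectrum (L ⊗[k] K)) :=
    H5GI.irreducibleSpace_of_injective (theta hcompat L hL).toRingHom
      (theta_injective hcompat L hL) h1
  let ι : k' ⊗[k] K →ₐ[k] L ⊗[k] K :=
    Algebra.TensorProduct.map (IsScalarTower.toAlgHom k k' L) (AlgHom.id k K)
  have hι : Function.Injective ι :=
    Module.Flat.rTensor_preserves_injective_linearMap (M := K)
      (IsScalarTower.toAlgHom k k' L).toLinearMap (algebraMap k' L).injective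
  exact H5GI.irreducibleSpace_of_injective ι.toRingHom hι h2

end backward

end H5RF

namespace H5RF

section forward
variable {k K : Type u} [Field k] [Field K] [Algebra k K]
  {kt Kt : Type u} [Field kt] [Field Kt] [Algebra (Polynomial k) kt] [IsFractionRing (Polynomial k) kt]
  [Algebra (Polynomial K) Kt] [IsFractionRing (Polynomial K) Kt] [Algebra kt Kt]
  (hcompat : ∀ p : Polynomial k, algebraMap kt Kt (algebraMap (Polynomial k) kt p) =
      algebraMap (Polynomial K) Kt (Polynomial.map (algebraMap k K) p))
  (L : Type u) [Field L] [Algebra kt L] [Algebra k L]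
  (hL : ∀ c : k, algebraMap k L c = algebraMap kt L (algebraMap (Polynomial k) kt (C c)))

/-- polynomials over `K` inside `L ⊗[k] K` -/
noncomputable def iota : Polynomial K →+* L ⊗[k] K :=
  Polynomial.eval₂RingHom (Algebra.TensorProduct.includeRight : K →ₐ[k] L ⊗[k] K).toRingHom
    ((algebraMap kt L (algebraMap (Polynomial k) kt X)) ⊗ₜ[k] (1 : K))

lemma theta_iota (f : Polynomial K) :
    theta hcompat L hL (iota (k := k) (kt := kt) L f) =
      (1 : L) ⊗ₜ[kt] algebraMap (Polynomial K) Kt f := by
  have h : (theta hcompat L hL).toRingHom.comp (iota (k := k) (kt := kt) L) =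
      (Algebra.TensorProduct.includeRight : Kt →ₐ[kt] L ⊗[kt] Kt).toRingHom.comp
        (algebraMap (Polynomial K) Kt) := by
    apply Polynomial.ringHom_ext
    · intro c
      simp only [RingHom.comp_apply, iota, Polynomial.coe_eval₂RingHom, Polynomial.eval₂_C,
        AlgHom.toRingHom_eq_coe, RingHom.coe_coe, Algebra.TensorProduct.includeRight_apply,
        theta_tmul]
      rfl
    · simp only [RingHom.comp_apply, iota, Polynomial.coe_eval₂RingHom, Polynomial.eval₂_X,
        AlgHom.toRingHom_eq_coe, RingHom.coe_coe, Algebra.TensorProduct.includeRight_apply,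
        theta_tmul]
      have h1 : cst (K := K) Kt 1 = 1 := by rw [cst, map_one, map_one]
      have h2 : algebraMap (Polynomial K) Kt X =
          algebraMap kt Kt (algebraMap (Polynomial k) kt X) := by
        rw [hcompat, Polynomial.map_X]
      rw [h1, h2, Algebra.algebraMap_eq_smul_one (A := Kt), TensorProduct.tmul_smul,
        Algebra.algebraMap_eq_smul_one (A := L), TensorProduct.smul_tmul']
  exact RingHom.congr_fun h f

lemma exists_mul_eq (x' : L ⊗[kt] Kt) : ∃ (x : L ⊗[k] K) (g : Polynomial K), g ≠ 0 ∧
    x' * ((1 : L) ⊗ₜ[kt] algebraMap (Polynomial K) Kt g) = theta hcompat L hL x := by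
  induction x' using TensorProduct.induction_on with
  | zero => exact ⟨0, 1, one_ne_zero, by simp⟩
  | tmul l z =>
    obtain ⟨f, g, hg, rfl⟩ := IsFractionRing.div_surjective (A := Polynomial K) z
    refine ⟨(l ⊗ₜ[k] (1 : K)) * iota (k := k) (kt := kt) L f, g, nonZeroDivisors.ne_zero hg, ?_⟩
    have hg0 : algebraMap (Polynomial K) Kt g ≠ 0 := by
      intro h0
      exact nonZeroDivisors.ne_zero hg
        (IsFractionRing.injective (Polynomial K) Kt (h0.trans (map_zero _).symm))
    rw [map_mul, theta_iota, theta_tmul, Algebra.TensorProduct.tmul_mul_tmul,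
      Algebra.TensorProduct.tmul_mul_tmul, mul_one, div_mul_cancel₀ _ hg0]
    have h1 : cst (K := K) Kt 1 = 1 := by rw [cst, map_one, map_one]
    rw [h1, one_mul]
  | add a b ha hb =>
    obtain ⟨x₁, g₁, hg₁, h₁⟩ := ha
    obtain ⟨x₂, g₂, hg₂, h₂⟩ := hb
    refine ⟨x₁ * iota (k := k) (kt := kt) L g₂ + x₂ * iota (k := k) (kt := kt) L g₁, g₁ * g₂,
      mul_ne_zero hg₁ hg₂, ?_⟩
    have e1 : theta hcompat L hL (x₁ * iota (k := k) (kt := kt) L g₂ +
        x₂ * iota (k := k) (kt := kt) L g₁) =
        theta hcompat L hL x₁ * ((1 : L) ⊗ₜ[kt] algebraMap (Polynomial K) Kt g₂) +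
          theta hcompat L hL x₂ * ((1 : L) ⊗ₜ[kt] algebraMap (Polynomial K) Kt g₁) := by
      rw [map_add, map_mul, map_mul, theta_iota, theta_iota]
    have e2 : (1 : L) ⊗ₜ[kt] algebraMap (Polynomial K) Kt (g₁ * g₂) =
        ((1 : L) ⊗ₜ[kt] algebraMap (Polynomial K) Kt g₁) *
          ((1 : L) ⊗ₜ[kt] algebraMap (Polynomial K) Kt g₂) := by
      rw [map_mul, Algebra.TensorProduct.tmul_mul_tmul, mul_one]
    rw [e1, e2, ← h₁, ← h₂]
    ring

end forward

end H5RF

namespace H5RF

section forward2
variable {k K : Type u} [Field k] [Field K] [Algebra k K]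
  {kt Kt : Type u} [Field kt] [Field Kt] [Algebra (Polynomial k) kt] [IsFractionRing (Polynomial k) kt]
  [Algebra (Polynomial K) Kt] [IsFractionRing (Polynomial K) Kt] [Algebra kt Kt]
  (hcompat : ∀ p : Polynomial k, algebraMap kt Kt (algebraMap (Polynomial k) kt p) =
      algebraMap (Polynomial K) Kt (Polynomial.map (algebraMap k K) p))

lemma isNilpotent_of_mul_unit {T : Type*} [CommRing T] (a u : T) (hu : IsUnit u)
    (h : IsNilpotent (a * u)) : IsNilpotent a := by
  obtain ⟨v, rfl⟩ := hu
  have : a = a * ↑v * ↑v⁻¹ := by rw [mul_assoc, Units.mul_inv, mul_one]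
  rw [this]
  exact (Commute.all _ _).isNilpotent_mul_right h

include hcompat in
theorem forward
    (h : ∀ (k' : Type u) [Field k'] [Algebra k k'], IrreducibleSpace (PrimeSpectrum (k' ⊗[k] K)))
    (L : Type u) [Field L] [Algebra kt L] : IrreducibleSpace (PrimeSpectrum (L ⊗[kt] Kt)) := by
  letI : Algebra k L :=
    ((algebraMap kt L).comp ((algebraMap (Polynomial k) kt).comp C)).toAlgebra
  have hL : ∀ c : k, algebraMap k L c = algebraMap kt L (algebraMap (Polynomial k) kt (C c)) :=
    fun c => rfl
  have h1 := PrimeSpectrum.irreducibleSpace_iff_isPrime_nilradical.mp (h L)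
  rw [PrimeSpectrum.irreducibleSpace_iff_isPrime_nilradical]
  have hu : ∀ g : Polynomial K, g ≠ 0 →
      IsUnit ((1 : L) ⊗ₜ[kt] algebraMap (Polynomial K) Kt g) := by
    intro g hg
    have hg0 : algebraMap (Polynomial K) Kt g ≠ 0 := by
      intro h0
      exact hg (IsFractionRing.injective (Polynomial K) Kt (h0.trans (map_zero _).symm))
    exact (IsUnit.mk0 _ hg0).map (Algebra.TensorProduct.includeRight : Kt →ₐ[kt] L ⊗[kt] Kt)
  constructor
  · intro htop
    have h0 : (1 : L ⊗[kt] Kt) ∈ nilradical _ := htop ▸ Submodule.mem_top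
    obtain ⟨n, hn⟩ := mem_nilradical.mp h0
    rw [one_pow] at hn
    exact one_ne_zero hn
  · intro a b hab
    obtain ⟨x, g, hg, hx⟩ := exists_mul_eq hcompat L hL a
    obtain ⟨y, g', hg', hy⟩ := exists_mul_eq hcompat L hL b
    have h2 : IsNilpotent (theta hcompat L hL (x * y)) := by
      rw [map_mul, ← hx, ← hy]
      have h3 : a * (1 : L) ⊗ₜ[kt] algebraMap (Polynomial K) Kt g *
          (b * (1 : L) ⊗ₜ[kt] algebraMap (Polynomial K) Kt g') =
          (a * b) * ((1 : L) ⊗ₜ[kt] algebraMap (Polynomial K) Kt g *
            (1 : L) ⊗ₜ[kt] algebraMap (Polynomial K) Kt g') := by ring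
      rw [h3]
      exact (Commute.all _ _).isNilpotent_mul_right (mem_nilradical.mp hab)
    have h4 : x * y ∈ nilradical (L ⊗[k] K) :=
      mem_nilradical.mpr ((IsNilpotent.map_iff (theta_injective hcompat L hL)).mp h2)
    rcases h1.mem_or_mem h4 with h5 | h5
    · left
      rw [mem_nilradical]
      apply isNilpotent_of_mul_unit a _ (hu g hg)
      rw [hx]
      exact (mem_nilradical.mp h5).map _
    · right
      rw [mem_nilradical]
      apply isNilpotent_of_mul_unit b _ (hu g' hg')
      rw [hy]
      exact (mem_nilradical.mp h5).map _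

include hcompat in
theorem main :
    (∀ (k' : Type u) [Field k'] [Algebra k k'], IrreducibleSpace (PrimeSpectrum (k' ⊗[k] K))) ↔
      ∀ (L : Type u) [Field L] [Algebra kt L], IrreducibleSpace (PrimeSpectrum (L ⊗[kt] Kt)) :=
  ⟨fun h L _ _ => forward hcompat h L, fun h k' _ _ => backward hcompat h k'⟩

end forward2

end H5RF
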