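import Mathlib
import Groth.Prelude.Def_Found
universe u
open TensorProduct
namespace H5RH

lemma isReduced_of_isRegularRing_of_artinian (B : Type*) [CommRing B] [IsArtinianRing B]
    [IsRegularRing B] : IsReduced B := by
  apply isReduced_ofLocalizationMaximal
  intro m hm
  have hreg : IsRegularLocalRing (Localization.AtPrime m) := inferInstance
  have h1 := hreg.spanFinrank_maximalIdeal
  have h2 : ringKrullDim (Localization.AtPrime m) = 0 :=
    ringKrullDimZero_iff_ringKrullDim_eq_zero.mp inferInstance
  rw [h2] at h1
  have h3 : (IsLocalRing.maximalIdeal (Localization.AtPrime m)).spanFinrank = 0 := by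
    exact_mod_cast h1
  have h4 : IsLocalRing.maximalIdeal (Localization.AtPrime m) = ⊥ :=
    (Submodule.spanFinrank_eq_zero_iff_eq_bot (IsNoetherian.noetherian _)).mp h3
  have h5 : IsField (Localization.AtPrime m) := IsLocalRing.isField_iff_maximalIdeal_eq.mpr h4
  letI := h5.toField
  infer_instance

lemma isRegularRing_of_isReduced_of_artinian (B : Type*) [CommRing B] [IsArtinianRing B]
    [IsReduced B] : IsRegularRing B := by
  rw [isRegularRing_iff]
  intro p hp
  have h5 : IsField (Localization.AtPrime p) :=
    IsArtinianRing.isField_of_isReduced_of_isLocalRing _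
  letI := h5.toField
  infer_instance

end H5RH

namespace H5RH

section
variable (k K : Type u) [Field k] [Field K] [Algebra k K]

/-- finite field extension tensored with a field: Artinian. -/
lemma isArtinianRing_tensor (F : Type u) [Field F] [Algebra k F] [Module.Finite k F] :
    IsArtinianRing (K ⊗[k] F) := by
  have : Module.Finite K (K ⊗[k] F) := inferInstance
  exact IsArtinianRing.of_finite K (K ⊗[k] F)

lemma isRegularRing_tensor_of_geomReduced [Algebra.IsGeometricallyReduced k K]
    (F : Type u) [Field F] [Algebra k F] [Module.Finite k F] :
    IsRegularRing (F ⊗[k] K) := by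
  haveI : Algebra.IsAlgebraic k F := Algebra.IsAlgebraic.of_finite k F
  have h1 : IsReduced (F ⊗[k] K) := inferInstance
  have h2 : IsReduced (K ⊗[k] F) :=
    isReduced_of_injective (Algebra.TensorProduct.comm k K F).toAlgHom
      (Algebra.TensorProduct.comm k K F).injective
  haveI := isArtinianRing_tensor k K F
  haveI := isRegularRing_of_isReduced_of_artinian (K ⊗[k] F)
  exact IsRegularRing.of_ringEquiv (Algebra.TensorProduct.comm k K F).toRingEquiv

lemma isReduced_tensor_of_isRegularRing
    (F : Type u) [Field F] [Algebra k F] [Module.Finite k F] (h : IsRegularRing (F ⊗[k] K)) :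
    IsReduced (K ⊗[k] F) := by
  haveI := isArtinianRing_tensor k K F
  haveI : IsRegularRing (K ⊗[k] F) :=
    IsRegularRing.of_ringEquiv (Algebra.TensorProduct.comm k F K).toRingEquiv
  exact isReduced_of_isRegularRing_of_artinian (K ⊗[k] F)

end

end H5RH

namespace H5RH

section
variable (k K : Type u) [Field k] [Field K] [Algebra k K]

theorem regularHom_of_geomReduced [Algebra.IsGeometricallyReduced k K] : CAlg.IsRegularHom k K := by
  refine ⟨inferInstance, fun p hp => ⟨?_, ?_⟩⟩
  · let e := p.algEquivResidueFieldOfField
    let e1 : p.Fiber K ≃ₐ[k] K :=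
      (Algebra.TensorProduct.congr e.symm AlgEquiv.refl).trans (Algebra.TensorProduct.lid k K)
    exact isNoetherianRing_of_ringEquiv K e1.symm.toRingEquiv
  · intro F _ _ hfin
    letI : Algebra k F :=
      ((algebraMap p.ResidueField F).comp (algebraMap k p.ResidueField)).toAlgebra
    haveI : IsScalarTower k p.ResidueField F := IsScalarTower.of_algebraMap_eq (fun _ => rfl)
    haveI : Module.Finite k p.ResidueField := by
      haveI : p.IsMaximal := by simpa [p.eq_bot_of_prime] using Ideal.bot_isMaximal
      infer_instance
    haveI : Module.Finite k F := Module.Finite.trans p.ResidueField F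
    haveI := isRegularRing_tensor_of_geomReduced k K F
    exact IsRegularRing.of_ringEquiv
      (Algebra.TensorProduct.cancelBaseChange k p.ResidueField p.ResidueField F K).symm.toRingEquiv

theorem isReduced_of_regularHom (h : CAlg.IsRegularHom k K) (B : Type u) [CommRing B] [IsDomain B]
    [Algebra k B] [Module.Finite k B] : IsReduced (K ⊗[k] B) := by
  letI : Field B := (isField_of_isIntegral_of_isField' (R := k) (Field.toIsField k)).toField
  let p : Ideal k := ⊥
  let e := p.algEquivResidueFieldOfField
  letI : Algebra p.ResidueField B := ((algebraMap k B).comp (e.symm : p.ResidueField →+* k)).toAlgebra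
  haveI : IsScalarTower k p.ResidueField B := IsScalarTower.of_algebraMap_eq (fun x => by
    show algebraMap k B x = algebraMap k B (e.symm (algebraMap k p.ResidueField x))
    rw [← Ideal.algEquivResidueFieldOfField_apply, e.symm_apply_apply])
  haveI : Module.Finite p.ResidueField B := Module.Finite.of_restrictScalars_finite k _ _
  have h1 : IsRegularRing (B ⊗[p.ResidueField] p.Fiber K) := (h.2 p).2 B inferInstance
  have h2 : IsRegularRing (B ⊗[k] K) := IsRegularRing.of_ringEquiv
    (Algebra.TensorProduct.cancelBaseChange k p.ResidueField p.ResidueField B K).toRingEquiv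
  exact isReduced_tensor_of_isRegularRing k K B h2

theorem main : CAlg.IsRegularHom k K ↔ Algebra.IsGeometricallyReduced k K := by
  constructor
  · intro h
    rw [Algebra.isGeometricallyReduced_field_iff]
    have h1 : IsReduced (K ⊗[k] AlgebraicClosure k) := by
      apply IsReduced.tensorProduct_of_flat_of_forall_fg
      intro B hB
      haveI : Algebra.IsIntegral k B :=
        Algebra.IsIntegral.of_injective B.val Subtype.val_injective
      haveI : Algebra.FiniteType k B := (Subalgebra.fg_iff_finiteType B).mp hB
      haveI : Module.Finite k B := Algebra.IsIntegral.finite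
      exact isReduced_of_regularHom k K h B
    exact isReduced_of_injective (Algebra.TensorProduct.comm k (AlgebraicClosure k) K).toAlgHom
      (Algebra.TensorProduct.comm k _ _).injective
  · intro h
    exact regularHom_of_geomReduced k K

end

end H5RH
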