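import Mathlib

set_option autoImplicit false
universe u
open CategoryTheory CategoryTheory.Limits AlgebraicGeometry Opposite

namespace Groth.Agent.Lib.helper5

/-- A nonempty scheme locally of finite type over an algebraically closed field has a rational
point. -/
theorem h5_exists_section_of_lft_algClosed (k : Type u) [Field k] [IsAlgClosed k] {U : Scheme.{u}}
    (g : U ⟶ Spec (CommRingCat.of k)) [LocallyOfFiniteType g] (u : U) :
    ∃ σ : Spec (CommRingCat.of k) ⟶ U, σ ≫ g = 𝟙 _ := by
  obtain ⟨_, ⟨W₀, hW, rfl⟩, huW, -⟩ :=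
    U.isBasis_affineOpens.exists_subset_of_mem_open (Set.mem_univ u) isOpen_univ
  let W : U.Opens := W₀
  haveI : CompactSpace W := isCompact_iff_compactSpace.1 hW.isCompact
  obtain ⟨w, -, hw⟩ := IsClosed.exists_closed_singleton (X := W) isClosed_univ
    ⟨⟨u, huW⟩, trivial⟩
  haveI : IsClosedImmersion (W.toScheme.fromSpecResidueField w) :=
    isClosed_singleton_iff_isClosedImmersion.mp hw
  let h := W.toScheme.fromSpecResidueField w ≫ W.ι ≫ g
  haveI : LocallyOfFiniteType h := inferInstance
  haveI : IsFinite h := isFinite_iff_locallyOfFiniteType_of_jacobsonSpace.mpr inferInstance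
  obtain ⟨φ, hφ⟩ := Spec.map_surjective h
  have hfin : φ.hom.Finite := by rw [← IsFinite.SpecMap_iff, hφ]; infer_instance
  algebraize [φ.hom]
  have hbij := IsAlgClosed.algebraMap_bijective_of_isIntegral (k := k)
    (K := W.toScheme.residueField w)
  let e : k ≃+* W.toScheme.residueField w := RingEquiv.ofBijective φ.hom hbij
  refine ⟨Spec.map (CommRingCat.ofHom e.symm.toRingHom) ≫
    W.toScheme.fromSpecResidueField w ≫ W.ι, ?_⟩
  rw [Category.assoc, Category.assoc]
  change Spec.map _ ≫ h = _
  rw [← hφ, ← Spec.map_comp, ← Spec.map_id]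
  congr 1
  ext x
  exact e.symm_apply_apply x

end Groth.Agent.Lib.helper5
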