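import Mathlib
import Groth.Agent.Lib.helper5.AlgSpFpqc

set_option autoImplicit false
universe u
open CategoryTheory CategoryTheory.Limits AlgebraicGeometry Opposite Topology

namespace Groth.Agent.Lib.helper5

/-- Unpack membership in the fpqc precoverage. -/
theorem h5_fpqc_unpack {ι : Type u} {T : Scheme.{u}} {Ti : ι → Scheme.{u}}
    (f : ∀ i, Ti i ⟶ T) (hf : Presieve.ofArrows Ti f ∈ Scheme.fpqcPrecoverage T) :
    (∀ y : T, ∃ i, y ∈ Set.range (f i)) ∧ (∀ i, Flat (f i)) ∧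
      QuasiCompactCover (⟨ι, Ti, f⟩ : PreZeroHypercover.{u} T) := by
  have h1 : Presieve.ofArrows Ti f ∈ Scheme.qcPrecoverage T := hf.1
  have h2 : Presieve.ofArrows Ti f ∈ Scheme.precoverage @Flat T := hf.2
  rw [Scheme.ofArrows_mem_precoverage_iff] at h2
  refine ⟨h2.1, h2.2, ?_⟩
  exact (Scheme.presieve₀_mem_qcPrecoverage_iff (E := (⟨ι, Ti, f⟩ : PreZeroHypercover.{u} T))).1 h1

/-- An fpqc covering family detects open subsets. -/
theorem h5_isOpen_of_mem_fpqcPrecoverage {ι : Type u} {T : Scheme.{u}} {Ti : ι → Scheme.{u}}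
    (f : ∀ i, Ti i ⟶ T) (hf : Presieve.ofArrows Ti f ∈ Scheme.fpqcPrecoverage T)
    (B : Set T) (hB : ∀ i, IsOpen ((f i) ⁻¹' B)) : IsOpen B := by
  obtain ⟨hsurj, hflat, hqc⟩ := h5_fpqc_unpack f hf
  rw [isOpen_iff_forall_mem_open]
  intro y hy
  obtain ⟨_, ⟨U : T.Opens, hU, rfl⟩, hyU, -⟩ :=
    T.isBasis_affineOpens.exists_subset_of_mem_open (Set.mem_univ y) isOpen_univ
  obtain ⟨n, a, V, hV, hcov⟩ :=
    QuasiCompactCover.exists_isAffineOpen_of_isCompact
      (⟨ι, Ti, f⟩ : PreZeroHypercover.{u} T) hU.isCompact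
  have hcov' : ⋃ k, (f (a k)) '' (V k : Set (Ti (a k))) = (U : Set T) := hcov
  -- the restricted maps
  have hrange : ∀ k, Set.range ((V k).ι ≫ f (a k)) ⊆ Set.range U.ι := by
    intro k
    rintro _ ⟨v, rfl⟩
    rw [Scheme.Opens.range_ι, ← hcov']
    refine Set.mem_iUnion.2 ⟨k, v.1, v.2, ?_⟩
    rw [Scheme.Hom.comp_apply]
    rfl
  let c : ∀ k, (V k).toScheme ⟶ U.toScheme := fun k =>
    IsOpenImmersion.lift U.ι ((V k).ι ≫ f (a k)) (hrange k)
  have hc : ∀ k, c k ≫ U.ι = (V k).ι ≫ f (a k) := fun k => IsOpenImmersion.lift_fac _ _ _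
  have hcflat : ∀ k, Flat (c k) := by
    intro k
    haveI := hflat (a k)
    have : Flat (c k ≫ U.ι) := by rw [hc]; infer_instance
    exact MorphismProperty.of_postcomp (W := @Flat) (W' := @IsOpenImmersion) (c k) U.ι
      inferInstance this
  haveI : IsAffine U.toScheme := hU
  have hopenU : IsOpen (U.ι ⁻¹' B) := by
    apply AlgSp.h5_isOpen_of_fpqc_family (fun k => (V k).toScheme) c (fun k => hV k) hcflat
    · intro z
      have hz : (U.ι z) ∈ (U : Set T) := z.2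
      rw [← hcov'] at hz
      obtain ⟨k, v, hv, hvz⟩ := Set.mem_iUnion.1 hz
      refine ⟨k, ⟨v, hv⟩, ?_⟩
      apply U.ι.injective
      rw [← Scheme.Hom.comp_apply, hc, Scheme.Hom.comp_apply]
      exact hvz
    · intro k
      have : (c k) ⁻¹' (U.ι ⁻¹' B) = (V k).ι ⁻¹' ((f (a k)) ⁻¹' B) := by
        ext v
        simp only [Set.mem_preimage]
        rw [← Scheme.Hom.comp_apply, hc, Scheme.Hom.comp_apply]
      rw [this]
      exact (hB (a k)).preimage (V k).ι.continuous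
  refine ⟨U.ι '' (U.ι ⁻¹' B), ?_, U.ι.isOpenEmbedding.isOpenMap _ hopenU, ?_⟩
  · rintro _ ⟨z, hz, rfl⟩
    exact hz
  · exact ⟨⟨y, hyU⟩, hy, rfl⟩

end Groth.Agent.Lib.helper5
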