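import Mathlib
import Groth.Agent.Lib.helper5.SchSrcDesc
import Groth.Agent.Lib.helper7.LocConstr

set_option autoImplicit false
universe u
open CategoryTheory CategoryTheory.Limits AlgebraicGeometry Opposite Topology TopologicalSpace
open scoped Set.Notation

namespace Groth.Agent.Lib.helper5

/-- Local constructibility descends along etale surjective morphisms. -/
theorem h5_isLocallyConstructible_of_etale_surjective {V' V : Scheme.{u}} (q : V' ⟶ V) [Etale q]
    [Surjective q] (T : Set V) (h : IsLocallyConstructible (q ⁻¹' T)) :
    IsLocallyConstructible T := by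
  choose U U' hU hU' hvU _ hle hsurj using
    fun v : V => h5_exists_affine_surjOn q q.isOpenMap v ⊤ trivial
  refine IsLocallyConstructible.of_isOpenCover (U := U) ?_ (fun v => ?_)
  · rw [TopologicalSpace.IsOpenCover, eq_top_iff]
    intro x _
    exact Opens.mem_iSup.mpr ⟨x, hvU x⟩
  · haveI : Surjective (q.resLE (U v) (U' v) (hle v)) :=
      h5_surjective_resLE q _ _ (hle v) (hsurj v)
    haveI : IsAffine (U v).toScheme := hU v
    haveI : IsAffine (U' v).toScheme := hU' v
    haveI : Etale (q.resLE (U v) (U' v) (hle v)) := by
      rw [Scheme.Hom.resLE]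
      infer_instance
    have h1 : IsLocallyConstructible
        ((q.resLE (U v) (U' v) (hle v)) ⁻¹' ((U v : Set V) ↓∩ T)) := by
      have h0 := h.preimage_of_isOpenEmbedding (U' v).ι.isOpenEmbedding
      convert h0 using 1
      ext z
      simp only [Set.mem_preimage]
      rw [← Scheme.Hom.comp_apply, ← Scheme.Hom.resLE_comp_ι q (hle v), Scheme.Hom.comp_apply]
      rfl
    have h2 := (q.resLE (U v) (U' v) (hle v)).isLocallyConstructible_image h1
    rwa [Set.image_preimage_eq _ (q.resLE (U v) (U' v) (hle v)).surjective] at h2

end Groth.Agent.Lib.helper5
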