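import Mathlib

set_option autoImplicit false
universe u
open CategoryTheory CategoryTheory.Limits AlgebraicGeometry Opposite MorphismProperty TensorProduct

namespace Groth.Agent.Lib.helper5

/-- Quasi-finiteness descends along faithfully flat base change. -/
theorem h5_quasiFinite_of_faithfullyFlat (R S A : Type u) [CommRing R] [CommRing S] [CommRing A]
    [Algebra R S] [Algebra R A] [Module.FaithfullyFlat R A] [Algebra.QuasiFinite A (A ⊗[R] S)] :
    Algebra.QuasiFinite R S := by
  refine ⟨fun p hp => ?_⟩
  obtain ⟨P, hP⟩ := PrimeSpectrum.comap_surjective_of_faithfullyFlat (A := R) (B := A) ⟨p, hp⟩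
  haveI : P.asIdeal.LiesOver p := ⟨by
    have := congrArg PrimeSpectrum.asIdeal hP
    simpa [Ideal.under] using this.symm⟩
  let _ := Localization.AtPrime.algebraOfLiesOver p P.asIdeal
  let e : P.asIdeal.Fiber (A ⊗[R] S) ≃ₐ[P.asIdeal.ResidueField]
      P.asIdeal.ResidueField ⊗[p.ResidueField] (p.Fiber S) :=
    (Algebra.TensorProduct.cancelBaseChange _ _ _ _ _).trans
      (Algebra.TensorProduct.cancelBaseChange _ _ _ _ _).symm
  haveI : Module.Finite P.asIdeal.ResidueField
      (P.asIdeal.ResidueField ⊗[p.ResidueField] (p.Fiber S)) :=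
    .of_surjective e.toLinearMap e.surjective
  exact Module.Finite.of_finite_tensorProduct_of_faithfullyFlat P.asIdeal.ResidueField

theorem h5_ringHom_quasiFinite_codescendsAlong_faithfullyFlat :
    RingHom.CodescendsAlong RingHom.QuasiFinite RingHom.FaithfullyFlat := by
  refine .mk _ RingHom.QuasiFinite.respectsIso fun R S T _ _ _ _ _ h h' ↦ ?_
  rw [RingHom.quasiFinite_algebraMap] at h' ⊢
  rw [RingHom.faithfullyFlat_algebraMap_iff] at h
  exact h5_quasiFinite_of_faithfullyFlat R T S

instance h5_lqf_descendsAlong_fpqc :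
    DescendsAlong (@LocallyQuasiFinite : MorphismProperty Scheme.{u})
      (@Surjective ⊓ @Flat ⊓ @QuasiCompact) :=
  HasRingHomProperty.descendsAlong_flat h5_ringHom_quasiFinite_codescendsAlong_faithfullyFlat

end Groth.Agent.Lib.helper5
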