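import Mathlib

/-! Helper lemmas on connectedness / irreducibility of prime spectra (helper5). -/

set_option autoImplicit false
universe u

namespace Groth.Agent.Lib.helper5

open PrimeSpectrum TopologicalSpace

/-- `Spec R` is connected iff `R` is nontrivial and has only the trivial idempotents. -/
theorem h5_connectedSpace_primeSpectrum_iff (R : Type u) [CommRing R] :
    ConnectedSpace (PrimeSpectrum R) ↔
      Nontrivial R ∧ ∀ e : R, IsIdempotentElem e → e = 0 ∨ e = 1 := by
  rw [connectedSpace_iff_clopen, PrimeSpectrum.nonempty_iff_nontrivial]
  refine and_congr Iff.rfl ?_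
  constructor
  · intro h e he
    let s : Clopens (PrimeSpectrum R) := isIdempotentElemEquivClopens ⟨e, he⟩
    rcases h s s.isClopen with hs | hs
    · left
      have : s = ⊥ := Clopens.ext hs
      have h2 : isIdempotentElemEquivClopens.symm s = ⟨(0 : R), .zero⟩ := by
        rw [this]; exact isIdempotentElemEquivClopens_symm_bot
      rw [OrderIso.symm_apply_apply] at h2
      exact congrArg Subtype.val h2
    · right
      have : s = ⊤ := Clopens.ext hs
      have h2 : isIdempotentElemEquivClopens.symm s = ⟨(1 : R), .one⟩ := by
        rw [this]; exact isIdempotentElemEquivClopens_symm_top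
      rw [OrderIso.symm_apply_apply] at h2
      exact congrArg Subtype.val h2
  · intro h s hs
    let c : Clopens (PrimeSpectrum R) := ⟨s, hs⟩
    have hc : isIdempotentElemEquivClopens (isIdempotentElemEquivClopens.symm c) = c :=
      OrderIso.apply_symm_apply _ _
    rcases h _ (isIdempotentElemEquivClopens.symm c).2 with h0 | h1
    · left
      have : isIdempotentElemEquivClopens.symm c = ⟨(0 : R), .zero⟩ := Subtype.ext h0
      rw [← isIdempotentElemEquivClopens_symm_bot] at this
      have := isIdempotentElemEquivClopens.symm.injective this
      exact congrArg (fun c : Clopens (PrimeSpectrum R) => (c : Set (PrimeSpectrum R))) this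
    · right
      have : isIdempotentElemEquivClopens.symm c = ⟨(1 : R), .one⟩ := Subtype.ext h1
      rw [← isIdempotentElemEquivClopens_symm_top] at this
      have := isIdempotentElemEquivClopens.symm.injective this
      exact congrArg (fun c : Clopens (PrimeSpectrum R) => (c : Set (PrimeSpectrum R))) this

/-- Connectedness of spectra descends along injective ring maps. -/
theorem h5_connectedSpace_of_injective {A B : Type u} [CommRing A] [CommRing B] (f : A →+* B)
    (hf : Function.Injective f) [ConnectedSpace (PrimeSpectrum B)] :
    ConnectedSpace (PrimeSpectrum A) := by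
  rw [h5_connectedSpace_primeSpectrum_iff] at *
  obtain ⟨hnt, hB⟩ := ‹Nontrivial B ∧ _›
  refine ⟨f.domain_nontrivial, fun e he => ?_⟩
  rcases hB (f e) (he.map f) with h | h
  · left; exact hf (by rw [h, map_zero])
  · right; exact hf (by rw [h, map_one])

/-- Irreducibility of spectra descends along injective ring maps. -/
theorem h5_irreducibleSpace_of_injective {A B : Type u} [CommRing A] [CommRing B] (f : A →+* B)
    (hf : Function.Injective f) [IrreducibleSpace (PrimeSpectrum B)] :
    IrreducibleSpace (PrimeSpectrum A) := by
  rw [PrimeSpectrum.irreducibleSpace_iff_isPrime_nilradical] at *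
  have hB : (nilradical B).IsPrime := ‹_›
  have : nilradical A = (nilradical B).comap f := by
    ext x
    simp only [mem_nilradical, Ideal.mem_comap]
    constructor
    · intro h; exact h.map f
    · rintro ⟨n, hn⟩
      exact ⟨n, hf (by rw [map_pow, hn, map_zero])⟩
  rw [this]
  exact Ideal.IsPrime.comap f

end Groth.Agent.Lib.helper5
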