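import Mathlib
import Groth.Agent.Lib.helper5.SpecConn

/-! Connected components of prime spectra in terms of idempotents (helper5). -/

set_option autoImplicit false
universe u

namespace Groth.Agent.Lib.helper5

open PrimeSpectrum TopologicalSpace

/-- The set of idempotents contained in a prime. -/
def h5_idemSet {R : Type u} [CommRing R] (p : PrimeSpectrum R) : Set R :=
  {e : R | IsIdempotentElem e ∧ e ∈ p.asIdeal}

theorem h5_isClopen_zeroLocus_idem {R : Type u} [CommRing R] (e : R) (he : IsIdempotentElem e) :
    IsClopen (zeroLocus ({e} : Set R)) :=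
  isClopen_iff_zeroLocus.mpr ⟨e, he, rfl⟩

/-- every idempotent or its complement lies in the span of the idempotents of `p`. -/
theorem h5_idem_dichotomy {R : Type u} [CommRing R] (p : PrimeSpectrum R) (e : R)
    (he : IsIdempotentElem e) :
    e ∈ Ideal.span (h5_idemSet p) ∨ 1 - e ∈ Ideal.span (h5_idemSet p) := by
  have h0 : e * (1 - e) = 0 := by rw [mul_sub, mul_one, he.eq, sub_self]
  have : e * (1 - e) ∈ p.asIdeal := by rw [h0]; exact zero_mem _
  rcases p.isPrime.mem_or_mem this with h | h
  · exact Or.inl (Ideal.subset_span ⟨he, h⟩)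
  · exact Or.inr (Ideal.subset_span ⟨he.one_sub, h⟩)

/-- Any element of the span of the idempotents of `p` is killed by `1 - e` for an idempotent
`e ∈ p`. -/
theorem h5_exists_idem_of_mem_span {R : Type u} [CommRing R] (p : PrimeSpectrum R) (a : R)
    (ha : a ∈ Ideal.span (h5_idemSet p)) :
    ∃ e : R, IsIdempotentElem e ∧ e ∈ p.asIdeal ∧ a * (1 - e) = 0 := by
  induction ha using Submodule.span_induction with
  | mem x hx =>
    refine ⟨x, hx.1, hx.2, ?_⟩
    rw [mul_sub, mul_one, hx.1.eq, sub_self]
  | zero => exact ⟨0, IsIdempotentElem.zero, zero_mem _, zero_mul _⟩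
  | add x y _ _ hx hy =>
    obtain ⟨e₁, he₁, he₁p, h₁⟩ := hx
    obtain ⟨e₂, he₂, he₂p, h₂⟩ := hy
    refine ⟨1 - (1 - e₁) * (1 - e₂), ?_, ?_, ?_⟩
    · exact (he₁.one_sub.mul he₂.one_sub).one_sub
    · have : 1 - (1 - e₁) * (1 - e₂) = e₁ + e₂ - e₁ * e₂ := by ring
      rw [this]
      exact sub_mem (add_mem he₁p he₂p) (Ideal.mul_mem_right _ _ he₁p)
    · rw [sub_sub_cancel, add_mul]
      have e1 : x * ((1 - e₁) * (1 - e₂)) = (x * (1 - e₁)) * (1 - e₂) := by ring
      have e2 : y * ((1 - e₁) * (1 - e₂)) = (y * (1 - e₂)) * (1 - e₁) := by ring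
      rw [e1, e2, h₁, h₂, zero_mul, zero_mul, add_zero]
  | smul r x _ hx =>
    obtain ⟨e, he, hep, h⟩ := hx
    refine ⟨e, he, hep, ?_⟩
    rw [smul_eq_mul, mul_assoc, h, mul_zero]

/-- The quotient by the ideal generated by the idempotents of a prime has connected spectrum. -/
theorem h5_connectedSpace_quotient_idemSpan {R : Type u} [CommRing R] (p : PrimeSpectrum R) :
    ConnectedSpace (PrimeSpectrum (R ⧸ Ideal.span (h5_idemSet p))) := by
  have hIp : Ideal.span (h5_idemSet p) ≤ p.asIdeal := Ideal.span_le.mpr fun e he => he.2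
  rw [h5_connectedSpace_primeSpectrum_iff]
  constructor
  · exact Ideal.Quotient.nontrivial_iff.mpr
      (fun h => p.isPrime.ne_top (top_le_iff.mp (h ▸ hIp)))
  · intro ebar hebar
    obtain ⟨a, rfl⟩ := Ideal.Quotient.mk_surjective ebar
    have ha : a * a - a ∈ Ideal.span (h5_idemSet p) := by
      rw [← Ideal.Quotient.eq, map_mul]; exact hebar.eq
    obtain ⟨e, he, hep, h⟩ := h5_exists_idem_of_mem_span p _ ha
    have hb : IsIdempotentElem (a * (1 - e)) := by
      show a * (1 - e) * (a * (1 - e)) = a * (1 - e)
      have h1 : (1 - e) * (1 - e) = 1 - e := he.one_sub.eq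
      have : a * (1 - e) * (a * (1 - e)) - a * (1 - e) = (a * a - a) * (1 - e) * (1 - e) + 
          a * ((1 - e) * (1 - e) - (1 - e)) := by ring
      rw [← sub_eq_zero, this, h, zero_mul, h1, sub_self, mul_zero, add_zero]
    have hmk : Ideal.Quotient.mk (Ideal.span (h5_idemSet p)) (a * (1 - e)) =
        Ideal.Quotient.mk (Ideal.span (h5_idemSet p)) a := by
      rw [Ideal.Quotient.eq]
      have : a * (1 - e) - a = -(a * e) := by ring
      rw [this]
      exact neg_mem (Ideal.mul_mem_left _ _ (Ideal.subset_span ⟨he, hep⟩))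
    rcases h5_idem_dichotomy p _ hb with h0 | h1
    · left
      rw [← hmk]; exact Ideal.Quotient.eq_zero_iff_mem.mpr h0
    · right
      rw [← hmk, ← sub_eq_zero, ← map_one (Ideal.Quotient.mk _), ← map_sub, 
        Ideal.Quotient.eq_zero_iff_mem, ← neg_mem_iff, neg_sub]
      exact h1

/-- The connected component of a point of `Spec R` is the zero locus of the idempotents in it. -/
theorem h5_connectedComponent_eq {R : Type u} [CommRing R] (p : PrimeSpectrum R) :
    connectedComponent p = zeroLocus (h5_idemSet p) := by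
  apply Set.Subset.antisymm
  · intro q hq
    rw [mem_zeroLocus]
    intro e he
    have hcl := h5_isClopen_zeroLocus_idem e he.1
    have hp : p ∈ zeroLocus ({e} : Set R) := by
      rw [mem_zeroLocus, Set.singleton_subset_iff]; exact he.2
    have := hcl.connectedComponent_subset hp hq
    rw [mem_zeroLocus, Set.singleton_subset_iff] at this
    exact this
  · rw [← zeroLocus_span]
    have hconn := h5_connectedSpace_quotient_idemSpan p
    have hrange : Set.range (comap (Ideal.Quotient.mk (Ideal.span (h5_idemSet p)))) =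
        zeroLocus (Ideal.span (h5_idemSet p) : Set R) := by
      rw [range_comap_of_surjective _ _ Ideal.Quotient.mk_surjective, Ideal.mk_ker]
    rw [← hrange]
    apply IsPreconnected.subset_connectedComponent
    · exact (isConnected_range (continuous_comap _)).isPreconnected
    · rw [hrange, mem_zeroLocus]
      exact Ideal.span_le.mpr fun e he => he.2

end Groth.Agent.Lib.helper5
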