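import Mathlib

/-! Spreading out morphisms from `Spec 𝒪_{X,x}` into a scheme locally of finite presentation,
without germ-injectivity. -/

universe u

open CategoryTheory AlgebraicGeometry TopologicalSpace

namespace H5Spread

variable {X Y S : Scheme.{u}} {R A : CommRingCat.{u}}

lemma exists_lift_of_finitePresentation {U : X.Opens} {x : X} (hxU : x ∈ U)
    (φ : A ⟶ X.presheaf.stalk x) (φRA : R ⟶ A) (φRX : R ⟶ Γ(X, U))
    (hφRA : RingHom.FinitePresentation φRA.hom)
    (e : φRA ≫ φ = φRX ≫ X.presheaf.germ U x hxU) :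
    ∃ (V : X.Opens) (hxV : x ∈ V) (φ' : A ⟶ Γ(X, V)) (i : V ≤ U), IsAffineOpen V ∧
      φ = φ' ≫ X.presheaf.germ V x hxV ∧ φRX ≫ X.presheaf.map i.hom.op = φRA ≫ φ' := by
  classical
  letI := φRA.hom.toAlgebra
  have hfp : Algebra.FinitePresentation R A := hφRA
  obtain ⟨n, f, hf, s, hs⟩ := Algebra.FinitePresentation.out (R := R) (A := A)
  -- lift the images of the variables
  choose W hxW a ha using fun i : Fin n ↦ X.presheaf.exists_germ_eq (φ (f (MvPolynomial.X i)))
  let V₁ : X.Opens := (Finset.univ.inf W) ⊓ U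
  have hxV₁ : x ∈ V₁ := by
    rw [← SetLike.mem_coe, Opens.coe_inf, Opens.coe_finset_inf]
    exact ⟨by simpa using fun i ↦ hxW i, hxU⟩
  have hV₁W : ∀ i, V₁ ≤ W i := fun i => inf_le_left.trans (Finset.inf_le (Finset.mem_univ i))
  have hV₁U : V₁ ≤ U := inf_le_right
  let ρ₁ : R →+* Γ(X, V₁) := (φRX ≫ X.presheaf.map (homOfLE hV₁U).op).hom
  let g₁ : MvPolynomial (Fin n) R →+* Γ(X, V₁) :=
    MvPolynomial.eval₂Hom ρ₁ (fun i => X.presheaf.map (homOfLE (hV₁W i)).op (a i))
  have hg₁ : (X.presheaf.germ V₁ x hxV₁).hom.comp g₁ = φ.hom.comp (f : MvPolynomial (Fin n) R →+* A) := by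
    apply MvPolynomial.ringHom_ext
    · intro r
      simp only [RingHom.comp_apply, g₁, MvPolynomial.eval₂Hom_C, ρ₁]
      have h1 : (X.presheaf.germ V₁ x hxV₁).hom ((φRX ≫ X.presheaf.map (homOfLE hV₁U).op).hom r) =
          (φRX ≫ X.presheaf.germ U x hxU).hom r := by
        simp only [CommRingCat.hom_comp, RingHom.comp_apply]
        exact X.presheaf.germ_res_apply (homOfLE hV₁U) x hxV₁ _
      rw [h1, ← e]
      simp only [CommRingCat.hom_comp, RingHom.comp_apply]
      congr 1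
      exact (f.commutes r).symm
    · intro i
      simp only [RingHom.comp_apply, g₁, MvPolynomial.eval₂Hom_X']
      rw [X.presheaf.germ_res_apply (homOfLE (hV₁W i)) x hxV₁ (a i)]
      exact ha i
  -- kill the generators of the kernel
  have hzero : ∀ p ∈ s, ∃ (V : X.Opens) (_ : x ∈ V) (hV : V ≤ V₁),
      X.presheaf.map (homOfLE hV).op (g₁ p) = 0 := by
    intro p hp
    have hpk : f p = 0 := by
      have : p ∈ RingHom.ker f.toRingHom := hs ▸ Ideal.subset_span hp
      exact this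
    have hp0 : X.presheaf.germ V₁ x hxV₁ (g₁ p) = X.presheaf.germ V₁ x hxV₁ 0 := by
      have := RingHom.congr_fun hg₁ p
      simp only [RingHom.comp_apply] at this
      rw [map_zero]
      refine this.trans ?_
      change φ.hom (f p) = 0
      rw [hpk, map_zero]
    obtain ⟨W', hxW', iU, iV, h⟩ := X.presheaf.germ_eq x hxV₁ hxV₁ _ _ hp0
    refine ⟨W', hxW', iU.le, ?_⟩
    rw [map_zero] at h
    exact h
  choose! V' hxV' hV' hV'0 using hzero
  let V₂ : X.Opens := (s.inf V') ⊓ V₁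
  have hxV₂ : x ∈ V₂ := by
    rw [← SetLike.mem_coe, Opens.coe_inf, Opens.coe_finset_inf]
    exact ⟨by simpa using fun p hp ↦ hxV' p hp, hxV₁⟩
  obtain ⟨_, ⟨V, hV, rfl⟩, hxV, hVV₂⟩ :=
    X.isBasis_affineOpens.exists_subset_of_mem_open hxV₂ V₂.2
  have hVV₂' : V ≤ V₂ := hVV₂
  have hVV₁ : V ≤ V₁ := hVV₂'.trans inf_le_right
  have hVU : V ≤ U := hVV₁.trans hV₁U
  let g : MvPolynomial (Fin n) R →+* Γ(X, V) := (X.presheaf.map (homOfLE hVV₁).op).hom.comp g₁
  have hgs : ∀ p ∈ s, g p = 0 := by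
    intro p hp
    have hVV' : V ≤ V' p := hVV₂'.trans (inf_le_left.trans (Finset.inf_le hp))
    have h1 : X.presheaf.map (homOfLE hVV₁).op =
        X.presheaf.map (homOfLE (hV' p hp)).op ≫ X.presheaf.map (homOfLE hVV').op := by
      rw [← Functor.map_comp]; rfl
    change (X.presheaf.map (homOfLE hVV₁).op).hom (g₁ p) = 0
    rw [h1, CommRingCat.hom_comp, RingHom.comp_apply]
    have := hV'0 p hp
    change (X.presheaf.map (homOfLE (hV' p hp)).op).hom (g₁ p) = 0 at this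
    rw [this, map_zero]
  have hgker : RingHom.ker (f : MvPolynomial (Fin n) R →+* A) ≤ RingHom.ker g := by
    have : RingHom.ker (f : MvPolynomial (Fin n) R →+* A) = Ideal.span (s : Set _) := hs.symm
    rw [this, Ideal.span_le]
    intro p hp
    exact hgs p hp
  let φ'r : A →+* Γ(X, V) := (f : MvPolynomial (Fin n) R →+* A).liftOfSurjective hf ⟨g, hgker⟩
  have hφ'r : ∀ p, φ'r (f p) = g p := fun p =>
    RingHom.liftOfSurjective_comp_apply (f : MvPolynomial (Fin n) R →+* A) hf ⟨g, hgker⟩ p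
  have hgerm : (X.presheaf.germ V x hxV).hom.comp g = φ.hom.comp (f : MvPolynomial (Fin n) R →+* A) := by
    rw [← hg₁]
    refine RingHom.ext fun p => ?_
    simp only [RingHom.comp_apply, g]
    exact X.presheaf.germ_res_apply (homOfLE hVV₁) x hxV _
  refine ⟨V, hxV, CommRingCat.ofHom φ'r, hVU, hV, ?_, ?_⟩
  · ext y
    obtain ⟨p, rfl⟩ := hf y
    have := RingHom.congr_fun hgerm p
    simp only [RingHom.comp_apply] at this
    simp only [CommRingCat.hom_comp, CommRingCat.hom_ofHom, RingHom.comp_apply]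
    rw [hφ'r]
    exact this.symm
  · ext r
    simp only [CommRingCat.hom_comp, CommRingCat.hom_ofHom, RingHom.comp_apply]
    have h1 : φRA.hom r = f (MvPolynomial.C r) := (f.commutes r).symm
    rw [h1, hφ'r]
    simp only [g, g₁, RingHom.comp_apply, MvPolynomial.eval₂Hom_C, ρ₁, CommRingCat.hom_comp]
    have h2 : X.presheaf.map hVU.hom.op =
        X.presheaf.map (homOfLE hV₁U).op ≫ X.presheaf.map (homOfLE hVV₁).op := by
      rw [← Functor.map_comp]; rfl
    rw [h2]
    rfl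

variable (sX : X ⟶ S) (sY : Y ⟶ S)

set_option backward.isDefEq.respectTransparency.types false in
lemma spread_out_of_lfp [LocallyOfFinitePresentation sY] {x : X} {y : Y}
    (e : sX x = sY y) (φ : Y.presheaf.stalk y ⟶ X.presheaf.stalk x)
    (h : sY.stalkMap y ≫ φ =
      S.presheaf.stalkSpecializes (Inseparable.of_eq e).specializes ≫ sX.stalkMap x) :
    ∃ (U : X.Opens) (hxU : x ∈ U) (f : U.toScheme ⟶ Y),
      Spec.map φ ≫ Y.fromSpecStalk y = U.fromSpecStalkOfMem x hxU ≫ f ∧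
      f ≫ sY = U.ι ≫ sX := by
  obtain ⟨_, ⟨U, hU, rfl⟩, hxU, -⟩ :=
    S.isBasis_affineOpens.exists_subset_of_mem_open (Set.mem_univ (sX x)) isOpen_univ
  have hyU : sY y ∈ U := e ▸ hxU
  obtain ⟨_, ⟨V : Y.Opens, hV, rfl⟩, hyV, iVU⟩ :=
    Y.isBasis_affineOpens.exists_subset_of_mem_open hyU (sY ⁻¹ᵁ U).2
  have : sY.appLE U V iVU ≫ Y.presheaf.germ V y hyV ≫ φ =
      sX.app U ≫ X.presheaf.germ (sX ⁻¹ᵁ U) x hxU := by
    rw [Scheme.Hom.appLE, Category.assoc, Y.presheaf.germ_res_assoc,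
      ← Scheme.Hom.germ_stalkMap_assoc, h]
    simp
  obtain ⟨W, hxW, φ', i, hW, h₁, h₂⟩ :=
    exists_lift_of_finitePresentation (R := Γ(S, U)) (A := Γ(Y, V)) (U := sX ⁻¹ᵁ U) (x := x) hxU
    (Y.presheaf.germ _ y hyV ≫ φ) (sY.appLE U V iVU) (sX.app U)
    (sY.finitePresentation_appLE hU hV _) this
  refine ⟨W, hxW, W.toSpecΓ ≫ Spec.map φ' ≫ hV.fromSpec, ?_, ?_⟩
  · rw [W.fromSpecStalkOfMem_toSpecΓ_assoc x hxW, ← Spec.map_comp_assoc, ← h₁,
      Spec.map_comp, Category.assoc, ← IsAffineOpen.fromSpecStalk,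
      IsAffineOpen.fromSpecStalk_eq_fromSpecStalk]
  · simp only [Category.assoc]
    rw [← IsAffineOpen.SpecMap_appLE_fromSpec sY hU hV iVU, ← Spec.map_comp_assoc, ← h₂,
      ← Scheme.Hom.appLE, ← hW.isoSpec_hom, IsAffineOpen.SpecMap_appLE_fromSpec sX hU hW i,
      ← Iso.eq_inv_comp, IsAffineOpen.isoSpec_inv_ι_assoc]

set_option backward.isDefEq.respectTransparency.types false in
lemma spread_out_of_lfp' [LocallyOfFinitePresentation sY] {x : X}
    (φ : Spec (X.presheaf.stalk x) ⟶ Y)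
    (h : φ ≫ sY = X.fromSpecStalk x ≫ sX) :
    ∃ (U : X.Opens) (hxU : x ∈ U) (f : U.toScheme ⟶ Y),
      φ = U.fromSpecStalkOfMem x hxU ≫ f ∧ f ≫ sY = U.ι ≫ sX := by
  have := spread_out_of_lfp sX sY ?_ (Scheme.stalkClosedPointTo φ) ?_
  · simpa only [Scheme.Spec_stalkClosedPointTo_fromSpecStalk] using this
  · rw [← Scheme.Hom.comp_apply, h, Scheme.Hom.comp_apply, Scheme.fromSpecStalk_closedPoint]
  · apply Spec.map_injective
    rw [← cancel_mono (S.fromSpecStalk _)]
    simpa only [Spec.map_comp, Category.assoc, Scheme.SpecMap_stalkMap_fromSpecStalk,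
      Scheme.Spec_stalkClosedPointTo_fromSpecStalk_assoc,
      Scheme.SpecMap_stalkSpecializes_fromSpecStalk]

end H5Spread
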