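import Mathlib
import Groth.Agent.Lib.helper5.SpreadOutFP

/-! Uniqueness of spreading out for targets locally of finite type, and local isomorphisms. -/

universe u

open CategoryTheory AlgebraicGeometry TopologicalSpace

namespace H5Spread

variable {X Y S : Scheme.{u}}

set_option backward.isDefEq.respectTransparency.types false in
lemma spread_out_unique_of_lft (sY : Y ⟶ S) [LocallyOfFiniteType sY] {x : X}
    (f g : X ⟶ Y) (hfg : f ≫ sY = g ≫ sY) (e : f x = g x)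
    (H : f.stalkMap x =
      Y.presheaf.stalkSpecializes (Inseparable.of_eq e.symm).specializes ≫ g.stalkMap x) :
    ∃ (U : X.Opens), x ∈ U ∧ U.ι ≫ f = U.ι ≫ g := by
  classical
  obtain ⟨_, ⟨S₀, hS₀, rfl⟩, hxS₀, -⟩ :=
    S.isBasis_affineOpens.exists_subset_of_mem_open (Set.mem_univ (sY (f x))) isOpen_univ
  obtain ⟨_, ⟨V : Y.Opens, hV, rfl⟩, hxV, hVS₀⟩ :=
    Y.isBasis_affineOpens.exists_subset_of_mem_open hxS₀ (sY ⁻¹ᵁ S₀).2
  have hxV' : g x ∈ V := e ▸ hxV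
  let U₁ : X.Opens := f ⁻¹ᵁ V ⊓ g ⁻¹ᵁ V
  have hxU₁ : x ∈ U₁ := ⟨hxV, hxV'⟩
  let ρ := sY.appLE S₀ V hVS₀
  have hρ : RingHom.FiniteType ρ.hom := sY.finiteType_appLE hS₀ hV hVS₀
  let a₁ := f.appLE V U₁ inf_le_left
  let b₁ := g.appLE V U₁ inf_le_right
  have hgerm : a₁ ≫ X.presheaf.germ U₁ x hxU₁ = b₁ ≫ X.presheaf.germ U₁ x hxU₁ := by
    simp only [a₁, b₁, Scheme.Hom.appLE, Category.assoc, X.presheaf.germ_res',
      ← Scheme.Hom.germ_stalkMap, H]
    simp only [TopCat.Presheaf.germ_stalkSpecializes_assoc, Scheme.Hom.germ_stalkMap]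
  have hcongr : ∀ (k k' : X ⟶ S) (_ : k = k') (W : X.Opens) (e₁ : W ≤ k ⁻¹ᵁ S₀)
      (e₂ : W ≤ k' ⁻¹ᵁ S₀), k.appLE S₀ W e₁ = k'.appLE S₀ W e₂ := by
    rintro k _ rfl W _ _; rfl
  letI := ρ.hom.toAlgebra
  obtain ⟨s, hs⟩ := (hρ : Algebra.FiniteType Γ(S, S₀) Γ(Y, V)).out
  have hex : ∀ t : Γ(Y, V), ∃ (W : X.Opens) (_ : x ∈ W) (hW : W ≤ U₁),
      X.presheaf.map (homOfLE hW).op (a₁ t) = X.presheaf.map (homOfLE hW).op (b₁ t) := by
    intro t
    have h1 : X.presheaf.germ U₁ x hxU₁ (a₁ t) = X.presheaf.germ U₁ x hxU₁ (b₁ t) := by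
      have := congr($hgerm t)
      exact this
    obtain ⟨W, hxW, iU, iV, h⟩ := X.presheaf.germ_eq x hxU₁ hxU₁ _ _ h1
    exact ⟨W, hxW, iU.le, h⟩
  choose W hxW hW hWeq using hex
  let U : X.Opens := s.inf W ⊓ U₁
  have hxU : x ∈ U := by
    rw [← SetLike.mem_coe, Opens.coe_inf, Opens.coe_finset_inf]
    exact ⟨by simpa using fun t _ ↦ hxW t, hxU₁⟩
  have hUU₁ : U ≤ U₁ := inf_le_right
  have hUV : U ≤ f ⁻¹ᵁ V ⊓ g ⁻¹ᵁ V := hUU₁
  refine ⟨U, hxU, ?_⟩
  rw [← Scheme.Hom.resLE_comp_ι _ (hUV.trans inf_le_left),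
    ← Scheme.Hom.resLE_comp_ι _ (hUV.trans inf_le_right)]
  congr 1
  have : IsAffine V := hV
  have key : f.appLE V U (hUV.trans inf_le_left) = g.appLE V U (hUV.trans inf_le_right) := by
    have ha : f.appLE V U (hUV.trans inf_le_left) = a₁ ≫ X.presheaf.map (homOfLE hUU₁).op :=
      (Scheme.Hom.appLE_map f inf_le_left (homOfLE hUU₁).op).symm
    have hb : g.appLE V U (hUV.trans inf_le_right) = b₁ ≫ X.presheaf.map (homOfLE hUU₁).op :=
      (Scheme.Hom.appLE_map g inf_le_right (homOfLE hUU₁).op).symm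
    set a := f.appLE V U (hUV.trans inf_le_left) with hadef
    set b := g.appLE V U (hUV.trans inf_le_right) with hbdef
    have hρab : ρ ≫ a = ρ ≫ b := by
      rw [hadef, hbdef, Scheme.Hom.appLE_comp_appLE, Scheme.Hom.appLE_comp_appLE]
      exact hcongr _ _ hfg U _ _
    letI : Algebra Γ(S, S₀) Γ(X, U) := (ρ ≫ a).hom.toAlgebra
    let a' : Γ(Y, V) →ₐ[Γ(S, S₀)] Γ(X, U) := { a.hom with commutes' := fun r => rfl }
    let b' : Γ(Y, V) →ₐ[Γ(S, S₀)] Γ(X, U) :=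
      { b.hom with commutes' := fun r => (congr($hρab r)).symm }
    have hab' : a' = b' := by
      apply AlgHom.ext_of_adjoin_eq_top hs
      intro t ht
      change a.hom t = b.hom t
      rw [ha, hb]
      have hUW : U ≤ W t := inf_le_left.trans (Finset.inf_le ht)
      have h1 : X.presheaf.map (homOfLE hUU₁).op =
          X.presheaf.map (homOfLE (hW t)).op ≫ X.presheaf.map (homOfLE hUW).op := by
        rw [← Functor.map_comp]; rfl
      rw [h1]
      simp only [CommRingCat.hom_comp, RingHom.comp_apply]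
      have := hWeq t
      change (X.presheaf.map (homOfLE (hW t)).op).hom (a₁.hom t) =
        (X.presheaf.map (homOfLE (hW t)).op).hom (b₁.hom t) at this
      rw [this]
    ext t
    exact AlgHom.congr_fun hab' t
  suffices ∀ (U₀ V₀) (eU : U = U₀) (eV : V = V₀),
      f.appLE V₀ U₀ (eU ▸ eV ▸ hUV.trans inf_le_left) =
        g.appLE V₀ U₀ (eU ▸ eV ▸ hUV.trans inf_le_right) by
    rw [← cancel_mono V.toScheme.isoSpec.hom]
    simp only [Scheme.isoSpec, asIso_hom, Scheme.toSpecΓ_naturality,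
      Scheme.Hom.app_eq_appLE, Scheme.Hom.resLE_appLE]
    congr 2
    apply this <;> simp
  rintro U V rfl rfl
  exact key

set_option backward.isDefEq.respectTransparency.types false in
lemma spread_out_unique_of_lft' (sY : Y ⟶ S) [LocallyOfFiniteType sY] {x : X}
    (f g : X ⟶ Y) (hfg : f ≫ sY = g ≫ sY)
    (e : X.fromSpecStalk x ≫ f = X.fromSpecStalk x ≫ g) :
    ∃ (U : X.Opens), x ∈ U ∧ U.ι ≫ f = U.ι ≫ g := by
  fapply spread_out_unique_of_lft sY f g hfg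
  · simpa using congr($e (IsLocalRing.closedPoint _))
  · apply Spec.map_injective
    rw [← cancel_mono (Y.fromSpecStalk _)]
    simpa [Scheme.SpecMap_stalkSpecializes_fromSpecStalk]

/-- Uniqueness of spreading out, for morphisms defined on an open subscheme. -/
lemma unique_on_opens {Z : Scheme.{u}} (sZ : Z ⟶ S) [LocallyOfFiniteType sZ] (U₁ : X.Opens)
    {x : X} (hx : x ∈ U₁) (a b : U₁.toScheme ⟶ Z) (hab : a ≫ sZ = b ≫ sZ)
    (h : U₁.fromSpecStalkOfMem x hx ≫ a = U₁.fromSpecStalkOfMem x hx ≫ b) :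
    ∃ (U₂ : X.Opens) (h₂ : U₂ ≤ U₁), x ∈ U₂ ∧ X.homOfLE h₂ ≫ a = X.homOfLE h₂ ≫ b := by
  have h' : U₁.toScheme.fromSpecStalk ⟨x, hx⟩ ≫ a = U₁.toScheme.fromSpecStalk ⟨x, hx⟩ ≫ b := by
    simp only [Scheme.Opens.fromSpecStalkOfMem, Category.assoc] at h
    exact (cancel_epi _).mp h
  obtain ⟨W, hxW, hW⟩ := spread_out_unique_of_lft' sZ a b hab h'
  refine ⟨U₁.ι ''ᵁ W, U₁.ι_image_le W, ⟨⟨x, hx⟩, hxW, rfl⟩, ?_⟩
  rw [← Scheme.Opens.isoImage_ι_inv_ι, Category.assoc, Category.assoc, hW]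

end H5Spread
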