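import Mathlib
import Groth.Agent.Lib.helper5.SpreadOutFP2

/-! Local isomorphisms from isomorphisms of stalks. -/

universe u

open CategoryTheory AlgebraicGeometry TopologicalSpace CategoryTheory.Limits

namespace H5Spread

variable {X Y S : Scheme.{u}}

lemma fromSpecStalkOfMem_homOfLE {U U' : X.Opens} (h : U' ≤ U) {x : X} (hx : x ∈ U') :
    U'.fromSpecStalkOfMem x hx ≫ X.homOfLE h = U.fromSpecStalkOfMem x (h hx) := by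
  rw [← cancel_mono U.ι, Category.assoc, Scheme.homOfLE_ι, Scheme.Opens.fromSpecStalkOfMem_ι,
    Scheme.Opens.fromSpecStalkOfMem_ι]

lemma fromSpecStalkOfMem_closedPoint {U : X.Opens} {x : X} (hx : x ∈ U) :
    U.fromSpecStalkOfMem x hx (IsLocalRing.closedPoint (X.presheaf.stalk x)) = ⟨x, hx⟩ := by
  apply Subtype.ext
  have h1 := congr($(Scheme.Opens.fromSpecStalkOfMem_ι U x hx)
    (IsLocalRing.closedPoint (X.presheaf.stalk x)))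
  rw [Scheme.fromSpecStalk_closedPoint] at h1
  exact h1

lemma map_point {x : X} {y : Y} (U₀ : X.Opens) (hxU₀ : x ∈ U₀) (f : U₀.toScheme ⟶ Y)
    (e : Y.presheaf.stalk y ≅ X.presheaf.stalk x)
    (haf : U₀.fromSpecStalkOfMem x hxU₀ ≫ f = Spec.map e.hom ≫ Y.fromSpecStalk y) :
    f ⟨x, hxU₀⟩ = y := by
  have h1 := congr($haf (IsLocalRing.closedPoint (X.presheaf.stalk x)))
  rw [Scheme.Hom.comp_apply, fromSpecStalkOfMem_closedPoint, Scheme.Hom.comp_apply] at h1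
  rw [h1]
  haveI : IsLocalHom e.hom.hom := isLocalHom_of_iso e
  have h2 : Spec.map e.hom (IsLocalRing.closedPoint (X.presheaf.stalk x)) =
      IsLocalRing.closedPoint (Y.presheaf.stalk y) :=
    IsLocalRing.comap_closedPoint e.hom.hom
  rw [h2, Scheme.fromSpecStalk_closedPoint]

/-- Half of the local isomorphism construction. -/
lemma half (sX : X ⟶ S) (sY : Y ⟶ S) [LocallyOfFiniteType sX]
    {x : X} {y : Y} (U₀ : X.Opens) (hxU₀ : x ∈ U₀) (V₀ : Y.Opens) (hyV₀ : y ∈ V₀)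
    (f : U₀.toScheme ⟶ Y) (g : V₀.toScheme ⟶ X)
    (hf : f ≫ sY = U₀.ι ≫ sX) (hg : g ≫ sX = V₀.ι ≫ sY)
    (e : Y.presheaf.stalk y ≅ X.presheaf.stalk x)
    (haf : U₀.fromSpecStalkOfMem x hxU₀ ≫ f = Spec.map e.hom ≫ Y.fromSpecStalk y)
    (hag : V₀.fromSpecStalkOfMem y hyV₀ ≫ g = Spec.map e.inv ≫ X.fromSpecStalk x) :
    ∃ (U₂ : X.Opens) (hU₂ : U₂ ≤ U₀) (_ : x ∈ U₂) (f₂ : U₂.toScheme ⟶ V₀.toScheme),
      f₂ ≫ V₀.ι = X.homOfLE hU₂ ≫ f ∧ f₂ ≫ g = U₂.ι := by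
  -- `f` maps `x` to `y`
  have hfx : f ⟨x, hxU₀⟩ = y := by
    have h1 := congr($haf (IsLocalRing.closedPoint (X.presheaf.stalk x)))
    rw [Scheme.Hom.comp_apply, fromSpecStalkOfMem_closedPoint, Scheme.Hom.comp_apply] at h1
    rw [h1]
    haveI : IsLocalHom e.hom.hom := isLocalHom_of_iso e
    have h2 : Spec.map e.hom (IsLocalRing.closedPoint (X.presheaf.stalk x)) =
        IsLocalRing.closedPoint (Y.presheaf.stalk y) :=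
      IsLocalRing.comap_closedPoint e.hom.hom
    rw [h2, Scheme.fromSpecStalk_closedPoint]
  let W : U₀.toScheme.Opens := f ⁻¹ᵁ V₀
  have hxW : (⟨x, hxU₀⟩ : U₀.toScheme) ∈ W := by
    change f ⟨x, hxU₀⟩ ∈ V₀
    rw [hfx]; exact hyV₀
  let U₁ : X.Opens := U₀.ι ''ᵁ W
  have hU₁ : U₁ ≤ U₀ := U₀.ι_image_le W
  have hxU₁ : x ∈ U₁ := ⟨⟨x, hxU₀⟩, hxW, rfl⟩
  let f₁ : U₁.toScheme ⟶ V₀.toScheme := (U₀.ι.isoImage W).inv ≫ f ∣_ V₀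
  have hf₁ : f₁ ≫ V₀.ι = X.homOfLE hU₁ ≫ f := by
    simp only [f₁, Category.assoc, morphismRestrict_ι]
    rw [← Category.assoc, Scheme.Opens.isoImage_ι_inv_ι]
  have hover : (f₁ ≫ g) ≫ sX = U₁.ι ≫ sX := by
    rw [Category.assoc, hg, ← Category.assoc, hf₁, Category.assoc, hf, ← Category.assoc,
      Scheme.homOfLE_ι]
  have hstalk₁ : U₁.fromSpecStalkOfMem x hxU₁ ≫ f₁ =
      Spec.map e.hom ≫ V₀.fromSpecStalkOfMem y hyV₀ := by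
    rw [← cancel_mono V₀.ι, Category.assoc, hf₁, ← Category.assoc, fromSpecStalkOfMem_homOfLE,
      haf, Category.assoc, Scheme.Opens.fromSpecStalkOfMem_ι]
  have hstalk : U₁.fromSpecStalkOfMem x hxU₁ ≫ (f₁ ≫ g) = U₁.fromSpecStalkOfMem x hxU₁ ≫ U₁.ι := by
    rw [← Category.assoc, hstalk₁, Category.assoc, hag, ← Category.assoc, ← Spec.map_comp,
      e.inv_hom_id, Spec.map_id, Category.id_comp, Scheme.Opens.fromSpecStalkOfMem_ι]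
  obtain ⟨U₂, hU₂, hxU₂, h⟩ := unique_on_opens sX U₁ hxU₁ (f₁ ≫ g) U₁.ι hover hstalk
  refine ⟨U₂, hU₂.trans hU₁, hxU₂, X.homOfLE hU₂ ≫ f₁, ?_, ?_⟩
  · rw [Category.assoc, hf₁, ← Category.assoc, Scheme.homOfLE_homOfLE]
  · rw [Category.assoc, h, Scheme.homOfLE_ι]

/-- Abstract gluing of two partial inverses into an isomorphism of pullbacks. -/
lemma exists_iso_of_partial_inverses {X₂ Y₂ : Scheme.{u}} (k : X₂ ⟶ X) (l : Y₂ ⟶ Y)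
    (f' : X₂ ⟶ Y) (g' : Y₂ ⟶ X)
    (R1 : pullback.snd f' l ≫ g' = pullback.fst f' l ≫ k)
    (R2 : pullback.snd g' k ≫ f' = pullback.fst g' k ≫ l) :
    ∃ θ : pullback f' l ≅ pullback g' k, θ.hom ≫ pullback.fst g' k = pullback.snd f' l ∧
      θ.hom ≫ pullback.snd g' k = pullback.fst f' l := by
  refine ⟨⟨pullback.lift (pullback.snd f' l) (pullback.fst f' l) R1,
    pullback.lift (pullback.snd g' k) (pullback.fst g' k) R2, ?_, ?_⟩, ?_, ?_⟩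
  · apply pullback.hom_ext
    · rw [Category.assoc, pullback.lift_fst, pullback.lift_snd, Category.id_comp]
    · rw [Category.assoc, pullback.lift_snd, pullback.lift_fst, Category.id_comp]
  · apply pullback.hom_ext
    · rw [Category.assoc, pullback.lift_fst, pullback.lift_snd, Category.id_comp]
    · rw [Category.assoc, pullback.lift_snd, pullback.lift_fst, Category.id_comp]
  · exact pullback.lift_fst _ _ _
  · exact pullback.lift_snd _ _ _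

lemma exists_iso_opens (sX : X ⟶ S) (sY : Y ⟶ S) [LocallyOfFiniteType sX]
    [LocallyOfFiniteType sY]
    {x : X} {y : Y} (U₀ : X.Opens) (hxU₀ : x ∈ U₀) (V₀ : Y.Opens) (hyV₀ : y ∈ V₀)
    (f : U₀.toScheme ⟶ Y) (g : V₀.toScheme ⟶ X)
    (hf : f ≫ sY = U₀.ι ≫ sX) (hg : g ≫ sX = V₀.ι ≫ sY)
    (e : Y.presheaf.stalk y ≅ X.presheaf.stalk x)
    (haf : U₀.fromSpecStalkOfMem x hxU₀ ≫ f = Spec.map e.hom ≫ Y.fromSpecStalk y)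
    (hag : V₀.fromSpecStalkOfMem y hyV₀ ≫ g = Spec.map e.inv ≫ X.fromSpecStalk x) :
    ∃ (U : X.Opens) (V : Y.Opens) (_ : x ∈ U) (_ : y ∈ V) (ι : U.toScheme ≅ V.toScheme),
      ι.hom ≫ V.ι ≫ sY = U.ι ≫ sX := by
  obtain ⟨U₂, hU₂, hxU₂, f₂, hf₂, hf₂g⟩ := half sX sY U₀ hxU₀ V₀ hyV₀ f g hf hg e haf hag
  obtain ⟨V₂, hV₂, hyV₂, g₂, hg₂, hg₂f⟩ := half sY sX V₀ hyV₀ U₀ hxU₀ g f hg hf e.symm hag haf
  have hfx := map_point U₀ hxU₀ f e haf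
  have hgy := map_point V₀ hyV₀ g e.symm hag
  have R1 : pullback.snd (f₂ ≫ V₀.ι) V₂.ι ≫ (g₂ ≫ U₀.ι) =
      pullback.fst (f₂ ≫ V₀.ι) V₂.ι ≫ U₂.ι := by
    have c : pullback.snd (f₂ ≫ V₀.ι) V₂.ι ≫ Y.homOfLE hV₂ = pullback.fst (f₂ ≫ V₀.ι) V₂.ι ≫ f₂ := by
      rw [← cancel_mono V₀.ι, Category.assoc, Scheme.homOfLE_ι, Category.assoc,
        pullback.condition]
    rw [hg₂, ← Category.assoc, c, Category.assoc, hf₂g]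
  have R2 : pullback.snd (g₂ ≫ U₀.ι) U₂.ι ≫ (f₂ ≫ V₀.ι) =
      pullback.fst (g₂ ≫ U₀.ι) U₂.ι ≫ V₂.ι := by
    have c : pullback.snd (g₂ ≫ U₀.ι) U₂.ι ≫ X.homOfLE hU₂ = pullback.fst (g₂ ≫ U₀.ι) U₂.ι ≫ g₂ := by
      rw [← cancel_mono U₀.ι, Category.assoc, Scheme.homOfLE_ι, Category.assoc,
        pullback.condition]
    rw [hf₂, ← Category.assoc, c, Category.assoc, hg₂f]
  obtain ⟨θ, hθ₁, hθ₂⟩ := exists_iso_of_partial_inverses U₂.ι V₂.ι (f₂ ≫ V₀.ι) (g₂ ≫ U₀.ι) R1 R2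
  let p := pullback.fst (f₂ ≫ V₀.ι) V₂.ι ≫ U₂.ι
  let q := pullback.fst (g₂ ≫ U₀.ι) U₂.ι ≫ V₂.ι
  have hx₂ : (f₂ ≫ V₀.ι) ⟨x, hxU₂⟩ = V₂.ι ⟨y, hyV₂⟩ := by
    rw [hf₂, Scheme.Hom.comp_apply]
    have h1 : (X.homOfLE hU₂) ⟨x, hxU₂⟩ = ⟨x, hxU₀⟩ := Subtype.ext (by simp)
    rw [h1]
    exact hfx
  have hy₂ : (g₂ ≫ U₀.ι) ⟨y, hyV₂⟩ = U₂.ι ⟨x, hxU₂⟩ := by
    rw [hg₂, Scheme.Hom.comp_apply]
    have h1 : (Y.homOfLE hV₂) ⟨y, hyV₂⟩ = ⟨y, hyV₀⟩ := Subtype.ext (by simp)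
    rw [h1]
    exact hgy
  obtain ⟨z, hz₁, hz₂⟩ := Scheme.Pullback.exists_preimage_pullback _ _ hx₂
  obtain ⟨z', hz'₁, hz'₂⟩ := Scheme.Pullback.exists_preimage_pullback _ _ hy₂
  refine ⟨p.opensRange, q.opensRange, ⟨z, ?_⟩, ⟨z', ?_⟩,
    p.isoOpensRange.symm ≪≫ θ ≪≫ q.isoOpensRange, ?_⟩
  · change (pullback.fst (f₂ ≫ V₀.ι) V₂.ι ≫ U₂.ι) z = x
    rw [Scheme.Hom.comp_apply, hz₁]
    rfl
  · change (pullback.fst (g₂ ≫ U₀.ι) U₂.ι ≫ V₂.ι) z' = y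
    rw [Scheme.Hom.comp_apply, hz'₁]
    rfl
  · simp only [Iso.trans_hom, Iso.symm_hom, Category.assoc]
    rw [Scheme.Hom.isoOpensRange_hom_ι_assoc, Iso.inv_comp_eq]
    rw [Scheme.Hom.isoOpensRange_hom_ι_assoc]
    simp only [p, q, Category.assoc]
    rw [← Category.assoc θ.hom, hθ₁, ← Category.assoc, ← pullback.condition, Category.assoc,
      Category.assoc, ← Category.assoc f₂, hf₂, Category.assoc, hf, ← Category.assoc (X.homOfLE hU₂),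
      Scheme.homOfLE_ι]

lemma exists_iso_opens' (sX : X ⟶ S) (sY : Y ⟶ S) [LocallyOfFiniteType sX]
    [LocallyOfFiniteType sY]
    {x : X} {y : Y} (U₀ : X.Opens) (hxU₀ : x ∈ U₀) (V₀ : Y.Opens) (hyV₀ : y ∈ V₀)
    (f : U₀.toScheme ⟶ Y) (g : V₀.toScheme ⟶ X)
    (hf : f ≫ sY = U₀.ι ≫ sX) (hg : g ≫ sX = V₀.ι ≫ sY)
    (e : Y.presheaf.stalk y ≅ X.presheaf.stalk x)
    (haf : U₀.fromSpecStalkOfMem x hxU₀ ≫ f = Spec.map e.hom ≫ Y.fromSpecStalk y)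
    (hag : V₀.fromSpecStalkOfMem y hyV₀ ≫ g = Spec.map e.inv ≫ X.fromSpecStalk x) :
    ∃ (U : X.Opens) (V : Y.Opens) (_ : x ∈ U) (_ : y ∈ V) (ι : U.toScheme ≅ V.toScheme),
      ι.hom ≫ V.ι ≫ sY = U.ι ≫ sX ∧ U ≤ U₀ ∧ V ≤ V₀ := by
  obtain ⟨U₂, hU₂, hxU₂, f₂, hf₂, hf₂g⟩ := half sX sY U₀ hxU₀ V₀ hyV₀ f g hf hg e haf hag
  obtain ⟨V₂, hV₂, hyV₂, g₂, hg₂, hg₂f⟩ := half sY sX V₀ hyV₀ U₀ hxU₀ g f hg hf e.symm hag haf
  have hfx := map_point U₀ hxU₀ f e haf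
  have hgy := map_point V₀ hyV₀ g e.symm hag
  have R1 : pullback.snd (f₂ ≫ V₀.ι) V₂.ι ≫ (g₂ ≫ U₀.ι) =
      pullback.fst (f₂ ≫ V₀.ι) V₂.ι ≫ U₂.ι := by
    have c : pullback.snd (f₂ ≫ V₀.ι) V₂.ι ≫ Y.homOfLE hV₂ = pullback.fst (f₂ ≫ V₀.ι) V₂.ι ≫ f₂ := by
      rw [← cancel_mono V₀.ι, Category.assoc, Scheme.homOfLE_ι, Category.assoc,
        pullback.condition]
    rw [hg₂, ← Category.assoc, c, Category.assoc, hf₂g]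
  have R2 : pullback.snd (g₂ ≫ U₀.ι) U₂.ι ≫ (f₂ ≫ V₀.ι) =
      pullback.fst (g₂ ≫ U₀.ι) U₂.ι ≫ V₂.ι := by
    have c : pullback.snd (g₂ ≫ U₀.ι) U₂.ι ≫ X.homOfLE hU₂ = pullback.fst (g₂ ≫ U₀.ι) U₂.ι ≫ g₂ := by
      rw [← cancel_mono U₀.ι, Category.assoc, Scheme.homOfLE_ι, Category.assoc,
        pullback.condition]
    rw [hf₂, ← Category.assoc, c, Category.assoc, hg₂f]
  obtain ⟨θ, hθ₁, hθ₂⟩ := exists_iso_of_partial_inverses U₂.ι V₂.ι (f₂ ≫ V₀.ι) (g₂ ≫ U₀.ι) R1 R2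
  let p := pullback.fst (f₂ ≫ V₀.ι) V₂.ι ≫ U₂.ι
  let q := pullback.fst (g₂ ≫ U₀.ι) U₂.ι ≫ V₂.ι
  have hx₂ : (f₂ ≫ V₀.ι) ⟨x, hxU₂⟩ = V₂.ι ⟨y, hyV₂⟩ := by
    rw [hf₂, Scheme.Hom.comp_apply]
    have h1 : (X.homOfLE hU₂) ⟨x, hxU₂⟩ = ⟨x, hxU₀⟩ := Subtype.ext (by simp)
    rw [h1]
    exact hfx
  have hy₂ : (g₂ ≫ U₀.ι) ⟨y, hyV₂⟩ = U₂.ι ⟨x, hxU₂⟩ := by
    rw [hg₂, Scheme.Hom.comp_apply]
    have h1 : (Y.homOfLE hV₂) ⟨y, hyV₂⟩ = ⟨y, hyV₀⟩ := Subtype.ext (by simp)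
    rw [h1]
    exact hgy
  obtain ⟨z, hz₁, hz₂⟩ := Scheme.Pullback.exists_preimage_pullback _ _ hx₂
  obtain ⟨z', hz'₁, hz'₂⟩ := Scheme.Pullback.exists_preimage_pullback _ _ hy₂
  refine ⟨p.opensRange, q.opensRange, ⟨z, ?_⟩, ⟨z', ?_⟩,
    p.isoOpensRange.symm ≪≫ θ ≪≫ q.isoOpensRange, ?_, ?_, ?_⟩
  · change (pullback.fst (f₂ ≫ V₀.ι) V₂.ι ≫ U₂.ι) z = x
    rw [Scheme.Hom.comp_apply, hz₁]
    rfl
  · change (pullback.fst (g₂ ≫ U₀.ι) U₂.ι ≫ V₂.ι) z' = y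
    rw [Scheme.Hom.comp_apply, hz'₁]
    rfl
  · simp only [Iso.trans_hom, Iso.symm_hom, Category.assoc]
    rw [Scheme.Hom.isoOpensRange_hom_ι_assoc, Iso.inv_comp_eq]
    rw [Scheme.Hom.isoOpensRange_hom_ι_assoc]
    simp only [p, q, Category.assoc]
    rw [← Category.assoc θ.hom, hθ₁, ← Category.assoc, ← pullback.condition, Category.assoc,
      Category.assoc, ← Category.assoc f₂, hf₂, Category.assoc, hf, ← Category.assoc (X.homOfLE hU₂),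
      Scheme.homOfLE_ι]
  · rintro _ ⟨w, rfl⟩
    exact hU₂ (pullback.fst (f₂ ≫ V₀.ι) V₂.ι w).2
  · rintro _ ⟨w, rfl⟩
    exact hV₂ (pullback.fst (g₂ ≫ U₀.ι) U₂.ι w).2

end H5Spread
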