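import Mathlib

set_option autoImplicit false
open TopologicalSpace Topology

namespace Groth.Agent.Lib.helper5

theorem h5_head_lt_tail_head {α : Type*} [Preorder α] (l : LTSeries α) (h : l.length ≠ 0) :
    l.head < (l.tail h).head := by
  rw [RelSeries.head_tail]
  apply l.strictMono
  rw [Fin.lt_def]
  have : (1 : Fin (l.length + 1)).val = 1 := by
    rw [Fin.val_one']
    exact Nat.mod_eq_of_lt (by omega)
  rw [this]
  simp [RelSeries.head]

/-- A continuous surjective generalizing map onto a quasi-sober space does not lower the Krull
dimension. -/
theorem h5_dim_le_of_generalizing {X R : Type*} [TopologicalSpace X] [TopologicalSpace R]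
    [QuasiSober R] (f : X → R) (hs : Function.Surjective f) (hg : GeneralizingMap f)
    (hc : Continuous f) :
    topologicalKrullDim R ≤ topologicalKrullDim X := by
  have claim : ∀ (m : ℕ) (l : LTSeries (IrreducibleCloseds R)), l.length = m → ∀ x : X,
      IsGenericPoint (f x) (l.head : Set R) →
      ∃ l' : LTSeries (IrreducibleCloseds X), l'.length = m ∧ (l'.head : Set X) = closure {x} := by
    intro m
    induction m with
    | zero =>
      intro l hl x hx
      exact ⟨RelSeries.singleton _ ⟨closure {x}, isIrreducible_singleton.closure, isClosed_closure⟩,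
        rfl, rfl⟩
    | succ m ih =>
      intro l hl x hx
      have hpos : l.length ≠ 0 := by omega
      obtain ⟨η, hη⟩ := QuasiSober.sober (l.tail hpos).head.isIrreducible
        (l.tail hpos).head.isClosed
      have hlt : l.head < (l.tail hpos).head := h5_head_lt_tail_head l hpos
      have hsp : η ⤳ f x := by
        rw [specializes_iff_mem_closure, hη.def]
        exact hlt.le hx.mem
      obtain ⟨x', hx'x, hfx'⟩ := hg hsp
      obtain ⟨l', hl'len, hl'head⟩ := ih (l.tail hpos) (by simp [RelSeries.tail]; omega) x'
        (by rw [hfx']; exact hη)
      have hrel : (⟨closure {x}, isIrreducible_singleton.closure, isClosed_closure⟩ :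
          IrreducibleCloseds X) < l'.head := by
        refine lt_of_le_of_ne ?_ ?_
        · show closure {x} ⊆ (l'.head : Set X)
          rw [hl'head]
          exact hx'x.closure_subset
        · intro heq
          have h2 : closure {x} = (l'.head : Set X) :=
            congrArg (fun Z : IrreducibleCloseds X => (Z : Set X)) heq
          rw [hl'head] at h2
          have h3 : x ⤳ x' := by
            rw [specializes_iff_mem_closure, h2]; exact subset_closure rfl
          have h4 : f x ⤳ η := hfx' ▸ h3.map hc
          have h5 : ((l.tail hpos).head : Set R) ⊆ (l.head : Set R) := by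
            rw [← hη.def, ← hx.def]
            exact h4.closure_subset
          exact absurd (lt_of_lt_of_le hlt h5) (lt_irrefl _)
      exact ⟨l'.cons _ hrel, by simp [hl'len], rfl⟩
  rw [topologicalKrullDim, topologicalKrullDim, Order.krullDim]
  refine iSup_le fun l => ?_
  obtain ⟨η, hη⟩ := QuasiSober.sober l.head.isIrreducible l.head.isClosed
  obtain ⟨x, rfl⟩ := hs η
  obtain ⟨l', h1, -⟩ := claim l.length l rfl x hη
  rw [← h1]
  exact Order.LTSeries.length_le_krullDim l'

end Groth.Agent.Lib.helper5
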