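import Mathlib

set_option autoImplicit false
open TopologicalSpace Topology

namespace Groth.Agent.Lib.helper5

/-- A continuous surjective specializing map onto a quasi-sober space does not lower the Krull
dimension. -/
theorem h5_dim_le_of_specializing {X R : Type*} [TopologicalSpace X] [TopologicalSpace R]
    [QuasiSober R] (f : X → R) (hs : Function.Surjective f) (hg : SpecializingMap f)
    (hc : Continuous f) :
    topologicalKrullDim R ≤ topologicalKrullDim X := by
  have claim : ∀ (m : ℕ) (l : LTSeries (IrreducibleCloseds R)), l.length = m → ∀ x : X,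
      IsGenericPoint (f x) (l.last : Set R) →
      ∃ l' : LTSeries (IrreducibleCloseds X), l'.length = m ∧ (l'.last : Set X) = closure {x} := by
    intro m
    induction m with
    | zero =>
      intro l hl x hx
      exact ⟨RelSeries.singleton _ ⟨closure {x}, isIrreducible_singleton.closure, isClosed_closure⟩,
        rfl, rfl⟩
    | succ m ih =>
      intro l hl x hx
      have hpos : l.length ≠ 0 := by omega
      obtain ⟨η, hη⟩ := QuasiSober.sober l.eraseLast.last.isIrreducible
        l.eraseLast.last.isClosed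
      have hlt : l.eraseLast.last < l.last := l.eraseLast_last_rel_last hpos
      have hsp : f x ⤳ η := by
        rw [specializes_iff_mem_closure, hx.def]
        exact hlt.le hη.mem
      obtain ⟨x', hx'x, hfx'⟩ := hg hsp
      obtain ⟨l', hl'len, hl'last⟩ := ih l.eraseLast (by simp [RelSeries.eraseLast]; omega) x'
        (by rw [hfx']; exact hη)
      have hrel : l'.last < (⟨closure {x}, isIrreducible_singleton.closure, isClosed_closure⟩ :
          IrreducibleCloseds X) := by
        refine lt_of_le_of_ne ?_ ?_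
        · show (l'.last : Set X) ⊆ closure {x}
          rw [hl'last]
          exact (show x ⤳ x' from hx'x).closure_subset
        · intro heq
          have h2 : (l'.last : Set X) = closure {x} :=
            congrArg (fun Z : IrreducibleCloseds X => (Z : Set X)) heq
          rw [hl'last] at h2
          have h3 : x' ⤳ x := by
            rw [specializes_iff_mem_closure, h2]; exact subset_closure rfl
          have h4 : η ⤳ f x := hfx' ▸ h3.map hc
          have h5 : (l.last : Set R) ⊆ (l.eraseLast.last : Set R) := by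
            rw [← hη.def, ← hx.def]
            exact h4.closure_subset
          exact absurd (lt_of_lt_of_le hlt h5) (lt_irrefl _)
      exact ⟨l'.snoc _ hrel, by simp [hl'len], by simp⟩
  rw [topologicalKrullDim, topologicalKrullDim, Order.krullDim]
  refine iSup_le fun l => ?_
  obtain ⟨η, hη⟩ := QuasiSober.sober l.last.isIrreducible l.last.isClosed
  obtain ⟨x, rfl⟩ := hs η
  obtain ⟨l', h1, -⟩ := claim l.length l rfl x hη
  rw [← h1]
  exact Order.LTSeries.length_le_krullDim l'


/-- A continuous map with no strict specializations inside fibres does not raise dimension. -/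
theorem h5_dim_le_of_incomparable {X Y : Type*} [TopologicalSpace X] [TopologicalSpace Y]
    [QuasiSober X] [T0Space Y] (f : X → Y) (hc : Continuous f)
    (hinc : ∀ x x' : X, x' ⤳ x → f x' = f x → x ⤳ x') :
    topologicalKrullDim X ≤ topologicalKrullDim Y := by
  refine Order.krullDim_le_of_strictMono (IrreducibleCloseds.map f hc) ?_
  intro Z Z' hlt
  refine lt_of_le_of_ne (IrreducibleCloseds.map_mono hc hlt.le) ?_
  intro hZZ'
  have h0 : closure (f '' (Z : Set X)) = closure (f '' (Z' : Set X)) :=
    congrArg (fun W : IrreducibleCloseds Y => (W : Set Y)) hZZ'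
  obtain ⟨ξ, hξ⟩ := QuasiSober.sober Z.isIrreducible Z.isClosed
  obtain ⟨ξ', hξ'⟩ := QuasiSober.sober Z'.isIrreducible Z'.isClosed
  have key : ∀ (W : Set X) (η : X), IsGenericPoint η W → closure (f '' W) = closure {f η} := by
    intro W η hη
    rw [← hη.def]
    apply le_antisymm
    · refine closure_minimal ?_ isClosed_closure
      rw [← Set.image_singleton]
      exact image_closure_subset_closure_image hc
    · exact closure_mono (by
        rw [Set.singleton_subset_iff]; exact ⟨η, subset_closure rfl, rfl⟩)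
  rw [key _ ξ hξ, key _ ξ' hξ'] at h0
  have h1 : f ξ' = f ξ := by
    apply (Inseparable.eq : Inseparable (f ξ') (f ξ) → _)
    rw [inseparable_iff_closure_eq]
    exact h0.symm
  have h2 : ξ' ⤳ ξ := by
    rw [specializes_iff_mem_closure, hξ'.def]
    exact hlt.le hξ.mem
  have h3 : ξ ⤳ ξ' := hinc ξ ξ' h2 h1
  have h4 : (Z' : Set X) ⊆ (Z : Set X) := by
    rw [← hξ.def, ← hξ'.def]
    exact h3.closure_subset
  exact absurd (lt_of_lt_of_le hlt h4) (lt_irrefl _)


open AlgebraicGeometry CategoryTheory in
/-- Integral morphisms have no strict specializations inside fibres. -/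
theorem h5_incomparable_of_isIntegralHom {X Y : Scheme} (f : X ⟶ Y) [IsIntegralHom f]
    (x x' : X) (hsp : x' ⤳ x) (hf : f x' = f x) : x = x' := by
  obtain ⟨V, hV', hxV, -⟩ := TopologicalSpace.Opens.isBasis_iff_nbhd.mp
    Y.isBasis_affineOpens (TopologicalSpace.Opens.mem_top (f x))
  have hV : IsAffineOpen V := hV'
  have hU : IsAffineOpen (f ⁻¹ᵁ V) := hV.preimage f
  have hxU : x ∈ f ⁻¹ᵁ V := hxV
  have hx'U : x' ∈ f ⁻¹ᵁ V := by show f x' ∈ V; rw [hf]; exact hxV
  have hint : (f.appLE V (f ⁻¹ᵁ V) le_rfl).hom.IsIntegral := by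
    rw [← Scheme.Hom.app_eq_appLE]
    exact IsIntegralHom.isIntegral_app f V hV
  letI := (f.appLE V (f ⁻¹ᵁ V) le_rfl).hom.toAlgebra
  haveI : Algebra.IsIntegral Γ(Y, V) Γ(X, f ⁻¹ᵁ V) := ⟨hint⟩
  set q := hU.primeIdealOf ⟨x, hxU⟩ with hq
  set q' := hU.primeIdealOf ⟨x', hx'U⟩ with hq'
  have h1 : PrimeSpectrum.comap (f.appLE V (f ⁻¹ᵁ V) le_rfl).hom q =
      PrimeSpectrum.comap (f.appLE V (f ⁻¹ᵁ V) le_rfl).hom q' := by
    rw [hq, hq', IsAffineOpen.comap_primeIdealOf_appLE V hV _ hU le_rfl hxU,
      IsAffineOpen.comap_primeIdealOf_appLE V hV _ hU le_rfl hx'U]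
    congr 1
    exact Subtype.ext hf.symm
  have h2 : q' ⤳ q := by
    have h2' : (hU.fromSpec (hU.primeIdealOf ⟨x', hx'U⟩)) ⤳
        (hU.fromSpec (hU.primeIdealOf ⟨x, hxU⟩)) := by
      rw [hU.fromSpec_primeIdealOf, hU.fromSpec_primeIdealOf]
      exact hsp
    exact hU.fromSpec.isOpenEmbedding.isInducing.specializes_iff.mp h2'
  have h3 : q'.asIdeal ≤ q.asIdeal := (PrimeSpectrum.le_iff_specializes q' q).mpr h2
  have h4 : q'.asIdeal = q.asIdeal := by
    by_contra hne
    have hlt : q'.asIdeal < q.asIdeal := lt_of_le_of_ne h3 hne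
    have := Ideal.IsIntegral.comap_lt_comap (R := Γ(Y, V)) hlt
    have h5 : (PrimeSpectrum.comap (f.appLE V (f ⁻¹ᵁ V) le_rfl).hom q).asIdeal =
      (PrimeSpectrum.comap (f.appLE V (f ⁻¹ᵁ V) le_rfl).hom q').asIdeal := by rw [h1]
    exact absurd h5.symm (ne_of_lt this)
  have h6 : q' = q := PrimeSpectrum.ext h4
  have h7 := congrArg (fun p => hU.fromSpec p) h6
  simp only [hq, hq', hU.fromSpec_primeIdealOf] at h7
  exact h7.symm

end Groth.Agent.Lib.helper5
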