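import Mathlib
import Groth.Agent.Lib.helper5.FactorStalk
import Groth.Agent.S9677
import Groth.Agent.S9678

/-! Extending morphisms at points whose local ring is a valuation ring. -/

universe u

open CategoryTheory CategoryTheory.Limits AlgebraicGeometry

namespace H5ValExt

variable {X Y : Scheme.{u}}

/-- the two-element family of opens -/
def fam (U V : X.Opens) : Bool → X.Opens := fun b => cond b U V

lemma fam_le (U V : X.Opens) (b : Bool) : fam U V b ≤ U ⊔ V := by
  cases b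
  · exact le_sup_right
  · exact le_sup_left

/-- the cover of `U ⊔ V` by `U` and `V` -/
noncomputable def coverSup (U V : X.Opens) : (U ⊔ V).toScheme.OpenCover where
  I₀ := Bool
  X b := (fam U V b).toScheme
  f b := X.homOfLE (fam_le U V b)
  mem₀ := by
    rw [Scheme.presieve₀_mem_precoverage_iff]
    refine ⟨fun x => ?_, fun b => inferInstance⟩
    rcases x with ⟨x, hx⟩
    rcases hx with hx | hx
    · exact ⟨true, ⟨x, hx⟩, X.homOfLE_apply' (fam_le U V true) x hx⟩
    · exact ⟨false, ⟨x, hx⟩, X.homOfLE_apply' (fam_le U V false) x hx⟩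

lemma exists_glue (U V : X.Opens) (f : U.toScheme ⟶ Y) (g : V.toScheme ⟶ Y)
    (h : X.homOfLE (inf_le_left : U ⊓ V ≤ U) ≫ f = X.homOfLE (inf_le_right : U ⊓ V ≤ V) ≫ g) :
    ∃ f' : (U ⊔ V).toScheme ⟶ Y, X.homOfLE le_sup_left ≫ f' = f ∧
      X.homOfLE le_sup_right ≫ f' = g := by
  let F : ∀ b : Bool, (fam U V b).toScheme ⟶ Y := fun b =>
    match b with
    | true => f
    | false => g
  have key : pullback.fst (X.homOfLE (le_sup_left : U ≤ U ⊔ V)) (X.homOfLE (le_sup_right : V ≤ U ⊔ V)) ≫ f =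
      pullback.snd (X.homOfLE (le_sup_left : U ≤ U ⊔ V)) (X.homOfLE (le_sup_right : V ≤ U ⊔ V)) ≫ g := by
    have hP := isPullback_opens_inf_le (le_sup_left : U ≤ U ⊔ V) (le_sup_right : V ≤ U ⊔ V)
    rw [← cancel_epi hP.isoPullback.hom, ← Category.assoc, ← Category.assoc,
      hP.isoPullback_hom_fst, hP.isoPullback_hom_snd]
    exact h
  have hF : ∀ b b', pullback.fst ((coverSup U V).f b) ((coverSup U V).f b') ≫ F b =
      pullback.snd ((coverSup U V).f b) ((coverSup U V).f b') ≫ F b' := by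
    intro b b'
    cases b <;> cases b'
    · change pullback.fst (X.homOfLE (le_sup_right : V ≤ U ⊔ V)) (X.homOfLE (le_sup_right : V ≤ U ⊔ V)) ≫ g =
        pullback.snd (X.homOfLE (le_sup_right : V ≤ U ⊔ V)) (X.homOfLE (le_sup_right : V ≤ U ⊔ V)) ≫ g
      rw [fst_eq_snd_of_mono_eq]
    · change pullback.fst (X.homOfLE (le_sup_right : V ≤ U ⊔ V)) (X.homOfLE (le_sup_left : U ≤ U ⊔ V)) ≫ g =
        pullback.snd (X.homOfLE (le_sup_right : V ≤ U ⊔ V)) (X.homOfLE (le_sup_left : U ≤ U ⊔ V)) ≫ f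
      rw [← cancel_epi (pullbackSymmetry _ _).hom, ← Category.assoc, ← Category.assoc,
        pullbackSymmetry_hom_comp_fst, pullbackSymmetry_hom_comp_snd]
      exact key.symm
    · exact key
    · change pullback.fst (X.homOfLE (le_sup_left : U ≤ U ⊔ V)) (X.homOfLE (le_sup_left : U ≤ U ⊔ V)) ≫ f =
        pullback.snd (X.homOfLE (le_sup_left : U ≤ U ⊔ V)) (X.homOfLE (le_sup_left : U ≤ U ⊔ V)) ≫ f
      rw [fst_eq_snd_of_mono_eq]
  refine ⟨(coverSup U V).glueMorphisms F hF, ?_, ?_⟩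
  · exact (coverSup U V).ι_glueMorphisms F hF true
  · exact (coverSup U V).ι_glueMorphisms F hF false

lemma hom_ext_sup (U V : X.Opens) (a b : (U ⊔ V).toScheme ⟶ Y)
    (h1 : X.homOfLE (le_sup_left : U ≤ U ⊔ V) ≫ a = X.homOfLE le_sup_left ≫ b)
    (h2 : X.homOfLE (le_sup_right : V ≤ U ⊔ V) ≫ a = X.homOfLE le_sup_right ≫ b) : a = b := by
  apply (coverSup U V).hom_ext
  intro i
  cases i
  · exact h2
  · exact h1

/-- the generic point of the spectrum of a domain -/
def botPt (R : CommRingCat.{u}) [IsDomain R] : ↥(Spec R) :=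
  (⟨⊥, Ideal.bot_prime⟩ : PrimeSpectrum R)

/-- the image in `X` of the generic point of `Spec 𝒪_{X,x}` -/
noncomputable def genPt (x : X) [IsDomain (X.presheaf.stalk x)] : X :=
  X.fromSpecStalk x (botPt (X.presheaf.stalk x))

lemma genPt_specializes (x : X) [IsDomain (X.presheaf.stalk x)] : genPt x ⤳ x := by
  have h : genPt x ∈ Set.range (X.fromSpecStalk x) := ⟨_, rfl⟩
  rw [Scheme.range_fromSpecStalk] at h
  exact h

lemma eq_genPt (x : X) [IsDomain (X.presheaf.stalk x)] (ζ : X)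
    (hζ : closure {ζ} ∈ irreducibleComponents X) (h : ζ ⤳ x) : ζ = genPt x := by
  have h0 : ζ ∈ Set.range (X.fromSpecStalk x) := by
    rw [Scheme.range_fromSpecStalk]
    exact h
  obtain ⟨𝔮, rfl⟩ := h0
  have h1 : botPt (X.presheaf.stalk x) ⤳ 𝔮 :=
    (PrimeSpectrum.le_iff_specializes
      (⟨⊥, Ideal.bot_prime⟩ : PrimeSpectrum (X.presheaf.stalk x)) 𝔮).mp bot_le
  have h2 : genPt x ⤳ X.fromSpecStalk x 𝔮 := h1.map (X.fromSpecStalk x).continuous
  exact (Groth.Agent.S9677.h5_generic_eq hζ h2).symm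

lemma closure_genPt_mem (x : X) [IsDomain (X.presheaf.stalk x)] :
    closure {genPt x} ∈ irreducibleComponents X := by
  have hZ := irreducibleComponent_mem_irreducibleComponents (genPt x)
  obtain ⟨ζ, hζ⟩ := QuasiSober.sober hZ.1 (isClosed_of_mem_irreducibleComponents _ hZ)
  have h1 : closure {ζ} = irreducibleComponent (genPt x) := hζ.def
  have h2 : ζ ⤳ genPt x := hζ.specializes mem_irreducibleComponent
  have h3 : ζ = genPt x := eq_genPt x ζ (h1 ▸ hZ) (h2.trans (genPt_specializes x))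
  rw [← h3, h1]
  exact hZ

lemma exists_maximal_mem_of_mem_closure (hfin : (irreducibleComponents X).Finite) (U : X.Opens)
    (x : X) (hx : x ∈ closure (U : Set X)) :
    ∃ ζ ∈ U, closure {ζ} ∈ irreducibleComponents X ∧ ζ ⤳ x := by
  set 𝒵 := {Z ∈ irreducibleComponents X | (Z ∩ (U : Set X)).Nonempty} with h𝒵
  have hfin' : 𝒵.Finite := hfin.subset (fun Z hZ => hZ.1)
  have hclosed : IsClosed (⋃ Z ∈ 𝒵, Z) :=
    hfin'.isClosed_biUnion (fun Z hZ => isClosed_of_mem_irreducibleComponents Z hZ.1)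
  have hU : (U : Set X) ⊆ ⋃ Z ∈ 𝒵, Z := by
    intro u hu
    exact Set.mem_biUnion (x := irreducibleComponent u)
      ⟨irreducibleComponent_mem_irreducibleComponents u, ⟨u, mem_irreducibleComponent, hu⟩⟩
      mem_irreducibleComponent
  have hx' := closure_minimal hU hclosed hx
  obtain ⟨Z, ⟨hZ, hZU⟩, hxZ⟩ := Set.mem_iUnion₂.mp hx'
  obtain ⟨ζ, hζ⟩ := QuasiSober.sober hZ.1 (isClosed_of_mem_irreducibleComponents Z hZ)
  refine ⟨ζ, ?_, ?_, ?_⟩
  · exact (hζ.mem_open_set_iff U.2).mpr hZU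
  · rw [hζ.def]
    exact hZ
  · exact hζ.specializes hxZ

lemma genPt_mem (hfin : (irreducibleComponents X).Finite) (U : X.Opens)
    (x : X) [IsDomain (X.presheaf.stalk x)] (hx : x ∈ closure (U : Set X)) : genPt x ∈ U := by
  obtain ⟨ζ, hζU, hζ, hζx⟩ := exists_maximal_mem_of_mem_closure hfin U x hx
  rw [← eq_genPt x ζ hζ hζx]
  exact hζU

open Groth.Agent.S9678 in
lemma isGermInjectiveAt_of_reduced [IsReduced X] (hfin : (irreducibleComponents X).Finite)
    (x : X) [IsDomain (X.presheaf.stalk x)] : X.IsGermInjectiveAt x := by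
  have hgen := closure_genPt_mem x
  let N : X.Opens := ⟨(others (closure {genPt x}))ᶜ, (isClosed_others hfin _).isOpen_compl⟩
  have hxN : x ∈ N := by
    rintro ⟨W, ⟨hW, hne⟩, hxW⟩
    apply hne
    obtain ⟨ζ, hζ⟩ := QuasiSober.sober hW.1 (isClosed_of_mem_irreducibleComponents W hW)
    have h1 : closure {ζ} = W := hζ.def
    have h2 : ζ = genPt x := eq_genPt x ζ (h1 ▸ hW) (hζ.specializes hxW)
    rw [Set.mem_singleton_iff, ← h1, h2]
  have hirr : IsIrreducible (N : Set X) :=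
    ⟨⟨x, hxN⟩, (hgen.1.isPreirreducible).open_subset N.2 compl_others_subset⟩
  haveI : IrreducibleSpace N := Subtype.irreducibleSpace hirr
  haveI : IrreducibleSpace N.toScheme := ‹_›
  haveI : IsIntegral N.toScheme := isIntegral_of_irreducibleSpace_of_isReduced _
  have h1 : N.toScheme.IsGermInjectiveAt ⟨x, hxN⟩ := inferInstance
  exact (isGermInjectiveAt_iff_of_isOpenImmersion (f := N.ι) (x := ⟨x, hxN⟩)).mpr h1

lemma exists_integral_nhd (x : X) [X.IsGermInjectiveAt x] [IsDomain (X.presheaf.stalk x)]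
    (W : X.Opens) (hxW : x ∈ W) :
    ∃ (V : X.Opens), x ∈ V ∧ V ≤ W ∧ IsAffineOpen V ∧ IsIntegral V.toScheme := by
  obtain ⟨V, hxV, hV, hVW, hinj⟩ := X.exists_le_and_germ_injective x W hxW
  refine ⟨V, hxV, hVW, hV, ?_⟩
  haveI : IsDomain Γ(X, V) := Function.Injective.isDomain (X.presheaf.germ V x hxV).hom hinj
  haveI : IsDomain Γ(V.toScheme, ⊤) :=
    MulEquiv.isDomain Γ(X, V) (V.topIso).commRingCatIsoToRingEquiv.toMulEquiv
  haveI : IsAffine V.toScheme := hV
  haveI : Nonempty V.toScheme := ⟨⟨x, hxV⟩⟩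
  exact isIntegral_of_isAffine_of_isDomain _

lemma fromSpecStalkOfMem_homOfLE {V W : X.Opens} (hVW : V ≤ W) (x : X) (hxV : x ∈ V) :
    V.fromSpecStalkOfMem x hxV ≫ X.homOfLE hVW = W.fromSpecStalkOfMem x (hVW hxV) := by
  rw [← cancel_mono W.ι, Category.assoc, X.homOfLE_ι, Scheme.Opens.fromSpecStalkOfMem_ι,
    Scheme.Opens.fromSpecStalkOfMem_ι]

theorem main {S : Scheme.{u}} (p : X ⟶ S) (q : Y ⟶ S) [IsProper q] (x : X) (U : X.Opens)
    (f : U.toScheme ⟶ Y) (hf : f ≫ q = U.ι ≫ p) (hx : x ∈ closure (U : Set X))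
    (hfin : (irreducibleComponents X).Finite) [X.IsGermInjectiveAt x]
    [hdom : IsDomain (X.presheaf.stalk x)] [hval : ValuationRing (X.presheaf.stalk x)] :
    ∃ (U' : X.Opens) (hUU' : U ≤ U'), x ∈ U' ∧
      ∃ f' : U'.toScheme ⟶ Y, f' ≫ q = U'.ι ≫ p ∧ X.homOfLE hUU' ≫ f' = f := by
  let R := X.presheaf.stalk x
  let K := FractionRing (X.presheaf.stalk x)
  let φK : R ⟶ CommRingCat.of K := CommRingCat.ofHom (algebraMap R K)
  let a : Spec (CommRingCat.of K) ⟶ X := Spec.map φK ≫ X.fromSpecStalk x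
  have hξU : genPt x ∈ U := genPt_mem hfin U x hx
  have ha : ∀ z, a z = genPt x := by
    intro z
    change X.fromSpecStalk x (Spec.map φK z) = X.fromSpecStalk x (botPt R)
    congr 1
    apply PrimeSpectrum.ext
    change Ideal.comap (algebraMap R K) z.asIdeal = ⊥
    have h1 : z.asIdeal = ⊥ := Ideal.eq_bot_of_prime _
    rw [h1, ← RingHom.ker_eq_comap_bot,
      (RingHom.injective_iff_ker_eq_bot _).mp (IsFractionRing.injective R K)]
  have haU : Set.range a ⊆ Set.range U.ι := by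
    rintro _ ⟨z, rfl⟩
    rw [Scheme.Opens.range_ι, ha z]
    exact hξU
  let jK : Spec (CommRingCat.of K) ⟶ U.toScheme := IsOpenImmersion.lift U.ι a haU
  have hjK : jK ≫ U.ι = a := IsOpenImmersion.lift_fac _ _ _
  have hex : ValuativeCriterion.Existence q := by
    have h1 : UniversallyClosed q := inferInstance
    rw [UniversallyClosed.eq_valuativeCriterion] at h1
    exact h1.1
  let sq : ValuativeCommSq q :=
    { R := X.presheaf.stalk x
      domain := hdom
      valuationRing := hval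
      K := K
      i₁ := jK ≫ f
      i₂ := X.fromSpecStalk x ≫ p
      commSq := ⟨by
        rw [Category.assoc, hf, ← Category.assoc, hjK]
        rfl⟩ }
  obtain ⟨l⟩ := (hex sq).exists_lift
  have hl1 : Spec.map φK ≫ l.l = jK ≫ f := l.fac_left
  have hl2 : l.l ≫ q = X.fromSpecStalk x ≫ p := l.fac_right
  obtain ⟨W₁, hxW₁, g₁, hg₁, hg₁q⟩ := spread_out_of_isGermInjective' p q l.l hl2
  obtain ⟨V, hxV, hVW, hV, hVint⟩ := exists_integral_nhd x W₁ hxW₁
  let g : V.toScheme ⟶ Y := X.homOfLE hVW ≫ g₁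
  have hgq : g ≫ q = V.ι ≫ p := by
    simp only [g, Category.assoc, hg₁q]
    rw [← Category.assoc, X.homOfLE_ι]
  have hgl : V.fromSpecStalkOfMem x hxV ≫ g = l.l := by
    simp only [g]
    rw [← Category.assoc, fromSpecStalkOfMem_homOfLE hVW x hxV, ← hg₁]
  have hξV : genPt x ∈ V := (genPt_specializes x).mem_open V.2 hxV
  -- the generic point of `V`
  have hgenV : ∀ v : X, v ∈ V → genPt x ⤳ v := by
    intro v hv
    have h1 : genericPoint V.toScheme ⤳ (⟨genPt x, hξV⟩ : V.toScheme) := genericPoint_specializes _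
    have h2 : (genericPoint V.toScheme).1 ⤳ genPt x := h1.map V.ι.continuous
    have h3 : (genericPoint V.toScheme).1 = genPt x :=
      Groth.Agent.S9677.h5_generic_eq (closure_genPt_mem x) h2
    have h4 : genericPoint V.toScheme ⤳ (⟨v, hv⟩ : V.toScheme) := genericPoint_specializes _
    have h5 : (genericPoint V.toScheme).1 ⤳ v := h4.map V.ι.continuous
    rw [h3] at h5
    exact h5
  -- the intersection
  let T : X.Opens := U ⊓ V
  have haT : Set.range a ⊆ Set.range T.ι := by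
    rintro _ ⟨z, rfl⟩
    rw [Scheme.Opens.range_ι, ha z]
    exact ⟨hξU, hξV⟩
  let ιK : Spec (CommRingCat.of K) ⟶ T.toScheme := IsOpenImmersion.lift T.ι a haT
  have hιK : ιK ≫ T.ι = a := IsOpenImmersion.lift_fac _ _ _
  have h1 : ιK ≫ X.homOfLE (inf_le_left : U ⊓ V ≤ U) = jK := by
    rw [← cancel_mono U.ι, Category.assoc, X.homOfLE_ι, hιK, hjK]
  have h2 : ιK ≫ X.homOfLE (inf_le_right : U ⊓ V ≤ V) = Spec.map φK ≫ V.fromSpecStalkOfMem x hxV := by
    rw [← cancel_mono V.ι, Category.assoc, X.homOfLE_ι, hιK, Category.assoc,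
      Scheme.Opens.fromSpecStalkOfMem_ι]
  have hagree : X.homOfLE (inf_le_left : U ⊓ V ≤ U) ≫ f = X.homOfLE (inf_le_right : U ⊓ V ≤ V) ≫ g := by
    haveI : Nonempty T.toScheme := ⟨⟨genPt x, hξU, hξV⟩⟩
    haveI : IsIntegral T.toScheme := isIntegral_of_isOpenImmersion (X.homOfLE (inf_le_right : U ⊓ V ≤ V))
    haveI : IsDominant ιK := by
      constructor
      intro t
      let z₀ : Spec (CommRingCat.of K) := (⟨⊥, Ideal.bot_prime⟩ : PrimeSpectrum K)
      have hz₀ : T.ι (ιK z₀) = genPt x := by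
        rw [← Scheme.Hom.comp_apply, hιK]
        exact ha z₀
      have h3 : ιK z₀ ⤳ t := by
        rw [← T.ι.isOpenEmbedding.isInducing.specializes_iff, hz₀]
        exact hgenV _ t.2.2
      have h4 : ({ιK z₀} : Set T.toScheme) ⊆ Set.range ιK := by
        rintro _ rfl
        exact ⟨z₀, rfl⟩
      exact closure_mono h4 h3.mem_closure
    apply ext_of_isDominant_of_isSeparated q ?_ ιK ?_
    · rw [Category.assoc, Category.assoc, hf, hgq, ← Category.assoc, ← Category.assoc,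
        X.homOfLE_ι, X.homOfLE_ι]
    · rw [← Category.assoc, ← Category.assoc, h1, h2, Category.assoc, hgl, hl1]
  obtain ⟨f', hf'1, hf'2⟩ := exists_glue U V f g hagree
  refine ⟨U ⊔ V, le_sup_left, Or.inr hxV, f', ?_, hf'1⟩
  apply hom_ext_sup
  · rw [← Category.assoc, hf'1, hf, ← Category.assoc, X.homOfLE_ι]
  · rw [← Category.assoc, hf'2, hgq, ← Category.assoc, X.homOfLE_ι]

end H5ValExt
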