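import Mathlib
import Groth.Prelude.Def_FlatCA
import Groth.Agent.Lib.helper5.WeakAss

set_option autoImplicit false
universe u v

namespace FlatCA

section Loc

variable {R : Type u} [CommRing R] (S : Submonoid R) {M : Type v} [AddCommGroup M] [Module R M]

theorem h5_ann_localizedModule_mk (m : M) (s : S) :
    (Submodule.span (Localization S) {LocalizedModule.mk m s}).annihilator =
      Ideal.map (algebraMap R (Localization S)) (Submodule.span R {m}).annihilator := by
  apply le_antisymm
  · intro z hz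
    rw [h5_mem_ann] at hz
    obtain ⟨r, t, rfl⟩ := IsLocalization.exists_mk'_eq S z
    rw [← Localization.mk_eq_mk', LocalizedModule.mk_smul_mk, ← LocalizedModule.zero_mk (t * s),
      LocalizedModule.mk_eq] at hz
    obtain ⟨u, hu⟩ := hz
    rw [smul_zero, smul_zero, ← mul_smul] at hu
    have h1 : ((u * (t * s) : S) : R) * r ∈ (Submodule.span R {m}).annihilator := by
      rw [h5_mem_ann, mul_smul]
      exact hu
    rw [IsLocalization.mem_map_algebraMap_iff S (Localization S)]
    refine ⟨⟨⟨_, h1⟩, t * (u * (t * s))⟩, ?_⟩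
    simp only [Submonoid.coe_mul, map_mul]
    rw [← mul_assoc, IsLocalization.mk'_spec]
    ring
  · rw [Ideal.map_le_iff_le_comap]
    intro a ha
    rw [h5_mem_ann] at ha
    rw [Ideal.mem_comap, h5_mem_ann, algebraMap_smul, LocalizedModule.smul'_mk, ha,
      LocalizedModule.zero_mk]

theorem h5_weakAss_localization_iff (p : Ideal R) [hp : p.IsPrime]
    (hS : Disjoint (S : Set R) (p : Set R)) :
    p ∈ weakAss R M ↔ Ideal.map (algebraMap R (Localization S)) p ∈
      weakAss (Localization S) (LocalizedModule S M) := by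
  have hunder := IsLocalization.under_map_of_isPrime_disjoint S (Localization S) hp hS
  constructor
  · rintro ⟨m, hm⟩
    refine ⟨LocalizedModule.mk m (1 : S), ?_⟩
    rw [h5_ann_localizedModule_mk, IsLocalization.minimalPrimes_map S (Localization S)]
    rw [Set.mem_preimage, hunder]
    exact hm
  · rintro ⟨x, hx⟩
    obtain ⟨m, s, rfl⟩ : ∃ m s, x = LocalizedModule.mk m s := by
      induction x using LocalizedModule.induction_on with
      | h m s => exact ⟨m, s, rfl⟩
    rw [h5_ann_localizedModule_mk, IsLocalization.minimalPrimes_map S (Localization S)] at hx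
    have hx' : (Ideal.map (algebraMap R (Localization S)) p).under R ∈
        (Submodule.span R {m}).annihilator.minimalPrimes := hx
    rw [hunder] at hx'
    exact ⟨m, hx'⟩

end Loc

section FG

variable {R : Type u} [CommRing R] {M : Type v} [AddCommGroup M] [Module R M]

theorem h5_ann_le_ann_smul (c : R) (z : M) :
    (Submodule.span R {z}).annihilator ≤ (Submodule.span R {c • z}).annihilator := by
  intro a ha
  rw [h5_mem_ann] at ha ⊢
  rw [smul_comm, ha, smul_zero]

theorem h5_step (p : Ideal R) [hp : p.IsPrime] (z : M)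
    (hmin : p ∈ (Submodule.span R {z}).annihilator.minimalPrimes) (y : R) (hy : y ∈ p) :
    ∃ c : R, (Submodule.span R {c • z}).annihilator ≤ p ∧ y • (c • z) = 0 := by
  classical
  obtain ⟨s, hs, n, hn⟩ := h5_exists_mul_pow_mem hmin hy
  rw [h5_mem_ann] at hn
  have hP : ∃ k : ℕ, ∃ t ∉ p, t • (y * s) ^ k • z = 0 :=
    ⟨n, 1, (Ideal.ne_top_iff_one p).1 hp.ne_top, by rw [one_smul]; exact hn⟩
  have h0 : Nat.find hP ≠ 0 := by
    intro h
    obtain ⟨t, ht, htz⟩ := h ▸ Nat.find_spec hP
    rw [pow_zero, one_smul] at htz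
    exact ht (hmin.1.2 (h5_mem_ann.2 htz))
  obtain ⟨k, hk⟩ := Nat.exists_eq_add_one_of_ne_zero h0
  have hnk : ¬ ∃ t ∉ p, t • (y * s) ^ k • z = 0 :=
    Nat.find_min hP (by rw [hk]; exact Nat.lt_succ_self k)
  obtain ⟨t, ht, htz⟩ := hk ▸ Nat.find_spec hP
  refine ⟨t * s * (y * s) ^ k, ?_, ?_⟩
  · intro b hb
    rw [h5_mem_ann] at hb
    by_contra hbp
    apply hnk
    refine ⟨b * (t * s), ?_, ?_⟩
    · intro hmem
      rcases hp.mem_or_mem hmem with h | h
      · exact hbp h
      · rcases hp.mem_or_mem h with h | h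
        · exact ht h
        · exact hs h
    · rw [← hb, smul_smul, smul_smul]
      congr 1
      ring
  · rw [← htz, smul_smul, smul_smul]
    congr 1
    ring

theorem h5_exists_ann_ge (p : Ideal R) [hp : p.IsPrime] (z : M)
    (hmin : p ∈ (Submodule.span R {z}).annihilator.minimalPrimes) (T : Finset R)
    (hT : ∀ y ∈ T, y ∈ p) :
    ∃ c : R, (Submodule.span R {c • z}).annihilator ≤ p ∧ ∀ y ∈ T, y • (c • z) = 0 := by
  classical
  induction T using Finset.induction_on with
  | empty =>
    refine ⟨1, ?_, fun y hy => absurd hy (Finset.notMem_empty y)⟩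
    rw [one_smul]
    exact hmin.1.2
  | insert y T' _ ih =>
    obtain ⟨c, hc1, hc2⟩ := ih (fun y' hy' => hT y' (Finset.mem_insert_of_mem hy'))
    have hmin' : p ∈ (Submodule.span R {c • z}).annihilator.minimalPrimes :=
      h5_minimalPrimes_of_le hmin (h5_ann_le_ann_smul c z) hc1
    obtain ⟨c', hc'1, hc'2⟩ := h5_step p (c • z) hmin' y (hT y (Finset.mem_insert_self y T'))
    refine ⟨c' * c, ?_, ?_⟩
    · rw [mul_smul]
      exact hc'1
    · intro y' hy'
      rw [mul_smul]
      rcases Finset.mem_insert.1 hy' with rfl | h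
      · exact hc'2
      · rw [smul_comm, hc2 y' h, smul_zero]

theorem h5_mem_ass_of_mem_weakAss_of_fg (p : Ideal R) [hp : p.IsPrime] (hfg : p.FG)
    (h : p ∈ weakAss R M) : p ∈ ass R M := by
  obtain ⟨z, hmin⟩ := h
  obtain ⟨T, hT⟩ := hfg
  obtain ⟨c, hc1, hc2⟩ := h5_exists_ann_ge p z hmin T (fun y hy => by
    rw [← hT]
    exact Ideal.subset_span hy)
  refine ⟨hp, c • z, le_antisymm ?_ hc1⟩
  rw [← hT, Ideal.span_le]
  intro y hy
  exact h5_mem_ann.2 (hc2 y hy)

end FG

end FlatCA
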