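import Mathlib
universe u
open IsLocalRing
namespace H5ZMT

variable (R S : Type u) [CommRing R] [CommRing S]
    [IsLocalRing R] [IsLocalRing S] [Algebra R S] [IsLocalHom (algebraMap R S)]

lemma map_le : (maximalIdeal R).map (algebraMap R S) ≤ maximalIdeal S := by
  exact ((IsLocalRing.local_hom_TFAE (algebraMap R S)).out 0 2).mp ‹IsLocalHom (algebraMap R S)›

theorem finite_fibre [Algebra.EssFiniteType R S]
    (hres : Module.Finite (ResidueField R) (ResidueField S))
    (hdim : ringKrullDim (S ⧸ (maximalIdeal R).map (algebraMap R S)) = 0) :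
    Module.Finite R (S ⧸ (maximalIdeal R).map (algebraMap R S)) := by
  set I := (maximalIdeal R).map (algebraMap R S) with hI
  have hIle : I ≤ maximalIdeal S := map_le R S
  haveI : Nontrivial (S ⧸ I) := Ideal.Quotient.nontrivial_iff.mpr
    (fun h => (Ideal.IsPrime.ne_top inferInstance : maximalIdeal S ≠ ⊤) (top_le_iff.mp (h ▸ hIle)))
  haveI : IsLocalRing (S ⧸ I) := IsLocalRing.of_surjective' (Ideal.Quotient.mk I) Ideal.Quotient.mk_surjective
  haveI : IsNoetherianRing (R ⧸ maximalIdeal R) := by
    letI : Field (R ⧸ maximalIdeal R) := Ideal.Quotient.field _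
    infer_instance
  haveI : IsNoetherianRing (S ⧸ I) := Algebra.EssFiniteType.isNoetherianRing (R ⧸ maximalIdeal R) (S ⧸ I)
  haveI : Ring.KrullDimLE 0 (S ⧸ I) := by
    rw [Ring.krullDimLE_iff]; exact hdim.le
  haveI : Module.Finite R (ResidueField R) := .of_surjective (Algebra.linearMap R (ResidueField R))
    Ideal.Quotient.mk_surjective
  haveI : Module.Finite R (ResidueField S) := .trans (ResidueField R) _
  let f : (S ⧸ I) →ₐ[R] ResidueField S :=
    Ideal.Quotient.liftₐ I (IsScalarTower.toAlgHom R S (ResidueField S)) (by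
      intro a ha
      exact (IsLocalRing.residue_eq_zero_iff a).mpr (hIle ha))
  have hf : Function.Surjective f := by
    intro y
    obtain ⟨x, rfl⟩ := IsLocalRing.residue_surjective y
    exact ⟨Ideal.Quotient.mk I x, rfl⟩
  refine Module.finite_of_surjective_of_ker_le_nilradical f hf ?_ (IsNoetherian.noetherian _)
  rw [Ring.KrullDimLE.nilradical_eq_maximalIdeal]
  exact IsLocalRing.le_maximalIdeal (RingHom.ker_ne_top _)

theorem weakly (S₀ : Subalgebra R S)
    (hloc : IsLocalization ((maximalIdeal S).comap (algebraMap S₀ S)).primeCompl S)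
    (hfin : Module.Finite R (S ⧸ (maximalIdeal R).map (algebraMap R S))) :
    Algebra.WeaklyQuasiFiniteAt R ((maximalIdeal S).comap (algebraMap S₀ S)) := by
  set q₀ := (maximalIdeal S).comap (algebraMap S₀ S) with hq₀
  rw [Algebra.weaklyQuasiFiniteAt_iff]
  have hunder : q₀.under R = maximalIdeal R := by
    rw [Ideal.under, hq₀, Ideal.comap_comap, ← IsScalarTower.algebraMap_eq]
    exact ((IsLocalRing.local_hom_TFAE (algebraMap R S)).out 0 4).mp ‹IsLocalHom (algebraMap R S)›
  let e₁ : Localization.AtPrime q₀ ≃ₐ[R] S :=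
    (IsLocalization.algEquiv q₀.primeCompl (Localization.AtPrime q₀) S).restrictScalars R
  have h : (maximalIdeal R).map (algebraMap R S) =
      ((q₀.under R).map (algebraMap R (Localization.AtPrime q₀))).map
        (e₁ : Localization.AtPrime q₀ →+* S) := by
    rw [Ideal.map_map, hunder]
    congr 1
    ext x
    exact (e₁.commutes x).symm
  exact (Algebra.QuasiFinite.iff_of_algEquiv (Ideal.quotientEquivAlg _ _ e₁ h)).mpr inferInstance


theorem atPrime (S₀ : Subalgebra R S) (S' : Subalgebra R S₀)
    (hloc : IsLocalization ((maximalIdeal S).comap (algebraMap S₀ S)).primeCompl S)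
    (r : S') (hr : (r : S₀) ∉ (maximalIdeal S).comap (algebraMap S₀ S))
    (hsurj : Function.Surjective (Localization.awayMap S'.val.toRingHom r)) :
    @IsLocalization.AtPrime S' _ S _ ((algebraMap S₀ S).comp (S'.val : S' →+* S₀)).toAlgebra
      ((maximalIdeal S).comap ((algebraMap S₀ S).comp (S'.val : S' →+* S₀))) _ := by
  letI : Algebra S' S := ((algebraMap S₀ S).comp (S'.val : S' →+* S₀)).toAlgebra
  have hmap : ∀ y : S', algebraMap S' S y = ((y : S₀) : S) := fun _ => rfl
  rw [Localization.awayMap_surjective_iff] at hsurj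
  have hrS : IsUnit (((r : S₀) : S)) := by
    rw [Ideal.mem_comap] at hr
    exact IsLocalRing.notMem_maximalIdeal.mp hr
  change IsLocalization _ S
  rw [isLocalization_iff]
  refine ⟨?_, ?_, ?_⟩
  · rintro ⟨y, hy⟩
    rw [Ideal.mem_primeCompl_iff, Ideal.mem_comap] at hy
    exact IsLocalRing.notMem_maximalIdeal.mp hy
  · intro z
    obtain ⟨⟨a₀, ⟨s₀, hs₀⟩⟩, hz⟩ :=
      IsLocalization.surj ((maximalIdeal S).comap (algebraMap S₀ S)).primeCompl z
    obtain ⟨y₁, n, h1⟩ := hsurj a₀
    obtain ⟨y₂, m, h2⟩ := hsurj s₀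
    simp only [AlgHom.toRingHom_eq_coe, RingHom.coe_coe, Subalgebra.coe_val] at h1 h2
    have hs₀S : IsUnit ((s₀ : S)) := by
      rw [Ideal.mem_primeCompl_iff, Ideal.mem_comap] at hs₀
      exact IsLocalRing.notMem_maximalIdeal.mp hs₀
    have hmem : r ^ n * y₂ ∈ ((maximalIdeal S).comap
        ((algebraMap S₀ S).comp (S'.val : S' →+* S₀))).primeCompl := by
      rw [Ideal.mem_primeCompl_iff, Ideal.mem_comap]
      apply IsLocalRing.notMem_maximalIdeal.mpr
      change IsUnit ((((r ^ n * y₂ : S') : S₀) : S))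
      push_cast
      rw [h2]
      push_cast
      exact (hrS.pow n).mul ((hrS.pow m).mul hs₀S)
    refine ⟨⟨r ^ m * y₁, ⟨r ^ n * y₂, hmem⟩⟩, ?_⟩
    change z * ((((r ^ n * y₂ : S') : S₀) : S)) = ((((r ^ m * y₁ : S') : S₀) : S))
    push_cast
    rw [h1, h2]
    push_cast
    have hz' : z * (s₀ : S) = (a₀ : S) := hz
    rw [← hz']
    ring
  · intro x y hxy
    refine ⟨1, ?_⟩
    have : x = y := by
      apply Subtype.ext
      apply Subtype.ext
      exact hxy
    rw [this]


end H5ZMT

namespace H5ZMT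

variable (R S : Type u) [CommRing R] [CommRing S]
    [IsLocalRing R] [IsLocalRing S] [Algebra R S] [IsLocalHom (algebraMap R S)]

theorem main [Algebra.EssFiniteType R S]
    (hres : Module.Finite (IsLocalRing.ResidueField R) (IsLocalRing.ResidueField S))
    (hdim : ringKrullDim (S ⧸ (IsLocalRing.maximalIdeal R).map (algebraMap R S)) = 0) :
    ∃ (S' : Type u) (_ : CommRing S') (_ : Algebra R S') (_ : Algebra S' S) (_ : IsScalarTower R S' S)
      (q : Ideal S') (_ : q.IsPrime), Module.Finite R S' ∧ IsLocalization.AtPrime S q := by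
  let S₀ := Algebra.EssFiniteType.subalgebra R S
  have hM : Algebra.EssFiniteType.submonoid R S =
      ((maximalIdeal S).comap (algebraMap S₀ S)).primeCompl := by
    ext x
    rw [Algebra.EssFiniteType.submonoid, Submonoid.mem_comap, IsUnit.mem_submonoid_iff,
      Ideal.mem_primeCompl_iff, Ideal.mem_comap]
    exact IsLocalRing.notMem_maximalIdeal.symm
  have hloc : IsLocalization ((maximalIdeal S).comap (algebraMap S₀ S)).primeCompl S :=
    hM ▸ Algebra.EssFiniteType.isLocalization R S
  have hfin := finite_fibre R S hres hdim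
  haveI := weakly R S S₀ hloc hfin
  obtain ⟨S', hS', r, hrq, hbij⟩ :=
    Algebra.QuasiFiniteAt.exists_fg_and_exists_notMem_and_awayMap_bijective (R := R)
      ((maximalIdeal S).comap (algebraMap S₀ S))
  letI alg : Algebra S' S := ((algebraMap S₀ S).comp (S'.val : S' →+* S₀)).toAlgebra
  haveI : IsScalarTower R S' S := IsScalarTower.of_algebraMap_eq (fun x => rfl)
  exact ⟨S', inferInstance, inferInstance, alg, this,
    (maximalIdeal S).comap ((algebraMap S₀ S).comp (S'.val : S' →+* S₀)),
    Ideal.comap_isPrime _ _, ⟨(Submodule.fg_top _).mpr hS'⟩, atPrime R S S₀ S' hloc r hrq hbij.2⟩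

end H5ZMT
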