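import Mathlib

set_option autoImplicit false
universe u
open CategoryTheory CategoryTheory.Limits AlgebraicGeometry Opposite Topology

namespace Groth.Agent.Lib.helper5

/-- In a zero-dimensional ring, an element of a prime is killed, up to a power, by an element
outside that prime. -/
theorem h5_exists_mul_pow_eq_zero (R : Type u) [CommRing R] [Ring.KrullDimLE 0 R]
    (p : Ideal R) [hp : p.IsPrime] (f : R) (hf : f ∈ p) :
    ∃ s : R, s ∉ p ∧ ∃ n : ℕ, s * f ^ n = 0 := by
  have hmin : p ∈ minimalPrimes R := by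
    rw [Ring.KrullDimLE.minimalPrimes_eq_setOfPred_isPrime]
    exact hp
  haveI : Ring.KrullDimLE 0 (Localization.AtPrime p) :=
    Ring.KrullDimLE.of_isLocalization p hmin (Localization.AtPrime p)
  have hmem : algebraMap R (Localization.AtPrime p) f ∈
      IsLocalRing.maximalIdeal (Localization.AtPrime p) :=
    (IsLocalization.AtPrime.to_map_mem_maximal_iff (Localization.AtPrime p) p f).2 hf
  obtain ⟨n, hn⟩ := Ring.KrullDimLE.isNilpotent_iff_mem_maximalIdeal.2 hmem
  rw [← map_pow] at hn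
  obtain ⟨m, hm⟩ := (IsLocalization.map_eq_zero_iff p.primeCompl (Localization.AtPrime p) _).1 hn
  exact ⟨m.1, m.2, n, hm⟩

/-- Separating two distinct primes of a zero-dimensional ring by disjoint basic opens. -/
theorem h5_exists_disjoint_basicOpen (R : Type u) [CommRing R] [Ring.KrullDimLE 0 R]
    (p q : PrimeSpectrum R) (hpq : p ≠ q) :
    ∃ s f : R, p ∈ PrimeSpectrum.basicOpen s ∧ q ∈ PrimeSpectrum.basicOpen f ∧
      Disjoint (PrimeSpectrum.basicOpen s : Set (PrimeSpectrum R)) (PrimeSpectrum.basicOpen f) := by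
  have hnle : ¬ p.asIdeal ≤ q.asIdeal := by
    intro hle
    have hmax : p.asIdeal.IsMaximal := Ideal.isMaximal_iff_isPrime.2 p.2
    exact hpq (PrimeSpectrum.ext (hmax.eq_of_le q.2.ne_top hle))
  obtain ⟨f, hfp, hfq⟩ := SetLike.not_le_iff_exists.1 hnle
  obtain ⟨s, hs, n, hsn⟩ := h5_exists_mul_pow_eq_zero R p.asIdeal f hfp
  refine ⟨s, f, hs, hfq, ?_⟩
  rw [Set.disjoint_iff]
  rintro r ⟨hr1, hr2⟩
  have h0 : s * f ^ n ∈ r.asIdeal := by rw [hsn]; exact r.asIdeal.zero_mem
  rcases r.2.mem_or_mem h0 with h | h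
  · exact hr1 h
  · exact hr2 (r.2.mem_of_pow_mem n h)

theorem h5_t2Space_primeSpectrum (R : Type u) [CommRing R] [Ring.KrullDimLE 0 R] :
    T2Space (PrimeSpectrum R) := by
  constructor
  intro p q hpq
  obtain ⟨s, f, hp, hq, hd⟩ := h5_exists_disjoint_basicOpen R p q hpq
  exact ⟨_, _, (PrimeSpectrum.basicOpen s).2, (PrimeSpectrum.basicOpen f).2, hp, hq, hd⟩

theorem h5_totallySeparatedSpace_primeSpectrum (R : Type u) [CommRing R] [Ring.KrullDimLE 0 R] :
    TotallySeparatedSpace (PrimeSpectrum R) := by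
  haveI := h5_t2Space_primeSpectrum R
  rw [totallySeparatedSpace_iff_exists_isClopen]
  intro p q hpq
  obtain ⟨s, f, hp, hq, hd⟩ := h5_exists_disjoint_basicOpen R p q hpq
  refine ⟨PrimeSpectrum.basicOpen s, ⟨?_, (PrimeSpectrum.basicOpen s).2⟩, hp, ?_⟩
  · exact (PrimeSpectrum.isCompact_basicOpen s).isClosed
  · intro hqs
    exact (Set.disjoint_iff.1 hd) ⟨hqs, hq⟩

/-- A scheme of dimension at most zero is T1. -/
theorem h5_t1Space_of_dim_le_zero (X : Scheme.{u}) (h : topologicalKrullDim X ≤ 0) :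
    T1Space X := by
  rw [t1Space_iff_specializes_imp_eq]
  intro x y hxy
  have hmax := Order.krullDim_nonpos_iff_forall_isMax.1 h
  let cx : TopologicalSpace.IrreducibleCloseds X :=
    ⟨closure {x}, isIrreducible_singleton.closure, isClosed_closure⟩
  let cy : TopologicalSpace.IrreducibleCloseds X :=
    ⟨closure {y}, isIrreducible_singleton.closure, isClosed_closure⟩
  have hle : cy ≤ cx := by
    show closure {y} ⊆ closure {x}
    exact (specializes_iff_closure_subset.1 hxy)
  have hge : cx ≤ cy := hmax cy hle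
  have hxy' : y ⤳ x := specializes_iff_closure_subset.2 hge
  exact (hxy.antisymm hxy').eq

end Groth.Agent.Lib.helper5
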