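import Mathlib
import Groth.Agent.Lib.helper5.ZeroDim

set_option autoImplicit false
universe u
open CategoryTheory CategoryTheory.Limits AlgebraicGeometry Opposite Topology

namespace Groth.Agent.Lib.helper5

/-- Affine opens of a T1 scheme have zero-dimensional rings of sections. -/
theorem h5_krullDimLE_zero_of_t1 (X : Scheme.{u}) [T1Space X] (U : X.Opens)
    (hU : IsAffineOpen U) : Ring.KrullDimLE 0 Γ(X, U) := by
  refine Ring.KrullDimLE.mk₀ fun I hI => ?_
  haveI hT1 : T1Space (Spec Γ(X, U)) := hU.fromSpec.isEmbedding.t1Space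
  have hT1' : T1Space (PrimeSpectrum Γ(X, U)) := hT1
  exact (PrimeSpectrum.isClosed_singleton_iff_isMaximal ⟨I, hI⟩).1 isClosed_singleton

/-- Separating two points of an affine open of a T1 scheme by disjoint basic opens. -/
theorem h5_exists_disjoint_basicOpen_scheme (X : Scheme.{u}) [T1Space X] (U : X.Opens)
    (hU : IsAffineOpen U) (x y : X) (hx : x ∈ U) (hy : y ∈ U) (hxy : x ≠ y) :
    ∃ s f : Γ(X, U), x ∈ X.basicOpen s ∧ y ∈ X.basicOpen f ∧
      Disjoint (X.basicOpen s) (X.basicOpen f) := by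
  haveI := h5_krullDimLE_zero_of_t1 X U hU
  have hpq : hU.primeIdealOf ⟨x, hx⟩ ≠ hU.primeIdealOf ⟨y, hy⟩ := by
    intro h
    apply hxy
    have h1 := hU.fromSpec_primeIdealOf ⟨x, hx⟩
    have h2 := hU.fromSpec_primeIdealOf ⟨y, hy⟩
    rw [h] at h1
    exact h1.symm.trans h2
  obtain ⟨s, f, hp, hq, hd⟩ := h5_exists_disjoint_basicOpen Γ(X, U) _ _ hpq
  refine ⟨s, f, ?_, ?_, ?_⟩
  · rw [← hU.fromSpec_image_basicOpen]
    exact ⟨_, hp, hU.fromSpec_primeIdealOf ⟨x, hx⟩⟩
  · rw [← hU.fromSpec_image_basicOpen]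
    exact ⟨_, hq, hU.fromSpec_primeIdealOf ⟨y, hy⟩⟩
  · rw [← hU.fromSpec_image_basicOpen, ← hU.fromSpec_image_basicOpen,
      ← TopologicalSpace.Opens.coe_disjoint]
    exact (Set.disjoint_image_iff hU.fromSpec.injective).2 hd

theorem h5_t2Space_affineOpen (X : Scheme.{u}) [T1Space X] (U : X.Opens)
    (hU : IsAffineOpen U) : T2Space ((U : Set X) : Type u) := by
  constructor
  intro x y hxy
  obtain ⟨s, f, hx, hy, hd⟩ := h5_exists_disjoint_basicOpen_scheme X U hU x.1 y.1 x.2 y.2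
    (fun h => hxy (Subtype.ext h))
  refine ⟨Subtype.val ⁻¹' (X.basicOpen s : Set X), Subtype.val ⁻¹' (X.basicOpen f : Set X),
    (X.basicOpen s).2.preimage continuous_subtype_val,
    (X.basicOpen f).2.preimage continuous_subtype_val, hx, hy, ?_⟩
  exact Disjoint.preimage _ ((TopologicalSpace.Opens.coe_disjoint).2 hd)

/-- A quasi-separated T1 scheme is Hausdorff. -/
theorem h5_t2Space_of_t1 (X : Scheme.{u}) [T1Space X] [QuasiSeparatedSpace X] : T2Space X := by
  constructor
  intro x y hxy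
  obtain ⟨_, ⟨U : X.Opens, hU, rfl⟩, hxU, -⟩ :=
    X.isBasis_affineOpens.exists_subset_of_mem_open (Set.mem_univ x) isOpen_univ
  obtain ⟨_, ⟨V : X.Opens, hV, rfl⟩, hyV, -⟩ :=
    X.isBasis_affineOpens.exists_subset_of_mem_open (Set.mem_univ y) isOpen_univ
  by_cases hyU : y ∈ U
  · obtain ⟨s, f, hx, hy, hd⟩ := h5_exists_disjoint_basicOpen_scheme X U hU x y hxU hyU hxy
    exact ⟨_, _, (X.basicOpen s).2, (X.basicOpen f).2, hx, hy,
      (TopologicalSpace.Opens.coe_disjoint).2 hd⟩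
  by_cases hxV : x ∈ V
  · obtain ⟨s, f, hx, hy, hd⟩ := h5_exists_disjoint_basicOpen_scheme X V hV x y hxV hyV hxy
    exact ⟨_, _, (X.basicOpen s).2, (X.basicOpen f).2, hx, hy,
      (TopologicalSpace.Opens.coe_disjoint).2 hd⟩
  have hcomp : IsCompact ((U : Set X) ∩ (V : Set X)) :=
    QuasiSeparatedSpace.inter_isCompact _ _ U.2 hU.isCompact V.2 hV.isCompact
  have key : ∀ (A B : X.Opens), IsAffineOpen A → IsCompact ((A : Set X) ∩ (B : Set X)) →
      IsOpen ((A : Set X) \ (B : Set X)) := by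
    intro A B hA hAB
    haveI := h5_t2Space_affineOpen X A hA
    have hK : IsCompact (Subtype.val ⁻¹' (B : Set X) : Set ((A : Set X) : Type u)) := by
      rw [Topology.IsInducing.subtypeVal.isCompact_iff, Subtype.image_preimage_coe]
      exact hAB
    have hKo : IsOpen ((Subtype.val ⁻¹' (B : Set X) : Set ((A : Set X) : Type u))ᶜ) :=
      hK.isClosed.isOpen_compl
    have := A.2.isOpenEmbedding_subtypeVal.isOpenMap _ hKo
    convert this using 1
    ext z
    constructor
    · rintro ⟨hzA, hzB⟩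
      exact ⟨⟨z, hzA⟩, hzB, rfl⟩
    · rintro ⟨⟨z', hz'A⟩, hz'B, rfl⟩
      exact ⟨hz'A, hz'B⟩
  refine ⟨(U : Set X) \ (V : Set X), (V : Set X) \ (U : Set X), key U V hU hcomp,
    key V U hV (by rwa [Set.inter_comm]), ⟨hxU, hxV⟩, ⟨hyV, hyU⟩, ?_⟩
  rw [Set.disjoint_iff]
  rintro z ⟨⟨hzU, -⟩, ⟨-, hzU'⟩⟩
  exact hzU' hzU

/-- A quasi-separated T1 scheme is totally separated. -/
theorem h5_totallySeparatedSpace_of_t1 (X : Scheme.{u}) [T1Space X] [QuasiSeparatedSpace X] :
    TotallySeparatedSpace X := by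
  haveI := h5_t2Space_of_t1 X
  rw [totallySeparatedSpace_iff_exists_isClopen]
  intro x y hxy
  obtain ⟨_, ⟨U : X.Opens, hU, rfl⟩, hxU, -⟩ :=
    X.isBasis_affineOpens.exists_subset_of_mem_open (Set.mem_univ x) isOpen_univ
  by_cases hyU : y ∈ U
  · obtain ⟨s, f, hx, hy, hd⟩ := h5_exists_disjoint_basicOpen_scheme X U hU x y hxU hyU hxy
    refine ⟨X.basicOpen s, ⟨(hU.basicOpen s).isCompact.isClosed, (X.basicOpen s).2⟩, hx, ?_⟩
    intro hys
    exact (Set.disjoint_iff.1 ((TopologicalSpace.Opens.coe_disjoint).2 hd)) ⟨hys, hy⟩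
  · exact ⟨U, ⟨hU.isCompact.isClosed, U.2⟩, hxU, hyU⟩

/-- A quasi-separated T1 scheme is separated. -/
theorem h5_isSeparated_of_t1 (X : Scheme.{u}) [T1Space X] [QuasiSeparatedSpace X] :
    X.IsSeparated := by
  constructor
  apply IsSeparated.of_valuativeCriterion
  intro S
  constructor
  rintro ⟨l₁, hl₁, hl₁'⟩ ⟨l₂, hl₂, hl₂'⟩
  ext : 1
  dsimp at *
  -- both maps are constant on points
  have hconst : ∀ (l : Spec (.of S.R) ⟶ X) (p : Spec (.of S.R)),
      l p = l (IsLocalRing.closedPoint S.R) := by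
    intro l p
    have hsp : p ⤳ IsLocalRing.closedPoint S.R := IsLocalRing.specializes_closedPoint p
    exact (hsp.map l.continuous).eq
  let φ : CommRingCat.of S.R ⟶ CommRingCat.of S.K := CommRingCat.ofHom (algebraMap S.R S.K)
  have hgen : ∀ (l : Spec (.of S.R) ⟶ X), Spec.map φ ≫ l = S.i₁ →
      l (IsLocalRing.closedPoint S.R) = S.i₁ default := by
    intro l hl
    rw [← hl, Scheme.Hom.comp_apply]
    exact (hconst l _).symm
  set x := S.i₁ default with hx
  obtain ⟨_, ⟨U : X.Opens, hU, rfl⟩, hxU, -⟩ :=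
    X.isBasis_affineOpens.exists_subset_of_mem_open (Set.mem_univ x) isOpen_univ
  have hrange : ∀ (l : Spec (.of S.R) ⟶ X), Spec.map φ ≫ l = S.i₁ →
      Set.range l ⊆ Set.range U.ι := by
    intro l hl
    rintro _ ⟨p, rfl⟩
    rw [Scheme.Opens.range_ι, hconst l p, hgen l hl]
    exact hxU
  let l₁' := IsOpenImmersion.lift U.ι l₁ (hrange l₁ hl₁)
  let l₂' := IsOpenImmersion.lift U.ι l₂ (hrange l₂ hl₂)
  have h₁ : l₁' ≫ U.ι = l₁ := IsOpenImmersion.lift_fac _ _ _
  have h₂ : l₂' ≫ U.ι = l₂ := IsOpenImmersion.lift_fac _ _ _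
  have heq : Spec.map φ ≫ l₁' = Spec.map φ ≫ l₂' := by
    rw [← cancel_mono U.ι, Category.assoc, Category.assoc, h₁, h₂, hl₁, hl₂]
  haveI : IsAffine U.toScheme := hU
  have hmono : Mono (Spec.map φ).appTop := by
    have hnat := Scheme.ΓSpecIso_naturality φ
    have : (Spec.map φ).appTop = (Scheme.ΓSpecIso _).hom ≫ φ ≫ (Scheme.ΓSpecIso _).inv := by
      rw [← Category.assoc, ← hnat, Category.assoc, Iso.hom_inv_id, Category.comp_id]
    rw [this]
    haveI : Mono φ := by
      apply ConcreteCategory.mono_of_injective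
      exact IsFractionRing.injective S.R S.K
    infer_instance
  have happ : l₁'.appTop = l₂'.appTop := by
    have := congrArg Scheme.Hom.appTop heq
    rw [Scheme.Hom.comp_appTop, Scheme.Hom.comp_appTop] at this
    exact (cancel_mono _).1 this
  rw [← h₁, ← h₂, ext_of_isAffine happ]

end Groth.Agent.Lib.helper5

namespace Groth.Agent.Lib.helper5

/-- An open subset of an affine open whose complement in it is open is affine. -/
theorem h5_isAffineOpen_of_clopen_in (X : Scheme.{u}) (V C D : X.Opens) (hV : IsAffineOpen V)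
    (h1 : C ⊔ D = V) (h2 : Disjoint C D) : IsAffineOpen C := by
  have hle : C ≤ V := h1 ▸ le_sup_left
  let j := X.homOfLE hle
  have hrange : Set.range j = (V.ι ⁻¹' (D : Set X))ᶜ := by
    ext v
    constructor
    · rintro ⟨c, rfl⟩
      intro hD
      have hc : (j c).1 = c.1 := X.homOfLE_apply hle c
      have hcD : c.1 ∈ D := by rw [← hc]; exact hD
      exact (Set.disjoint_iff.1 ((TopologicalSpace.Opens.coe_disjoint).2 h2)) ⟨c.2, hcD⟩
    · intro hv
      have hvV : v.1 ∈ C ⊔ D := by rw [h1]; exact v.2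
      rcases hvV with hvC | hvD
      · exact ⟨⟨v.1, hvC⟩, Subtype.ext (X.homOfLE_apply hle ⟨v.1, hvC⟩)⟩
      · exact absurd hvD hv
  have hcl : IsClosed (Set.range j) := by
    rw [hrange, isClosed_compl_iff]
    exact D.2.preimage V.ι.continuous
  haveI : IsClosedImmersion j := IsClosedImmersion.of_isPreimmersion j hcl
  haveI : IsAffine V.toScheme := hV
  exact isAffine_of_isAffineHom j

/-- In a Hausdorff scheme, the union of two affine opens is affine. -/
theorem h5_isAffineOpen_sup_of_t2 (X : Scheme.{u}) [T2Space X] (W V : X.Opens)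
    (hW : IsAffineOpen W) (hV : IsAffineOpen V) : IsAffineOpen (W ⊔ V) := by
  let Wc : X.Opens := ⟨(W : Set X)ᶜ, hW.isCompact.isClosed.isOpen_compl⟩
  have hC : IsAffineOpen (V ⊓ Wc) := by
    apply h5_isAffineOpen_of_clopen_in X V (V ⊓ Wc) (V ⊓ W) hV
    · ext z
      constructor
      · rintro (⟨hzV, -⟩ | ⟨hzV, -⟩) <;> exact hzV
      · intro hzV
        by_cases hzW : z ∈ W
        · exact Or.inr ⟨hzV, hzW⟩
        · exact Or.inl ⟨hzV, hzW⟩
    · rw [← TopologicalSpace.Opens.coe_disjoint, Set.disjoint_iff]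
      rintro z ⟨⟨-, hz1⟩, ⟨-, hz2⟩⟩
      exact hz1 hz2
  have hdis : Disjoint W (V ⊓ Wc) := by
    rw [← TopologicalSpace.Opens.coe_disjoint, Set.disjoint_iff]
    rintro z ⟨hz1, ⟨-, hz2⟩⟩
    exact hz2 hz1
  have := hW.sup_of_disjoint hC hdis
  convert this using 1
  ext z
  constructor
  · rintro (hzW | hzV)
    · exact Or.inl hzW
    · by_cases hzW : z ∈ W
      · exact Or.inl hzW
      · exact Or.inr ⟨hzV, hzW⟩
  · rintro (hzW | ⟨hzV, -⟩)
    · exact Or.inl hzW
    · exact Or.inr hzV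

/-- In a Hausdorff scheme, every quasi-compact open is affine. -/
theorem h5_isAffineOpen_of_isCompact_of_t2 (X : Scheme.{u}) [T2Space X] (U : X.Opens)
    (hU : IsCompact (U : Set X)) : IsAffineOpen U := by
  obtain ⟨Us, hUs, hfin, rfl⟩ := X.isBasis_affineOpens.exists_finite_of_isCompact hU
  clear hU
  induction Us, hfin using Set.Finite.induction_on with
  | empty =>
    rw [sSup_empty]
    exact isAffineOpen_bot X
  | @insert a s ha hs ih =>
    rw [sSup_insert]
    exact h5_isAffineOpen_sup_of_t2 X a (sSup s) (hUs (Set.mem_insert a s))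
      (ih (fun b hb => hUs (Set.mem_insert_of_mem a hb)))

end Groth.Agent.Lib.helper5
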